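/-
A class of involutions each fixing exactly one point (setting of Aschbacher's criterion for
strong embedding; owner: helper44).

Main results (namespace `Cfsg.Agent.Aschbacher`, `P : PointClass G Ω D pt`):
* `odd_order` : members of `D` at different points have product of odd order
* `exists_mid`, `card_swap`, `mid_unique` : as many members of `D` swap `x, y` as lie at `y`
* `exists_conj_point`, `exists_conj_swap`, `exists_odd_normal` : the two-point stabiliser has a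
  normal subgroup of odd order transitive on the swappers and on the members of `D` at a point
* `exists_conj_centralizing`, `exists_fixed_mul` : involutions with two fixed points
* `mem_of_unique_fixed`, `mem_or_two_fixed`, `mul_mem_of_commute` : `D` is the set of all
  involutions with one fixed point, closed under commuting products.
-/
import Cfsg.Agent.Lib.ZStar.Glauberman
import Cfsg.Agent.Lib.ZStar.Unique
import Cfsg.Agent.Lib.Involution.Isolated

set_option autoImplicit false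

namespace Cfsg.Agent.Aschbacher

open Cfsg Involution

universe u v

/-- A conjugation invariant set of involutions, each fixing exactly one point. -/
structure PointClass (G : Type u) (Ω : Type v) [Group G] [MulAction G Ω] (D : Set G) (pt : G → Ω) :
    Prop where
  inv : ∀ d ∈ D, orderOf d = 2
  conj_mem : ∀ g : G, ∀ d ∈ D, g * d * g⁻¹ ∈ D
  fixed_iff : ∀ d ∈ D, ∀ p : Ω, d • p = p ↔ p = pt d
  product : ∀ d ∈ D, ∀ e ∈ D, Commute d e → d ≠ e → ∀ c : G, Commute c (d * e) → c • pt d = pt d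
  odd_card : ∀ p : Ω, Odd (Nat.card {d : G // d ∈ D ∧ pt d = p})

section pairs

variable {G : Type u} [Group G] [Finite G]

theorem pairs_le (K : Subgroup G) (S : Set G) (htrans : ∀ s ∈ S, ∀ t ∈ S, ∃ k ∈ K, k * s * k⁻¹ = t) :
    Nat.card {q : G × G // q.1 ∈ K ∧ q.2 ∈ S ∧ Commute q.1 q.2} ≤ Nat.card K := by
  rcases S.eq_empty_or_nonempty with rfl | ⟨s₀, hs₀⟩
  · simp
  choose h hK hs using fun s : S => htrans s₀ hs₀ s s.2
  refine Nat.card_le_card_of_injective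
    (fun q => ⟨q.1.1 * h ⟨q.1.2, q.2.2.1⟩, K.mul_mem q.2.1 (hK _)⟩) fun q q' e => ?_
  simp only [Subtype.mk.injEq] at e
  have key : ∀ r : {q : G × G // q.1 ∈ K ∧ q.2 ∈ S ∧ Commute q.1 q.2},
      (r.1.1 * h ⟨r.1.2, r.2.2.1⟩) * s₀ * (r.1.1 * h ⟨r.1.2, r.2.2.1⟩)⁻¹ = r.1.2 := fun r => by
    calc _ = r.1.1 * (h ⟨r.1.2, r.2.2.1⟩ * s₀ * (h ⟨r.1.2, r.2.2.1⟩)⁻¹) * r.1.1⁻¹ := by group
      _ = r.1.2 := by rw [hs]; exact mul_inv_eq_iff_eq_mul.2 r.2.2.2.eq
  have h2 : q.1.2 = q'.1.2 := by rw [← key q, ← key q', e]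
  have h3 : (⟨q.1.2, q.2.2.1⟩ : S) = ⟨q'.1.2, q'.2.2.1⟩ := Subtype.ext h2
  rw [h3] at e
  exact Subtype.ext (Prod.ext (mul_right_cancel e) h2)

theorem le_pairs (K : Subgroup G) (S : Set G) (hS : ∀ k ∈ K, ∀ s ∈ S, k * s * k⁻¹ ∈ S) {s₀ : G}
    (hs₀ : s₀ ∈ S) :
    Nat.card K ≤ Nat.card {q : {q : G × G // q.1 ∈ K ∧ q.2 ∈ S ∧ Commute q.1 q.2} //
      ∃ k ∈ K, k * s₀ * k⁻¹ = q.1.2} := by
  let O := {t : G // ∃ k ∈ K, k * s₀ * k⁻¹ = t}
  choose h hK hs using fun t : O => t.2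
  let t : K → O := fun k => ⟨(k : G) * s₀ * (k : G)⁻¹, k, k.2, rfl⟩
  refine Nat.card_le_card_of_injective
    (fun k => ⟨⟨((k : G) * (h (t k))⁻¹, (k : G) * s₀ * (k : G)⁻¹),
      K.mul_mem k.2 (K.inv_mem (hK _)), hS _ k.2 _ hs₀, ?_⟩, k, k.2, rfl⟩) fun k k' e => ?_
  · show ((k : G) * (h (t k))⁻¹) * ((k : G) * s₀ * (k : G)⁻¹) =
      ((k : G) * s₀ * (k : G)⁻¹) * ((k : G) * (h (t k))⁻¹)
    calc _ = (k : G) * (h (t k))⁻¹ * (h (t k) * s₀ * (h (t k))⁻¹) := by rw [hs]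
      _ = _ := by group
  · have e' : ((k : G) * (h (t k))⁻¹, (k : G) * s₀ * (k : G)⁻¹) =
        ((k' : G) * (h (t k'))⁻¹, (k' : G) * s₀ * (k' : G)⁻¹) :=
      congrArg Subtype.val (congrArg Subtype.val e)
    simp only [Prod.mk.injEq] at e'
    have ht : t k = t k' := Subtype.ext e'.2
    rw [ht] at e'
    exact Subtype.ext (mul_right_cancel e'.1)

theorem trans_of_pairs_le (K : Subgroup G) (S : Set G) (hS : ∀ k ∈ K, ∀ s ∈ S, k * s * k⁻¹ ∈ S)
    (hle : Nat.card {q : G × G // q.1 ∈ K ∧ q.2 ∈ S ∧ Commute q.1 q.2} ≤ Nat.card K)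
    {s t : G} (hs : s ∈ S) (ht : t ∈ S) : ∃ k ∈ K, k * s * k⁻¹ = t := by
  by_contra hcon
  push Not at hcon
  refine absurd ((le_pairs K S hS hs).trans_lt ?_) (not_lt.2 hle)
  refine Finite.card_subtype_lt (x := ⟨(1, t), K.one_mem, ht, Commute.one_left t⟩) ?_
  rintro ⟨k, hk, hkt⟩
  exact hcon k hk hkt

end pairs

namespace PointClass

variable {G : Type u} {Ω : Type v} [Group G] [MulAction G Ω] {D : Set G} {pt : G → Ω}
  (P : PointClass G Ω D pt)
include P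

theorem smul_pt {d : G} (hd : d ∈ D) : d • pt d = pt d :=
  (P.fixed_iff d hd _).2 rfl

theorem smul_smul_self {d : G} (hd : d ∈ D) (p : Ω) : d • d • p = p := by
  rw [← mul_smul, mul_self (P.inv d hd), one_smul]

theorem pt_conj (g : G) {d : G} (hd : d ∈ D) : pt (g * d * g⁻¹) = g • pt d := by
  refine ((P.fixed_iff _ (P.conj_mem g d hd) _).1 ?_).symm
  rw [mul_smul, mul_smul, inv_smul_smul, P.smul_pt hd]

theorem commute_fix {d c : G} (hd : d ∈ D) (hc : Commute c d) : c • pt d = pt d := by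
  refine (P.fixed_iff d hd _).1 ?_
  rw [← mul_smul, ← hc.eq, mul_smul, P.smul_pt hd]

theorem pt_eq_of_commute {d e : G} (hd : d ∈ D) (he : e ∈ D) (h : Commute d e) : pt d = pt e :=
  (P.fixed_iff e he _).1 (P.commute_fix hd h.symm)

theorem conj_pow_mem {d : G} (hd : d ∈ D) (r : G) (l : ℤ) : r ^ l * d * (r ^ l)⁻¹ ∈ D :=
  P.conj_mem _ d hd

theorem exists_at (p : Ω) : ∃ d, d ∈ D ∧ pt d = p := by
  obtain ⟨k, hk⟩ := P.odd_card p
  obtain ⟨⟨d, hd⟩⟩ := (Nat.card_pos_iff.1 (by omega : 0 < Nat.card {d : G // d ∈ D ∧ pt d = p})).1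
  exact ⟨d, hd⟩

variable [Finite G]

theorem odd_order {d e : G} (hd : d ∈ D) (he : e ∈ D) (hne : pt d ≠ pt e) :
    Odd (orderOf (d * e)) := by
  by_contra hc
  have hev := Nat.not_odd_iff_even.1 hc
  obtain ⟨hw, hwd, hwe⟩ := half_pow_commute (P.inv d hd) (P.inv e he) hev
  set k := orderOf (d * e) / 2
  have hdw : d * (d * e) ^ k ∈ D := by
    rw [← zpow_natCast]
    rcases Int.even_or_odd (k : ℤ) with ⟨j, hj⟩ | ⟨j, hj⟩
    · have h := P.conj_pow_mem hd (d * e) (-j)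
      rwa [conj_left_zpow (P.inv d hd) (P.inv e he), show -(2 * -j) = (k : ℤ) by omega] at h
    · have h := P.conj_pow_mem he (d * e) (-j)
      have e1 : (d * e) ^ (-j) * e * ((d * e) ^ (-j))⁻¹ = d * (d * e) ^ (k : ℤ) := by
        calc (d * e) ^ (-j) * e * ((d * e) ^ (-j))⁻¹
            = (d * e) ^ (-j) * (d * (d * e)) * ((d * e) ^ (-j))⁻¹ := by
              rw [left_mul_mul_left (P.inv d hd) (P.inv e he)]
          _ = ((d * e) ^ (-j) * d * ((d * e) ^ (-j))⁻¹) *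
              ((d * e) ^ (-j) * (d * e) * ((d * e) ^ (-j))⁻¹) := by group
          _ = ((d * e) ^ (-j) * d * ((d * e) ^ (-j))⁻¹) * (d * e) := by
              rw [(Commute.zpow_self (d * e) (-j)).eq, mul_inv_cancel_right]
          _ = d * (d * e) ^ (k : ℤ) := by
              rw [conj_left_zpow (P.inv d hd) (P.inv e he), mul_assoc, ← zpow_add_one,
                show -(2 * -j) + 1 = (k : ℤ) by omega]
      rwa [e1] at h
  have h1 := P.product d hd _ hdw ((Commute.refl d).mul_right hwd.symm)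
    (fun h => ne_one hw (left_eq_mul.1 h)) e
    (by rw [← mul_assoc, mul_self (P.inv d hd), one_mul]; exact hwe.symm)
  exact hne ((P.fixed_iff e he _).1 h1)

theorem exists_mid {e f : G} (he : e ∈ D) (hf : f ∈ D) (hne : pt e ≠ pt f) :
    ∃ w ∈ D, w * e * w⁻¹ = f ∧ w • pt e = pt f := by
  obtain ⟨l, hl⟩ := P.odd_order he hf hne
  have hpow : (e * f) ^ (2 * ((l + 1) * (l + 1))) = (e * f) ^ (l + 1) := by
    rw [show 2 * ((l + 1) * (l + 1)) = (2 * l + 1) * (l + 1) + (l + 1) by ring, pow_add, pow_mul,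
      ← hl, pow_orderOf_eq_one, one_pow, one_mul]
  have hD : e * (e * f) ^ ((l + 1 : ℕ) : ℤ) ∈ D := by
    have h := P.conj_pow_mem he (e * f) (-(((l + 1) * (l + 1) : ℕ) : ℤ))
    rw [conj_left_zpow (P.inv e he) (P.inv f hf), mul_neg, neg_neg,
      show (2 : ℤ) * (((l + 1) * (l + 1) : ℕ) : ℤ) = ((2 * ((l + 1) * (l + 1)) : ℕ) : ℤ) by push_cast; ring,
      zpow_natCast, hpow] at h
    rwa [zpow_natCast]
  have hw : (e * (e * f) ^ ((l + 1 : ℕ) : ℤ)) * e * (e * (e * f) ^ ((l + 1 : ℕ) : ℤ))⁻¹ = f := by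
    rw [conj_left_mul_zpow (P.inv e he) (P.inv f hf),
      show (2 * ((l + 1 : ℕ) : ℤ)) = (orderOf (e * f) : ℤ) + 1 by rw [hl]; push_cast; ring,
      zpow_add_one, zpow_natCast, pow_orderOf_eq_one, one_mul,
      left_mul_mul_left (P.inv e he) (P.inv f hf)]
  refine ⟨_, hD, hw, ?_⟩
  rw [← P.pt_conj _ he, hw]

theorem card_swap [Finite Ω] {x y : Ω} (hxy : x ≠ y) :
    Nat.card {w : G // w ∈ D ∧ w • x = y} = Nat.card {f : G // f ∈ D ∧ pt f = y} := by
  classical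
  haveI := Fintype.ofFinite Ω
  let I := {p : Ω × Ω // p.1 ≠ p.2}
  have hge : ∀ p : I, Nat.card {f : G // f ∈ D ∧ pt f = p.1.2} ≤
      Nat.card {w : G // w ∈ D ∧ w • p.1.1 = p.1.2} := by
    intro p
    obtain ⟨e, he, hep⟩ := P.exists_at p.1.1
    choose w hw hwe hwp using fun f : {f : G // f ∈ D ∧ pt f = p.1.2} =>
      P.exists_mid he f.2.1 (by rw [hep, f.2.2]; exact p.2)
    refine Nat.card_le_card_of_injective
      (fun f => ⟨w f, hw f, by have := hwp f; rwa [hep, f.2.2] at this⟩) fun a b h => ?_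
    simp only [Subtype.mk.injEq] at h
    exact Subtype.ext (by rw [← hwe a, h, hwe b])
  have hsum : ∑ p : I, Nat.card {f : G // f ∈ D ∧ pt f = p.1.2} =
      ∑ p : I, Nat.card {w : G // w ∈ D ∧ w • p.1.1 = p.1.2} := by
    rw [← Nat.card_sigma, ← Nat.card_sigma]
    refine Nat.card_congr (Equiv.trans (β := {q : Ω × G // q.2 ∈ D ∧ q.1 ≠ pt q.2}) ?_ ?_)
    · exact
        { toFun := fun r => ⟨(r.1.1.1, r.2.1), r.2.2.1, fun h => r.1.2 (h.trans r.2.2.2)⟩
          invFun := fun q => ⟨⟨(q.1.1, pt q.1.2), q.2.2⟩, q.1.2, q.2.1, rfl⟩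
          left_inv := by rintro ⟨⟨⟨a, b⟩, hab⟩, f, hf, hb⟩; dsimp only at hb; subst hb; rfl
          right_inv := fun q => rfl }
    · exact
        { toFun := fun q => ⟨⟨(q.1.1, q.1.2 • q.1.1), fun h =>
              q.2.2 ((P.fixed_iff _ q.2.1 _).1 h.symm)⟩, q.1.2, q.2.1, rfl⟩
          invFun := fun r => ⟨(r.1.1.1, r.2.1), r.2.2.1, fun h => r.1.2
              (((P.fixed_iff _ r.2.2.1 _).2 h).symm.trans r.2.2.2)⟩
          left_inv := fun q => rfl
          right_inv := by rintro ⟨⟨⟨a, b⟩, hab⟩, w, hw, hb⟩; dsimp only at hb; subst hb; rfl }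
  exact ((Finset.sum_eq_sum_iff_of_le fun p _ => hge p).1 hsum ⟨(x, y), hxy⟩ (Finset.mem_univ _)).symm

theorem mid_unique [Finite Ω] {e w w' : G} (he : e ∈ D) (hw : w ∈ D) (hw' : w' ∈ D)
    (hmove : w • pt e ≠ pt e) (h : w * e * w⁻¹ = w' * e * w'⁻¹) : w = w' := by
  set x := pt e with hx
  set y := w • x with hy
  have hxy : x ≠ y := hmove.symm
  choose m hm hme hmp using fun f : {f : G // f ∈ D ∧ pt f = y} =>
    P.exists_mid he f.2.1 (by rw [f.2.2]; exact hxy)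
  let φ : {f : G // f ∈ D ∧ pt f = y} → {v : G // v ∈ D ∧ v • x = y} :=
    fun f => ⟨m f, hm f, by rw [hmp f, f.2.2]⟩
  have hinj : Function.Injective φ := fun a b h => by
    simp only [φ, Subtype.mk.injEq] at h
    exact Subtype.ext (by rw [← hme a, h, hme b])
  have hsurj : Function.Surjective φ :=
    ((Nat.bijective_iff_injective_and_card φ).2 ⟨hinj, (P.card_swap hxy).symm⟩).2
  have key : ∀ v : {v : G // v ∈ D ∧ v • x = y}, ∀ hf : v.1 * e * v.1⁻¹ ∈ D ∧ pt (v.1 * e * v.1⁻¹) = y,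
      v = φ ⟨_, hf⟩ := by
    intro v hf
    obtain ⟨f, rfl⟩ := hsurj v
    exact congrArg φ (Subtype.ext (hme f).symm)
  have hyw' : w' • x = y := by rw [← P.pt_conj w' he, ← h, P.pt_conj w he]
  have h1 := key ⟨w, hw, rfl⟩ ⟨P.conj_mem w e he, by rw [P.pt_conj w he]⟩
  have h2 := key ⟨w', hw', hyw'⟩ ⟨P.conj_mem w' e he, by rw [P.pt_conj w' he, hyw']⟩
  exact congrArg Subtype.val (h1.trans ((congrArg φ (Subtype.ext h)).trans h2.symm))

theorem exists_conj_point {x y : Ω} (hxy : x ≠ y) {e e' : G} (he : e ∈ D) (hex : pt e = x)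
    (he' : e' ∈ D) (hex' : pt e' = x) :
    ∃ g ∈ MulAction.stabilizer G x ⊓ MulAction.stabilizer G y, g * e * g⁻¹ = e' := by
  obtain ⟨f, hf, hfy⟩ := P.exists_at y
  obtain ⟨w, hw, hwe, hwp⟩ := P.exists_mid he hf (by rwa [hex, hfy])
  obtain ⟨w', hw', hwe', hwp'⟩ := P.exists_mid he' hf (by rwa [hex', hfy])
  rw [hex, hfy] at hwp
  rw [hex', hfy] at hwp'
  have hwy : w • y = x := by rw [← hwp, P.smul_smul_self hw]
  have hwy' : w'⁻¹ • y = x := by rw [← hwp', inv_smul_smul]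
  refine ⟨w'⁻¹ * w, ⟨?_, ?_⟩, ?_⟩
  · exact MulAction.mem_stabilizer_iff.2 (by rw [mul_smul, hwp, hwy'])
  · exact MulAction.mem_stabilizer_iff.2 (by rw [mul_smul, hwy, inv_eq (P.inv w' hw'), hwp'])
  · calc w'⁻¹ * w * e * (w'⁻¹ * w)⁻¹ = w'⁻¹ * (w * e * w⁻¹) * w' := by group
      _ = e' := by rw [hwe, ← hwe']; group

variable [Finite Ω]

theorem exists_conj_swap {x y : Ω} (hxy : x ≠ y) {w w' : G} (hw : w ∈ D) (hwx : w • x = y)
    (hw' : w' ∈ D) (hwx' : w' • x = y) :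
    ∃ g ∈ MulAction.stabilizer G x ⊓ MulAction.stabilizer G y, g * w * g⁻¹ = w' := by
  classical
  haveI := Fintype.ofFinite Ω
  let I := {p : Ω × Ω // p.1 ≠ p.2}
  let K : I → Subgroup G := fun p => MulAction.stabilizer G p.1.1 ⊓ MulAction.stabilizer G p.1.2
  let A : I → Set G := fun p => {d | d ∈ D ∧ pt d = p.1.1}
  let B : I → Set G := fun p => {d | d ∈ D ∧ d • p.1.1 = p.1.2}
  let PA : I → Type u := fun p => {q : G × G // q.1 ∈ K p ∧ q.2 ∈ A p ∧ Commute q.1 q.2}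
  let PB : I → Type u := fun p => {q : G × G // q.1 ∈ K p ∧ q.2 ∈ B p ∧ Commute q.1 q.2}
  have hBinv : ∀ p : I, ∀ k ∈ K p, ∀ s ∈ B p, k * s * k⁻¹ ∈ B p := by
    rintro p k ⟨hk1, hk2⟩ s ⟨hs, hsx⟩
    refine ⟨P.conj_mem k s hs, ?_⟩
    have e1 : k⁻¹ • p.1.1 = p.1.1 := by
      rw [inv_smul_eq_iff, MulAction.mem_stabilizer_iff.1 hk1]
    rw [mul_smul, mul_smul, e1, hsx]
    exact MulAction.mem_stabilizer_iff.1 hk2
  have hA : ∀ p : I, Nat.card (PA p) ≤ Nat.card (K p) := fun p =>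
    pairs_le (K p) (A p) fun s hs t ht => P.exists_conj_point p.2 hs.1 hs.2 ht.1 ht.2
  have hB : ∀ p : I, Nat.card (K p) ≤ Nat.card (PB p) := by
    intro p
    obtain ⟨e, he, hep⟩ := P.exists_at p.1.1
    obtain ⟨f, hf, hfp⟩ := P.exists_at p.1.2
    obtain ⟨m, hm, -, hmp⟩ := P.exists_mid he hf (by rw [hep, hfp]; exact p.2)
    exact (le_pairs (K p) (B p) (hBinv p) (s₀ := m) ⟨hm, by rwa [hep, hfp] at hmp⟩).trans
      (Nat.card_le_card_of_injective Subtype.val Subtype.val_injective)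
  have hsum : ∑ p : I, Nat.card (PA p) = ∑ p : I, Nat.card (PB p) := by
    rw [← Nat.card_sigma, ← Nat.card_sigma]
    refine Nat.card_congr
      { toFun := fun r => ⟨⟨(r.1.1.2, r.2.1.2 • r.1.1.2), fun h => r.1.2 (by
            rw [(P.fixed_iff _ r.2.2.2.1.1 _).1 h.symm, r.2.2.2.1.2])⟩, r.2.1,
          ⟨r.2.2.1.2, MulAction.mem_stabilizer_iff.2 (by
            rw [← mul_smul, r.2.2.2.2.eq, mul_smul]
            exact congrArg _ r.2.2.1.2)⟩, ⟨r.2.2.2.1.1, rfl⟩, r.2.2.2.2⟩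
        invFun := fun r => ⟨⟨(pt r.2.1.2, r.1.1.1), fun h => r.1.2 (by
            rw [← r.2.2.2.1.2, ← show pt r.2.1.2 = r.1.1.1 from h, P.smul_pt r.2.2.2.1.1])⟩, r.2.1,
          ⟨MulAction.mem_stabilizer_iff.2 (P.commute_fix r.2.2.2.1.1 r.2.2.2.2), r.2.2.1.1⟩,
          ⟨r.2.2.2.1.1, rfl⟩, r.2.2.2.2⟩
        left_inv := by
          rintro ⟨⟨⟨a, b⟩, hab⟩, ⟨d, i⟩, hd, ⟨hi, hia⟩, hc⟩
          dsimp only at hia
          subst hia
          rfl
        right_inv := by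
          rintro ⟨⟨⟨a, b⟩, hab⟩, ⟨d, i⟩, hd, ⟨hi, hib⟩, hc⟩
          dsimp only at hib
          subst hib
          rfl }
  have heq := (Finset.sum_eq_sum_iff_of_le fun p _ => (hA p).trans (hB p)).1 hsum
    ⟨(x, y), hxy⟩ (Finset.mem_univ _)
  exact trans_of_pairs_le (K ⟨(x, y), hxy⟩) (B ⟨(x, y), hxy⟩) (hBinv _)
    ((le_of_eq heq.symm).trans (hA _)) ⟨hw, hwx⟩ ⟨hw', hwx'⟩

omit [Finite Ω]

theorem exists_commuting {x : Ω} {v : G} (hv : v * v = 1) (hvx : v • x = x) :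
    ∃ d, d ∈ D ∧ pt d = x ∧ Commute d v := by
  classical
  haveI := Fintype.ofFinite {d : G // d ∈ D ∧ pt d = x}
  haveI : Fact (Nat.Prime 2) := ⟨Nat.prime_two⟩
  let σ : Equiv.Perm {d : G // d ∈ D ∧ pt d = x} :=
    { toFun := fun d => ⟨v * d.1 * v⁻¹, P.conj_mem v _ d.2.1, by rw [P.pt_conj v d.2.1, d.2.2, hvx]⟩
      invFun := fun d => ⟨v * d.1 * v⁻¹, P.conj_mem v _ d.2.1, by rw [P.pt_conj v d.2.1, d.2.2, hvx]⟩
      left_inv := fun d => Subtype.ext (by
        show v * (v * d.1 * v⁻¹) * v⁻¹ = d.1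
        rw [inv_eq_of_mul_eq_one_right hv, ← mul_assoc, ← mul_assoc, hv, one_mul, mul_assoc, hv, mul_one])
      right_inv := fun d => Subtype.ext (by
        show v * (v * d.1 * v⁻¹) * v⁻¹ = d.1
        rw [inv_eq_of_mul_eq_one_right hv, ← mul_assoc, ← mul_assoc, hv, one_mul, mul_assoc, hv, mul_one]) }
  have hσ : σ ^ 2 ^ 1 = 1 := by
    ext d
    rw [pow_one, sq, Equiv.Perm.mul_apply, Equiv.Perm.one_apply]
    exact congrArg Subtype.val (σ.left_inv d)
  obtain ⟨⟨d, hd⟩, hfix⟩ := Equiv.Perm.exists_fixed_point_of_prime (p := 2) (by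
    rw [← Nat.card_eq_fintype_card, Nat.two_dvd_ne_zero]
    exact Nat.odd_iff.1 (P.odd_card x)) hσ
  exact ⟨d, hd.1, hd.2, (mul_inv_eq_iff_eq_mul.1 (congrArg Subtype.val hfix)).symm⟩

/-- The setwise stabiliser of `{x, y}`. -/
def pairStab (_P : PointClass G Ω D pt) (x y : Ω) : Subgroup G where
  carrier := {g | (g • x = x ∧ g • y = y) ∨ (g • x = y ∧ g • y = x)}
  one_mem' := Or.inl ⟨one_smul _ _, one_smul _ _⟩
  mul_mem' := by
    rintro a b (⟨a1, a2⟩ | ⟨a1, a2⟩) (⟨b1, b2⟩ | ⟨b1, b2⟩) <;>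
      simp [mul_smul, a1, a2, b1, b2]
  inv_mem' := by
    rintro a (⟨a1, a2⟩ | ⟨a1, a2⟩)
    · exact Or.inl ⟨inv_smul_eq_iff.2 a1.symm, inv_smul_eq_iff.2 a2.symm⟩
    · exact Or.inr ⟨inv_smul_eq_iff.2 a2.symm, inv_smul_eq_iff.2 a1.symm⟩

theorem eq_of_commute_swap {x y : Ω} (hxy : x ≠ y) {w w' : G} (hw : w ∈ D) (hwx : w • x = y)
    (hw' : w' ∈ D) (hwx' : w' • x = y) (hc : Commute w w') : w' = w := by
  by_contra hne
  have hv : (w * w') * (w * w') = 1 := by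
    calc (w * w') * (w * w') = w * (w' * w) * w' := by group
      _ = (w * w) * (w' * w') := by rw [← hc.eq]; group
      _ = 1 := by rw [mul_self (P.inv w hw), mul_self (P.inv w' hw'), one_mul]
  have hwy : w • y = x := by rw [← hwx, P.smul_smul_self hw]
  have hvx : (w * w') • x = x := by rw [mul_smul, hwx', hwy]
  obtain ⟨d, hd, hdx, hdc⟩ := P.exists_commuting hv hvx
  have h1 := P.product w hw w' hw' hc (Ne.symm hne) d hdc
  have h2 : pt w = x := by rw [(P.fixed_iff d hd _).1 h1, hdx]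
  exact hxy ((by rw [← h2, P.smul_pt hw] : w • x = x).symm.trans hwx)

variable [Finite Ω]

/-- The two-point stabiliser has a subgroup of odd order, normal in the stabiliser of the pair,
transitive on the swappers in `D` and on the members of `D` at one of the points. -/
theorem exists_odd_normal {x y : Ω} (hxy : x ≠ y) :
    ∃ O : Subgroup G, O ≤ MulAction.stabilizer G x ⊓ MulAction.stabilizer G y ∧
      Odd (Nat.card O) ∧ (∀ g ∈ P.pairStab x y, ∀ a ∈ O, g * a * g⁻¹ ∈ O) ∧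
      (∀ w ∈ D, w • x = y → ∀ w' ∈ D, w' • x = y → ∃ a ∈ O, a * w * a⁻¹ = w') ∧
      (∀ e ∈ D, pt e = x → ∀ e' ∈ D, pt e' = x → ∃ a ∈ O, a * e * a⁻¹ = e') := by
  haveI : Fact (Nat.Prime 2) := ⟨Nat.prime_two⟩
  set N := P.pairStab x y
  set O := (pPrimeCore 2 N).map N.subtype with hO
  have hodd : Odd (Nat.card O) := by
    rw [hO, Nat.card_congr (Subgroup.equivMapOfInjective _ _ N.subtype_injective).symm.toEquiv]
    exact Nat.coprime_two_right.1 (Cores.coprime_card_pPrimeCore 2)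
  have hON : O ≤ N := Subgroup.map_subtype_le _
  have hnorm : ∀ g ∈ N, ∀ a ∈ O, g * a * g⁻¹ ∈ O := by
    rintro g hg _ ⟨⟨a, ha'⟩, ha, rfl⟩
    exact ⟨_, (Cores.pPrimeCore_normal 2 _).conj_mem _ ha ⟨g, hg⟩, rfl⟩
  have hle : O ≤ MulAction.stabilizer G x ⊓ MulAction.stabilizer G y := by
    intro a ha
    rcases hON ha with h | ⟨h1, h2⟩
    · exact ⟨h.1, h.2⟩
    · exfalso
      have hord : Odd (orderOf a) := Odd.of_dvd_nat hodd (Subgroup.orderOf_dvd_natCard O ha)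
      obtain ⟨k, hk⟩ := hord
      have hev : ∀ j : ℕ, a ^ (2 * j) • x = x := by
        intro j
        induction j with
        | zero => rw [mul_zero, pow_zero, one_smul]
        | succ j ih => rw [show 2 * (j + 1) = 2 + 2 * j by ring, pow_add, mul_smul, ih, sq, mul_smul, h1, h2]
      have : a ^ orderOf a • x = y := by rw [hk, pow_succ', mul_smul, hev, h1]
      rw [pow_orderOf_eq_one, one_smul] at this
      exact hxy this
  have hswap : ∀ w ∈ D, w • x = y → ∀ w' ∈ D, w' • x = y → ∃ a ∈ O, a * w * a⁻¹ = w' := by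
    intro w hw hwx w' hw' hwx'
    have hwy : w • y = x := by rw [← hwx, P.smul_smul_self hw]
    have hwN : w ∈ N := Or.inr ⟨hwx, hwy⟩
    obtain ⟨g, hg, rfl⟩ := P.exists_conj_swap hxy hw hwx hw' hwx'
    have hgN : g ∈ N := Or.inl ⟨MulAction.mem_stabilizer_iff.1 hg.1, MulAction.mem_stabilizer_iff.1 hg.2⟩
    have hiso : IsIsolatedInvolution (⟨w, hwN⟩ : N) := by
      refine ⟨by rw [← Subgroup.orderOf_coe]; exact P.inv w hw, fun n hn => Subtype.ext ?_⟩
      have hc : Commute w ((n : G) * w * (n : G)⁻¹) := congrArg Subtype.val hn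
      have e1 : ((n : G) * w * (n : G)⁻¹) • x = y := by
        rcases n.2 with ⟨n1, n2⟩ | ⟨n1, n2⟩
        · rw [mul_smul, mul_smul, inv_smul_eq_iff.2 n1.symm, hwx, n2]
        · rw [mul_smul, mul_smul, inv_smul_eq_iff.2 n2.symm, hwy, n1]
      exact P.eq_of_commute_swap hxy hw hwx (P.conj_mem _ w hw) e1 hc
    have hc0 : w * g * w⁻¹ * g⁻¹ ∈ O :=
      ⟨_, ZStar.zStar_of_brauerSuzuki ZStar.uniqueInvolution hiso ⟨g, hgN⟩, rfl⟩
    set c := w * g * w⁻¹ * g⁻¹ with hc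
    have hi := inv_eq (P.inv w hw)
    have hgw : g * w * g⁻¹ = w * c := by
      rw [hc, hi, ← mul_assoc, ← mul_assoc, ← mul_assoc, mul_self (P.inv w hw), one_mul]
    have hinv : w * c * w⁻¹ = c⁻¹ := by
      have h2 : (w * c) * (w * c) = 1 := by rw [← hgw]; exact mul_self (by rw [orderOf_conj, P.inv w hw])
      refine eq_inv_of_mul_eq_one_left ?_
      rw [hi, show w * c * w * c = (w * c) * (w * c) by group, h2]
    obtain ⟨k, hk⟩ := Odd.of_dvd_nat hodd (Subgroup.orderOf_dvd_natCard O hc0)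
    refine ⟨(c ^ (k + 1))⁻¹, O.inv_mem (O.pow_mem hc0 _), ?_⟩
    have hia := inverts_pow hinv (k + 1)
    calc (c ^ (k + 1))⁻¹ * w * (c ^ (k + 1))⁻¹⁻¹
        = (w * c ^ (k + 1) * w⁻¹) * w * c ^ (k + 1) := by rw [hia, inv_inv]
      _ = w * (c ^ (k + 1) * c ^ (k + 1)) := by group
      _ = g * w * g⁻¹ := by
          rw [← pow_add, show k + 1 + (k + 1) = (2 * k + 1) + 1 by omega, ← hk, pow_succ,
            pow_orderOf_eq_one, one_mul, hgw]
  refine ⟨O, hle, hodd, hnorm, hswap, fun e he hex e' he' hex' => ?_⟩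
  obtain ⟨f, hf, hfy⟩ := P.exists_at y
  obtain ⟨w, hw, hwe, hwp⟩ := P.exists_mid he hf (by rwa [hex, hfy])
  obtain ⟨w', hw', hwe', hwp'⟩ := P.exists_mid he' hf (by rwa [hex', hfy])
  rw [hex, hfy] at hwp
  rw [hex', hfy] at hwp'
  obtain ⟨a, ha, rfl⟩ := hswap w hw hwp w' hw' hwp'
  have hwN : w ∈ N := Or.inr ⟨hwp, by rw [← hwp, P.smul_smul_self hw]⟩
  refine ⟨(a * w * a⁻¹)⁻¹ * w, ?_, ?_⟩
  · rw [show (a * w * a⁻¹)⁻¹ * w = a * (w⁻¹ * a⁻¹ * w⁻¹⁻¹) by group]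
    exact O.mul_mem ha (hnorm _ (N.inv_mem hwN) _ (O.inv_mem ha))
  · calc (a * w * a⁻¹)⁻¹ * w * e * ((a * w * a⁻¹)⁻¹ * w)⁻¹
        = (a * w * a⁻¹)⁻¹ * (w * e * w⁻¹) * (a * w * a⁻¹) := by group
      _ = e' := by rw [hwe, ← hwe']; group

omit [Finite Ω]

theorem exists_conj_centralizing {u : G} (hu : u * u = 1) {a b : Ω} (hab : a ≠ b) (hua : u • a = a)
    (hub : u • b = b) {d d' : G} (hd : d ∈ D) (hdu : Commute d u) (hd' : d' ∈ D) (hdu' : Commute d' u) :
    ∃ g, Commute g u ∧ g * d * g⁻¹ = d' := by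
  have key : ∀ {d d' : G}, d ∈ D → Commute d u → d' ∈ D → Commute d' u → pt d ≠ pt d' →
      ∃ g, Commute g u ∧ g * d * g⁻¹ = d' := by
    intro d d' hd hdu hd' hdu' hne
    obtain ⟨g, hg, hgd⟩ := exists_conj_of_odd (P.inv d hd) (P.inv d' hd') (P.odd_order hd hd' hne)
    refine ⟨g, mem_centralizer_iff_commute.1 ((Subgroup.closure_le _).2 ?_ hg), hgd⟩
    rintro _ (rfl | rfl)
    · exact mem_centralizer_iff_commute.2 hdu
    · exact mem_centralizer_iff_commute.2 hdu'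
  by_cases hne : pt d = pt d'
  swap
  · exact key hd hdu hd' hdu' hne
  obtain ⟨q, huq, hq⟩ : ∃ q, u • q = q ∧ q ≠ pt d := by
    by_cases h : a = pt d
    · exact ⟨b, hub, fun h' => hab (h.trans h'.symm)⟩
    · exact ⟨a, hua, h⟩
  obtain ⟨d₁, hd₁, hd₁q, hd₁u⟩ := P.exists_commuting hu huq
  obtain ⟨g, hg, hgd⟩ := key hd hdu hd₁ hd₁u (by rw [hd₁q]; exact hq.symm)
  obtain ⟨g', hg', hgd'⟩ := key hd₁ hd₁u hd' hdu' (by rw [hd₁q, ← hne]; exact hq)
  exact ⟨g' * g, hg'.mul_left hg, by rw [← hgd', ← hgd]; group⟩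

variable [Finite Ω]

theorem exists_fixed_mul {u : G} (hu : u * u = 1) {a b : Ω} (hab : a ≠ b) (hua : u • a = a)
    (hub : u • b = b) {p : Ω} (hp : u • p ≠ p) {d : G} (hd : d ∈ D) (hdu : Commute d u) :
    ∃ q, q ≠ pt d ∧ (u * d) • q = q := by
  have hui : u⁻¹ = u := inv_eq_of_mul_eq_one_right hu
  obtain ⟨e, he, hep⟩ := P.exists_at p
  have hf : u * e * u⁻¹ ∈ D := P.conj_mem u e he
  have hfp : pt (u * e * u⁻¹) = u • p := by rw [P.pt_conj u he, hep]
  obtain ⟨w, hw, hwe, hwp⟩ := P.exists_mid he hf (by rw [hep, hfp]; exact hp.symm)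
  rw [hep, hfp] at hwp
  have hwu : Commute w u := by
    have h1 : (u * w * u⁻¹) * e * (u * w * u⁻¹)⁻¹ = w * e * w⁻¹ := by
      have hue : u⁻¹ * e * u = u * e * u⁻¹ := by rw [hui]
      calc (u * w * u⁻¹) * e * (u * w * u⁻¹)⁻¹ = u * w * (u⁻¹ * e * u) * w⁻¹ * u⁻¹ := by group
        _ = u * (w * (w * e * w⁻¹) * w⁻¹) * u⁻¹ := by rw [hue, ← hwe]; group
        _ = u * e * u⁻¹ := by
            rw [show w * (w * e * w⁻¹) * w⁻¹ = (w * w) * e * (w * w)⁻¹ by group,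
              mul_self (P.inv w hw), one_mul, inv_one, mul_one]
        _ = w * e * w⁻¹ := hwe.symm
    have h2 := P.mid_unique he hw (P.conj_mem u w hw) (by rw [hep, hwp]; exact hp) h1.symm
    exact (mul_inv_eq_iff_eq_mul.1 h2.symm).symm
  have hwne : p ≠ pt w := fun h => hp (by rw [← hwp, h, P.smul_pt hw])
  obtain ⟨g, hg, rfl⟩ := P.exists_conj_centralizing hu hab hua hub hw hwu hd hdu
  refine ⟨g • p, fun h => hwne (smul_left_cancel g (h.trans (P.pt_conj g hw))), ?_⟩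
  rw [show u * (g * w * g⁻¹) = g * (u * w) * g⁻¹ by rw [← mul_assoc g u w, hg.eq]; group,
    mul_smul, inv_smul_smul, mul_smul, mul_smul, hwp, ← mul_smul u u, hu, one_smul]

/-- Involutions with exactly one fixed point lie in `D`. -/
theorem mem_of_unique_fixed [FaithfulSMul G Ω] {v : G} (hv : orderOf v = 2) {x y : Ω} (hxy : x ≠ y)
    (hx : v • x = x) (huniq : ∀ p, v • p = p → p = x) : v ∈ D := by
  by_contra hvD
  have hvy : v • y ≠ y := fun h => hxy (huniq y h).symm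
  obtain ⟨e, he, hey⟩ := P.exists_at y
  have hpe : pt (v * e * v⁻¹) = v • y := by rw [P.pt_conj v he, hey]
  obtain ⟨m, hm, hme, hmp⟩ := P.exists_mid he (P.conj_mem v e he) (by rw [hey, hpe]; exact hvy.symm)
  rw [hey, hpe] at hmp
  have hvi := inv_eq hv
  have hmi := inv_eq (P.inv m hm)
  have hmv : Commute m v := by
    have h1 : (v * m * v⁻¹) * e * (v * m * v⁻¹)⁻¹ = m * e * m⁻¹ := by
      have hve : v⁻¹ * e * v = v * e * v⁻¹ := by rw [hvi]
      calc (v * m * v⁻¹) * e * (v * m * v⁻¹)⁻¹ = v * m * (v⁻¹ * e * v) * m⁻¹ * v⁻¹ := by group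
        _ = v * (m * (m * e * m⁻¹) * m⁻¹) * v⁻¹ := by rw [hve, ← hme]; group
        _ = v * e * v⁻¹ := by
            rw [show m * (m * e * m⁻¹) * m⁻¹ = (m * m) * e * (m * m)⁻¹ by group,
              mul_self (P.inv m hm), one_mul, inv_one, mul_one]
        _ = m * e * m⁻¹ := hme.symm
    have h2 := P.mid_unique he hm (P.conj_mem v m hm) (by rw [hey, hmp]; exact hvy) h1.symm
    exact (mul_inv_eq_iff_eq_mul.1 h2.symm).symm
  have hptm : pt m = x := huniq _ (P.commute_fix hm hmv.symm)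
  have hcy : (v * m) • y = y := by rw [mul_smul, hmp, ← mul_smul, mul_self hv, one_smul]
  have hcx : (v * m) • x = x := by rw [← hptm, mul_smul, P.smul_pt hm, hptm, hx]
  have hc1 : v * m ≠ 1 := fun h => hvD (by
    rw [mul_eq_one_iff_eq_inv, hmi] at h; exact h ▸ hm)
  have hc2 : (v * m) * (v * m) = 1 := by
    calc (v * m) * (v * m) = v * (m * v) * m := by group
      _ = (v * v) * (m * m) := by rw [hmv.eq]; group
      _ = 1 := by rw [mul_self hv, mul_self (P.inv m hm), one_mul]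
  obtain ⟨p, hp⟩ : ∃ p : Ω, (v * m) • p ≠ p := by
    by_contra h
    push Not at h
    exact hc1 (eq_of_smul_eq_smul fun p : Ω => by rw [h p, one_smul])
  obtain ⟨q, hq, hfix⟩ := P.exists_fixed_mul hc2 hxy hcx hcy hp hm (hmv.mul_right (Commute.refl m))
  rw [mul_assoc, mul_self (P.inv m hm), mul_one] at hfix
  exact hq ((huniq q hfix).trans hptm.symm)

theorem odd_card_points {d : G} (hd : d ∈ D) : Odd (Nat.card Ω) := by
  haveI : Fact (Nat.Prime 2) := ⟨Nat.prime_two⟩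
  have h := (IsPGroup.of_card (p := 2) (G := Subgroup.zpowers d) (n := 1)
    (by rw [Nat.card_zpowers, P.inv d hd, pow_one])).card_modEq_card_fixedPoints Ω
  have hfix : MulAction.fixedPoints (Subgroup.zpowers d) Ω = {pt d} := by
    ext p
    rw [MulAction.mem_fixedPoints, Set.mem_singleton_iff]
    refine ⟨fun h => (P.fixed_iff d hd p).1 (h ⟨d, Subgroup.mem_zpowers d⟩), ?_⟩
    rintro rfl ⟨g, hg⟩
    obtain ⟨k, rfl⟩ := Subgroup.mem_zpowers_iff.1 hg
    exact MulAction.mem_stabilizer_iff.1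
      (zpow_mem (MulAction.mem_stabilizer_iff.2 (P.smul_pt hd) : d ∈ MulAction.stabilizer G (pt d)) k)
  rw [hfix, Nat.card_eq_fintype_card (α := ({pt d} : Set Ω)), Fintype.card_unique] at h
  exact Nat.odd_iff.2 h

theorem mem_or_two_fixed [FaithfulSMul G Ω] {x y : Ω} (hxy : x ≠ y) {v : G} (hv : orderOf v = 2) :
    v ∈ D ∨ ∃ a b : Ω, a ≠ b ∧ v • a = a ∧ v • b = b := by
  classical
  haveI := Fintype.ofFinite Ω
  obtain ⟨d, hd, -⟩ := P.exists_at x
  obtain ⟨a, ha⟩ := Equiv.Perm.exists_fixed_point_of_prime (p := 2) (n := 1) (by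
    rw [← Nat.card_eq_fintype_card, Nat.two_dvd_ne_zero]
    exact Nat.odd_iff.1 (P.odd_card_points hd)) (σ := MulAction.toPermHom G Ω v) (by
    rw [pow_one, ← map_pow, sq, mul_self hv, map_one])
  by_cases h : ∃ b, b ≠ a ∧ v • b = b
  · obtain ⟨b, hba, hb⟩ := h
    exact Or.inr ⟨b, a, hba, hb, ha⟩
  · push Not at h
    obtain ⟨b, hb⟩ : ∃ b, a ≠ b := by
      by_cases h1 : a = x
      · exact ⟨y, h1 ▸ hxy⟩
      · exact ⟨x, h1⟩
    exact Or.inl (P.mem_of_unique_fixed hv hb ha fun p hp => by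
      by_contra hne
      exact h p hne hp)

theorem mul_mem_of_commute [FaithfulSMul G Ω] {d e : G} (hd : d ∈ D) (he : e ∈ D) (hde : Commute d e)
    (hne : d ≠ e) {x y : Ω} (hxy : x ≠ y) : d * e ∈ D := by
  have hv : orderOf (d * e) = 2 := orderOf_of_sq (by
    calc d * e * (d * e) = d * (e * d) * e := by group
      _ = (d * d) * (e * e) := by rw [← hde.eq]; group
      _ = 1 := by rw [mul_self (P.inv d hd), mul_self (P.inv e he), one_mul])
    (fun h => hne (by rw [mul_eq_one_iff_eq_inv, inv_eq (P.inv e he)] at h; exact h))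
  obtain ⟨z, hz⟩ : ∃ z, pt d ≠ z := by
    by_cases h1 : pt d = x
    · exact ⟨y, h1 ▸ hxy⟩
    · exact ⟨x, h1⟩
  refine P.mem_of_unique_fixed hv hz ?_ fun p hp => ?_
  · rw [mul_smul, P.pt_eq_of_commute hd he hde, P.smul_pt he, ← P.pt_eq_of_commute hd he hde,
      P.smul_pt hd]
  · obtain ⟨c, hc, hcp, hcc⟩ := P.exists_commuting (mul_self hv) hp
    rw [← hcp]
    exact ((P.fixed_iff c hc _).1 (P.product d hd e he hde hne c hcc)).symm

end PointClass

end Cfsg.Agent.Aschbacher
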