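/-
The setting of Aschbacher's criterion as a point class on cosets (owner: helper44).

* `pointOf H z` : the coset fixed by a conjugate of `z`
* `pointClass` : conditions (i) and (h3) of the criterion give `PointClass G (G ⧸ H) (conjugatesOf z) _`
* `h3_of_local` : (h3) follows from the local strong embedding hypothesis
-/
import Cfsg.Agent.Lib.Aschbacher.Basic
import Cfsg.Agent.Lib.Involution.StronglyEmbedded

set_option autoImplicit false

namespace Cfsg.Agent.Aschbacher

open Cfsg Involution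

universe u

variable {G : Type u} [Group G] {H : Subgroup G} {z : G}

/-- The coset fixed by a conjugate of `z`. -/
noncomputable def pointOf (H : Subgroup G) (z d : G) : G ⧸ H :=
  open Classical in if h : IsConj z d then ((isConj_iff.1 h).choose : G ⧸ H) else ((1 : G) : G ⧸ H)

theorem pointOf_eq (hiff : ∀ g : G, g * z * g⁻¹ ∈ H ↔ g ∈ H) (g : G) :
    pointOf H z (g * z * g⁻¹) = (g : G ⧸ H) := by
  have h : IsConj z (g * z * g⁻¹) := isConj_iff.2 ⟨g, rfl⟩
  rw [pointOf, dif_pos h, QuotientGroup.eq]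
  have hc := (isConj_iff.1 h).choose_spec
  set c := (isConj_iff.1 h).choose
  rw [← hiff, show c⁻¹ * g * z * (c⁻¹ * g)⁻¹ = c⁻¹ * (g * z * g⁻¹) * c by group, ← hc,
    show c⁻¹ * (c * z * c⁻¹) * c = z by group]
  simpa using (hiff 1).2 H.one_mem

variable [Finite G]

theorem odd_conj_count (P : Sylow 2 G) (hPz : ∀ s ∈ P, Commute s z)
    (hiff : ∀ g : G, g * z * g⁻¹ ∈ H ↔ g ∈ H) :
    Odd (Nat.card {d : G // IsConj z d ∧ d ∈ H}) := by
  haveI : Fact (Nat.Prime 2) := ⟨Nat.prime_two⟩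
  have hCH : Subgroup.centralizer ({z} : Set G) ≤ H := fun c hc => by
    rw [← hiff, mem_centralizer_singleton.1 hc, mul_inv_cancel_right]
    simpa using (hiff 1).2 H.one_mem
  have hPC : (P : Subgroup G) ≤ Subgroup.centralizer ({z} : Set G) := fun s hs =>
    mem_centralizer_iff_commute.2 (hPz s hs)
  set K := (Subgroup.centralizer ({z} : Set G)).subgroupOf H
  have hodd : Odd K.index := by
    have h1 : (Subgroup.centralizer ({z} : Set G)).relIndex H ∣ (P : Subgroup G).index :=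
      (Subgroup.relIndex_dvd_of_le_left H hPC).trans ⟨H.index, (Subgroup.relIndex_mul_index (hPC.trans hCH)).symm⟩
    exact Odd.of_dvd_nat (Nat.odd_iff.2 (Nat.two_dvd_ne_zero.1 P.not_dvd_index)) h1
  have key : ∀ a b : H, (a : G) * z * (a : G)⁻¹ = b * z * (b : G)⁻¹ ↔ a⁻¹ * b ∈ K := by
    intro a b
    rw [Subgroup.mem_subgroupOf, mem_centralizer_singleton, Subgroup.coe_mul, Subgroup.coe_inv]
    constructor
    · intro h
      calc (a : G)⁻¹ * b * z = (a : G)⁻¹ * (b * z * (b : G)⁻¹) * b := by group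
        _ = z * ((a : G)⁻¹ * b) := by rw [← h]; group
    · intro h
      calc (a : G) * z * (a : G)⁻¹ = a * (z * ((a : G)⁻¹ * b)) * (b : G)⁻¹ := by group
        _ = b * z * (b : G)⁻¹ := by rw [← h]; group
  let f : H ⧸ K → {d : G // IsConj z d ∧ d ∈ H} := Quotient.lift
    (fun h : H => ⟨(h : G) * z * (h : G)⁻¹, isConj_iff.2 ⟨h, rfl⟩, (hiff h).2 h.2⟩)
    (fun a b hab => Subtype.ext ((key a b).2 (QuotientGroup.leftRel_apply.1 hab)))
  have hbij : Function.Bijective f := by
    constructor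
    · rintro ⟨a⟩ ⟨b⟩ h
      exact QuotientGroup.eq.2 ((key a b).1 (congrArg Subtype.val h))
    · rintro ⟨d, hd, hdH⟩
      obtain ⟨g, rfl⟩ := isConj_iff.1 hd
      exact ⟨((⟨g, (hiff g).1 hdH⟩ : H) : H ⧸ K), rfl⟩
  rwa [← Nat.card_congr (Equiv.ofBijective f hbij)]

theorem pointClass (P : Sylow 2 G) (hz : orderOf z = 2) (hPz : ∀ s ∈ P, Commute s z)
    (hiff : ∀ g : G, g * z * g⁻¹ ∈ H ↔ g ∈ H)
    (h3 : ∀ g : G, Commute z (g * z * g⁻¹) → g * z * g⁻¹ ≠ z →
      Subgroup.centralizer ({z * (g * z * g⁻¹)} : Set G) ≤ H) :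
    PointClass G (G ⧸ H) (conjugatesOf z) (pointOf H z) := by
  have hpt := pointOf_eq hiff
  refine ⟨fun d hd => ?_, fun g d hd => ?_, ?_, ?_, fun p => ?_⟩
  · rw [← orderOf_eq_of_isConj hd, hz]
  · exact (hd.trans (isConj_iff.2 ⟨g, rfl⟩))
  · intro d hd p
    obtain ⟨g, rfl⟩ := isConj_iff.1 hd
    induction p using QuotientGroup.induction_on with | _ a =>
    rw [hpt, smul_mk_eq_iff, QuotientGroup.eq,
      show a⁻¹ * (g * z * g⁻¹) * a = (a⁻¹ * g) * z * (a⁻¹ * g)⁻¹ by group, hiff]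
  · intro d hd e he hde hne c hc
    obtain ⟨a, rfl⟩ := isConj_iff.1 hd
    obtain ⟨b, rfl⟩ := isConj_iff.1 he
    have hφ : ∀ x : G, MulAut.conj a⁻¹ x = a⁻¹ * x * a := fun x => by simp
    have e1 : MulAut.conj a⁻¹ (a * z * a⁻¹) = z := by rw [hφ]; group
    have e2 : MulAut.conj a⁻¹ (b * z * b⁻¹) = (a⁻¹ * b) * z * (a⁻¹ * b)⁻¹ := by rw [hφ]; group
    have h4 := h3 (a⁻¹ * b) (by have h := hde.map (MulAut.conj a⁻¹); rwa [e1, e2] at h)
      (fun h => hne ((MulAut.conj a⁻¹).injective (e1.trans (h.symm.trans e2.symm))))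
      (mem_centralizer_iff_commute.2 (show Commute (a⁻¹ * c * a) _ by
        have h := hc.map (MulAut.conj a⁻¹); rwa [map_mul, e1, e2, hφ] at h))
    rw [hpt, smul_mk_eq_iff]
    exact h4
  · induction p using QuotientGroup.induction_on with | _ a =>
    have e : Nat.card {d : G // d ∈ conjugatesOf z ∧ pointOf H z d = (a : G ⧸ H)} =
        Nat.card {d : G // IsConj z d ∧ d ∈ H} := by
      refine Nat.card_congr (Equiv.subtypeEquiv (MulAut.conj a⁻¹).toEquiv fun d => ?_)
      show _ ↔ IsConj z (MulAut.conj a⁻¹ d) ∧ MulAut.conj a⁻¹ d ∈ H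
      rw [show MulAut.conj a⁻¹ d = a⁻¹ * d * a by simp]
      constructor
      · rintro ⟨hd, hda⟩
        obtain ⟨g, rfl⟩ := isConj_iff.1 hd
        rw [show a⁻¹ * (g * z * g⁻¹) * a = (a⁻¹ * g) * z * (a⁻¹ * g)⁻¹ by group, hiff]
        rw [hpt, eq_comm, QuotientGroup.eq] at hda
        exact ⟨isConj_iff.2 ⟨_, rfl⟩, hda⟩
      · rintro ⟨hd, hdH⟩
        obtain ⟨g, hg⟩ := isConj_iff.1 hd
        obtain rfl : d = (a * g) * z * (a * g)⁻¹ := by
          rw [show (a * g) * z * (a * g)⁻¹ = a * (g * z * g⁻¹) * a⁻¹ by group, hg]; group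
        refine ⟨(isConj_iff.2 ⟨_, rfl⟩), ?_⟩
        rw [hpt, eq_comm, QuotientGroup.eq, inv_mul_cancel_left]
        rwa [← hg, hiff] at hdH
    rw [e]
    exact odd_conj_count P hPz hiff

/-- The local strong embedding hypothesis gives (h3). -/
theorem h3_of_local (P : Sylow 2 G) (hz : orderOf z = 2)
    (hiff : ∀ g : G, g * z * g⁻¹ ∈ H ↔ g ∈ H)
    (hloc : ∀ u : G, orderOf u = 2 → u * z = z * u → ¬ Subgroup.centralizer ({u} : Set G) ≤ H →
      IsStronglyEmbedded (H.subgroupOf (Subgroup.closure {x : G | IsConj z x ∧ x * u = u * x})))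
    (g : G) (hc : Commute z (g * z * g⁻¹)) (hne : g * z * g⁻¹ ≠ z) :
    Subgroup.centralizer ({z * (g * z * g⁻¹)} : Set G) ≤ H := by
  by_contra hnot
  set e := g * z * g⁻¹ with he
  have he2 : orderOf e = 2 := by rw [he, orderOf_conj, hz]
  set u := z * e with hu
  have hu2 : orderOf u = 2 := orderOf_of_sq (by
    calc z * e * (z * e) = z * (e * z) * e := by group
      _ = (z * z) * (e * e) := by rw [← hc.eq]; group
      _ = 1 := by rw [mul_self hz, mul_self he2, one_mul])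
    (fun h => hne (by rw [mul_eq_one_iff_eq_inv, inv_eq he2] at h; exact h.symm))
  have hzu : Commute z u := (Commute.refl z).mul_right hc
  have heu : Commute e u := hc.symm.mul_right (Commute.refl e)
  have hL := hloc u hu2 hzu.symm.eq hnot
  set L := Subgroup.closure {x : G | IsConj z x ∧ x * u = u * x}
  have hLu : ∀ x ∈ L, Commute x u := fun x hx =>
    mem_centralizer_iff_commute.1 ((Subgroup.closure_le _).2
      (fun y hy => mem_centralizer_iff_commute.2 hy.2) hx)
  have hzL : z ∈ L := Subgroup.subset_closure ⟨IsConj.refl z, hzu.eq⟩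
  have heL : e ∈ L := Subgroup.subset_closure ⟨isConj_iff.2 ⟨g, rfl⟩, heu.eq⟩
  have hzH : z ∈ H := by simpa using (hiff 1).2 H.one_mem
  have heH : e ∈ H := by
    have : Subgroup.centralizer ({z} : Set G) ≤ H := fun c hc' => by
      rw [← hiff, mem_centralizer_singleton.1 hc', mul_inv_cancel_right]; exact hzH
    exact this (mem_centralizer_iff_commute.2 hc.symm)
  let zL : L := ⟨z, hzL⟩
  let uL : L := ⟨u, mul_mem hzL heL⟩
  obtain ⟨c, hcL⟩ := isConj_iff.1 (isConj_involutions hL (s := uL) (t := zL)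
    (by rw [← Subgroup.orderOf_coe]; exact hu2) (by rw [← Subgroup.orderOf_coe]; exact hz))
  have h1 : (c : G) * u * (c : G)⁻¹ = z := congrArg Subtype.val hcL
  rw [(hLu c c.2).eq, mul_inv_cancel_right] at h1
  have h2 : e = 1 := by
    rw [hu] at h1
    exact left_eq_mul.1 h1.symm
  exact ne_one he2 h2

end Cfsg.Agent.Aschbacher
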