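/-
The transfer step of Aschbacher's criterion (owner: helper40; CRITERION.md step 1).

`P : PointClass G (G ⧸ H) D pt` with `D` one class generating `G`.  An involution `u` fixing two
points has a centraliser transitive on its fixed points, an odd number; so a homomorphism
`χ : H → A` into an abelian group with `χ u ≠ 1` transfers to one of `G` which is non-trivial on `u`.
Then no two members of `D` commute, and `Z*` leaves no room for `u`.

* `transfer_involution` : the transfer at an involution with one orbit of fixed cosets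
* `false_of_sign` : no such `χ` exists
-/
import Cfsg.Agent.Lib.Aschbacher.Basic
import Cfsg.Agent.Lib.TwoTransfer.CenterInvolution

set_option autoImplicit false
set_option linter.style.haveILetI false

namespace Cfsg.Agent.Aschbacher

open Cfsg Involution MulAction

universe u

variable {G : Type u} [Group G] [Finite G]

/-- The transfer at an involution whose fixed cosets form one orbit of its centraliser. -/
theorem transfer_involution {M : Subgroup G} {A : Type*} [CommGroup A] (χ : M →* A) {w : G}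
    (hw : w ^ 2 = 1) {g₀ : G} (h₀ : g₀⁻¹ * w * g₀ ∈ M)
    (htrans : ∀ g : G, g⁻¹ * w * g ∈ M → ∃ c, Commute c w ∧ ((c * g₀ : G) : G ⧸ M) = g) :
    MonoidHom.transfer χ w = χ ⟨_, h₀⟩ ^ Nat.card {q : G ⧸ M // w • q = q} := by
  classical
  haveI := Fintype.ofFinite (G ⧸ M)
  let f : G ⧸ M → A := fun x => if w • x = x then χ ⟨_, h₀⟩ else 1
  rw [TwoTransfer.prod_fixed_eq_transfer χ w hw f (fun x hx => if_neg hx) ?_]
  · simp only [f]
    rw [← Finset.prod_filter, Finset.prod_const, Nat.card_eq_fintype_card, Fintype.card_subtype]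
  intro g hg
  have hfix : w • (g : G ⧸ M) = g := (TwoTransfer.mk_fixed_iff w g).2 hg
  simp only [f]
  rw [if_pos hfix]
  obtain ⟨c, hcw, hc⟩ := htrans g hg
  have hh := QuotientGroup.eq.1 hc
  set h : M := ⟨_, hh⟩
  have e : (⟨_, hg⟩ : M) = h⁻¹ * ⟨_, h₀⟩ * h := by
    apply Subtype.ext
    show g⁻¹ * w * g = ((c * g₀)⁻¹ * g)⁻¹ * (g₀⁻¹ * w * g₀) * ((c * g₀)⁻¹ * g)
    calc g⁻¹ * w * g = g⁻¹ * (c * w * c⁻¹) * g := by rw [hcw.eq, mul_inv_cancel_right]
      _ = _ := by group
  rw [e, map_mul, map_mul, map_inv, mul_comm, mul_inv_cancel_left]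

variable {H : Subgroup G} {D : Set G} {pt : G → G ⧸ H}

/-- No homomorphism of the point stabiliser into an abelian group detects an involution fixing two
points. -/
theorem false_of_sign [FaithfulSMul G (G ⧸ H)] (P : PointClass G (G ⧸ H) D pt)
    (hclass : ∀ d ∈ D, ∀ e ∈ D, IsConj d e) (hgen : Subgroup.closure D = ⊤)
    {A : Type*} [CommGroup A] (χ : H →* A) {u : G} (hu : orderOf u = 2) {a b : G ⧸ H} (hab : a ≠ b)
    (hua : u • a = a) (hub : u • b = b) (huH : u ∈ H) (hχ : χ ⟨u, huH⟩ ≠ 1) : False := by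
  classical
  haveI : Fact (Nat.Prime 2) := ⟨Nat.prime_two⟩
  set o : G ⧸ H := ((1 : G) : G ⧸ H) with ho
  have huo : u • o = o := by
    rw [ho, MulAction.Quotient.smul_mk, smul_eq_mul, mul_one, QuotientGroup.eq, mul_one]
    exact H.inv_mem huH
  have hu2 : u * u = 1 := mul_self hu
  have hsq : u ^ 2 = 1 := by rw [sq, hu2]
  have h₀ : (1 : G)⁻¹ * u * 1 ∈ H := by simpa using huH
  -- the transfer is non-trivial at `u`
  have hV : MonoidHom.transfer χ u ≠ 1 := by
    rw [transfer_involution χ hsq h₀ (fun g hg => ?_)]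
    · have hodd : Odd (Nat.card {q : G ⧸ H // u • q = q}) := by
        obtain ⟨d, hd, -⟩ := P.exists_at o
        have h1 := (IsPGroup.of_card (p := 2) (G := Subgroup.zpowers u) (n := 1)
          (by rw [Nat.card_zpowers, hu, pow_one])).card_modEq_card_fixedPoints (G ⧸ H)
        have h2 : Nat.card (fixedPoints (Subgroup.zpowers u) (G ⧸ H)) =
            Nat.card {q : G ⧸ H // u • q = q} := by
          refine Nat.card_congr (Equiv.subtypeEquivRight fun q => ⟨fun h => h ⟨u, Subgroup.mem_zpowers u⟩,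
            fun h => fun ⟨x, hx⟩ => ?_⟩)
          exact MulAction.mem_stabilizer_iff.1
            (Subgroup.zpowers_le.2 (MulAction.mem_stabilizer_iff.2 h) hx)
        rw [Nat.odd_iff, ← h2]
        exact (show _ % 2 = _ % 2 from h1.symm).trans (Nat.odd_iff.1 (P.odd_card_points hd))
      obtain ⟨k, hk⟩ := hodd
      have e1 : (⟨(1 : G)⁻¹ * u * 1, h₀⟩ : H) = ⟨u, huH⟩ := Subtype.ext (by simp)
      have e2 : χ ⟨u, huH⟩ ^ 2 = 1 := by
        rw [← map_pow, ← map_one χ]
        exact congrArg χ (Subtype.ext hsq)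
      rw [hk, e1, pow_succ, pow_mul, e2, one_pow, one_mul]
      exact hχ
    · have hfix : u • (g : G ⧸ H) = g := (TwoTransfer.mk_fixed_iff u g).2 hg
      obtain ⟨d, hd, hdo, hdu⟩ := P.exists_commuting hu2 huo
      obtain ⟨e, he, heg, heu⟩ := P.exists_commuting hu2 hfix
      obtain ⟨c, hcu, hcd⟩ := P.exists_conj_centralizing hu2 hab hua hub hd hdu he heu
      refine ⟨c, hcu, ?_⟩
      have h1 := P.pt_conj c hd
      rw [hcd, heg, hdo, ho, MulAction.Quotient.smul_mk, smul_eq_mul] at h1
      exact h1.symm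
  -- no two members commute
  have hV1 : ∀ d ∈ D, MonoidHom.transfer χ d ≠ 1 := by
    intro d hd h
    refine hV (MonoidHom.mem_ker.1 ((hgen ▸ (Subgroup.closure_le _).2 fun e he => ?_ :
      (⊤ : Subgroup G) ≤ (MonoidHom.transfer χ).ker) (Subgroup.mem_top u)))
    obtain ⟨g, rfl⟩ := isConj_iff.1 (hclass d hd e he)
    rw [SetLike.mem_coe, MonoidHom.mem_ker, map_mul, map_mul, h, mul_one, map_inv, mul_inv_cancel]
  obtain ⟨d, hd, -⟩ := P.exists_at o
  have huD : u ∉ D := fun h => hab (((P.fixed_iff u h a).1 hua).trans ((P.fixed_iff u h b).1 hub).symm)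
  have hiso : IsIsolatedInvolution d := by
    refine ⟨P.inv d hd, fun g hg => ?_⟩
    by_contra hne
    have he := P.conj_mem g d hd
    have hprod := P.mul_mem_of_commute (x := a) (y := b) hd he hg (Ne.symm hne) hab
    refine hV1 _ hprod ?_
    rw [map_mul, show MonoidHom.transfer χ (g * d * g⁻¹) = MonoidHom.transfer χ d by
      rw [map_mul, map_mul, map_inv, mul_comm, inv_mul_cancel_left], ← map_mul,
      mul_self (P.inv d hd), map_one]
  have hcore := ZStar.zStar_of_brauerSuzuki ZStar.uniqueInvolution hiso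
  haveI := Cores.pPrimeCore_normal 2 G
  set O := Cfsg.pPrimeCore 2 G
  have hO : Odd (Nat.card O) := Nat.coprime_two_right.1 (Cores.coprime_card_pPrimeCore (G := G) 2)
  set f := QuotientGroup.mk' O
  have hfd : ∀ e ∈ D, f e = f d := by
    intro e he
    obtain ⟨g, rfl⟩ := isConj_iff.1 (hclass d hd e he)
    have h1 : f (d * g * d⁻¹ * g⁻¹) = 1 := (QuotientGroup.eq_one_iff _).2 (hcore g)
    rw [map_mul, map_mul, map_mul, map_inv, map_inv, mul_inv_eq_one, mul_inv_eq_iff_eq_mul] at h1
    rw [map_mul, map_mul, map_inv, ← h1, mul_inv_cancel_right]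
  have hfu : ∀ x : G, f x ∈ Subgroup.zpowers (f d) := by
    intro x
    have hx : x ∈ Subgroup.closure D := hgen ▸ Subgroup.mem_top x
    induction hx using Subgroup.closure_induction with
    | mem e he => rw [hfd e he]; exact Subgroup.mem_zpowers _
    | one => rw [map_one]; exact Subgroup.one_mem _
    | mul x y _ _ hx hy => rw [map_mul]; exact Subgroup.mul_mem _ hx hy
    | inv x _ hx => rw [map_inv]; exact Subgroup.inv_mem _ hx
  have hd2 : f d * f d = 1 := by rw [← map_mul, mul_self (P.inv d hd), map_one]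
  obtain ⟨k, hk : f d ^ k = f u⟩ := hfu u
  rcases Int.even_or_odd k with ⟨j, hj⟩ | ⟨j, hj⟩
  · rw [hj, ← two_mul, zpow_mul, zpow_two, hd2, one_zpow] at hk
    exact Nat.not_even_iff_odd.2 (hO.of_dvd_nat (Subgroup.orderOf_dvd_natCard O
      ((QuotientGroup.eq_one_iff u).1 hk.symm))) (by rw [hu]; exact even_two)
  · rw [hj, zpow_add, zpow_mul, zpow_two, hd2, one_zpow, one_mul, zpow_one] at hk
    have hmem : d⁻¹ * u ∈ O := QuotientGroup.eq.1 hk
    rw [inv_eq (P.inv d hd)] at hmem
    exact huD (by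
      obtain ⟨g, rfl⟩ := isConj_iff.1 (isConj_of_odd (P.inv d hd) hu
        (hO.of_dvd_nat (Subgroup.orderOf_dvd_natCard O hmem)))
      exact P.conj_mem g d hd)

end Cfsg.Agent.Aschbacher
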