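/-
Reductions of Aschbacher's criterion for strong embedding to its core-free form (owner: helper44).

* `CoreFreeCriterion` : the core-free statement
* `criterion_local` : the general criterion with local strong embedding data (statement of S1913)
* `criterion_simple` : the form for simple groups (statement of S1175)
* `criterion_strongly_closed` : strongly closed subgroups (statement of S1174)
-/
import Cfsg.Agent.Lib.Aschbacher.Coset
import Cfsg.Agent.Lib.Cores.Basic
import Cfsg.Agent.Lib.PGroup.Basic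

set_option autoImplicit false

namespace Cfsg.Agent.Aschbacher

open Cfsg Involution
open scoped Pointwise

universe u

/-- The core-free form of Aschbacher's criterion. -/
def CoreFreeCriterion : Prop :=
  ∀ (G : Type u) [Group G] [Finite G] (P : Sylow 2 G) (z : G) (H : Subgroup G),
    orderOf z = 2 → z ∈ P → (∀ s ∈ P, Commute s z) → H ≠ ⊤ → H.normalCore = ⊥ →
    (∀ g : G, g * z * g⁻¹ ∈ H ↔ g ∈ H) →
    (∀ g : G, Commute z (g * z * g⁻¹) → g * z * g⁻¹ ≠ z →
      Subgroup.centralizer ({z * (g * z * g⁻¹)} : Set G) ≤ H) →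
    IsStronglyEmbedded (H.subgroupOf (Subgroup.normalClosure ({z} : Set G)))

section

variable {G : Type u} [Group G] [Finite G]

omit [Finite G] in
theorem isStronglyEmbedded_subgroupOf {H K : Subgroup G} (hK : ¬ K ≤ H) {t : G} (ht : orderOf t = 2)
    (htK : t ∈ K) (htH : t ∈ H) [Finite G]
    (h : ∀ s : G, orderOf s = 2 → s ∈ K → s ∈ H → ∀ k ∈ K, k * s * k⁻¹ ∈ H → k ∈ H) :
    IsStronglyEmbedded (H.subgroupOf K) := by
  refine isStronglyEmbedded_iff_forall.2 ⟨by rwa [Ne, Subgroup.subgroupOf_eq_top], ?_, ?_⟩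
  · rw [even_iff_two_dvd]
    calc 2 = orderOf (⟨t, htK⟩ : K) := by rw [← orderOf_submonoid]; exact ht.symm
      _ ∣ _ := Subgroup.orderOf_dvd_natCard _ (Subgroup.mem_subgroupOf.2 htH)
  · intro g s hs hsH hg
    exact Subgroup.mem_subgroupOf.2 (h s (by rwa [orderOf_submonoid]) s.2 (Subgroup.mem_subgroupOf.1 hsH)
      g g.2 (Subgroup.mem_subgroupOf.1 hg))

theorem odd_exponent {R : Subgroup G} (hR : Odd (Nat.card R)) {x : G} (hx : x ∈ R) :
    x ^ Nat.card R = 1 := by
  exact orderOf_dvd_iff_pow_eq_one.1 (Subgroup.orderOf_dvd_natCard R hx)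

/-- An element commuting with `u` in the coset of an involution modulo an odd normal subgroup has a
power which is an involution of the coset. -/
theorem exists_involution_in_coset {R : Subgroup G} [R.Normal] (hR : Odd (Nat.card R)) {l t : G}
    (ht : orderOf t = 2) (htR : t ∉ R) (hl : t⁻¹ * l ∈ R) :
    orderOf (l ^ Nat.card R) = 2 ∧ t⁻¹ * l ^ Nat.card R ∈ R := by
  have e1 : (QuotientGroup.mk' R) l = (QuotientGroup.mk' R) t :=
    (QuotientGroup.eq.2 hl).symm
  obtain ⟨k, hk⟩ := hR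
  have e2 : (QuotientGroup.mk' R) (l ^ Nat.card R) = (QuotientGroup.mk' R) t := by
    rw [map_pow, e1, hk, pow_succ, pow_mul, sq, ← map_mul, mul_self ht, map_one, one_pow, one_mul]
  have hl2 : l * l ∈ R := (QuotientGroup.eq_one_iff (N := R) (l * l)).1 (by
    show (QuotientGroup.mk' R) (l * l) = 1
    rw [map_mul, e1, ← map_mul, mul_self ht, map_one])
  refine ⟨orderOf_of_sq ?_ fun h => htR ?_, QuotientGroup.eq.1 e2.symm⟩
  · rw [← pow_add, ← two_mul, pow_mul, sq, odd_exponent ⟨k, hk⟩ hl2]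
  · rw [h, map_one] at e2
    exact (QuotientGroup.eq_one_iff (N := R) t).1 e2.symm

/-- The general criterion, from local strong embedding data. -/
theorem criterion_local (hA : CoreFreeCriterion.{u}) (P : Sylow 2 G) (z : G) (hz : orderOf z = 2)
    (hzP : z ∈ P) (hPz : ∀ s ∈ P, Commute s z) (H : Subgroup G) (hH : H ≠ ⊤)
    (hiff : ∀ g : G, g * z * g⁻¹ ∈ H ↔ g ∈ H)
    (hloc : ∀ u : G, orderOf u = 2 → u * z = z * u → ¬ Subgroup.centralizer ({u} : Set G) ≤ H →
      IsStronglyEmbedded (H.subgroupOf (Subgroup.closure {x : G | IsConj z x ∧ x * u = u * x}))) :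
    IsStronglyEmbedded (H.subgroupOf (Subgroup.normalClosure ({z} : Set G))) := by
  haveI : Fact (Nat.Prime 2) := ⟨Nat.prime_two⟩
  have h3 := h3_of_local P hz hiff hloc
  have C := pointClass P hz hPz hiff h3
  have hzH : z ∈ H := by simpa using (hiff 1).2 H.one_mem
  have hzpt : pointOf H z z = ((1 : G) : G ⧸ H) := by simpa using pointOf_eq hiff 1
  have hCz : Subgroup.centralizer ({z} : Set G) ≤ H := fun c hc => by
    rw [← hiff, mem_centralizer_singleton.1 hc, mul_inv_cancel_right]; exact hzH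
  set N := H.normalCore with hNdef
  have hNH : N ≤ H := H.normalCore_le
  have hfixN : ∀ n ∈ N, ∀ p : G ⧸ H, n • p = p := by
    intro n hn p
    induction p using QuotientGroup.induction_on with | _ a =>
    rw [smul_mk_eq_iff]
    exact hNH (by simpa using (inferInstance : N.Normal).conj_mem n hn a⁻¹)
  obtain ⟨g₀, -, hg₀⟩ := SetLike.exists_of_lt (lt_top_iff_ne_top.2 hH)
  have hother : ∀ p : G ⧸ H, ∃ q, p ≠ q := by
    intro p
    by_cases h : p = ((1 : G) : G ⧸ H)
    · refine ⟨(g₀ : G ⧸ H), fun h' => hg₀ ?_⟩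
      rw [h, QuotientGroup.eq, inv_one, one_mul] at h'
      exact h'
    · exact ⟨_, h⟩
  have hDN : ∀ d ∈ conjugatesOf z, d ∉ N := by
    intro d hd hdN
    obtain ⟨q, hq⟩ := hother (pointOf H z d)
    exact hq ((C.fixed_iff d hd q).1 (hfixN d hdN q)).symm
  set K := Subgroup.normalClosure ({z} : Set G) with hK
  have hzK : z ∈ K := Subgroup.subset_normalClosure rfl
  have hKH : ¬ K ≤ H := fun h =>
    hDN z mem_conjugatesOf_self (Subgroup.normal_le_normalCore.2 h hzK)
  -- no involution of `K` lies in the core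
  have hKN : ∀ s : G, orderOf s = 2 → s ∈ K → s ∈ N → False := by
    intro s₀ hs₀ hs₀K hs₀N
    obtain ⟨d₀, hd₀, hd₀p, hd₀s⟩ := C.exists_commuting (mul_self hs₀) (hfixN s₀ hs₀N ((1 : G) : G ⧸ H))
    obtain ⟨g, hg⟩ := isConj_iff.1 hd₀
    set s := g⁻¹ * s₀ * g with hs_def
    have hs : orderOf s = 2 := by
      rw [hs_def, show g⁻¹ * s₀ * g = g⁻¹ * s₀ * g⁻¹⁻¹ by rw [inv_inv], orderOf_conj, hs₀]
    have hsN : s ∈ N := by simpa [hs_def] using (inferInstance : N.Normal).conj_mem s₀ hs₀N g⁻¹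
    have hsK : s ∈ K := by
      simpa [hs_def] using (Subgroup.normalClosure_normal : K.Normal).conj_mem s₀ hs₀K g⁻¹
    have hsz : s * z = z * s := by
      have h1 := hd₀s.eq
      rw [← hg] at h1
      rw [hs_def]
      calc g⁻¹ * s₀ * g * z = g⁻¹ * (s₀ * (g * z * g⁻¹)) * g := by group
        _ = z * (g⁻¹ * s₀ * g) := by rw [← h1]; group
    have hnot : ¬ Subgroup.centralizer ({s} : Set G) ≤ H := by
      intro hle
      obtain ⟨q, hq⟩ := hother ((1 : G) : G ⧸ H)
      obtain ⟨d, hd, hdq, hds⟩ := C.exists_commuting (mul_self hs) (hfixN s hsN q)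
      apply hq
      rw [← hdq, ← (C.fixed_iff d hd _).1]
      rw [smul_mk_eq_iff, inv_one, one_mul, mul_one]
      exact hle (mem_centralizer_iff_commute.2 hds)
    have hL := hloc s hs hsz hnot
    set L := Subgroup.closure {x : G | IsConj z x ∧ x * s = s * x}
    set R := (pPrimeCore 2 N).map N.subtype with hR
    haveI hRn : R.Normal := Cores.map_subtype_normal_of_characteristic N _
    have hRodd : Odd (Nat.card R) := by
      rw [hR, Cores.card_map_subtype]
      exact Nat.coprime_two_right.1 (Cores.coprime_card_pPrimeCore 2)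
    have hsR : s ∉ R := fun h => by
      have h1 := Subgroup.orderOf_dvd_natCard R h
      rw [hs] at h1
      exact Nat.not_even_iff_odd.2 hRodd (even_iff_two_dvd.2 h1)
    -- members of `D` centralise `s` modulo `R`
    have hmod : ∀ d ∈ conjugatesOf z, ∀ n ∈ N, d * n * d⁻¹ * n⁻¹ ∈ R := by
      intro d hd n hn
      set Y := N ⊔ Subgroup.zpowers d
      have hdY : d ∈ Y := Subgroup.mem_sup_right (Subgroup.mem_zpowers d)
      have hiso : IsIsolatedInvolution (⟨d, hdY⟩ : Y) := by
        refine ⟨by rw [← Subgroup.orderOf_coe]; exact C.inv d hd, fun y hy => Subtype.ext ?_⟩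
        obtain ⟨y, hyY⟩ := y
        have hc : Commute d (y * d * y⁻¹) := congrArg Subtype.val hy
        show y * d * y⁻¹ = d
        by_contra hne
        obtain ⟨a, ha, b, hb, rfl⟩ := Subgroup.mem_sup_of_normal_left.1 hyY
        have hbd : b * d * b⁻¹ = d := by
          obtain ⟨k, rfl⟩ := Subgroup.mem_zpowers_iff.1 hb
          rw [(Commute.zpow_self d k).eq, mul_inv_cancel_right]
        have e : a * b * d * (a * b)⁻¹ = a * d * a⁻¹ := by
          calc a * b * d * (a * b)⁻¹ = a * (b * d * b⁻¹) * a⁻¹ := by group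
            _ = a * d * a⁻¹ := by rw [hbd]
        have hvN : d * (a * b * d * (a * b)⁻¹) ∈ N := by
          rw [e, show d * (a * d * a⁻¹) = (d * a * d⁻¹) * (d * d) * a⁻¹ by group, mul_self (C.inv d hd),
            mul_one]
          exact N.mul_mem ((inferInstance : N.Normal).conj_mem a ha d) (N.inv_mem ha)
        obtain ⟨q, hq⟩ := hother (pointOf H z d)
        obtain ⟨d', hd', hd'q, hd'v⟩ := C.exists_commuting (v := d * (a * b * d * (a * b)⁻¹)) (by
          have h2 : orderOf (a * b * d * (a * b)⁻¹) = 2 := by rw [orderOf_conj, C.inv d hd]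
          calc _ = d * ((a * b * d * (a * b)⁻¹) * d) * (a * b * d * (a * b)⁻¹) := by group
            _ = (d * d) * ((a * b * d * (a * b)⁻¹) * (a * b * d * (a * b)⁻¹)) := by
                rw [← hc.eq]; group
            _ = 1 := by rw [mul_self (C.inv d hd), mul_self h2, one_mul]) (hfixN _ hvN q)
        have h4 := C.product d hd _ (C.conj_mem (a * b) d hd) hc (Ne.symm hne) d' hd'v
        exact hq (((C.fixed_iff d' hd' _).1 h4).trans hd'q)
      have hnY : n ∈ Y := Subgroup.mem_sup_left hn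
      have h := ZStar.zStar_of_brauerSuzuki ZStar.uniqueInvolution hiso ⟨n, hnY⟩
      have hcN : d * n * d⁻¹ * n⁻¹ ∈ N :=
        N.mul_mem ((inferInstance : N.Normal).conj_mem n hn d) (N.inv_mem hn)
      set W := ((pPrimeCore 2 Y).map Y.subtype ⊓ N).subgroupOf N
      haveI hW : W.Normal := by
        refine ⟨fun a ha b => ?_⟩
        obtain ⟨⟨a', ha', e⟩, haN⟩ := Subgroup.mem_subgroupOf.1 ha
        refine Subgroup.mem_subgroupOf.2 ⟨⟨_, (Cores.pPrimeCore_normal 2 _).conj_mem a' ha'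
          ⟨b, Subgroup.mem_sup_left b.2⟩, ?_⟩, (b * a * b⁻¹).2⟩
        show (b : G) * Y.subtype a' * (b : G)⁻¹ = _
        rw [e]; rfl
      have hWle : W ≤ pPrimeCore 2 N := Cores.le_pPrimeCore hW (by
        rw [Cores.card_subgroupOf inf_le_right]
        exact Nat.Coprime.coprime_dvd_left ((Subgroup.card_dvd_of_le inf_le_left).trans
          (Cores.card_map_subtype Y _).dvd) (Cores.coprime_card_pPrimeCore 2))
      exact ⟨⟨_, hcN⟩, hWle (Subgroup.mem_subgroupOf.2 ⟨⟨_, h, rfl⟩, hcN⟩), rfl⟩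
    have hKle : K ≤ L ⊔ R := by
      rw [hK, Subgroup.normalClosure, Subgroup.closure_le]
      intro d hd
      obtain ⟨w, hw, hwd⟩ := Group.mem_conjugatesOfSet_iff.1 hd
      rw [Set.mem_singleton_iff] at hw
      subst hw
      have hd' : d ∈ conjugatesOf w := hwd
      set c := d * s * d⁻¹ * s⁻¹ with hc
      have hcR : c ∈ R := hmod d hd' s hsN
      have hinv : s * c * s⁻¹ = c⁻¹ := by
        have h2 : (c * s) * (c * s) = 1 := by
          rw [hc, inv_mul_cancel_right]; exact mul_self (by rw [orderOf_conj, hs])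
        refine eq_inv_of_mul_eq_one_left ?_
        rw [inv_eq hs, show s * c * s * c = s * ((c * s) * (c * s)) * s⁻¹ by group, h2, mul_one,
          mul_inv_cancel]
      obtain ⟨k, hk⟩ := Odd.of_dvd_nat hRodd (Subgroup.orderOf_dvd_natCard R hcR)
      set a := c ^ (k + 1)
      have haR : a ∈ R := R.pow_mem hcR _
      have ha : a * s * a⁻¹ = d * s * d⁻¹ := by
        have hia := inverts_pow hinv (k + 1)
        have hia' : s * a⁻¹ * s⁻¹ = a := by rw [← conj_inv, hia, inv_inv]
        calc a * s * a⁻¹ = a * (s * a⁻¹ * s⁻¹) * s := by group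
          _ = a * a * s := by rw [hia']
          _ = c * s := by
              rw [← pow_add, show k + 1 + (k + 1) = (2 * k + 1) + 1 by omega, ← hk, pow_succ,
                pow_orderOf_eq_one, one_mul]
          _ = d * s * d⁻¹ := by rw [hc, inv_mul_cancel_right]
      set l := a⁻¹ * d
      have hls : Commute l s := by
        show a⁻¹ * d * s = s * (a⁻¹ * d)
        calc a⁻¹ * d * s = a⁻¹ * (d * s * d⁻¹) * d := by group
          _ = s * (a⁻¹ * d) := by rw [← ha]; group
      have hld : d⁻¹ * l ∈ R := by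
        rw [show d⁻¹ * l = d⁻¹ * a⁻¹ * d⁻¹⁻¹ by rw [inv_inv]; exact (mul_assoc _ _ _).symm]
        exact hRn.conj_mem _ (R.inv_mem haR) _
      have hdR : d ∉ R := fun h => hDN d hd' (Subgroup.map_subtype_le _ h)
      obtain ⟨ho, hmem⟩ := exists_involution_in_coset hRodd (C.inv d hd') hdR hld
      have hodd : Odd (orderOf (d * l ^ Nat.card R)) := by
        rw [← inv_eq (C.inv d hd')]
        exact Odd.of_dvd_nat hRodd (Subgroup.orderOf_dvd_natCard R hmem)
      have hl' : l ^ Nat.card R ∈ L := Subgroup.subset_closure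
        ⟨(show IsConj w d from hd').trans (isConj_of_odd (C.inv d hd') ho hodd), (hls.pow_left _).eq⟩
      have e : d = l ^ Nat.card R * (d⁻¹ * l ^ Nat.card R)⁻¹ := by group
      show d ∈ L ⊔ R
      rw [e]
      exact Subgroup.mul_mem_sup hl' (R.inv_mem hmem)
    obtain ⟨l, hl, r, hr, hlr⟩ := Subgroup.mem_sup_of_normal_right.1 (hKle hsK)
    have hls : s⁻¹ * l ∈ R := by
      have : s⁻¹ * l = r⁻¹ := by rw [← hlr]; group
      rw [this]; exact R.inv_mem hr
    obtain ⟨ho, hmem⟩ := exists_involution_in_coset hRodd hs hsR hls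
    have hcomm : ∀ x ∈ L, Commute x s := fun x hx =>
      mem_centralizer_iff_commute.1 ((Subgroup.closure_le _).2
        (fun y hy => mem_centralizer_iff_commute.2 hy.2) hx)
    have hsL : s ∈ L := by
      set l' := l ^ Nat.card R
      have hl' : l' ∈ L := L.pow_mem hl _
      have h1 : (s⁻¹ * l') * (s⁻¹ * l') = 1 := by
        calc (s⁻¹ * l') * (s⁻¹ * l') = s⁻¹ * (l' * s⁻¹) * l' := by group
          _ = (s * s)⁻¹ * (l' * l') := by rw [((hcomm l' hl').inv_right).eq]; group
          _ = 1 := by rw [mul_self hs, mul_self ho, inv_one, one_mul]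
      have h2 : s⁻¹ * l' = 1 := ZStar.eq_one_of_odd_of_sq
        (Odd.of_dvd_nat hRodd (Subgroup.orderOf_dvd_natCard R hmem)) (by rw [sq, h1])
      rw [inv_mul_eq_one] at h2
      rw [h2]; exact hl'
    have hle := centralizer_le hL (t := (⟨s, hsL⟩ : L)) (by rw [← Subgroup.orderOf_coe]; exact hs)
      (Subgroup.mem_subgroupOf.2 (hNH hsN))
    exact hL.1 (top_unique fun x _ => hle (mem_centralizer_singleton.2 (Subtype.ext (hcomm x x.2).eq)))
  -- the quotient by the core
  set f := QuotientGroup.mk' N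
  have hf : Function.Surjective f := QuotientGroup.mk'_surjective N
  have hmapH : ∀ g : G, f g ∈ H.map f ↔ g ∈ H := by
    refine fun g => ⟨?_, Subgroup.mem_map_of_mem f⟩
    rintro ⟨x, hx, hxg⟩
    have h := hNH (QuotientGroup.eq.1 hxg)
    simpa using H.mul_mem hx h
  have hfz : f z ≠ 1 := fun h => hDN z mem_conjugatesOf_self ((QuotientGroup.eq_one_iff z).1 h)
  have hzb : orderOf (f z) = 2 := orderOf_of_sq (by rw [← map_mul, mul_self hz, map_one]) hfz
  have hQ := hA (G ⧸ N) (P.mapSurjective hf) (f z) (H.map f) hzb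
    ⟨z, hzP, rfl⟩
    (by rintro _ ⟨s, hs, rfl⟩; exact (hPz s hs).map f)
    (fun h => hH (top_unique fun g _ => (hmapH g).1 (by rw [h]; exact Subgroup.mem_top _)))
    (by
      refine (Subgroup.eq_bot_iff_forall _).2 fun x hx => ?_
      obtain ⟨g, rfl⟩ := hf x
      refine (QuotientGroup.eq_one_iff g).2 ?_
      have : (H.map f).normalCore.comap f ≤ N := Subgroup.normal_le_normalCore.2 fun a ha =>
        (hmapH a).1 (Subgroup.normalCore_le _ ha)
      exact this hx)
    (by
      intro x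
      obtain ⟨g, rfl⟩ := hf x
      rw [← map_inv, ← map_mul, ← map_mul, hmapH, hmapH, hiff])
    (by
      intro x hc hne y hy
      obtain ⟨h, rfl⟩ := hf x
      obtain ⟨c', rfl⟩ := hf y
      rw [← map_inv, ← map_mul, ← map_mul] at hc hne hy
      set e := h * z * h⁻¹ with he
      have heD : e ∈ conjugatesOf z := isConj_iff.2 ⟨h, rfl⟩
      -- `e` fixes the point of `z`
      have hn : z * e * z⁻¹ * e⁻¹ ∈ N := (QuotientGroup.eq_one_iff _).1 (by
        show f (z * e * z⁻¹ * e⁻¹) = 1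
        rw [map_mul, map_mul, map_mul, hc.eq, map_inv, map_inv, mul_inv_cancel_right, mul_inv_cancel])
      have hh : h ∈ H := by
        have h1 : pointOf H z (z * e * z⁻¹) = pointOf H z e := by
          refine ((C.fixed_iff _ (C.conj_mem z e heD) _).1 ?_).symm
          rw [show z * e * z⁻¹ = (z * e * z⁻¹ * e⁻¹) * e by group, mul_smul, C.smul_pt heD, hfixN _ hn]
        rw [C.pt_conj z heD] at h1
        have h2 := (C.fixed_iff z mem_conjugatesOf_self _).1 h1
        rw [pointOf_eq hiff, hzpt, QuotientGroup.eq, mul_one] at h2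
        exact inv_mem_iff.1 h2
      -- move `z` into a Sylow 2-subgroup centralising `e`
      set S : Sylow 2 G := h • P with hS
      have hSe : ∀ a ∈ S, Commute a e := by
        rintro _ ⟨a, ha, rfl⟩
        exact (hPz a ha).map (MulAut.conj h).toMonoidHom
      set Sb : Sylow 2 (G ⧸ N) := S.mapSurjective hf with hSb
      set Cb := Subgroup.centralizer ({f e} : Set (G ⧸ N))
      have hSbC : (Sb : Subgroup (G ⧸ N)) ≤ Cb := by
        rintro _ ⟨a, ha, rfl⟩
        exact mem_centralizer_iff_commute.2 ((hSe a ha).map f)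
      have hzC : f z ∈ Cb := mem_centralizer_iff_commute.2 hc
      obtain ⟨T, hT⟩ := (IsPGroup.of_card (p := 2) (G := Subgroup.zpowers (⟨f z, hzC⟩ : Cb)) (n := 1)
        (by rw [Nat.card_zpowers, ← Subgroup.orderOf_coe, hzb, pow_one])).exists_le_sylow
      obtain ⟨γ, hγ⟩ := MulAction.exists_smul_eq Cb T (Sb.subtype hSbC)
      obtain ⟨g, hg⟩ := hf γ
      have hw : f (g * z * g⁻¹) ∈ (Sb : Subgroup (G ⧸ N)) := by
        have h1 : γ * (⟨f z, hzC⟩ : Cb) * γ⁻¹ ∈ ((γ • T : Sylow 2 Cb) : Subgroup Cb) :=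
          ⟨_, hT (Subgroup.mem_zpowers _), rfl⟩
        rw [hγ, Sylow.coe_subtype, Subgroup.mem_subgroupOf] at h1
        rw [map_mul, map_mul, map_inv, hg]
        exact h1
      set Y := (Sb : Subgroup (G ⧸ N)).comap f
      have hSY : (S : Subgroup G) ≤ Y := fun a ha => ⟨a, ha, rfl⟩
      obtain ⟨T', hT'⟩ := (IsPGroup.of_card (p := 2) (G := Subgroup.zpowers (⟨_, hw⟩ : Y)) (n := 1)
        (by rw [Nat.card_zpowers, ← Subgroup.orderOf_coe, orderOf_conj, hz, pow_one])).exists_le_sylow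
      obtain ⟨η, hη⟩ := MulAction.exists_smul_eq Y T' (S.subtype hSY)
      have hmemS : (η : G) * (g * z * g⁻¹) * (η : G)⁻¹ ∈ S := by
        have h1 : η * (⟨_, hw⟩ : Y) * η⁻¹ ∈ ((η • T' : Sylow 2 Y) : Subgroup Y) :=
          ⟨_, hT' (Subgroup.mem_zpowers _), rfl⟩
        rw [hη, Sylow.coe_subtype, Subgroup.mem_subgroupOf] at h1
        exact h1
      set k := (η : G) * g
      set e₁ := k⁻¹ * e * k with he₁
      have hze₁ : Commute z e₁ := by
        have h1 : Commute (k * z * k⁻¹) e := by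
          rw [show k * z * k⁻¹ = (η : G) * (g * z * g⁻¹) * (η : G)⁻¹ by simp only [k]; group]
          exact hSe _ hmemS
        have h2 := h1.map (MulAut.conj k⁻¹).toMonoidHom
        simpa [he₁, mul_assoc] using h2
      have hfe₁ : f e₁ = f e := by
        have h1 : Commute (f k) (f e) := by
          rw [map_mul, hg]
          exact (mem_centralizer_iff_commute.1 (hSbC η.2)).mul_left (mem_centralizer_iff_commute.1 γ.2)
        rw [he₁, map_mul, map_mul, map_inv, mul_assoc, ← h1.eq, inv_mul_cancel_left]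
      have he₁D : e₁ ∈ conjugatesOf z := by
        simpa [he₁] using C.conj_mem k⁻¹ e heD
      have hne₁ : e₁ ≠ z := fun h' => hne (by rw [← hfe₁, h'])
      -- the product fixes only the point of `z`
      set v := z * e₁ with hv
      have hc0 := mem_centralizer_singleton.1 hy
      rw [hmapH]
      have hfc : f (c' * v * c'⁻¹) = f v := by
        rw [map_mul, map_mul, map_inv, hv, map_mul, hfe₁, hc0, mul_inv_cancel_right]
      have hvx : v • ((1 : G) : G ⧸ H) = ((1 : G) : G ⧸ H) := by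
        rw [hv, mul_smul, ← hzpt, C.pt_eq_of_commute mem_conjugatesOf_self he₁D hze₁, C.smul_pt he₁D,
          ← C.pt_eq_of_commute mem_conjugatesOf_self he₁D hze₁, C.smul_pt mem_conjugatesOf_self]
      have hv2 : v * v = 1 := by
        calc v * v = z * (e₁ * z) * e₁ := by rw [hv]; group
          _ = (z * z) * (e₁ * e₁) := by rw [← hze₁.eq]; group
          _ = 1 := by rw [mul_self hz, mul_self (C.inv e₁ he₁D), one_mul]
      have hvc : v • (c' : G ⧸ H) = (c' : G ⧸ H) := by
        have hm : v⁻¹ * (c' * v * c'⁻¹) ∈ N := QuotientGroup.eq.1 hfc.symm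
        have h1 : (c' * v * c'⁻¹) • (c' : G ⧸ H) = (c' : G ⧸ H) := by
          rw [show (c' : G ⧸ H) = c' • ((1 : G) : G ⧸ H) by rw [MulAction.Quotient.smul_mk, smul_eq_mul, mul_one],
            mul_smul, mul_smul, inv_smul_smul, hvx]
        rw [show c' * v * c'⁻¹ = v * (v⁻¹ * (c' * v * c'⁻¹)) by group, mul_smul, hfixN _ hm] at h1
        exact h1
      obtain ⟨d, hd, hdp, hdv⟩ := C.exists_commuting hv2 hvc
      have h5 := (C.fixed_iff d hd _).1
        (C.product z mem_conjugatesOf_self e₁ he₁D hze₁ hne₁.symm d hdv)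
      rw [hdp, hzpt, QuotientGroup.eq, inv_one, one_mul] at h5
      exact h5)
  refine isStronglyEmbedded_subgroupOf hKH hz hzK hzH fun s hs hsK hsH k hk hks => ?_
  have hsN : s ∉ N := fun h => hKN s hs hsK h
  have hfs : f s ≠ 1 := fun h => hsN ((QuotientGroup.eq_one_iff s).1 h)
  have hmapK : K.map f = Subgroup.normalClosure ({f z} : Set (G ⧸ N)) := by
    rw [hK, Subgroup.map_normalClosure _ f hf, Set.image_singleton]
  have hin : ∀ x ∈ K, f x ∈ Subgroup.normalClosure ({f z} : Set (G ⧸ N)) := fun x hx => by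
    rw [← hmapK]; exact Subgroup.mem_map_of_mem f hx
  have h := mem_of_conj_mem hQ (g := ⟨f k, hin k hk⟩) (t := ⟨f s, hin s hsK⟩)
    (by rw [← Subgroup.orderOf_coe]; exact orderOf_of_sq (by rw [← map_mul, mul_self hs, map_one]) hfs)
    (Subgroup.mem_subgroupOf.2 ((hmapH s).2 hsH))
    (Subgroup.mem_subgroupOf.2 (by
      show f k * f s * (f k)⁻¹ ∈ H.map f
      rw [← map_inv, ← map_mul, ← map_mul, hmapH]; exact hks))
  exact (hmapH k).1 (Subgroup.mem_subgroupOf.1 h)

/-- The criterion in a simple group. -/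
theorem criterion_simple (hA : CoreFreeCriterion.{u}) [IsSimpleGroup G] (M : Subgroup G) (hM : M ≠ ⊤)
    (z : G) (hz : orderOf z = 2) (hzM : z ∈ M) (P : Sylow 2 G) (hzP : z ∈ P)
    (hPz : ∀ s ∈ P, Commute s z) (h2 : ∀ g : G, g * z * g⁻¹ ∈ M → g ∈ M)
    (h3 : ∀ g : G, Commute z (g * z * g⁻¹) → g * z * g⁻¹ ≠ z →
      Subgroup.centralizer ({z * (g * z * g⁻¹)} : Set G) ≤ M) : IsStronglyEmbedded M := by
  have hcore : M.normalCore = ⊥ := by
    rcases IsSimpleGroup.eq_bot_or_eq_top_of_normal M.normalCore inferInstance with h | h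
    · exact h
    · exact absurd (top_unique (h ▸ M.normalCore_le)) hM
  have htop : Subgroup.normalClosure ({z} : Set G) = ⊤ := by
    rcases IsSimpleGroup.eq_bot_or_eq_top_of_normal _ (Subgroup.normalClosure_normal (s := ({z} : Set G)))
      with h | h
    · exact absurd (Subgroup.mem_bot.1 (h ▸ Subgroup.subset_normalClosure rfl : z ∈ (⊥ : Subgroup G))) (ne_one hz)
    · exact h
  have h := hA G P z M hz hzP hPz hM hcore
    (fun g => ⟨h2 g, fun hg => M.mul_mem (M.mul_mem hg hzM) (M.inv_mem hg)⟩) h3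
  rw [htop] at h
  refine isStronglyEmbedded_iff_forall.2 ⟨hM, ?_, fun g t ht htM hg => ?_⟩
  · rw [even_iff_two_dvd, ← hz]; exact Subgroup.orderOf_dvd_natCard M hzM
  · exact Subgroup.mem_subgroupOf.1 (mem_of_conj_mem h (g := ⟨g, Subgroup.mem_top g⟩)
      (t := ⟨t, Subgroup.mem_top t⟩) (by rw [← Subgroup.orderOf_coe]; exact ht)
      (Subgroup.mem_subgroupOf.2 htM) (Subgroup.mem_subgroupOf.2 hg))

/-- Strongly closed subgroups whose involution centralisers generate a proper subgroup. -/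
theorem criterion_strongly_closed (hA : CoreFreeCriterion.{u}) [IsSimpleGroup G] (S : Sylow 2 G)
    (T : Subgroup G) (hT1 : T ≠ ⊥) (hT : IsStronglyClosed T (S : Subgroup G))
    (hprop : (⨆ t : {t : G // t ∈ T ∧ orderOf t = 2}, Subgroup.centralizer ({(t : G)} : Set G)) ≠ ⊤) :
    ∃ H : Subgroup G, IsStronglyEmbedded H := by
  haveI : Fact (Nat.Prime 2) := ⟨Nat.prime_two⟩
  set M₀ := ⨆ t : {t : G // t ∈ T ∧ orderOf t = 2}, Subgroup.centralizer ({(t : G)} : Set G)
  haveI hTn : (T.subgroupOf S).Normal := ⟨fun t ht s => Subgroup.mem_subgroupOf.2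
    (hT.2 _ (Subgroup.mem_subgroupOf.1 ht) s ((s * t * s⁻¹ : ↥(S : Subgroup G))).2)⟩
  have hne : T.subgroupOf (S : Subgroup G) ≠ ⊥ := fun h => hT1 (by
    rw [← Subgroup.map_subgroupOf_eq_of_le hT.1, h, Subgroup.map_bot])
  have heven : Even (Nat.card ↥(T.subgroupOf (S : Subgroup G) ⊓ Subgroup.center ↥(S : Subgroup G))) := by
    have hne' := PGroup.inf_center_ne_bot S.isPGroup' hne
    obtain ⟨n, hn⟩ := (S.isPGroup'.to_subgroup
      (T.subgroupOf (S : Subgroup G) ⊓ Subgroup.center ↥(S : Subgroup G))).exists_card_eq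
    rcases n with _ | n
    · exact absurd (Subgroup.eq_bot_of_card_eq _ (by simpa using hn)) hne'
    · exact ⟨2 ^ n, by rw [hn, pow_succ]; ring⟩
  obtain ⟨⟨z, hzS⟩, ⟨hzT, hzc⟩, hz⟩ := exists_involution_mem heven
  rw [← Subgroup.orderOf_coe] at hz
  have hSz : ∀ s ∈ S, Commute s z := fun s hs =>
    congrArg Subtype.val (Subgroup.mem_center_iff.1 hzc ⟨s, hs⟩)
  have hCle : ∀ t ∈ T, orderOf t = 2 → Subgroup.centralizer ({t} : Set G) ≤ M₀ := fun t ht h2 =>
    le_iSup (fun t : {t : G // t ∈ T ∧ orderOf t = 2} => Subgroup.centralizer ({(t : G)} : Set G))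
      ⟨t, ht, h2⟩
  set M := Subgroup.normalizer (M₀ : Set G)
  have hM₀M : M₀ ≤ M := Subgroup.le_normalizer
  have hSM₀ : (S : Subgroup G) ≤ M₀ := fun s hs =>
    hCle z hzT hz (mem_centralizer_iff_commute.2 (hSz s hs))
  have hM : M ≠ ⊤ := by
    intro h
    haveI := Subgroup.normalizer_eq_top_iff.1 h
    rcases IsSimpleGroup.eq_bot_or_eq_top_of_normal M₀ inferInstance with h1 | h1
    · exact ne_one hz (Subgroup.mem_bot.1 (h1 ▸ hSM₀ hzS))
    · exact hprop h1
  have hN : Subgroup.normalizer ((S : Subgroup G) : Set G) ≤ M := by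
    have key : ∀ g ∈ Subgroup.normalizer ((S : Subgroup G) : Set G), ∀ a ∈ M₀, g * a * g⁻¹ ∈ M₀ := by
      intro g hg
      suffices M₀ ≤ M₀.comap (MulAut.conj g).toMonoidHom from fun a ha => this ha
      refine iSup_le fun t c hc => ?_
      have ht' := hT.2 _ t.2.1 g ((Subgroup.mem_normalizer_iff.1 hg _).1 (hT.1 t.2.1))
      refine hCle _ ht' (by rw [orderOf_conj, t.2.2]) (mem_centralizer_iff_commute.2 ?_)
      exact (mem_centralizer_iff_commute.1 hc).map (MulAut.conj g).toMonoidHom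
    intro g hg
    refine Subgroup.mem_normalizer_iff.2 fun a => ⟨key g hg a, fun h => ?_⟩
    simpa [mul_assoc] using key g⁻¹ (inv_mem hg) _ h
  have hsub : ∀ a : G, a ∈ M → orderOf a = 2 → ∃ m ∈ M, m * a * m⁻¹ ∈ S := by
    intro a ha ha2
    obtain ⟨R, hR⟩ := (IsPGroup.of_card (p := 2) (G := Subgroup.zpowers (⟨a, ha⟩ : M)) (n := 1)
      (by rw [Nat.card_zpowers, ← Subgroup.orderOf_coe, ha2, pow_one])).exists_le_sylow
    obtain ⟨m, hm⟩ := MulAction.exists_smul_eq M R (S.subtype (hSM₀.trans hM₀M))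
    have h1 : m * ⟨a, ha⟩ * m⁻¹ ∈ ((m • R : Sylow 2 M) : Subgroup M) :=
      ⟨_, hR (Subgroup.mem_zpowers _), rfl⟩
    rw [hm, Sylow.coe_subtype, Subgroup.mem_subgroupOf] at h1
    exact ⟨m, m.2, h1⟩
  refine ⟨M, criterion_simple hA M hM z hz (hM₀M (hSM₀ hzS)) S hzS hSz ?_ ?_⟩
  · intro g hg
    obtain ⟨m, hm, hmS⟩ := hsub _ hg (by rw [orderOf_conj, hz])
    set g' := m * g
    have e : m * (g * z * g⁻¹) * m⁻¹ = g' * z * g'⁻¹ := by simp only [g']; group
    rw [e] at hmS
    have hle : ((g' • S : Sylow 2 G) : Subgroup G) ≤ M := by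
      rintro _ ⟨s, hs, rfl⟩
      exact hM₀M (hCle _ (hT.2 z hzT g' hmS) (by rw [orderOf_conj, hz])
        (mem_centralizer_iff_commute.2 ((hSz s hs).map (MulAut.conj g').toMonoidHom)))
    obtain ⟨m', hm'⟩ := MulAction.exists_smul_eq M ((g' • S).subtype hle) (S.subtype (hSM₀.trans hM₀M))
    have hN' : (m' : G) * g' ∈ Subgroup.normalizer ((S : Subgroup G) : Set G) := by
      refine Sylow.smul_eq_iff_mem_normalizer.1 ?_
      rw [mul_smul]
      refine Sylow.ext (le_antisymm ?_ ?_)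
      · rintro _ ⟨a, ha, rfl⟩
        have h1 : m' * ⟨a, hle ha⟩ * m'⁻¹ ∈ ((m' • (g' • S).subtype hle : Sylow 2 M) : Subgroup M) :=
          ⟨_, Subgroup.mem_subgroupOf.2 ha, rfl⟩
        rw [hm', Sylow.coe_subtype, Subgroup.mem_subgroupOf] at h1
        exact h1
      · intro a ha
        have h1 : (⟨a, hM₀M (hSM₀ ha)⟩ : M) ∈ ((m' • (g' • S).subtype hle : Sylow 2 M) : Subgroup M) := by
          rw [hm']; exact Subgroup.mem_subgroupOf.2 ha
        obtain ⟨b, hb, hba⟩ := h1
        exact ⟨b, Subgroup.mem_subgroupOf.1 hb, congrArg Subtype.val hba⟩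
    have h2 : m⁻¹ * ((m' : G)⁻¹ * ((m' : G) * g')) ∈ M :=
      M.mul_mem (M.inv_mem hm) (M.mul_mem (M.inv_mem m'.2) (hN hN'))
    simpa [g'] using h2
  · intro g hc hne
    have heM : g * z * g⁻¹ ∈ M :=
      hM₀M (hCle z hzT hz (mem_centralizer_iff_commute.2 hc.symm))
    set Q := Subgroup.closure ({z, g * z * g⁻¹} : Set G)
    have he2 : orderOf (g * z * g⁻¹) = 2 := by rw [orderOf_conj, hz]
    have hQM : Q ≤ M := (Subgroup.closure_le _).2 (by
      rintro _ (rfl | rfl)
      exacts [hM₀M (hSM₀ hzS), heM])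
    have hQ : IsPGroup 2 Q := isPGroup_closure_pair hz he2 (Ne.symm hne) (a := 1) (by
      rw [pow_one, sq]
      calc z * (g * z * g⁻¹) * (z * (g * z * g⁻¹)) = z * ((g * z * g⁻¹) * z) * (g * z * g⁻¹) := by group
        _ = (z * z) * ((g * z * g⁻¹) * (g * z * g⁻¹)) := by rw [← hc.eq]; group
        _ = 1 := by rw [mul_self hz, mul_self he2, one_mul])
    obtain ⟨R, hR⟩ := (hQ.comap_subtype (H := Q) (K := M)).exists_le_sylow
    obtain ⟨m, hm⟩ := MulAction.exists_smul_eq M R (S.subtype (hSM₀.trans hM₀M))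
    have hcarry : ∀ a ∈ Q, (m : G) * a * (m : G)⁻¹ ∈ S := fun a ha => by
      have h1 : m * ⟨a, hQM ha⟩ * m⁻¹ ∈ ((m • R : Sylow 2 M) : Subgroup M) :=
        ⟨_, hR (Subgroup.mem_subgroupOf.2 ha), rfl⟩
      rw [hm, Sylow.coe_subtype, Subgroup.mem_subgroupOf] at h1
      exact h1
    have e1 := hT.2 z hzT m (hcarry z (Subgroup.subset_closure (by simp)))
    have e2 : (m : G) * (g * z * g⁻¹) * (m : G)⁻¹ ∈ T := by
      have h1 := hcarry (g * z * g⁻¹) (Subgroup.subset_closure (by simp))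
      have e3 : (m : G) * (g * z * g⁻¹) * (m : G)⁻¹ = (m * g) * z * ((m : G) * g)⁻¹ := by group
      rw [e3] at h1 ⊢
      exact hT.2 z hzT _ h1
    intro c hcv
    have hvT : (m : G) * (z * (g * z * g⁻¹)) * (m : G)⁻¹ ∈ T := by
      rw [show (m : G) * (z * (g * z * g⁻¹)) * (m : G)⁻¹
        = ((m : G) * z * (m : G)⁻¹) * ((m : G) * (g * z * g⁻¹) * (m : G)⁻¹) by group]
      exact T.mul_mem e1 e2
    have hv2 : orderOf ((m : G) * (z * (g * z * g⁻¹)) * (m : G)⁻¹) = 2 := by
      rw [orderOf_conj]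
      refine orderOf_of_sq ?_ fun h => hne ?_
      · calc z * (g * z * g⁻¹) * (z * (g * z * g⁻¹)) = z * ((g * z * g⁻¹) * z) * (g * z * g⁻¹) := by group
          _ = (z * z) * ((g * z * g⁻¹) * (g * z * g⁻¹)) := by rw [← hc.eq]; group
          _ = 1 := by rw [mul_self hz, mul_self he2, one_mul]
      · rw [mul_eq_one_iff_eq_inv, inv_eq he2] at h; exact h.symm
    have h4 := hM₀M (hCle _ hvT hv2 (mem_centralizer_iff_commute.2
      ((mem_centralizer_iff_commute.1 hcv).map (MulAut.conj (m : G)).toMonoidHom)))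
    have h5 := M.mul_mem (M.mul_mem (M.inv_mem m.2) h4) m.2
    simpa [mul_assoc] using h5

end

end Cfsg.Agent.Aschbacher
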