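/-
The frame of Aschbacher's criterion in point class form (owner: helper90).

* `PointCriterion` : in a faithful point class whose members generate, all involutions are members
* `coreFreeCriterion_of_point` : it gives `CoreFreeCriterion`
* `fixGroup D u` : the group induced on the fixed points of `u` by the members centralising `u`
* `fixGroup_pointClass`, `fixGroup_generated`, `card_fixGroup_lt` : it is a smaller point class
* `fixGroup_mem`, `fixGroup_stronglyEmbedded` : by induction its involutions are images of members,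
  and a point stabiliser is strongly embedded with trivial core
* `pointCriterion_of_step`, `pointCriterion_of_coset_step` : the induction; the step may assume two
  commuting members (the second form is stated on cosets, as `false_of_sign` is)
-/
import Cfsg.Agent.Lib.Aschbacher.Criterion

set_option autoImplicit false
set_option linter.style.haveILetI false
set_option linter.unusedSectionVars false

namespace Cfsg.Agent.Aschbacher

open Cfsg Involution

universe u

/-- The criterion for one point class. -/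
def AllMembers (G : Type u) (Ω : Type u) [Group G] [MulAction G Ω] : Prop :=
  ∀ [Finite Ω] [FaithfulSMul G Ω] (D : Set G) (pt : G → Ω), PointClass G Ω D pt →
    Subgroup.closure D = ⊤ → ∀ x y : Ω, x ≠ y → ∀ v : G, orderOf v = 2 → v ∈ D

/-- The point form of Aschbacher's criterion. -/
def PointCriterion : Prop :=
  ∀ (G : Type u) [Group G] [Finite G] (Ω : Type u) [MulAction G Ω], AllMembers G Ω

/-- The induction hypothesis. -/
def PointCriterionBelow (n : ℕ) : Prop :=
  ∀ (G : Type u) [Group G] [Finite G] (Ω : Type u) [MulAction G Ω], Nat.card G < n → AllMembers G Ω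

section frame

variable {G : Type u} {Ω : Type u} [Group G] [MulAction G Ω] [Finite G] [Finite Ω]
variable {D : Set G} {pt : G → Ω} (P : PointClass G Ω D pt)
include P

/-- Generated by members, `G` is transitive. -/
theorem PointClass.exists_smul_eq (x y : Ω) : ∃ g : G, g • x = y := by
  by_cases h : x = y
  · exact ⟨1, by rw [one_smul, h]⟩
  obtain ⟨e, he, hex⟩ := P.exists_at x
  obtain ⟨f, hf, hfy⟩ := P.exists_at y
  obtain ⟨w, -, -, hwp⟩ := P.exists_mid he hf (by rwa [hex, hfy])
  exact ⟨w, by rw [← hex, ← hfy]; exact hwp⟩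

/-- If every involution is a member, a point stabiliser is strongly embedded. -/
theorem PointClass.stronglyEmbedded_of_all [FaithfulSMul G Ω]
    (hall : ∀ v : G, orderOf v = 2 → v ∈ D) (o : Ω) {x y : Ω} (hxy : x ≠ y) :
    IsStronglyEmbedded (MulAction.stabilizer G o) ∧ (MulAction.stabilizer G o).normalCore = ⊥ := by
  set H := MulAction.stabilizer G o
  refine ⟨isStronglyEmbedded_iff_forall.2 ⟨fun h => ?_, ?_, fun g t ht htH hg => ?_⟩, ?_⟩
  · have hf : ∀ g : G, g • o = o := fun g =>
      MulAction.mem_stabilizer_iff.1 (show g ∈ H from h.symm ▸ Subgroup.mem_top g)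
    obtain ⟨g, hg⟩ := P.exists_smul_eq o x
    obtain ⟨g', hg'⟩ := P.exists_smul_eq o y
    exact hxy (by rw [← hg, ← hg', hf, hf])
  · obtain ⟨d, hd, hdo⟩ := P.exists_at o
    rw [even_iff_two_dvd, ← P.inv d hd]
    exact Subgroup.orderOf_dvd_natCard H (MulAction.mem_stabilizer_iff.2 (hdo ▸ P.smul_pt hd))
  · have h1 := (P.fixed_iff t (hall t ht) o).1 (MulAction.mem_stabilizer_iff.1 htH)
    have h2 : t • g⁻¹ • o = g⁻¹ • o := by
      have h := MulAction.mem_stabilizer_iff.1 hg
      rw [mul_smul, mul_smul] at h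
      rw [eq_inv_smul_iff, h]
    have h3 := ((P.fixed_iff t (hall t ht) _).1 h2).trans h1.symm
    exact MulAction.mem_stabilizer_iff.2 (inv_smul_eq_iff.1 h3).symm
  · refine (Subgroup.eq_bot_iff_forall _).2 fun n hn => eq_of_smul_eq_smul fun p : Ω => ?_
    obtain ⟨g, rfl⟩ := P.exists_smul_eq o p
    have h := MulAction.mem_stabilizer_iff.1 (H.normalCore_le
      ((inferInstance : H.normalCore.Normal).conj_mem n hn g⁻¹))
    rw [inv_inv, mul_smul, mul_smul, inv_smul_eq_iff] at h
    rw [one_smul]
    exact h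

/-- A member with another one making a product of even order has a commuting partner in the dihedral
group. -/
theorem PointClass.exists_partner {d e : G} (hd : d ∈ D) (he : e ∈ D) (hev : Even (orderOf (d * e))) :
    d * (d * e) ^ (orderOf (d * e) / 2) ∈ D ∧
      Commute d (d * (d * e) ^ (orderOf (d * e) / 2)) ∧
      d * (d * e) ^ (orderOf (d * e) / 2) ≠ d := by
  obtain ⟨hw, hwd, -⟩ := half_pow_commute (P.inv d hd) (P.inv e he) hev
  set k := orderOf (d * e) / 2
  refine ⟨?_, (Commute.refl d).mul_right hwd.symm, fun h => ne_one hw (mul_eq_left.1 h)⟩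
  rw [← zpow_natCast]
  rcases Int.even_or_odd (k : ℤ) with ⟨j, hj⟩ | ⟨j, hj⟩
  · have h := P.conj_pow_mem hd (d * e) (-j)
    rwa [conj_left_zpow (P.inv d hd) (P.inv e he), show -(2 * -j) = (k : ℤ) by omega] at h
  · have h := P.conj_pow_mem he (d * e) (-j)
    have e1 : (d * e) ^ (-j) * e * ((d * e) ^ (-j))⁻¹ = d * (d * e) ^ (k : ℤ) := by
      calc (d * e) ^ (-j) * e * ((d * e) ^ (-j))⁻¹
          = (d * e) ^ (-j) * (d * (d * e)) * ((d * e) ^ (-j))⁻¹ := by
            rw [left_mul_mul_left (P.inv d hd) (P.inv e he)]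
        _ = ((d * e) ^ (-j) * d * ((d * e) ^ (-j))⁻¹) *
            ((d * e) ^ (-j) * (d * e) * ((d * e) ^ (-j))⁻¹) := by group
        _ = ((d * e) ^ (-j) * d * ((d * e) ^ (-j))⁻¹) * (d * e) := by
            rw [(Commute.zpow_self (d * e) (-j)).eq, mul_inv_cancel_right]
        _ = d * (d * e) ^ (k : ℤ) := by
            rw [conj_left_zpow (P.inv d hd) (P.inv e he), mul_assoc, ← zpow_add_one,
              show -(2 * -j) + 1 = (k : ℤ) by omega]
    rwa [e1] at h

/-- The members form one conjugacy class. -/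
theorem PointClass.isConj_of_mem {x y : Ω} (hxy : x ≠ y) {d e : G} (hd : d ∈ D) (he : e ∈ D) :
    IsConj d e := by
  by_cases h : pt d = pt e
  · obtain ⟨z, hz⟩ : ∃ z, pt d ≠ z := by
      by_cases h1 : pt d = x
      · exact ⟨y, h1 ▸ hxy⟩
      · exact ⟨x, h1⟩
    obtain ⟨g, -, hg⟩ := P.exists_conj_point hz hd rfl he h.symm
    exact isConj_iff.2 ⟨g, hg⟩
  · obtain ⟨w, -, hw, -⟩ := P.exists_mid hd he h
    exact isConj_iff.2 ⟨w, hw⟩

/-- An involution centralises an odd number of members at each of its fixed points. -/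
theorem PointClass.odd_card_centralizing {v : G} (hv : v * v = 1) {p : Ω} (hvp : v • p = p) :
    Odd (Nat.card {d : G // d ∈ D ∧ pt d = p ∧ Commute d v}) := by
  classical
  haveI : Fact (Nat.Prime 2) := ⟨Nat.prime_two⟩
  haveI := Fintype.ofFinite {d : G // d ∈ D ∧ pt d = p}
  have hvi : v⁻¹ = v := inv_eq_of_mul_eq_one_right hv
  have hcc : ∀ d : G, v * (v * d * v⁻¹) * v⁻¹ = d := fun d => by
    rw [show v * (v * d * v⁻¹) * v⁻¹ = (v * v) * d * (v * v)⁻¹ by group, hv, one_mul, inv_one, mul_one]
  have hmaps : ∀ d : {d : G // d ∈ D ∧ pt d = p}, v * d.1 * v⁻¹ ∈ D ∧ pt (v * d.1 * v⁻¹) = p :=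
    fun d => ⟨P.conj_mem v _ d.2.1, by rw [P.pt_conj v d.2.1, d.2.2, hvp]⟩
  let σ : Equiv.Perm {d : G // d ∈ D ∧ pt d = p} :=
    ⟨fun d => ⟨_, hmaps d⟩, fun d => ⟨_, hmaps d⟩, fun d => Subtype.ext (hcc d.1),
      fun d => Subtype.ext (hcc d.1)⟩
  have h := Equiv.Perm.card_compl_support_modEq (p := 2) (n := 1) (σ := σ) (by
    ext d
    rw [pow_one, sq, Equiv.Perm.mul_apply, Equiv.Perm.one_apply]
    exact congrArg Subtype.val (σ.left_inv d))
  have hset : σ.supportᶜ.card = Nat.card {d : G // d ∈ D ∧ pt d = p ∧ Commute d v} := by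
    rw [← Fintype.card_coe, ← Nat.card_eq_fintype_card]
    refine Nat.card_congr
      { toFun := fun d => ⟨d.1.1, d.1.2.1, d.1.2.2, ?_⟩
        invFun := fun d => ⟨⟨d.1, d.2.1, d.2.2.1⟩, ?_⟩
        left_inv := fun d => rfl
        right_inv := fun d => rfl }
    · have h1 := Equiv.Perm.notMem_support.1 (Finset.mem_compl.1 d.2)
      exact (mul_inv_eq_iff_eq_mul.1 (congrArg Subtype.val h1)).symm
    · rw [Finset.mem_compl, Equiv.Perm.notMem_support]
      refine Subtype.ext ?_
      show v * d.1 * v⁻¹ = d.1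
      rw [← d.2.2.2.eq, mul_inv_cancel_right]
  rw [hset, ← Nat.card_eq_fintype_card] at h
  have hodd := Nat.odd_iff.1 (P.odd_card p)
  rw [Nat.odd_iff]
  unfold Nat.ModEq at h
  omega

end frame

/-! ### the action on the fixed points of an involution -/

section fix

variable {G : Type u} {Ω : Type u} [Group G] [MulAction G Ω]

/-- The members centralising `u` generate this subgroup. -/
def centMembers (D : Set G) (u : G) : Subgroup G := Subgroup.closure {d | d ∈ D ∧ Commute d u}

theorem commute_of_mem_centMembers {D : Set G} {u g : G} (hg : g ∈ centMembers D u) : Commute g u :=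
  mem_centralizer_iff_commute.1 ((Subgroup.closure_le _).2
    (fun _ hd => mem_centralizer_iff_commute.2 hd.2) hg)

theorem mem_centMembers {D : Set G} {u d : G} (hd : d ∈ D) (hdu : Commute d u) : d ∈ centMembers D u :=
  Subgroup.subset_closure ⟨hd, hdu⟩

variable (Ω) in
/-- The fixed points of `u`. -/
abbrev FixSet (u : G) : Type u := {p : Ω // u • p = p}

theorem smul_mem_fixSet {u g : G} (hg : Commute g u) {p : Ω} (hp : u • p = p) :
    u • g • p = g • p := by
  rw [← mul_smul, ← hg.eq, mul_smul, hp]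

variable (Ω) in
/-- The action of the members centralising `u` on its fixed points. -/
def fixHom (D : Set G) (u : G) : centMembers D u →* Equiv.Perm (FixSet Ω u) where
  toFun g :=
    { toFun := fun p => ⟨(g : G) • p.1, smul_mem_fixSet (commute_of_mem_centMembers g.2) p.2⟩
      invFun := fun p =>
        ⟨(g : G)⁻¹ • p.1, smul_mem_fixSet (commute_of_mem_centMembers g.2).inv_left p.2⟩
      left_inv := fun p => Subtype.ext (inv_smul_smul _ _)
      right_inv := fun p => Subtype.ext (smul_inv_smul _ _) }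
  map_one' := Equiv.ext fun p => Subtype.ext (one_smul _ _)
  map_mul' g h := Equiv.ext fun p => Subtype.ext (mul_smul (g : G) (h : G) p.1)

theorem fixHom_apply (D : Set G) (u : G) (g : centMembers D u) (p : FixSet Ω u) :
    (fixHom Ω D u g p : Ω) = (g : G) • p.1 := rfl

variable (Ω) in
/-- The group induced on the fixed points of `u`. -/
abbrev fixGroup (D : Set G) (u : G) : Subgroup (Equiv.Perm (FixSet Ω u)) := (fixHom Ω D u).range

variable (Ω) in
/-- The images of the members centralising `u`. -/
def fixMembers (D : Set G) (u : G) : Set (fixGroup Ω D u) :=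
  (fixHom Ω D u).rangeRestrict '' {g | (g : G) ∈ D}

open Classical in
/-- The fixed point of an element of the induced group. -/
noncomputable def fixPoint (D : Set G) {u : G} (p₀ : FixSet Ω u) (σ : fixGroup Ω D u) : FixSet Ω u :=
  if h : ∃ p : FixSet Ω u, σ • p = p then h.choose else p₀

theorem rangeRestrict_smul (D : Set G) (u : G) (g : centMembers D u) (p : FixSet Ω u) :
    (((fixHom Ω D u).rangeRestrict g) • p : FixSet Ω u) = fixHom Ω D u g p := rfl

variable [Finite G] [Finite Ω] {D : Set G} {pt : G → Ω} (P : PointClass G Ω D pt) {u : G}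
  (hu : u * u = 1) {a b : Ω} (hua : u • a = a) (hub : u • b = b) (hab : a ≠ b)

include P in
/-- The point of a member centralising `u` is fixed by `u`. -/
theorem pt_fixSet {g : centMembers D u} (hg : (g : G) ∈ D) : u • pt (g : G) = pt (g : G) :=
  P.commute_fix hg (commute_of_mem_centMembers g.2).symm

include P in
theorem fixed_image {g : centMembers D u} (hg : (g : G) ∈ D) (p : FixSet Ω u) :
    ((fixHom Ω D u).rangeRestrict g) • p = p ↔ p = ⟨pt (g : G), pt_fixSet P hg⟩ := by
  rw [rangeRestrict_smul, Subtype.ext_iff, fixHom_apply, P.fixed_iff _ hg, Subtype.ext_iff]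

include P in
theorem fixPoint_image {g : centMembers D u} (hg : (g : G) ∈ D) :
    fixPoint D ⟨a, hua⟩ ((fixHom Ω D u).rangeRestrict g) = ⟨pt (g : G), pt_fixSet P hg⟩ := by
  have hex : ∃ p : FixSet Ω u, ((fixHom Ω D u).rangeRestrict g) • p = p :=
    ⟨_, (fixed_image P hg _).2 rfl⟩
  rw [fixPoint, dif_pos hex]
  exact (fixed_image P hg _).1 hex.choose_spec

include P hua hub hab in
theorem image_ne_one {g : centMembers D u} (hg : (g : G) ∈ D) :
    (fixHom Ω D u).rangeRestrict g ≠ 1 := fun h => by
  have key : ∀ p : FixSet Ω u, p = ⟨pt (g : G), pt_fixSet P hg⟩ := fun p =>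
    (fixed_image P hg p).1 (by rw [h, one_smul])
  exact hab (congrArg Subtype.val ((key ⟨a, hua⟩).trans (key ⟨b, hub⟩).symm))

theorem fixGroup_generated : Subgroup.closure (fixMembers Ω D u) = ⊤ := by
  have h : Subgroup.closure {g : centMembers D u | (g : G) ∈ D} = ⊤ := by
    refine top_unique ((Subgroup.closure_closure_coe_preimage (k := {d | d ∈ D ∧ Commute d u})).ge.trans
      (Subgroup.closure_mono fun g hg => ?_))
    exact hg.1
  rw [fixMembers, ← MonoidHom.map_closure, h,
    Subgroup.map_top_of_surjective _ (MonoidHom.rangeRestrict_surjective _)]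

variable [FaithfulSMul G Ω]

include P hu hua hub hab in
theorem fixGroup_pointClass :
    PointClass (fixGroup Ω D u) (FixSet Ω u) (fixMembers Ω D u) (fixPoint D ⟨a, hua⟩) := by
  classical
  set f := (fixHom Ω D u).rangeRestrict
  have hne1 := fun {g} hg => image_ne_one (u := u) P hua hub hab (g := g) hg
  refine ⟨?_, ?_, ?_, ?_, fun p => ?_⟩
  · rintro _ ⟨g, hg, rfl⟩
    refine orderOf_of_sq ?_ (hne1 hg)
    rw [← map_mul, show g * g = 1 from Subtype.ext (mul_self (P.inv _ hg)), map_one]
  · rintro σ _ ⟨g, hg, rfl⟩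
    obtain ⟨l, rfl⟩ := MonoidHom.rangeRestrict_surjective _ σ
    exact ⟨l * g * l⁻¹, P.conj_mem (l : G) _ hg, by rw [map_mul, map_mul, map_inv]⟩
  · rintro _ ⟨g, hg, rfl⟩ p
    rw [fixPoint_image P hua hg]
    exact fixed_image P hg p
  · rintro _ ⟨g, hg, rfl⟩ _ ⟨g', hg', rfl⟩ hc hne σ hσ
    change Commute (f g) (f g') at hc
    change f g ≠ f g' at hne
    change Commute σ (f g * f g') at hσ
    show σ • fixPoint D ⟨a, hua⟩ (f g) = fixPoint D ⟨a, hua⟩ (f g)
    -- a commuting lift of the second member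
    obtain ⟨e, heD, hge, hne', hfe⟩ : ∃ e : centMembers D u, (e : G) ∈ D ∧ Commute (g : G) e ∧
        (e : G) ≠ g ∧ f e = f g' := by
      have ho : orderOf (f (g * g')) = 2 := by
        rw [map_mul]
        refine orderOf_of_sq ?_ fun h => hne ?_
        · have h1 : f g * f g = 1 := by
            rw [← map_mul, show g * g = 1 from Subtype.ext (mul_self (P.inv _ hg)), map_one]
          have h2 : f g' * f g' = 1 := by
            rw [← map_mul, show g' * g' = 1 from Subtype.ext (mul_self (P.inv _ hg')), map_one]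
          calc f g * f g' * (f g * f g') = f g * (f g' * f g) * f g' := by group
            _ = (f g * f g) * (f g' * f g') := by rw [← hc.eq]; group
            _ = 1 := by rw [h1, h2, one_mul]
        · have h2 : f g' * f g' = 1 := by
            rw [← map_mul, show g' * g' = 1 from Subtype.ext (mul_self (P.inv _ hg')), map_one]
          exact mul_right_cancel (h.trans h2.symm)
      have hev : Even (orderOf ((g : G) * g')) := by
        rw [even_iff_two_dvd, ← ho, ← Subgroup.coe_mul, Subgroup.orderOf_coe]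
        exact orderOf_map_dvd f _
      obtain ⟨heD, hce, hnee⟩ := P.exists_partner hg hg' hev
      set k := orderOf ((g : G) * g') / 2
      refine ⟨g * (g * g') ^ k, by simpa using heD, by simpa using hce, by simpa using hnee, ?_⟩
      rcases Nat.even_or_odd k with ⟨j, hj⟩ | ⟨j, hj⟩
      · exfalso
        have h1 : f ((g * g') ^ k) = 1 := by
          rw [map_pow, hj, ← two_mul, pow_mul, ← ho, pow_orderOf_eq_one, one_pow]
        have heq : ((g * (g * (g * g') ^ k) : centMembers D u) : G) ∈ D := by
          obtain ⟨p, q, hpq⟩ : ∃ p q : Ω, p ≠ q := ⟨a, b, hab⟩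
          have := P.mul_mem_of_commute hg heD hce hnee.symm hpq
          simpa using this
        refine hne1 heq ?_
        rw [← mul_assoc, show g * g = 1 from Subtype.ext (mul_self (P.inv _ hg)), one_mul]
        exact h1
      · rw [map_mul, map_pow, hj, pow_succ, pow_mul]
        rw [show f (g * g') ^ 2 = 1 by rw [← ho, pow_orderOf_eq_one], one_pow, one_mul, map_mul,
          ← mul_assoc, ← map_mul, show g * g = 1 from Subtype.ext (mul_self (P.inv _ hg)), map_one,
          one_mul]
    have hw : ((g * e : centMembers D u) : G) ∈ D := P.mul_mem_of_commute hg heD hge (Ne.symm hne') hab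
    have hpe : pt ((g * e : centMembers D u) : G) = pt (g : G) :=
      P.pt_eq_of_commute hw hg (((Commute.refl (g : G)).mul_left hge.symm))
    have hfix := fixed_image P hw ⟨pt ((g * e : centMembers D u) : G), pt_fixSet P hw⟩
    have h1 : f (g * e) • σ • (⟨pt ((g * e : centMembers D u) : G), pt_fixSet P hw⟩ : FixSet Ω u) =
        σ • ⟨pt ((g * e : centMembers D u) : G), pt_fixSet P hw⟩ := by
      rw [← mul_smul, show f (g * e) * σ = σ * f (g * e) by rw [map_mul, hfe]; exact hσ.eq.symm,
        mul_smul, hfix.2 rfl]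
    have h2 := (fixed_image P hw _).1 h1
    rw [fixPoint_image P hua hg]
    have e1 : (⟨pt ((g * e : centMembers D u) : G), pt_fixSet P hw⟩ : FixSet Ω u) =
        ⟨pt (g : G), pt_fixSet P hg⟩ := Subtype.ext hpe
    rwa [e1] at h2
  · -- fibres over an image are invariant under conjugation by a member of the fibre
    haveI : Fact (Nat.Prime 2) := ⟨Nat.prime_two⟩
    let A := {g : centMembers D u // (g : G) ∈ D ∧ pt (g : G) = p.1}
    let B := {σ : fixGroup Ω D u // σ ∈ fixMembers Ω D u ∧ fixPoint D ⟨a, hua⟩ σ = p}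
    let π : A → B := fun g => ⟨f g.1, ⟨g.1, g.2.1, rfl⟩, by
      rw [fixPoint_image P hua g.2.1]; exact Subtype.ext g.2.2⟩
    have hA : Odd (Nat.card A) := by
      convert P.odd_card_centralizing hu p.2 using 1
      exact Nat.card_congr
        { toFun := fun g => ⟨g.1, g.2.1, g.2.2, commute_of_mem_centMembers g.1.2⟩
          invFun := fun d => ⟨⟨d.1, mem_centMembers d.2.1 d.2.2.2⟩, d.2.1, d.2.2.1⟩
          left_inv := fun g => rfl
          right_inv := fun d => rfl }
    have hfib : ∀ β : B, Odd (Nat.card {g : A // π g = β}) := by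
      rintro ⟨_, ⟨g, hg, rfl⟩, hgp⟩
      rw [fixPoint_image P hua hg] at hgp
      have hgp' : pt (g : G) = p.1 := congrArg Subtype.val hgp
      set β : B := ⟨f g, ⟨g, hg, rfl⟩, by rw [fixPoint_image P hua hg]; exact Subtype.ext hgp'⟩
      show Odd (Nat.card {x : A // π x = β})
      have hg2 : g * g = 1 := Subtype.ext (mul_self (P.inv _ hg))
      have hcc : ∀ x : centMembers D u, g * (g * x * g⁻¹) * g⁻¹ = x := fun x => by
        rw [show g * (g * x * g⁻¹) * g⁻¹ = (g * g) * x * (g * g)⁻¹ by group, hg2, one_mul, inv_one,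
          mul_one]
      have hmaps : ∀ x : {x : A // π x = β}, ((g * x.1.1 * g⁻¹ : centMembers D u) : G) ∈ D ∧
          pt ((g * x.1.1 * g⁻¹ : centMembers D u) : G) = p.1 ∧ f (g * x.1.1 * g⁻¹) = f g := fun x => by
        refine ⟨P.conj_mem (g : G) _ x.1.2.1, ?_, ?_⟩
        · show pt ((g : G) * x.1.1 * (g : G)⁻¹) = p.1
          rw [P.pt_conj _ x.1.2.1, x.1.2.2, ← hgp', P.smul_pt hg]
        · rw [map_mul, map_mul, show f x.1.1 = f g from congrArg Subtype.val x.2, map_inv,
            mul_inv_cancel_right]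
      haveI := Fintype.ofFinite {x : A // π x = β}
      let τ : {x : A // π x = β} → {x : A // π x = β} := fun x =>
        ⟨⟨_, (hmaps x).1, (hmaps x).2.1⟩, Subtype.ext (hmaps x).2.2⟩
      have hττ : ∀ x, τ (τ x) = x := fun x => Subtype.ext (Subtype.ext (hcc x.1.1))
      let σ : Equiv.Perm {x : A // π x = β} := ⟨τ, τ, hττ, hττ⟩
      have h := Equiv.Perm.card_compl_support_modEq (p := 2) (n := 1) (σ := σ) (by
        ext x
        rw [pow_one, sq, Equiv.Perm.mul_apply, Equiv.Perm.one_apply]
        exact congrArg (fun y => ((y.1.1 : centMembers D u) : G)) (hττ x))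
      have hset : σ.supportᶜ = {(⟨⟨g, hg, hgp'⟩, rfl⟩ : {x : A // π x = β})} := by
        ext x
        rw [Finset.mem_compl, Equiv.Perm.notMem_support, Finset.mem_singleton]
        constructor
        · intro hx
          have hc : Commute (g : G) (x.1.1 : G) := by
            have h1 : g * x.1.1 * g⁻¹ = x.1.1 := congrArg (fun y => y.1.1) hx
            exact congrArg Subtype.val (mul_inv_eq_iff_eq_mul.1 h1)
          refine Subtype.ext (Subtype.ext (Subtype.ext (by_contra fun hne => ?_)))
          have hD := P.mul_mem_of_commute hg x.1.2.1 hc (Ne.symm hne) hab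
          refine hne1 (g := g * x.1.1) hD ?_
          rw [map_mul, show f x.1.1 = f g from congrArg Subtype.val x.2, ← map_mul, hg2, map_one]
        · rintro rfl
          exact Subtype.ext (Subtype.ext (mul_inv_cancel_right g g))
      rw [hset, Finset.card_singleton, ← Nat.card_eq_fintype_card] at h
      rw [Nat.odd_iff]
      unfold Nat.ModEq at h
      omega
    haveI := Fintype.ofFinite B
    rw [← Nat.card_congr (Equiv.sigmaFiberEquiv π), Nat.card_sigma, Nat.odd_iff,
      Finset.sum_nat_mod, Finset.sum_congr rfl fun β _ => Nat.odd_iff.1 (hfib β), Finset.sum_const,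
      smul_eq_mul, mul_one, Finset.card_univ, ← Nat.card_eq_fintype_card, ← Nat.odd_iff] at hA
    exact hA

include P hua hub hab in
theorem card_fixGroup_lt (hu1 : u ≠ 1) : Nat.card (fixGroup Ω D u) < Nat.card G := by
  refine lt_of_le_of_lt (Nat.le_of_dvd Nat.card_pos (Subgroup.card_range_dvd _))
    (lt_of_le_of_ne (Subgroup.card_le_card_group _) fun h => hu1 ?_)
  have htop := Subgroup.eq_top_of_card_eq _ h
  have hcentral : ∀ g : G, Commute g u := fun g =>
    commute_of_mem_centMembers (htop.symm ▸ Subgroup.mem_top g : g ∈ centMembers D u)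
  refine eq_of_smul_eq_smul fun p : Ω => ?_
  obtain ⟨g, rfl⟩ := P.exists_smul_eq a p
  rw [one_smul]
  exact smul_mem_fixSet (hcentral g) hua

include P hu hua hub hab in
/-- By induction every involution of the induced group is the image of a member. -/
theorem fixGroup_mem (hIH : PointCriterionBelow.{u} (Nat.card G)) (hu1 : u ≠ 1)
    {σ : fixGroup Ω D u} (hσ : orderOf σ = 2) : σ ∈ fixMembers Ω D u :=
  hIH (fixGroup Ω D u) (FixSet Ω u) (card_fixGroup_lt P hua hub hab hu1) (fixMembers Ω D u) _
    (fixGroup_pointClass P hu hua hub hab) fixGroup_generated ⟨a, hua⟩ ⟨b, hub⟩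
    (fun h => hab (congrArg Subtype.val h)) σ hσ

include P hu hua hub hab in
/-- By induction the stabiliser of a fixed point in the induced group is strongly embedded. -/
theorem fixGroup_stronglyEmbedded (hIH : PointCriterionBelow.{u} (Nat.card G)) (hu1 : u ≠ 1)
    (p : FixSet Ω u) : IsStronglyEmbedded (MulAction.stabilizer (fixGroup Ω D u) p) ∧
      (MulAction.stabilizer (fixGroup Ω D u) p).normalCore = ⊥ :=
  (fixGroup_pointClass P hu hua hub hab).stronglyEmbedded_of_all
    (fun _ hv => fixGroup_mem P hu hua hub hab hIH hu1 hv) p (x := ⟨a, hua⟩) (y := ⟨b, hub⟩)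
    fun h => hab (congrArg Subtype.val h)

end fix

/-! ### the induction -/

/-- Without two commuting members every involution is a member. -/
theorem mem_of_no_commuting {G Ω : Type u} [Group G] [MulAction G Ω] [Finite G] [Finite Ω] {D : Set G}
    {pt : G → Ω} (P : PointClass G Ω D pt) (hgen : Subgroup.closure D = ⊤)
    (hno : ∀ d ∈ D, ∀ e ∈ D, Commute d e → d = e) {x : Ω} {v : G} (hv : orderOf v = 2) : v ∈ D := by
  obtain ⟨z, hz, -⟩ := P.exists_at x
  have hiso : IsIsolatedInvolution z :=
    ⟨P.inv z hz, fun g hc => (hno z hz _ (P.conj_mem g z hz) hc).symm⟩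
  have hodd : ∀ d ∈ D, ∀ e ∈ D, Odd (orderOf (d * e)) := fun d hd e he => by
    rw [← Nat.not_even_iff_odd]
    intro hev
    obtain ⟨h1, h2, h3⟩ := P.exists_partner hd he hev
    exact h3 (hno d hd _ h1 h2).symm
  set R := pPrimeCore 2 G
  haveI hRn : R.Normal := Cores.pPrimeCore_normal 2 G
  have hR : Odd (Nat.card R) := Nat.coprime_two_right.1 (Cores.coprime_card_pPrimeCore 2)
  have hz2 := mul_self (P.inv z hz)
  have hDR : D ⊆ ↑(R ⊔ Subgroup.zpowers z) := fun d hd => by
    obtain ⟨g, -, rfl⟩ := exists_conj_of_odd (P.inv z hz) (P.inv d hd) (hodd z hz d hd)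
    have h1 := ZStar.zStar_of_brauerSuzuki ZStar.uniqueInvolution hiso g
    have e : g * z * g⁻¹ = z * (z * g * z⁻¹ * g⁻¹) := by
      rw [inv_eq (P.inv z hz), show z * (z * g * z * g⁻¹) = (z * z) * g * z * g⁻¹ by group, hz2, one_mul]
    rw [SetLike.mem_coe, e]
    exact mul_mem (Subgroup.mem_sup_right (Subgroup.mem_zpowers z)) (Subgroup.mem_sup_left h1)
  obtain ⟨r, hr, t, ht, hrt⟩ := Subgroup.mem_sup_of_normal_left.1
    (((Subgroup.closure_le _).2 hDR) (hgen.symm ▸ Subgroup.mem_top v))
  obtain ⟨k, rfl⟩ := Subgroup.mem_zpowers_iff.1 ht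
  rcases Int.even_or_odd k with ⟨j, rfl⟩ | ⟨j, rfl⟩
  · rw [← two_mul, zpow_mul, zpow_two, hz2, one_zpow, mul_one] at hrt
    exact absurd (ZStar.eq_one_of_odd_of_sq (hR.of_dvd_nat (Subgroup.orderOf_dvd_natCard R hr))
      (by rw [sq, hrt, mul_self hv])) (hrt ▸ ne_one hv)
  · rw [zpow_add_one, zpow_mul, zpow_two, hz2, one_zpow, one_mul] at hrt
    have h : Odd (orderOf (z * v)) := hR.of_dvd_nat (Subgroup.orderOf_dvd_natCard R (by
      rw [← hrt, ← mul_assoc]
      simpa [inv_eq (P.inv z hz)] using hRn.conj_mem r hr z))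
    obtain ⟨g, -, rfl⟩ := exists_conj_of_odd (P.inv z hz) hv h
    exact P.conj_mem g z hz

/-- The induction: it is enough to kill an involution with two fixed points, given two commuting
members and the criterion in all smaller groups. -/
theorem pointCriterion_of_step
    (step : ∀ (G : Type u) [Group G] [Finite G] (Ω : Type u) [MulAction G Ω] [Finite Ω]
      [FaithfulSMul G Ω] (D : Set G) (pt : G → Ω), PointClass G Ω D pt → Subgroup.closure D = ⊤ →
      PointCriterionBelow.{u} (Nat.card G) → (∃ d ∈ D, ∃ e ∈ D, Commute d e ∧ d ≠ e) →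
      ∀ u : G, orderOf u = 2 → ∀ a b : Ω, a ≠ b → u • a = a → u • b = b → False) :
    PointCriterion.{u} := by
  suffices h : ∀ n, PointCriterionBelow.{u} n from fun G _ _ Ω _ => h _ G Ω (Nat.lt_succ_self _)
  intro n
  induction n with
  | zero => exact fun G _ _ Ω _ hlt => absurd hlt (Nat.not_lt_zero _)
  | succ n ih =>
    intro G _ _ Ω _ hlt _ _ D pt P hgen x y hxy v hv
    by_cases hno : ∀ d ∈ D, ∀ e ∈ D, Commute d e → d = e
    · exact mem_of_no_commuting P hgen hno (x := x) hv
    push Not at hno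
    rcases P.mem_or_two_fixed hxy hv with h | ⟨a, b, hab, ha, hb⟩
    · exact h
    · exact (step G Ω D pt P hgen (fun G' _ _ Ω' _ hlt' => ih G' Ω' (by omega)) hno v hv a b hab ha hb).elim

/-- The induction with the step stated on cosets: `u` fixes the trivial coset and another one. -/
theorem pointCriterion_of_coset_step
    (step : ∀ (G : Type u) [Group G] [Finite G] (H : Subgroup G) [FaithfulSMul G (G ⧸ H)] (D : Set G)
      (pt : G → G ⧸ H), PointClass G (G ⧸ H) D pt → (∀ d ∈ D, ∀ e ∈ D, IsConj d e) →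
      Subgroup.closure D = ⊤ → PointCriterionBelow.{u} (Nat.card G) →
      (∃ d ∈ D, ∃ e ∈ D, Commute d e ∧ d ≠ e) →
      ∀ u : G, orderOf u = 2 → u ∈ H → ∀ b : G ⧸ H, ((1 : G) : G ⧸ H) ≠ b → u • b = b → False) :
    PointCriterion.{u} := by
  refine pointCriterion_of_step fun G _ _ Ω _ _ _ D pt P hgen hIH hcomm u hu a b hab ha hb => ?_
  set H := MulAction.stabilizer G a
  let e : G ⧸ H ≃ Ω := Equiv.ofBijective (MulAction.ofQuotientStabilizer G a)
    ⟨MulAction.injective_ofQuotientStabilizer G a, fun p => by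
      obtain ⟨g, hg⟩ := P.exists_smul_eq a p
      exact ⟨(g : G ⧸ H), hg⟩⟩
  have hsmul : ∀ (g : G) (q : G ⧸ H), e (g • q) = g • e q := fun g q =>
    MulAction.ofQuotientStabilizer_smul G a g q
  haveI : FaithfulSMul G (G ⧸ H) := ⟨fun {g g'} h => eq_of_smul_eq_smul fun p : Ω => by
    rw [← e.apply_symm_apply p, ← hsmul, h, hsmul]⟩
  have P' : PointClass G (G ⧸ H) D (fun d => e.symm (pt d)) := by
    refine ⟨P.inv, P.conj_mem, fun d hd q => ?_, fun d hd d' hd' hdd hne c hc => ?_, fun q => ?_⟩
    · rw [← e.injective.eq_iff, hsmul, P.fixed_iff d hd, e.eq_symm_apply]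
    · rw [← e.injective.eq_iff, hsmul, e.apply_symm_apply]
      exact P.product d hd d' hd' hdd hne c hc
    · convert P.odd_card (e q) using 1
      exact Nat.card_congr (Equiv.subtypeEquivRight fun d => and_congr_right fun _ => e.symm_apply_eq)
  have h1 : e ((1 : G) : G ⧸ H) = a := one_smul G a
  refine step G H D _ P' (fun d hd d' hd' => P.isConj_of_mem hab hd hd') hgen hIH hcomm u hu
    (MulAction.mem_stabilizer_iff.2 ha) (e.symm b) (fun h => hab ?_) ?_
  · rw [← h1, h, e.apply_symm_apply]
  · rw [← e.injective.eq_iff, hsmul, e.apply_symm_apply, hb]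

/-- The point form gives the core-free criterion. -/
theorem coreFreeCriterion_of_point (h : PointCriterion.{u}) : CoreFreeCriterion.{u} := by
  intro G _ _ S z H hz hzS hSz hH hcore hiff h3
  have C := pointClass S hz hSz hiff h3
  set K := Subgroup.normalClosure ({z} : Set G) with hK
  haveI : FaithfulSMul G (G ⧸ H) := ⟨fun {g g'} e => by
    rw [Subgroup.normalCore_eq_ker] at hcore
    exact (MonoidHom.ker_eq_bot_iff _).1 hcore (Equiv.ext e)⟩
  have hzK : z ∈ K := Subgroup.subset_normalClosure rfl
  have hDK : ∀ d ∈ conjugatesOf z, d ∈ K := fun d hd => by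
    obtain ⟨g, rfl⟩ := isConj_iff.1 hd
    exact Subgroup.normalClosure_normal.conj_mem z hzK g
  haveI : FaithfulSMul K (G ⧸ H) := ⟨fun {g g'} e => Subtype.ext (eq_of_smul_eq_smul e)⟩
  have CK : PointClass K (G ⧸ H) {d : K | (d : G) ∈ conjugatesOf z} (fun d => pointOf H z d) := by
    refine ⟨fun d hd => by rw [← Subgroup.orderOf_coe]; exact C.inv _ hd,
      fun g d hd => C.conj_mem (g : G) _ hd, fun d hd p => C.fixed_iff _ hd p,
      fun d hd e he hde hne c hc => C.product _ hd _ he (congrArg Subtype.val hde)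
        (fun h => hne (Subtype.ext h)) (c : G) (congrArg Subtype.val hc), fun p => ?_⟩
    convert C.odd_card p using 1
    exact Nat.card_congr
      { toFun := fun d => ⟨d.1, d.2⟩
        invFun := fun d => ⟨⟨d.1, hDK _ d.2.1⟩, d.2⟩
        left_inv := fun d => rfl
        right_inv := fun d => rfl }
  have hgen : Subgroup.closure {d : K | (d : G) ∈ conjugatesOf z} = ⊤ := by
    refine top_unique ((Subgroup.closure_closure_coe_preimage
      (k := Group.conjugatesOfSet ({z} : Set G))).ge.trans (Subgroup.closure_mono fun d hd => ?_))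
    obtain ⟨w, hw, hwd⟩ := Group.mem_conjugatesOfSet_iff.1 hd
    rw [Set.mem_singleton_iff] at hw
    exact hw ▸ hwd
  obtain ⟨g₀, -, hg₀⟩ := SetLike.exists_of_lt (lt_top_iff_ne_top.2 hH)
  have hne : ((1 : G) : G ⧸ H) ≠ (g₀ : G ⧸ H) := fun e => hg₀ (by
    have := QuotientGroup.eq.1 e
    rwa [inv_one, one_mul] at this)
  have hall := h K (G ⧸ H) _ _ CK hgen _ _ hne
  have hzH : z ∈ H := by simpa using (hiff 1).2 H.one_mem
  have hKH : ¬ K ≤ H := fun h1 => by
    have h2 := Subgroup.normal_le_normalCore.2 h1 hzK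
    rw [hcore, Subgroup.mem_bot] at h2
    exact ne_one hz h2
  refine isStronglyEmbedded_subgroupOf hKH hz hzK hzH fun s hs hsK hsH k _ hks => ?_
  have hsD : s ∈ conjugatesOf z := hall ⟨s, hsK⟩ (by rw [← Subgroup.orderOf_coe]; exact hs)
  have h1 : s • ((1 : G) : G ⧸ H) = ((1 : G) : G ⧸ H) := by
    rw [smul_mk_eq_iff, inv_one, one_mul, mul_one]; exact hsH
  have h2 : s • ((k⁻¹ : G) : G ⧸ H) = ((k⁻¹ : G) : G ⧸ H) := by
    rw [smul_mk_eq_iff, inv_inv]; exact hks
  have h3' := ((C.fixed_iff s hsD _).1 h1).trans ((C.fixed_iff s hsD _).1 h2).symm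
  have h4 := QuotientGroup.eq.1 h3'
  rw [inv_one, one_mul] at h4
  exact inv_mem_iff.1 h4

end Cfsg.Agent.Aschbacher
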