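/-
Assembly of the core-free criterion (owner: helper1).

* `CommuteStep` : the members at a point commute and a point stabiliser is transitive on the other
  points (piece A with its stage 2)
* `FinishStep` : then no involution fixes two points
* `coreFreeCriterion_of_steps` : they give `CoreFreeCriterion`
-/
import Cfsg.Agent.Lib.Aschbacher.CriterionFrame

set_option autoImplicit false

namespace Cfsg.Agent.Aschbacher

open Cfsg Involution

universe u

/-- The members at a point commute and the stabiliser of a point is transitive on the others. -/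
def CommuteStep : Prop :=
  ∀ (G : Type u) [Group G] [Finite G] (Ω : Type u) [MulAction G Ω] [Finite Ω] [FaithfulSMul G Ω]
    (D : Set G) (pt : G → Ω), PointClass G Ω D pt → Subgroup.closure D = ⊤ →
    PointCriterionBelow.{u} (Nat.card G) → (∃ d ∈ D, ∃ e ∈ D, Commute d e ∧ d ≠ e) →
    ∀ x₀ y₀ : Ω, x₀ ≠ y₀ →
      (∀ s ∈ D, ∀ t ∈ D, pt s = pt t → Commute s t) ∧
      (∀ x y z : Ω, x ≠ y → x ≠ z → ∃ g ∈ MulAction.stabilizer G x, g • y = z)

/-- Given that, no involution fixes two points. -/
def FinishStep : Prop :=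
  ∀ (G : Type u) [Group G] [Finite G] (Ω : Type u) [MulAction G Ω] [Finite Ω] [FaithfulSMul G Ω]
    (D : Set G) (pt : G → Ω), PointClass G Ω D pt → Subgroup.closure D = ⊤ →
    PointCriterionBelow.{u} (Nat.card G) → (∃ d ∈ D, ∃ e ∈ D, Commute d e ∧ d ≠ e) →
    (∀ s ∈ D, ∀ t ∈ D, pt s = pt t → Commute s t) →
    (∀ x y z : Ω, x ≠ y → x ≠ z → ∃ g ∈ MulAction.stabilizer G x, g • y = z) →
    ∀ v : G, orderOf v = 2 → ∀ a b : Ω, a ≠ b → v • a = a → v • b = b → False

theorem coreFreeCriterion_of_steps (hC : CommuteStep.{u}) (hF : FinishStep.{u}) :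
    CoreFreeCriterion.{u} :=
  coreFreeCriterion_of_point (pointCriterion_of_step
    fun G _ _ Ω _ _ _ D pt P hgen hIH hpair v hv a b hab ha hb =>
      let h := hC G Ω D pt P hgen hIH hpair a b hab
      hF G Ω D pt P hgen hIH hpair h.1 h.2 v hv a b hab ha hb)

end Cfsg.Agent.Aschbacher
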