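/-
The odd core of a two-point stabiliser in a point class, two-point stabilisers of any order
(piece A of the core-free criterion; owner: helper2).

Main results (namespace `Cfsg.Agent.Aschbacher.PointClass`, `O_xy = core 2 (twoPt G x y)`):
* `exists_core_conj_point`, `exists_core_conj_swap` : `O_xy` is transitive on the members of `D`
  at `x` and on the swappers
* `exists_core_mul_point`, `exists_core_mul_swap` : `G_xy = O_xy C(d)`
* `comm_swap_mem_core`, `inverted_mem_core` : `[w, G_xy] ⊆ O_xy`; inverted odd elements lie in it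
* `le_core_of_odd` : an odd subgroup of `G_xy` normalised by `C_{G_xy}(d)` lies in `O_xy`
* `core_inf_stab_le` : `u • x = y`, `c = pt u` : `O_xy ∩ G_c ≤ O_cx`
* `card_core_fixed` : `|O_cx| = |O_xy|`
-/
import Cfsg.Agent.Lib.Bender.Good

set_option autoImplicit false
set_option linter.style.haveILetI false
set_option linter.unusedSectionVars false

namespace Cfsg.Agent.Aschbacher

open Cfsg Involution Bender
open scoped Pointwise

universe u v

variable {G : Type u} [Group G] [Finite G]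

theorem commute_of_conj_eq {g h x : G} (e : g * x * g⁻¹ = h * x * h⁻¹) :
    Commute (g⁻¹ * h) x := by
  show g⁻¹ * h * x = x * (g⁻¹ * h)
  calc g⁻¹ * h * x = g⁻¹ * (h * x * h⁻¹) * h := by group
    _ = x * (g⁻¹ * h) := by rw [← e]; group

theorem odd_card_core_two (K : Subgroup G) : Odd (Nat.card (core 2 K)) := by
  haveI : Fact (Nat.Prime 2) := ⟨Nat.prime_two⟩
  exact Nat.not_even_iff_odd.1 fun h => not_dvd_card_core (even_iff_two_dvd.1 h)

theorem conj_mem_core_two {K : Subgroup G} {g a : G} (hg : g ∈ Subgroup.normalizer (K : Set G))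
    (ha : a ∈ core 2 K) : g * a * g⁻¹ ∈ core 2 K :=
  (Subgroup.mem_normalizer_iff.1 (normalizer_le_core 2 K hg) a).1 ha

/-- An odd subgroup of `K` normalised by `R`, where `K = O(K) R`, lies in `O(K)`. -/
theorem le_core_two_of_supplement {K R X : Subgroup G}
    (hKR : ∀ g ∈ K, ∃ o ∈ core 2 K, o⁻¹ * g ∈ R) (hXK : X ≤ K) (hX : Odd (Nat.card X))
    (hRX : R ≤ Subgroup.normalizer (X : Set G)) : X ≤ core 2 K := by
  set O := Cfsg.pPrimeCore 2 K with hOdef
  haveI : O.Normal := Cores.pPrimeCore_normal 2 K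
  set X' := X.subgroupOf K with hX'
  have hN : (X' ⊔ O).Normal := by
    refine ⟨fun z hz g => ?_⟩
    obtain ⟨o, ho, hr⟩ := hKR g g.2
    obtain ⟨o', ho', e⟩ := ho
    set r : K := o'⁻¹ * g with hrdef
    have hr' : (r : G) ∈ R := by
      rw [hrdef, Subgroup.coe_mul, Subgroup.coe_inv]
      rw [← e] at hr
      exact hr
    have hrX : r ∈ Subgroup.normalizer (X' : Set K) := by
      refine Subgroup.mem_normalizer_iff.2 fun k => ?_
      rw [hX', Subgroup.mem_subgroupOf, Subgroup.mem_subgroupOf]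
      exact Subgroup.mem_normalizer_iff.1 (hRX hr') k
    have hrO : r ∈ Subgroup.normalizer (O : Set K) := by
      rw [Subgroup.normalizer_eq_top_iff.2 inferInstance]; exact Subgroup.mem_top r
    have h1 : r * z * r⁻¹ ∈ X' ⊔ O := by
      have hmap : (X' ⊔ O).map (MulAut.conj r).toMonoidHom = X' ⊔ O :=
        (Subgroup.map_sup X' O _).trans (congrArg₂ (fun A B : Subgroup K => A ⊔ B)
          (Subgroup.mem_normalizer_iff_map_conj_eq.1 hrX)
          (Subgroup.mem_normalizer_iff_map_conj_eq.1 hrO))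
      exact hmap.le (Subgroup.mem_map_of_mem (MulAut.conj r).toMonoidHom hz)
    have e' : g = o' * r := by rw [hrdef, mul_inv_cancel_left]
    rw [e', show o' * r * z * (o' * r)⁻¹ = o' * (r * z * r⁻¹) * o'⁻¹ by group]
    exact mul_mem (mul_mem (Subgroup.mem_sup_right ho') h1) (inv_mem (Subgroup.mem_sup_right ho'))
  have hcop : (Nat.card ↥(X' ⊔ O)).Coprime 2 := by
    refine Nat.Coprime.coprime_dvd_left (Cores.card_sup_dvd X' O) ?_
    refine Nat.Coprime.mul_left ?_ (Cores.coprime_card_pPrimeCore 2)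
    rw [hX', Cores.card_subgroupOf hXK]
    exact Nat.coprime_two_right.2 hX
  intro x hx
  exact ⟨⟨x, hXK hx⟩, (le_sup_left.trans (Cores.le_pPrimeCore hN hcop))
    (Subgroup.mem_subgroupOf.2 hx), rfl⟩

namespace PointClass

variable {Ω : Type v} [MulAction G Ω] [Finite Ω] {D : Set G} {pt : G → Ω}
  (P : PointClass G Ω D pt)
include P

theorem exists_core_conj {x y : Ω} (hxy : x ≠ y) :
    (∀ w ∈ D, w • x = y → ∀ w' ∈ D, w' • x = y → ∃ a ∈ core 2 (twoPt G x y), a * w * a⁻¹ = w') ∧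
    (∀ e ∈ D, pt e = x → ∀ e' ∈ D, pt e' = x → ∃ a ∈ core 2 (twoPt G x y), a * e * a⁻¹ = e') := by
  obtain ⟨N, hN, hodd, hnorm, hswap, hpt⟩ := P.exists_odd_normal hxy
  have hle : N ≤ core 2 (twoPt G x y) := by
    intro a ha
    refine ⟨⟨a, hN ha⟩, Cores.le_pPrimeCore (N := N.subgroupOf (twoPt G x y)) ?_ ?_
      (Subgroup.mem_subgroupOf.2 ha), rfl⟩
    · refine ⟨fun n hn g => Subgroup.mem_subgroupOf.2 ?_⟩
      exact hnorm g (Or.inl ⟨MulAction.mem_stabilizer_iff.1 g.2.1,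
        MulAction.mem_stabilizer_iff.1 g.2.2⟩) n (Subgroup.mem_subgroupOf.1 hn)
    · rw [Cores.card_subgroupOf hN]
      exact Nat.coprime_two_right.2 hodd
  exact ⟨fun w hw hwx w' hw' hwx' =>
      let ⟨a, ha, e⟩ := hswap w hw hwx w' hw' hwx'; ⟨a, hle ha, e⟩,
    fun w hw hwx w' hw' hwx' =>
      let ⟨a, ha, e⟩ := hpt w hw hwx w' hw' hwx'; ⟨a, hle ha, e⟩⟩

theorem exists_core_conj_swap {x y : Ω} (hxy : x ≠ y) {w : G} (hw : w ∈ D) (hwx : w • x = y)
    {w' : G} (hw' : w' ∈ D) (hwx' : w' • x = y) :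
    ∃ a ∈ core 2 (twoPt G x y), a * w * a⁻¹ = w' :=
  (P.exists_core_conj hxy).1 w hw hwx w' hw' hwx'

theorem exists_core_conj_point {x y : Ω} (hxy : x ≠ y) {e : G} (he : e ∈ D) (hex : pt e = x)
    {e' : G} (he' : e' ∈ D) (hex' : pt e' = x) :
    ∃ a ∈ core 2 (twoPt G x y), a * e * a⁻¹ = e' :=
  (P.exists_core_conj hxy).2 e he hex e' he' hex'

/-- `G_xy = O_xy C(d)` for a member `d` at `x`. -/
theorem exists_core_mul_point {x y : Ω} (hxy : x ≠ y) {d : G} (hd : d ∈ D) (hdx : pt d = x)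
    {g : G} (hg : g ∈ twoPt G x y) :
    ∃ o ∈ core 2 (twoPt G x y), o⁻¹ * g ∈ twoPt G x y ⊓ Subgroup.centralizer ({d} : Set G) := by
  obtain ⟨o, ho, e⟩ := P.exists_core_conj_point hxy hd hdx (P.conj_mem g d hd)
    (by rw [P.pt_conj g hd, hdx]; exact MulAction.mem_stabilizer_iff.1 hg.1)
  refine ⟨o, ho, Subgroup.mem_inf.2 ⟨mul_mem (inv_mem (core_le 2 _ ho)) hg, mem_centralizer.2 ?_⟩⟩
  exact commute_of_conj_eq e

/-- `G_xy = O_xy C(w)` for a swapper `w`. -/
theorem exists_core_mul_swap {x y : Ω} (hxy : x ≠ y) {w : G} (hw : w ∈ D) (hwx : w • x = y)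
    {g : G} (hg : g ∈ twoPt G x y) :
    ∃ o ∈ core 2 (twoPt G x y), o⁻¹ * g ∈ twoPt G x y ⊓ Subgroup.centralizer ({w} : Set G) := by
  obtain ⟨o, ho, e⟩ := P.exists_core_conj_swap hxy hw hwx (P.conj_mem g w hw)
    (by rw [mul_smul, mul_smul, inv_smul_eq_iff.2 (MulAction.mem_stabilizer_iff.1 hg.1).symm, hwx,
      MulAction.mem_stabilizer_iff.1 hg.2])
  refine ⟨o, ho, Subgroup.mem_inf.2 ⟨mul_mem (inv_mem (core_le 2 _ ho)) hg, mem_centralizer.2 ?_⟩⟩
  exact commute_of_conj_eq e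

theorem swap_mem_normalizer_core {x y : Ω} {w : G} (hw : w ∈ D) (hwx : w • x = y) :
    w ∈ Subgroup.normalizer (core 2 (twoPt G x y) : Set G) :=
  normalizer_le_core 2 _ (swap_mem_normalizer_twoPt P hw hwx)

/-- `[w, G_xy] ⊆ O_xy` for a swapper `w`. -/
theorem comm_swap_mem_core {x y : Ω} (hxy : x ≠ y) {w : G} (hw : w ∈ D) (hwx : w • x = y)
    {g : G} (hg : g ∈ twoPt G x y) : w * g * w⁻¹ * g⁻¹ ∈ core 2 (twoPt G x y) := by
  obtain ⟨o, ho, hr⟩ := P.exists_core_mul_swap hxy hw hwx hg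
  have hc : (o⁻¹ * g) * w = w * (o⁻¹ * g) := mem_centralizer.1 hr.2
  have e : w * g * w⁻¹ * g⁻¹ = (w * o * w⁻¹) * o⁻¹ := by
    calc w * g * w⁻¹ * g⁻¹ = (w * o * w⁻¹) * ((w * (o⁻¹ * g)) * w⁻¹) * g⁻¹ := by group
      _ = (w * o * w⁻¹) * o⁻¹ := by rw [← hc]; group
  rw [e]
  exact mul_mem ((Subgroup.mem_normalizer_iff.1 (P.swap_mem_normalizer_core hw hwx) o).1 ho)
    (inv_mem ho)

/-- An element of odd order inverted by a swapper lies in `O_xy`. -/
theorem inverted_mem_core {x y : Ω} (hxy : x ≠ y) {w : G} (hw : w ∈ D) (hwx : w • x = y)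
    {g : G} (hg : g ∈ twoPt G x y) (hgodd : Odd (orderOf g)) (hinv : w * g * w⁻¹ = g⁻¹) :
    g ∈ core 2 (twoPt G x y) := by
  have h := P.comm_swap_mem_core hxy hw hwx hg
  rw [hinv] at h
  obtain ⟨k, hk⟩ := hgodd
  have h2 := Subgroup.pow_mem _ h k
  have e : (g⁻¹ * g⁻¹) ^ k = g := by
    rw [← pow_two, ← pow_mul, inv_pow, inv_eq_iff_mul_eq_one, ← pow_succ, ← hk, pow_orderOf_eq_one]
  rwa [e] at h2

/-- An odd subgroup of `G_xy` normalised by the centraliser of a member at `x` lies in `O_xy`. -/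
theorem le_core_of_odd {x y : Ω} (hxy : x ≠ y) {d : G} (hd : d ∈ D) (hdx : pt d = x)
    {X : Subgroup G} (hXK : X ≤ twoPt G x y) (hX : Odd (Nat.card X))
    (hRX : twoPt G x y ⊓ Subgroup.centralizer ({d} : Set G) ≤ Subgroup.normalizer (X : Set G)) :
    X ≤ core 2 (twoPt G x y) :=
  le_core_two_of_supplement (fun _ hg => P.exists_core_mul_point hxy hd hdx hg) hXK hX hRX

/-- An odd subgroup of `G_xy` normalised by the centraliser of a swapper lies in `O_xy`. -/
theorem le_core_of_odd_swap {x y : Ω} (hxy : x ≠ y) {w : G} (hw : w ∈ D) (hwx : w • x = y)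
    {X : Subgroup G} (hXK : X ≤ twoPt G x y) (hX : Odd (Nat.card X))
    (hRX : twoPt G x y ⊓ Subgroup.centralizer ({w} : Set G) ≤ Subgroup.normalizer (X : Set G)) :
    X ≤ core 2 (twoPt G x y) :=
  le_core_two_of_supplement (fun _ hg => P.exists_core_mul_swap hxy hw hwx hg) hXK hX hRX

/-- The centralisers of `u` in its two kinds of pairs agree. -/
theorem twoPt_inf_centralizer {x y : Ω} {u : G} (hu : u ∈ D) (hux : u • x = y) :
    twoPt G x y ⊓ Subgroup.centralizer ({u} : Set G) =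
      twoPt G (pt u) x ⊓ Subgroup.centralizer ({u} : Set G) := by
  ext g
  simp only [Subgroup.mem_inf, MulAction.mem_stabilizer_iff]
  constructor
  · rintro ⟨⟨h1, -⟩, h2⟩
    exact ⟨⟨P.commute_fix hu (mem_centralizer.1 h2), h1⟩, h2⟩
  · rintro ⟨⟨-, h1⟩, h2⟩
    refine ⟨⟨h1, ?_⟩, h2⟩
    rw [← hux, ← mul_smul, (mem_centralizer.1 h2).eq, mul_smul, h1]

/-- `O_xy ∩ G_c ≤ O_cx` if `u` swaps `x, y` and fixes `c`. -/
theorem core_inf_stab_le {x y : Ω} (hxy : x ≠ y) {u : G} (hu : u ∈ D) (hux : u • x = y) :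
    core 2 (twoPt G x y) ⊓ MulAction.stabilizer G (pt u) ≤ core 2 (twoPt G (pt u) x) := by
  have hne : pt u ≠ x := fun h => hxy (by rw [← hux, ← h, P.smul_pt hu])
  refine P.le_core_of_odd hne hu rfl (fun g hg => ⟨hg.2, (core_le 2 _ hg.1).1⟩)
    ((odd_card_core_two _).of_dvd_nat (Subgroup.card_dvd_of_le inf_le_left)) ?_
  intro r hr
  rw [← P.twoPt_inf_centralizer hu hux] at hr
  refine Coprime.mem_normalizer_of_forall fun g hg =>
    Subgroup.mem_inf.2 ⟨conj_mem_core_two (Subgroup.le_normalizer hr.1) hg.1,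
      MulAction.mem_stabilizer_iff.2 ?_⟩
  rw [ mul_smul, mul_smul,
    inv_smul_eq_iff.2 (P.commute_fix hu (mem_centralizer.1 hr.2)).symm,
    MulAction.mem_stabilizer_iff.1 hg.2, P.commute_fix hu (mem_centralizer.1 hr.2)]

theorem card_core_point {x y : Ω} (hxy : x ≠ y) {d : G} (hd : d ∈ D) (hdx : pt d = x) :
    Nat.card (core 2 (twoPt G x y)) = Nat.card {g : G // g ∈ D ∧ pt g = x} *
      Nat.card ↥(core 2 (twoPt G x y) ⊓ Subgroup.centralizer ({d} : Set G)) := by
  refine card_eq_mul_centralizer _ {g | g ∈ D ∧ pt g = x} ?_ ⟨hd, hdx⟩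
    fun s hs => P.exists_core_conj_point hxy hd hdx hs.1 hs.2
  rintro k hk s ⟨hs, hsx⟩
  exact ⟨P.conj_mem k s hs,
    by rw [P.pt_conj k hs, hsx]; exact MulAction.mem_stabilizer_iff.1 (core_le 2 _ hk).1⟩

theorem card_core_swap {x y : Ω} (hxy : x ≠ y) {w : G} (hw : w ∈ D) (hwx : w • x = y) :
    Nat.card (core 2 (twoPt G x y)) = Nat.card {g : G // g ∈ D ∧ pt g = y} *
      Nat.card ↥(core 2 (twoPt G x y) ⊓ Subgroup.centralizer ({w} : Set G)) := by
  rw [← P.card_swap hxy]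
  refine card_eq_mul_centralizer _ {g | g ∈ D ∧ g • x = y} ?_ ⟨hw, hwx⟩
    fun s hs => P.exists_core_conj_swap hxy hw hwx hs.1 hs.2
  rintro k hk s ⟨hs, hsx⟩
  refine ⟨P.conj_mem k s hs, smul_swap_conj' hsx ?_ ?_⟩
  · exact MulAction.mem_stabilizer_iff.1 (core_le 2 _ hk).1
  · exact MulAction.mem_stabilizer_iff.1 (core_le 2 _ hk).2
where
  smul_swap_conj' {s k : G} {x y : Ω} (hsx : s • x = y) (hkx : k • x = x) (hky : k • y = y) :
      (k * s * k⁻¹) • x = y := by
    rw [mul_smul, mul_smul, inv_smul_eq_iff.2 hkx.symm, hsx, hky]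

/-- `|O_cx| = |O_xy|` if `u` swaps `x, y` and fixes `c`. -/
theorem card_core_fixed {x y : Ω} (hxy : x ≠ y) {u : G} (hu : u ∈ D) (hux : u • x = y) :
    Nat.card (core 2 (twoPt G (pt u) x)) = Nat.card (core 2 (twoPt G x y)) := by
  have hne : pt u ≠ x := fun h => hxy (by rw [← hux, ← h, P.smul_pt hu])
  rw [P.card_core_point hne hu rfl, P.card_core_swap hxy hu hux, card_point_eq P (pt u) y]
  have hR := P.twoPt_inf_centralizer hu hux
  set R := twoPt G (pt u) x ⊓ Subgroup.centralizer ({u} : Set G) with hRdef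
  have hnorm : ∀ K : Subgroup G, R ≤ K → R ≤ Subgroup.normalizer
      ((core 2 K ⊓ Subgroup.centralizer ({u} : Set G) : Subgroup G) : Set G) := fun K hRK r hr =>
    Coprime.mem_normalizer_of_forall fun g hg =>
      Subgroup.mem_inf.2 ⟨conj_mem_core_two (Subgroup.le_normalizer (hRK hr)) hg.1,
        mul_mem (mul_mem hr.2 hg.2) (inv_mem hr.2)⟩
  have h1 : core 2 (twoPt G x y) ⊓ Subgroup.centralizer ({u} : Set G) ≤
      core 2 (twoPt G (pt u) x) := by
    refine P.le_core_of_odd hne hu rfl ?_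
      ((odd_card_core_two _).of_dvd_nat (Subgroup.card_dvd_of_le inf_le_left))
      (hnorm _ (hR.ge.trans inf_le_left))
    exact fun g hg => (hR.le ⟨core_le 2 _ hg.1, hg.2⟩).1
  have h2 : core 2 (twoPt G (pt u) x) ⊓ Subgroup.centralizer ({u} : Set G) ≤
      core 2 (twoPt G x y) := by
    refine P.le_core_of_odd_swap hxy hu hux ?_
      ((odd_card_core_two _).of_dvd_nat (Subgroup.card_dvd_of_le inf_le_left))
      (hR.le.trans (hnorm _ inf_le_left))
    exact fun g hg => (hR.ge ⟨core_le 2 _ hg.1, hg.2⟩).1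
  exact congrArg (fun n => _ * n) (congrArg (fun K : Subgroup G => Nat.card K)
    (le_antisymm (le_inf h2 inf_le_right) (le_inf h1 inf_le_right)))

end PointClass

end Cfsg.Agent.Aschbacher
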