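/-
Centralisers of inverted elements in a point class, two-point stabilisers of any order
(piece A of the core-free criterion; owner: helper87).

Replacement of the odd centralisers of Bender stage 1 (`Bender/Sharp`, `Bender/Good`).

Main results (namespace `Cfsg.Agent.Aschbacher.PointClass`):
* `mul_inverted_mem` : `u * k ∈ D` for `k` of odd order inverted by `u ∈ D`
* `eq_one_of_inverted_centralized` : such a `k` fixing `a ≠ pt u` and centralised by a member at
  `a` is trivial
* `not_commute_inverted_two`, `not_commute_inverted_moved` : an element inverted at two points that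
  it fixes is centralised by no member
* `exists_core_mul_centralizing` : a subgroup `C` without members normalised by `u ∈ D` is
  `O(C) C_C(u)`, as `u` is isolated in `C⟨u⟩` (Glauberman)
* `not_core_le_stabilizer` : so `O(C)` moves the point of `u` if `C` does
-/
import Cfsg.Agent.Lib.Aschbacher.PairOdd

set_option autoImplicit false
set_option linter.style.haveILetI false
set_option linter.unusedSectionVars false

namespace Cfsg.Agent.Aschbacher

open Cfsg Involution Bender
open scoped Pointwise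

universe u v

variable {G : Type u} [Group G] [Finite G]

namespace PointClass

variable {Ω : Type v} [MulAction G Ω] [Finite Ω] {D : Set G} {pt : G → Ω}
  (P : PointClass G Ω D pt)
include P

/-- An involution of the class times an odd element it inverts is in the class. -/
theorem mul_inverted_mem {u k : G} (hu : u ∈ D) (hk : Odd (orderOf k))
    (hinv : u * k * u⁻¹ = k⁻¹) : u * k ∈ D := by
  obtain ⟨l, hl⟩ := hk
  have hu2 := mul_self (P.inv u hu)
  have e : u * k ^ l * u⁻¹ = (k ^ l)⁻¹ := by rw [← conj_pow, hinv, inv_pow]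
  rw [inv_eq (P.inv u hu)] at e
  have e2 : k = (k ^ l * k ^ l)⁻¹ := by
    refine eq_inv_of_mul_eq_one_left ?_
    rw [← pow_add, ← pow_succ', show l + l + 1 = 2 * l + 1 by omega, ← hl, pow_orderOf_eq_one]
  have h := P.conj_mem (k ^ l) u hu
  have e3 : k ^ l * u * (k ^ l)⁻¹ = u * k := by
    calc k ^ l * u * (k ^ l)⁻¹ = u * u * k ^ l * u * (k ^ l)⁻¹ := by rw [hu2, one_mul]
      _ = u * ((u * k ^ l * u) * (k ^ l)⁻¹) := by group
      _ = u * (k ^ l * k ^ l)⁻¹ := by rw [e, mul_inv_rev]
      _ = u * k := by rw [← e2]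
  rwa [e3] at h

/-- An element of odd order inverted by `u`, fixing `a ≠ pt u` and centralised by a member at `a`
is trivial. -/
theorem eq_one_of_inverted_centralized {u k v : G} (hu : u ∈ D) (hk : Odd (orderOf k))
    (hinv : u * k * u⁻¹ = k⁻¹) (hv : v ∈ D) (hne : pt v ≠ pt u) (hkv : Commute k v) : k = 1 := by
  have hmove : u • pt v ≠ pt v := fun e => hne ((P.fixed_iff u hu _).1 e)
  have h := P.mid_unique hv hu (P.mul_inverted_mem hu hk hinv) hmove (by
    calc u * v * u⁻¹ = u * (k * v * k⁻¹) * u⁻¹ := by rw [hkv.eq, mul_inv_cancel_right]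
      _ = u * k * v * (u * k)⁻¹ := by group)
  exact (mul_eq_left.1 h.symm)

/-- An element inverted at two points that it fixes is centralised by no member. -/
theorem not_commute_inverted_two {s t z x : G} (hs : s ∈ D) (ht : t ∈ D) (hne : pt s ≠ pt t)
    (hx1 : x ≠ 1) (hx : Odd (orderOf x)) (hsx : s * x * s⁻¹ = x⁻¹) (htx : t * x * t⁻¹ = x⁻¹)
    (hz : z ∈ D) : ¬ Commute x z := by
  intro hzx
  by_cases e : pt z = pt s
  · exact hx1 (P.eq_one_of_inverted_centralized ht hx htx hz (e ▸ hne) hzx)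
  · exact hx1 (P.eq_one_of_inverted_centralized hs hx hsx hz e hzx)

/-- An element inverted by `s` and centralised by an element moving the point of `s` is centralised
by no member. -/
theorem not_commute_inverted_moved {s g x : G} (hs : s ∈ D) (hx1 : x ≠ 1) (hx : Odd (orderOf x))
    (hsx : s * x * s⁻¹ = x⁻¹) (hg : Commute g x) (hgs : g • pt s ≠ pt s) {z : G} (hz : z ∈ D) :
    ¬ Commute x z := by
  refine P.not_commute_inverted_two hs (P.conj_mem g s hs) (by rw [P.pt_conj g hs]; exact hgs.symm)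
    hx1 hx hsx ?_ hz
  have e : g⁻¹ * x * g = x := by rw [mul_assoc, ← hg.eq, inv_mul_cancel_left]
  calc g * s * g⁻¹ * x * (g * s * g⁻¹)⁻¹ = g * (s * (g⁻¹ * x * g) * s⁻¹) * g⁻¹ := by group
    _ = (g * x * g⁻¹)⁻¹ := by rw [e, hsx]; group
    _ = x⁻¹ := by rw [hg.eq, mul_inv_cancel_right]

/-- A subgroup without members normalised by a member `u` is its odd core times the centraliser of
`u` in it. -/
theorem exists_core_mul_centralizing [FaithfulSMul G Ω] {x y : Ω} (hxy : x ≠ y) {u : G}
    (hu : u ∈ D) {C : Subgroup G} (huC : u ∈ Subgroup.normalizer (C : Set G))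
    (hC : ∀ z ∈ D, z ∉ C) {z : G} (hz : z ∈ C) :
    ∃ a ∈ core 2 C, Commute (a⁻¹ * z) u := by
  haveI : Fact (Nat.Prime 2) := ⟨Nat.prime_two⟩
  have hu2 := mul_self (P.inv u hu)
  have hui := inv_eq (P.inv u hu)
  set M := C ⊔ Subgroup.zpowers u with hM
  have huM : u ∈ M := Subgroup.mem_sup_right (Subgroup.mem_zpowers u)
  have hform : ∀ m ∈ M, m ∈ C ∨ m * u ∈ C := by
    intro m hm
    rw [← SetLike.mem_coe, hM,
      Subgroup.coe_mul_of_right_le_normalizer_left _ _ (Subgroup.zpowers_le.2 huC)] at hm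
    obtain ⟨c, hc, t, ht, rfl⟩ := hm
    obtain ⟨k, rfl⟩ := Subgroup.mem_zpowers_iff.1 ht
    rcases Int.even_or_odd k with ⟨j, rfl⟩ | ⟨j, rfl⟩
    · left
      show c * u ^ (j + j) ∈ C
      rwa [← two_mul, zpow_mul, zpow_two, hu2, one_zpow, mul_one]
    · right
      show c * u ^ (2 * j + 1) * u ∈ C
      rwa [zpow_add_one, zpow_mul, zpow_two, hu2, one_zpow, one_mul, mul_assoc, hu2, mul_one]
  have hiso : IsIsolatedInvolution (⟨u, huM⟩ : M) := by
    refine ⟨by rw [← Subgroup.orderOf_coe]; exact P.inv u hu, fun m hm => Subtype.ext ?_⟩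
    have hc : Commute u ((m : G) * u * (m : G)⁻¹) := congrArg Subtype.val hm
    show (m : G) * u * (m : G)⁻¹ = u
    obtain ⟨c, hc', e⟩ : ∃ c ∈ C, (m : G) * u * (m : G)⁻¹ = c * u * c⁻¹ := by
      rcases hform m m.2 with h | h
      · exact ⟨m, h, rfl⟩
      · refine ⟨(m : G) * u, h, ?_⟩
        rw [show (m : G) * u * u * ((m : G) * u)⁻¹ = (m : G) * u * (u * u⁻¹) * (m : G)⁻¹ by group,
          mul_inv_cancel, mul_one]
    rw [e] at hc ⊢
    by_contra hne
    refine hC _ (P.mul_mem_of_commute hu (P.conj_mem c u hu) hc (Ne.symm hne) hxy) ?_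
    rw [show u * (c * u * c⁻¹) = u * c * u * c⁻¹ by group]
    have h := C.mul_mem ((Subgroup.mem_normalizer_iff.1 huC c).1 hc') (C.inv_mem hc')
    rwa [hui] at h
  have hzM : z ∈ M := Subgroup.mem_sup_left hz
  have h0 := ZStar.zStar_of_brauerSuzuki ZStar.uniqueInvolution hiso ⟨z, hzM⟩
  set w := u * z * u⁻¹ * z⁻¹ with hw
  have hwO : w ∈ core 2 M := ⟨_, h0, rfl⟩
  -- the core of `M` lies in `C`
  have hOC : core 2 M ≤ C := by
    intro a ha
    obtain ⟨l, hl⟩ := Odd.of_dvd_nat (odd_card_core_two M) (Subgroup.orderOf_dvd_natCard _ ha)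
    have haM : a ∈ M := core_le 2 M ha
    have hsq : ∀ m ∈ M, m * m ∈ C := by
      intro m hm
      rcases hform m hm with h | h
      · exact C.mul_mem h h
      · have h' := (Subgroup.mem_normalizer_iff.1 huC _).1 h
        rw [hui, show u * (m * u) * u = u * m * (u * u) by group, hu2, mul_one] at h'
        have h2 := C.mul_mem h h'
        rwa [show m * u * (u * m) = m * (u * u) * m by group, hu2, mul_one] at h2
    have := pow_mem (hsq a haM) (l + 1)
    rwa [← sq, ← pow_mul, show 2 * (l + 1) = orderOf a + 1 by omega, pow_succ, pow_orderOf_eq_one,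
      one_mul] at this
  have hwC : w ∈ core 2 C := by
    refine le_core_two_of_supplement (R := C) (fun g hg => ⟨1, one_mem _, by rwa [inv_one, one_mul]⟩)
      hOC (odd_card_core_two M) ?_ hwO
    exact le_trans (le_sup_left : C ≤ M) (le_normalizer_core 2 M)
  have hinv : u * w * u⁻¹ = w⁻¹ := by
    rw [hw, mul_inv_rev, mul_inv_rev, mul_inv_rev, inv_inv, inv_inv, hui]
    calc u * (u * z * u * z⁻¹) * u = (u * u) * z * u * z⁻¹ * u := by group
      _ = z * (u * (z⁻¹ * u)) := by rw [hu2]; group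
  obtain ⟨l, hl⟩ := Odd.of_dvd_nat (odd_card_core_two C) (Subgroup.orderOf_dvd_natCard _ hwC)
  refine ⟨(w ^ (l + 1))⁻¹, inv_mem (pow_mem hwC _), ?_⟩
  rw [inv_inv]
  have h1 : u * (w ^ (l + 1) * z) * u⁻¹ = w ^ (l + 1) * z := by
    calc u * (w ^ (l + 1) * z) * u⁻¹ = (u * w ^ (l + 1) * u⁻¹) * (u * z * u⁻¹ * z⁻¹) * z := by group
      _ = (w ^ (l + 1))⁻¹ * w * z := by rw [← conj_pow, hinv, inv_pow, ← hw]
      _ = w ^ (l + 1) * z := by
        congr 1
        rw [inv_mul_eq_iff_eq_mul, ← pow_add, show l + 1 + (l + 1) = 2 * l + 1 + 1 by omega,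
          pow_succ, ← hl, pow_orderOf_eq_one, one_mul]
  exact (mul_inv_eq_iff_eq_mul.1 h1).symm

/-- So the odd core moves the point of `u` if the subgroup does. -/
theorem not_core_le_stabilizer [FaithfulSMul G Ω] {x y : Ω} (hxy : x ≠ y) {u : G} (hu : u ∈ D)
    {C : Subgroup G} (huC : u ∈ Subgroup.normalizer (C : Set G)) (hC : ∀ z ∈ D, z ∉ C)
    (hmove : ¬ C ≤ MulAction.stabilizer G (pt u)) :
    ¬ core 2 C ≤ MulAction.stabilizer G (pt u) := by
  intro hle
  refine hmove fun z hz => ?_
  obtain ⟨a, ha, hc⟩ := P.exists_core_mul_centralizing hxy hu huC hC hz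
  have h1 : a⁻¹ * z ∈ MulAction.stabilizer G (pt u) :=
    MulAction.mem_stabilizer_iff.2 (P.commute_fix hu hc)
  simpa using mul_mem (hle ha) h1

end PointClass

end Cfsg.Agent.Aschbacher
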