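/-
Sylow subgroups of two-point stabilisers invariant under swappers, stabilisers of any order
(piece A of the core-free criterion; owner: helper87).

If `w` exchanges `x, y` then `[w, G_xy] ⊆ O_xy`, so `O_xy` times a Sylow subgroup, `p` odd, is an
odd `w`-invariant subgroup with the full `p`-part.

Main results (namespace `Cfsg.Agent.Aschbacher.PointClass`):
* `exists_sylow_invariant_twoPt` : a `w`-invariant Sylow subgroup `Q` of `G_xy` over a `w`-invariant
  `p`-subgroup, with `|C_Q(w)| = |C_{G_xy}(w)|_p`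
* `card_inf_centralizer_twoPt` : this holds for every `w`-invariant Sylow subgroup
* `exists_swap_normalizing_twoPt` : a swapper normalises a given Sylow subgroup
* `card_inverted_twoPt`, `exists_inverted_twoPt` : the inverted elements
* `full_fixes_twoPt` : `Bender.full_fixes` without parity
-/
import Cfsg.Agent.Lib.Aschbacher.InvertedCore
import Cfsg.Agent.Lib.Bender.Centred
import Cfsg.Agent.Lib.Bender.FreeNC

set_option autoImplicit false
set_option linter.style.haveILetI false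
set_option linter.unusedSectionVars false

namespace Cfsg.Agent.Aschbacher

open Cfsg Involution Bender
open scoped Pointwise

universe u v

namespace PointClass

variable {G : Type u} {Ω : Type v} [Group G] [MulAction G Ω] [Finite G] [Finite Ω]
variable {D : Set G} {pt : G → Ω} {p : ℕ} [Fact p.Prime] (PC : PointClass G Ω D pt)
include PC

theorem card_point_ne_zero (y : Ω) : Nat.card {f : G // f ∈ D ∧ pt f = y} ≠ 0 := by
  obtain ⟨d, hd⟩ := PC.exists_at y
  exact (Nat.card_pos_iff.2 ⟨⟨⟨d, hd⟩⟩, inferInstance⟩).ne'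

/-- The odd invariant subgroup with the full `p`-part. -/
theorem exists_odd_cover {x y : Ω} (hxy : x ≠ y) (hp : p ≠ 2) {w : G} (hw : w ∈ D) (hwx : w • x = y)
    {R : Subgroup G} (hR : IsPGroup p R) (hRK : R ≤ twoPt G x y) :
    ∃ T : Subgroup G, core 2 (twoPt G x y) ≤ T ∧ T ≤ twoPt G x y ∧ R ≤ T ∧ Odd (Nat.card T) ∧
      w ∈ Subgroup.normalizer (T : Set G) ∧
      (Nat.card T).factorization p = (Nat.card (twoPt G x y)).factorization p := by
  obtain ⟨S, hRS, hSK, hSp, hScard⟩ := exists_sylow_twoPt (G := G) (p := p) x y hR hRK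
  set K := twoPt G x y with hK
  set O := core 2 K with hO
  have hOK : O ≤ K := core_le 2 K
  have hSN : S ≤ Subgroup.normalizer (O : Set G) := hSK.trans (le_normalizer_core 2 K)
  have hTK : S ⊔ O ≤ K := sup_le hSK hOK
  have hodd : Odd (Nat.card ↥(S ⊔ O)) :=
    odd_card_sup_of_normalizes hSN (odd_card_core_two K) (odd_card_of_isPGroup hp hSp)
  refine ⟨S ⊔ O, le_sup_right, hTK, hRS.trans le_sup_left, hodd, ?_, ?_⟩
  · refine Coprime.mem_normalizer_of_forall fun g hg => ?_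
    have h := PC.comm_swap_mem_core hxy hw hwx (hTK hg)
    have := (S ⊔ O).mul_mem (Subgroup.mem_sup_right h : w * g * w⁻¹ * g⁻¹ ∈ S ⊔ O) hg
    rwa [inv_mul_cancel_right] at this
  · refine le_antisymm
      ((Nat.factorization_le_iff_dvd Nat.card_pos.ne' Nat.card_pos.ne').2
        (Subgroup.card_dvd_of_le hTK) p) ?_
    have h1 := Coprime.card_le_of_isPGroup hSp (le_sup_left : S ≤ S ⊔ O)
    rw [hScard] at h1
    exact (Nat.pow_le_pow_iff_right (Fact.out : p.Prime).one_lt).1 h1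

/-- An invariant Sylow subgroup over an invariant `p`-subgroup. -/
theorem exists_sylow_invariant_twoPt {x y : Ω} (hxy : x ≠ y) (hp : p ≠ 2) {w : G} (hw : w ∈ D)
    (hwx : w • x = y) {R : Subgroup G} (hRK : R ≤ twoPt G x y) (hR : IsPGroup p R)
    (hwR : w ∈ Subgroup.normalizer (R : Set G)) :
    ∃ Q : Subgroup G, R ≤ Q ∧ Q ≤ twoPt G x y ∧ w ∈ Subgroup.normalizer (Q : Set G) ∧
      IsPGroup p Q ∧ Nat.card Q = p ^ (Nat.card (twoPt G x y)).factorization p := by
  obtain ⟨T, -, hTK, hRT, hTodd, hwT, hTcard⟩ := PC.exists_odd_cover hxy hp hw hwx hR hRK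
  obtain ⟨Q, h1, h2, h3, h4, h5⟩ := exists_sylow_invariant (PC.inv w hw) hwT hTodd hRT hR hwR
  exact ⟨Q, h1, h2.trans hTK, h3, h4, h5.trans (by rw [hTcard])⟩

/-- The centraliser of `w` in an invariant Sylow subgroup is a Sylow subgroup of that in `G_xy`. -/
theorem card_inf_centralizer_twoPt {x y : Ω} (hxy : x ≠ y) (hp : p ≠ 2) {w : G} (hw : w ∈ D)
    (hwx : w • x = y) {Q : Subgroup G} (hQK : Q ≤ twoPt G x y)
    (hwQ : w ∈ Subgroup.normalizer (Q : Set G))
    (hQ : Nat.card Q = p ^ (Nat.card (twoPt G x y)).factorization p) :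
    Nat.card ↥(Q ⊓ Subgroup.centralizer ({w} : Set G)) =
      p ^ (Nat.card ↥(twoPt G x y ⊓ Subgroup.centralizer ({w} : Set G))).factorization p := by
  obtain ⟨T, hOT, hTK, hQT, hTodd, hwT, hTcard⟩ :=
    PC.exists_odd_cover hxy hp hw hwx (Coprime.isPGroup_of_card hQ) hQK
  have hcop : (Nat.card (Subgroup.zpowers w)).Coprime (Nat.card T) := by
    rw [Nat.card_zpowers, PC.inv w hw]
    exact Nat.coprime_two_left.2 hTodd
  rw [Coprime.card_inf_centralizer_eq (Subgroup.zpowers_le.2 hwT) hcop hQT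
    (Subgroup.zpowers_le.2 hwQ) (hQ.trans (by rw [hTcard])) (Subgroup.mem_zpowers w)]
  have e1 : Nat.card T = Nat.card {g : G // g ∈ D ∧ pt g = y} *
      Nat.card ↥(T ⊓ Subgroup.centralizer ({w} : Set G)) := by
    rw [← PC.card_swap hxy]
    refine card_eq_mul_centralizer _ {g | g ∈ D ∧ g • x = y} ?_ ⟨hw, hwx⟩
      fun s hs => (PC.exists_core_conj_swap hxy hw hwx hs.1 hs.2).imp fun a ha => ⟨hOT ha.1, ha.2⟩
    rintro k hk s ⟨hs, hsx⟩
    refine ⟨PC.conj_mem k s hs, ?_⟩
    rw [mul_smul, mul_smul, show k⁻¹ • x = x from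
      MulAction.mem_stabilizer_iff.1 (inv_mem (hTK hk).1), hsx]
    exact MulAction.mem_stabilizer_iff.1 (hTK hk).2
  rw [e1, card_twoPt_swap PC hxy hw hwx, Nat.factorization_mul (PC.card_point_ne_zero y)
    Nat.card_pos.ne', Nat.factorization_mul (PC.card_point_ne_zero y) Nat.card_pos.ne',
    Finsupp.add_apply, Finsupp.add_apply] at hTcard
  rw [Nat.add_left_cancel hTcard]

/-- A swapper normalises a given Sylow subgroup of `G_xy`. -/
theorem exists_swap_normalizing_twoPt {x y : Ω} (hxy : x ≠ y) (hp : p ≠ 2) {X : Subgroup G}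
    (hX : X ≤ twoPt G x y) (hcard : Nat.card X = p ^ (Nat.card (twoPt G x y)).factorization p) :
    ∃ w ∈ D, w ∈ Subgroup.normalizer (X : Set G) ∧ w • x = y := by
  set K := twoPt G x y with hK
  obtain ⟨e, he, hex⟩ := PC.exists_at x
  obtain ⟨f, hf, hfy⟩ := PC.exists_at y
  obtain ⟨w, hw, -, hwxy⟩ := PC.exists_mid he hf (by rw [hex, hfy]; exact hxy)
  rw [hex, hfy] at hwxy
  obtain ⟨Q, -, hQK, hwQ, -, hQcard⟩ := PC.exists_sylow_invariant_twoPt hxy hp hw hwxy (R := ⊥)
    bot_le IsPGroup.of_bot (by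
      rw [Subgroup.normalizer_eq_top_iff.2 inferInstance]; exact Subgroup.mem_top w)
  obtain ⟨S, hS⟩ := Coprime.exists_sylow_map_eq hQK hQcard
  obtain ⟨T, hT⟩ := Coprime.exists_sylow_map_eq hX hcard
  obtain ⟨g, hg⟩ := MulAction.exists_smul_eq K S T
  have hXQ : MulAut.conj (g : G) • Q = X := by
    rw [← hS, ← hT, ← hg]
    exact (Coprime.map_subtype_smul g S).symm
  refine ⟨(g : G) * w * (g : G)⁻¹, PC.conj_mem _ w hw, ?_, ?_⟩
  · rw [← hXQ]
    refine Coprime.mem_normalizer_of_conj_eq ?_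
    rw [← mul_smul, ← map_mul, inv_mul_cancel_right, map_mul, mul_smul,
      Coprime.conj_eq_of_mem_normalizer hwQ]
  · have h1 : (g : G)⁻¹ • x = x := inv_smul_eq_iff.2 (MulAction.mem_stabilizer_iff.1 g.2.1).symm
    rw [mul_smul, mul_smul, h1, hwxy]
    exact MulAction.mem_stabilizer_iff.1 g.2.2

/-- The inverted elements of a Sylow subgroup of `G_xy` normalised by a swapper lie in `O_xy`. -/
theorem inverted_mem_core_of_pGroup {x y : Ω} (hxy : x ≠ y) (hp : p ≠ 2) {w : G} (hw : w ∈ D)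
    (hwx : w • x = y) {Q : Subgroup G} (hQ : IsPGroup p Q) (hQK : Q ≤ twoPt G x y) {g : G}
    (hg : g ∈ Q) (hinv : w * g * w⁻¹ = g⁻¹) : g ∈ core 2 (twoPt G x y) :=
  PC.inverted_mem_core hxy hw hwx (hQK hg)
    ((odd_card_of_isPGroup hp hQ).of_dvd_nat (Subgroup.orderOf_dvd_natCard Q hg)) hinv

/-- A swapper inverts `p`-part-of-`ι` many elements of an invariant Sylow subgroup of `G_xy`. -/
theorem card_inverted_twoPt {x y : Ω} (hxy : x ≠ y) (hp : p ≠ 2) {u : G} (hu : u ∈ D)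
    (hux : u • x = y) {Q : Subgroup G} (hQK : Q ≤ twoPt G x y)
    (huQ : u ∈ Subgroup.normalizer (Q : Set G))
    (hQ : Nat.card Q = p ^ (Nat.card (twoPt G x y)).factorization p) :
    Nat.card {g : G // g ∈ Q ∧ u * g * u⁻¹ = g⁻¹} =
      pPart p (Nat.card {f : G // f ∈ D ∧ pt f = y}) := by
  have hQp : IsPGroup p Q := Coprime.isPGroup_of_card hQ
  have hu2 := PC.inv u hu
  set S : Set G := {s | ∃ g ∈ Q, u * g * u⁻¹ = g⁻¹ ∧ u * g = s} with hS
  have hcard : Nat.card S = Nat.card {g : G // g ∈ Q ∧ u * g * u⁻¹ = g⁻¹} :=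
    (Nat.card_congr (Equiv.ofBijective
      (fun g : {g : G // g ∈ Q ∧ u * g * u⁻¹ = g⁻¹} => (⟨u * g.1, g.1, g.2.1, g.2.2, rfl⟩ : S))
      ⟨fun g h e => Subtype.ext (mul_left_cancel (congrArg Subtype.val e)),
        fun s => by
          obtain ⟨g, hg, hgi, e⟩ := s.2
          exact ⟨⟨g, hg, hgi⟩, Subtype.ext e⟩⟩)).symm
  have hsplit := card_eq_mul_centralizer Q S (s₀ := u) ?_ ⟨1, Q.one_mem, by group, mul_one u⟩ ?_
  · rw [hcard, PC.card_inf_centralizer_twoPt hxy hp hu hux hQK huQ hQ, hQ,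
      card_twoPt_swap PC hxy hu hux, Nat.factorization_mul (PC.card_point_ne_zero y)
      Nat.card_pos.ne', Finsupp.add_apply, pow_add] at hsplit
    exact (Nat.eq_of_mul_eq_mul_right (pow_pos (Fact.out : p.Prime).pos _) hsplit).symm
  · rintro k hk _ ⟨g, hg, hginv, rfl⟩
    refine ⟨u⁻¹ * k * u * g * k⁻¹, mul_mem (mul_mem ?_ hg) (inv_mem hk), ?_, by group⟩
    · have := (Subgroup.mem_normalizer_iff.1 (inv_mem huQ) k).1 hk
      rwa [inv_inv] at this
    · have hsq : u * g * (u * g) = 1 := by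
        rw [inv_eq hu2] at hginv
        rw [← mul_assoc, hginv, inv_mul_cancel]
      refine eq_inv_of_mul_eq_one_left ?_
      calc u * (u⁻¹ * k * u * g * k⁻¹) * u⁻¹ * (u⁻¹ * k * u * g * k⁻¹)
          = k * u * g * k⁻¹ * (u * u)⁻¹ * k * u * g * k⁻¹ := by group
        _ = k * (u * g * (u * g)) * k⁻¹ := by rw [mul_self hu2]; group
        _ = 1 := by rw [hsq]; group
  · rintro _ ⟨g, hg, hginv, rfl⟩
    obtain ⟨l, hl⟩ := (odd_card_of_isPGroup hp hQp).of_dvd_nat (Subgroup.orderOf_dvd_natCard Q hg)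
    exact ⟨g ^ l, Q.pow_mem hg l, conj_half_pow hu2 hginv hl⟩

/-- A swapper normalising a Sylow subgroup of `G_xy` inverts a nontrivial element of it, if `p`
divides the number of members at a point. -/
theorem exists_inverted_twoPt {P : Subgroup G} {x y : Ω} (hxy : x ≠ y) (hp : p ≠ 2)
    (hPK : P ≤ twoPt G x y)
    (hcard : Nat.card P = p ^ (Nat.card (twoPt G x y)).factorization p)
    (hm : p ∣ Nat.card {f : G // f ∈ D ∧ pt f = y}) {u : G} (hu : u ∈ D) (hux : u • x = y)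
    (huP : u ∈ Subgroup.normalizer (P : Set G)) :
    ∃ g ∈ P, g ≠ 1 ∧ u * g * u⁻¹ = g⁻¹ := by
  by_contra! hcon
  have hcount := PC.card_inverted_twoPt (p := p) hxy hp hu hux hPK huP hcard
  have hone : Nat.card {g : G // g ∈ P ∧ u * g * u⁻¹ = g⁻¹} = 1 := by
    rw [Nat.card_eq_one_iff_unique]
    refine ⟨⟨fun a b => Subtype.ext ?_⟩, ⟨⟨1, P.one_mem, by group⟩⟩⟩
    rw [show a.1 = 1 from by_contra fun h => hcon a.1 a.2.1 h a.2.2,
      show b.1 = 1 from by_contra fun h => hcon b.1 b.2.1 h b.2.2]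
  rw [hone, pPart] at hcount
  have h1 := (Fact.out : p.Prime).factorization_pos_of_dvd (PC.card_point_ne_zero y) hm
  exact absurd hcount (Nat.one_lt_pow h1.ne' (Fact.out : p.Prime).one_lt).ne

/-- An invariant moving `p`-subgroup forces an invariant Sylow subgroup of the stabiliser of a
swapped pair to fix the point of the swapper. -/
theorem full_fixes_twoPt {x : Ω} {v : G} (hp : p ≠ 2) (hv : v ∈ D) (hvx : v • x ≠ x)
    {R : Subgroup G} (hR : IsPGroup p R) (hvR : v ∈ Subgroup.normalizer (R : Set G))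
    (hmove : Moving p D pt R (pt v)) (hRv : R ≤ MulAction.stabilizer G (pt v))
    (hRx : R ≤ MulAction.stabilizer G x) :
    ∃ Q : Subgroup G, R ≤ Q ∧ IsPGroup p Q ∧ Q ≤ twoPt G x (v • x) ∧
      Nat.card Q = pPart p (Nat.card (twoPt G x (v • x))) ∧ Q ≤ MulAction.stabilizer G (pt v) := by
  set K := twoPt G x (v • x) with hK
  have hRK : R ≤ K := le_inf hRx (le_stab_smul hvR hRx)
  obtain ⟨Q, hRQ, hQK, hvQ, hQp, hQcard⟩ :=
    PC.exists_sylow_invariant_twoPt hvx.symm hp hv rfl hRK hR hvR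
  refine ⟨Q, hRQ, hQp, hQK, hQcard, ?_⟩
  set W := Q ⊓ MulAction.stabilizer G (pt v) with hW
  have hC := PC.card_inf_centralizer_twoPt hvx.symm hp hv rfl hQK hvQ hQcard
  have hWC : W ⊓ Subgroup.centralizer ({v} : Set G) = Q ⊓ Subgroup.centralizer ({v} : Set G) :=
    le_antisymm (inf_le_inf_right _ inf_le_left) fun g hg => ⟨⟨hg.1, MulAction.mem_stabilizer_iff.2
      (PC.commute_fix hv (mem_centralizer.1 hg.2))⟩, hg.2⟩
  have hm := hmove.mono (R := W) (le_inf hRQ hRv) v hv rfl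
  rw [hWC, hC, card_point_eq PC (pt v) (v • x)] at hm
  have hcK : Nat.card K = _ := card_twoPt_swap PC (Ne.symm hvx) hv rfl
  rw [hcK, Nat.factorization_mul (PC.card_point_ne_zero _) Nat.card_pos.ne', Finsupp.add_apply,
    pow_add] at hQcard
  have := Subgroup.eq_of_le_of_card_ge (inf_le_left : W ≤ Q) (hQcard.trans_le hm)
  exact this ▸ inf_le_right

end PointClass

end Cfsg.Agent.Aschbacher
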