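/-
Members with a common point (piece A of the core-free criterion; owner: helper43).

`PointNC D pt` : for a prime dividing the number of members at a point, no member acts non-trivially
on a subgroup of that prime power order fixing its point.  With it:

* `PointClass.centralizes_of_two_fixed` : a member centralises every odd subgroup it normalises
  that fixes its point and one further point
* `PointClass.eq_of_same_point` : a member is determined by its point and its image of one other
  point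
* `exists_abelian_normal`, `exists_pgroup_normal` : invariant subgroups of odd groups
-/
import Cfsg.Agent.Lib.Aschbacher.PairSylow
import Cfsg.Agent.Lib.Aschbacher.CriterionFrame

set_option autoImplicit false
set_option linter.style.haveILetI false
set_option linter.unusedSectionVars false

namespace Cfsg.Agent.Aschbacher

open Cfsg Involution Bender
open scoped Pointwise

universe u

section algebra

variable {G : Type u} [Group G] [Finite G]

/-- A subgroup containing a Sylow subgroup of `X` for every prime contains `X`. -/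
theorem le_of_forall_pPart {X C : Subgroup G}
    (h : ∀ p : ℕ, p.Prime → ∃ Q : Subgroup G, Q ≤ X ⊓ C ∧
      Nat.card Q = p ^ (Nat.card X).factorization p) : X ≤ C := by
  have hdvd : Nat.card X ∣ Nat.card ↥(X ⊓ C) := by
    refine (Nat.factorization_le_iff_dvd Nat.card_pos.ne' Nat.card_pos.ne').1 fun p => ?_
    by_cases hp : p.Prime
    · obtain ⟨Q, hQ, hcard⟩ := h p hp
      have h1 := Subgroup.card_dvd_of_le hQ
      rw [hcard] at h1
      exact (hp.pow_dvd_iff_le_factorization Nat.card_pos.ne').1 h1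
    · rw [Nat.factorization_eq_zero_of_not_prime _ hp]
      exact Nat.zero_le _
  exact (Subgroup.eq_of_le_of_card_ge inf_le_left (Nat.le_of_dvd Nat.card_pos hdvd)).ge.trans
    inf_le_right

/-- An odd subgroup normalised by `L` contains an abelian one normalised by `L`. -/
theorem exists_abelian_normal {O L : Subgroup G} (hO : Odd (Nat.card O)) (hO1 : O ≠ ⊥)
    (hLO : L ≤ Subgroup.normalizer (O : Set G)) :
    ∃ N : Subgroup G, N ≤ O ∧ N ≠ ⊥ ∧ L ≤ Subgroup.normalizer (N : Set G) ∧
      ∀ a ∈ N, ∀ b ∈ N, Commute a b := by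
  obtain ⟨N, ⟨hNO, hN1, hNL⟩, hmin⟩ := Set.Finite.exists_minimalFor
    (fun N : Subgroup G => Nat.card N)
    {N | N ≤ O ∧ N ≠ ⊥ ∧ L ≤ Subgroup.normalizer (N : Set G)} (Set.toFinite _) ⟨O, le_rfl, hO1, hLO⟩
  haveI : Group.IsSolvable N :=
    OddOrderTheorem.solvable (hO.of_dvd_nat (Subgroup.card_dvd_of_le hNO))
  haveI : Nontrivial N := (Subgroup.nontrivial_iff_ne_bot N).2 hN1
  have hC0 : (⁅N, N⁆ : Subgroup G) = (commutator ↥N).map N.subtype :=
    N.map_subtype_commutator.symm
  have hlt : (⁅N, N⁆ : Subgroup G) < N := by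
    refine lt_of_le_of_ne (hC0 ▸ Subgroup.map_subtype_le _) fun e => ?_
    refine (Group.IsSolvable.commutator_lt_top_of_nontrivial N).ne ?_
    refine Subgroup.map_injective N.subtype_injective ?_
    rw [← hC0, e, ← MonoidHom.range_eq_map, Subgroup.range_subtype]
  have hn : L ≤ Subgroup.normalizer ((⁅N, N⁆ : Subgroup G) : Set G) := by
    intro n hn
    refine Coprime.mem_normalizer_of_conj_eq ?_
    show (⁅N, N⁆ : Subgroup G).map (MulAut.conj n).toMonoidHom = ⁅N, N⁆
    rw [Subgroup.map_commutator]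
    have := Coprime.conj_eq_of_mem_normalizer (hNL hn)
    exact congrArg₂ (fun K L : Subgroup G => ⁅K, L⁆) this this
  have hbot : (⁅N, N⁆ : Subgroup G) = ⊥ := by
    by_contra hne
    exact absurd (hmin ⟨hlt.le.trans hNO, hne, hn⟩ (Subgroup.card_le_of_le hlt.le))
      (not_le.2 (card_lt_of_lt hlt))
  refine ⟨N, hNO, hN1, hNL, fun a ha b hb => ?_⟩
  exact commutatorElement_eq_one_iff_commute.1
    (Subgroup.mem_bot.1 (hbot ▸ Subgroup.commutator_mem_commutator ha hb))

/-- A nontrivial odd subgroup has a nontrivial normal `r`-subgroup for some prime `r`. -/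
theorem exists_pgroup_normal {V : Subgroup G} (hV : Odd (Nat.card V)) (hV1 : V ≠ ⊥) :
    ∃ (r : ℕ) (_ : Fact r.Prime) (A : Subgroup G), r ≠ 2 ∧ A ≤ V ∧ A ≠ ⊥ ∧ IsPGroup r A ∧
      V ≤ Subgroup.normalizer (A : Set G) := by
  obtain ⟨N, hNV, hN1, hVN, hcomm⟩ := exists_abelian_normal hV hV1 Subgroup.le_normalizer
  have hcard : Nat.card N ≠ 1 := fun e => hN1 (Subgroup.eq_bot_of_card_eq N e)
  obtain ⟨r, hr, hdvd⟩ := Nat.exists_prime_and_dvd hcard
  haveI : Fact r.Prime := ⟨hr⟩
  obtain ⟨⟨g, hgN⟩, hg⟩ := exists_prime_orderOf_dvd_card' (G := N) r hdvd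
  rw [Subgroup.orderOf_mk] at hg
  let A : Subgroup G :=
    { carrier := {x | x ∈ N ∧ x ^ r = 1}
      one_mem' := ⟨N.one_mem, one_pow r⟩
      mul_mem' := fun {a b} ha hb => ⟨N.mul_mem ha.1 hb.1, by
        rw [(hcomm a ha.1 b hb.1).mul_pow, ha.2, hb.2, one_mul]⟩
      inv_mem' := fun {a} ha => ⟨N.inv_mem ha.1, by rw [inv_pow, ha.2, inv_one]⟩ }
  refine ⟨r, inferInstance, A, ?_, fun x hx => hNV hx.1, fun e => ?_, ?_, fun x hx => ?_⟩
  · rintro rfl
    exact Nat.not_even_iff_odd.2 hV
      (even_iff_two_dvd.2 (hdvd.trans (Subgroup.card_dvd_of_le hNV)))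
  · have h1 : g ∈ A := ⟨hgN, hg ▸ pow_orderOf_eq_one g⟩
    rw [e, Subgroup.mem_bot] at h1
    rw [h1, orderOf_one] at hg
    exact hr.ne_one hg.symm
  · exact fun a => ⟨1, Subtype.ext (by rw [pow_one]; exact a.2.2)⟩
  · refine Coprime.mem_normalizer_of_forall fun a ha => ⟨?_, ?_⟩
    · exact (Subgroup.mem_normalizer_iff.1 (hVN hx) a).1 ha.1
    · rw [conj_pow, ha.2, mul_one, mul_inv_cancel]

end algebra

variable {G : Type u} {Ω : Type u} [Group G] [MulAction G Ω]

/-- No member acts non-trivially on an `r`-subgroup fixing its point, `r` dividing the number of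
members at a point. -/
def PointNC (D : Set G) (pt : G → Ω) : Prop :=
  ∀ (r : ℕ) [Fact r.Prime], (∀ z : Ω, r ∣ Nat.card {f : G // f ∈ D ∧ pt f = z}) →
    ∀ t ∈ D, ∀ X : Subgroup G, IsPGroup r X → t ∈ Subgroup.normalizer (X : Set G) →
    X ≤ MulAction.stabilizer G (pt t) → X ≤ Subgroup.centralizer ({t} : Set G)

namespace PointClass

variable [Finite G] [Finite Ω] {D : Set G} {pt : G → Ω} (P : PointClass G Ω D pt)
include P

/-- A member centralises the odd subgroups it normalises fixing its point and one more. -/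
theorem centralizes_of_two_fixed (hNC : PointNC D pt) {t : G} (ht : t ∈ D) {X : Subgroup G}
    (hX : Odd (Nat.card X)) (htX : t ∈ Subgroup.normalizer (X : Set G))
    (hXt : X ≤ MulAction.stabilizer G (pt t)) {x : Ω} (hx : x ≠ pt t)
    (hXx : X ≤ MulAction.stabilizer G x) : X ≤ Subgroup.centralizer ({t} : Set G) := by
  refine le_of_forall_pPart fun p hp => ?_
  haveI : Fact p.Prime := ⟨hp⟩
  obtain ⟨Q, -, hQX, htQ, hQp, hQcard⟩ := exists_sylow_invariant (p := p) (P.inv t ht) htX hX
    (R := ⊥) bot_le IsPGroup.of_bot (by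
      rw [Subgroup.normalizer_eq_top_iff.2 inferInstance]; exact Subgroup.mem_top t)
  refine ⟨Q, le_inf hQX ?_, hQcard⟩
  by_cases hdvd : ∀ z : Ω, p ∣ Nat.card {f : G // f ∈ D ∧ pt f = z}
  · exact hNC p hdvd t ht Q hQp htQ (hQX.trans hXt)
  by_cases hp2 : p = 2
  · subst hp2
    have h0 : (Nat.card X).factorization 2 = 0 :=
      Nat.factorization_eq_zero_of_not_dvd fun h => Nat.not_even_iff_odd.2 hX (even_iff_two_dvd.2 h)
    rw [h0, pow_zero] at hQcard
    rw [Subgroup.eq_bot_of_card_eq Q hQcard]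
    exact bot_le
  have hne : t • x ≠ x := fun e => hx ((P.fixed_iff t ht x).1 e)
  have hQK : Q ≤ twoPt G x (t • x) := le_inf (hQX.trans hXx) (le_stab_smul htQ (hQX.trans hXx))
  obtain ⟨Q', hQQ', hQ'K, htQ', -, hQ'card⟩ :=
    P.exists_sylow_invariant_twoPt hne.symm hp2 ht rfl hQK hQp htQ
  have hC := P.card_inf_centralizer_twoPt hne.symm hp2 ht rfl hQ'K htQ' hQ'card
  have hndvd : ¬ p ∣ Nat.card {f : G // f ∈ D ∧ pt f = t • x} := fun h => hdvd fun z => by
    rw [card_point_eq P z (t • x)]; exact h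
  have hfac : (Nat.card (twoPt G x (t • x))).factorization p =
      (Nat.card ↥(twoPt G x (t • x) ⊓ Subgroup.centralizer ({t} : Set G))).factorization p := by
    rw [card_twoPt_swap P hne.symm ht rfl, Nat.factorization_mul (P.card_point_ne_zero _)
      Nat.card_pos.ne', Finsupp.add_apply, Nat.factorization_eq_zero_of_not_dvd hndvd, zero_add]
  have heq : Q' ⊓ Subgroup.centralizer ({t} : Set G) = Q' :=
    Subgroup.eq_of_le_of_card_ge inf_le_left (by rw [hC, hQ'card, hfac])
  exact hQQ'.trans (inf_eq_left.1 heq)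

/-- A member is determined by its point and its image of another point. -/
theorem eq_of_same_point [FaithfulSMul G Ω] (hNC : PointNC D pt) {d e : G} (hd : d ∈ D)
    (he : e ∈ D) (hpt : pt d = pt e) {x : Ω} (hx : x ≠ pt d) (hsame : d • x = e • x) : d = e := by
  by_contra hne
  have hd2 := mul_self (P.inv d hd)
  have hkd : (d * e) • pt d = pt d := by
    rw [mul_smul, show e • pt d = pt d from hpt ▸ P.smul_pt he, P.smul_pt hd]
  have hkx : (d * e) • x = x := by rw [mul_smul, ← hsame, P.smul_smul_self hd]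
  have hfix : ∀ n : ℕ, (d * e) ^ n ∈ twoPt G (pt d) x := fun n =>
    Subgroup.pow_mem _ (⟨MulAction.mem_stabilizer_iff.2 hkd, MulAction.mem_stabilizer_iff.2 hkx⟩ :
      d * e ∈ twoPt G (pt d) x) n
  have hodd : Odd (orderOf (d * e)) := by
    rw [← Nat.not_even_iff_odd]
    intro hev
    obtain ⟨hD, hc, hne'⟩ := P.exists_partner hd he hev
    have h := P.mul_mem_of_commute hd hD hc hne'.symm hx.symm
    rw [← mul_assoc, hd2, one_mul] at h
    have h1 := (P.fixed_iff _ h _).1 (MulAction.mem_stabilizer_iff.1 (hfix _).1)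
    have h2 := (P.fixed_iff _ h _).1 (MulAction.mem_stabilizer_iff.1 (hfix _).2)
    exact hx (h2.trans h1.symm)
  have hinv : d * (d * e) * d⁻¹ = (d * e)⁻¹ := inverts_mul_left (P.inv d hd) (P.inv e he)
  set X := Subgroup.zpowers (d * e) with hXdef
  have hdX : d ∈ Subgroup.normalizer (X : Set G) := Coprime.mem_normalizer_of_forall fun g hg => by
    obtain ⟨i, rfl⟩ := Subgroup.mem_zpowers_iff.1 hg
    rw [← conj_zpow, hinv]
    exact Subgroup.zpow_mem _ (Subgroup.inv_mem _ (Subgroup.mem_zpowers _)) i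
  have hXodd : Odd (Nat.card X) := by rwa [hXdef, Nat.card_zpowers]
  have hc := P.centralizes_of_two_fixed hNC hd hXodd hdX
    (Subgroup.zpowers_le.2 (MulAction.mem_stabilizer_iff.2 hkd)) hx
    (Subgroup.zpowers_le.2 (MulAction.mem_stabilizer_iff.2 hkx)) (Subgroup.mem_zpowers (d * e))
  have hcd : d * (d * e) = d * e * d := (mem_centralizer.1 hc).symm.eq
  rw [hcd, mul_inv_cancel_right] at hinv
  have h2 : orderOf (d * e) ∣ 2 :=
    orderOf_dvd_of_pow_eq_one (by rw [sq]; exact mul_eq_one_iff_eq_inv.2 hinv)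
  have h1 : d * e = 1 := orderOf_eq_one_iff.1
    (Nat.eq_one_of_dvd_coprimes (Nat.coprime_two_left.2 hodd) h2 dvd_rfl)
  exact hne ((eq_inv_of_mul_eq_one_left h1).trans (inv_eq (P.inv e he)))

end PointClass

end Cfsg.Agent.Aschbacher
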