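/-
The points of the members in a proper subgroup `M` (piece A of the core-free criterion; owner:
helper43).

By induction the group they induce on their points is strongly embedded at a point, so by Bender's
theorem either a member is the only one of `M` at its point, or the point stabiliser has a normal
`2`-subgroup transitive on the other points.

* `normHom` : the action of `N(M)` on the points of the members in `M`
* `exists_kernel_or_unique` : the dichotomy
-/
import Cfsg.Agent.Lib.Aschbacher.PointImage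
import Cfsg.Agent.Lib.Aschbacher.PairMembers
import Cfsg.Agent.Lib.Bender.RankOneHalf
import Cfsg.Agent.Lib.Bender.Consumers

set_option autoImplicit false
set_option linter.style.haveILetI false
set_option linter.unusedSectionVars false

namespace Cfsg.Agent.Aschbacher

open Cfsg Involution Bender Cfsg.Agent.SuzukiRankOne
open scoped Pointwise

universe u

variable {G : Type u} {Ω : Type u} [Group G] [MulAction G Ω]

theorem conj_mem_memSub {D : Set G} (hD : ∀ g : G, ∀ d ∈ D, g * d * g⁻¹ ∈ D) {M : Subgroup G}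
    {h : G} (hh : h ∈ Subgroup.normalizer (M : Set G)) {k : G} (hk : k ∈ memSub D M) :
    h * k * h⁻¹ ∈ memSub D M := by
  unfold memSub at hk ⊢
  induction hk using Subgroup.closure_induction with
  | mem d hd =>
    exact Subgroup.subset_closure ⟨hD h d hd.1, (Subgroup.mem_normalizer_iff.1 hh d).1 hd.2⟩
  | one => simp
  | mul a b _ _ ha hb => have := mul_mem ha hb; rwa [conj_mul] at this
  | inv a _ ha => have := inv_mem ha; rwa [conj_inv] at this

namespace PointClass

variable [Finite G] [Finite Ω] [FaithfulSMul G Ω] {D : Set G} {pt : G → Ω}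
  (P : PointClass G Ω D pt) {M : Subgroup G}
include P

theorem smul_mem_ptSet_normalizer {g : G} (hg : g ∈ Subgroup.normalizer (M : Set G)) {p : Ω}
    (hp : ∃ d ∈ D, d ∈ M ∧ pt d = p) : ∃ d ∈ D, d ∈ M ∧ pt d = g • p := by
  obtain ⟨d, hd, hdM, rfl⟩ := hp
  exact ⟨g * d * g⁻¹, P.conj_mem g d hd, (Subgroup.mem_normalizer_iff.1 hg d).1 hdM, P.pt_conj g hd⟩

/-- The action of the normaliser of `M` on the points of the members in `M`. -/
def normHom (M : Subgroup G) :
    ↥(Subgroup.normalizer (M : Set G)) →* Equiv.Perm (PtSet D pt M) where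
  toFun g :=
    { toFun := fun p => ⟨(g : G) • p.1, P.smul_mem_ptSet_normalizer g.2 p.2⟩
      invFun := fun p => ⟨(g : G)⁻¹ • p.1, P.smul_mem_ptSet_normalizer (inv_mem g.2) p.2⟩
      left_inv := fun p => Subtype.ext (inv_smul_smul _ _)
      right_inv := fun p => Subtype.ext (smul_inv_smul _ _) }
  map_one' := Equiv.ext fun p => Subtype.ext (one_smul _ _)
  map_mul' g h := Equiv.ext fun p => Subtype.ext (mul_smul (g : G) (h : G) p.1)

theorem normHom_apply (g : ↥(Subgroup.normalizer (M : Set G))) (p : PtSet D pt M) :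
    ((P.normHom M g p : PtSet D pt M) : Ω) = (g : G) • p.1 := rfl

theorem smul_points_ne {d : G} (hd : d ∈ D) {y : Ω} (hy : y ≠ pt d) : d • y ≠ y := fun e =>
  hy ((P.fixed_iff d hd y).1 e)

/-- Either a member is alone in `M` at its point, or a normal `2`-group of the stabiliser of the
point is transitive on the other points. -/
theorem exists_kernel_or_unique (hIH : PointCriterionBelow.{u} (Nat.card G)) (hNC : PointNC D pt)
    (hM : M ≠ ⊤) {p : Ω} {d w : G} (hd : d ∈ D) (hdM : d ∈ M) (hdp : pt d = p) (hw : w ∈ D)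
    (hwM : w ∈ M) (hwp : pt w ≠ p) :
    (∀ e ∈ D, e ∈ M → pt e = p → e = d) ∨
    ∃ Q : Subgroup (Equiv.Perm (PtSet D pt M)), IsPGroup 2 Q ∧
      (∀ σ ∈ Q, ∃ g : ↥(Subgroup.normalizer (M : Set G)),
        (g : G) ∈ memSub D M ∧ (g : G) • p = p ∧ P.normHom M g = σ) ∧
      (∀ q r : PtSet D pt M, q.1 ≠ p → r.1 ≠ p → ∃ σ ∈ Q, σ q = r) ∧
      (∀ h : ↥(Subgroup.normalizer (M : Set G)), (h : G) • p = p →
        P.normHom M h ∈ Subgroup.normalizer (Q : Set (Equiv.Perm (PtSet D pt M)))) := by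
  classical
  obtain ⟨R, f, hfs, hsmul, hf2, -, htrans, hSE, hcore⟩ :=
    P.exists_image hIH hM hd hdM hdp hw hwM hwp
  set x' : PtSet D pt M := ⟨p, d, hd, hdM, hdp⟩
  set y' : PtSet D pt M := ⟨pt w, w, hw, hwM, rfl⟩
  set Hb := MulAction.stabilizer R x' with hHb
  have hKN : memSub D M ≤ Subgroup.normalizer (M : Set G) :=
    (memSub_le D M).trans Subgroup.le_normalizer
  have hval : ∀ g : memSub D M, ((f g : R) : Equiv.Perm (PtSet D pt M)) =
      P.normHom M ⟨g, hKN g.2⟩ := fun g => Equiv.ext fun q => Subtype.ext (hsmul g q)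
  let d' : memSub D M := ⟨d, Subgroup.subset_closure ⟨hd, hdM⟩⟩
  have hd' : ∀ q : PtSet D pt M, f d' • q = q → q = x' := fun q hq => Subtype.ext (by
    have h := congrArg Subtype.val hq
    rw [hsmul] at h
    exact ((P.fixed_iff d hd _).1 h).trans hdp)
  by_cases h2 : TwoInvolutions R
  · refine Or.inr ?_
    obtain ⟨t, Q₀, h⟩ := rankOneHalf R Hb hSE hcore h2
    haveI := faithful_of_normalCore hcore
    obtain ⟨hQ2, -, hrel⟩ := sylow_normal h h2
    have hst : MulAction.stabilizer R ((1 : R) : R ⧸ Hb) = Hb := MulAction.stabilizer_quotient _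
    have hQH : Q₀ ≤ Hb := hst ▸ h.le
    haveI hn : (Q₀.subgroupOf Hb).Normal := ⟨fun n hn g => Subgroup.mem_subgroupOf.2
      (h.conj_mem g (hst.ge g.2) n (Subgroup.mem_subgroupOf.1 hn))⟩
    rw [hst] at hrel
    have htwo : ∀ σ ∈ Hb, (∃ k : ℕ, σ ^ 2 ^ k = 1) → σ ∈ Q₀ := by
      rintro σ hσ ⟨k, hk⟩
      set i := (Q₀.subgroupOf Hb).index
      have h1 : (⟨σ, hσ⟩ : Hb) ^ i ∈ Q₀.subgroupOf Hb := Subgroup.pow_index_mem _ _
      have h3 : (⟨σ, hσ⟩ : Hb) ^ 2 ^ k = 1 := Subtype.ext (by simpa using hk)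
      have hcop : i.Coprime (2 ^ k) := (Nat.coprime_two_right.2 hrel).pow_right k
      have h4 : (⟨σ, hσ⟩ : Hb) ∈ Q₀.subgroupOf Hb := by
        have h5 : (⟨σ, hσ⟩ : Hb) ^ ((i.gcd (2 ^ k) : ℕ) : ℤ) ∈ Q₀.subgroupOf Hb := by
          rw [Nat.gcd_eq_gcd_ab, zpow_add, zpow_mul, zpow_mul, zpow_natCast, zpow_natCast, h3,
            one_zpow, mul_one]
          exact Subgroup.zpow_mem _ h1 _
        rwa [hcop, Nat.cast_one, zpow_one] at h5
      exact h4
    refine ⟨Q₀.map R.subtype, hQ2.map _, ?_, ?_, ?_⟩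
    · rintro _ ⟨σ, hσ, rfl⟩
      obtain ⟨g, rfl⟩ := hfs σ
      refine ⟨⟨g, hKN g.2⟩, g.2, ?_, (hval g).symm⟩
      have := congrArg Subtype.val (MulAction.mem_stabilizer_iff.1 (hQH hσ))
      rwa [hsmul] at this
    · intro q r hq hr
      obtain ⟨g₁, hg₁⟩ := htrans x' q
      obtain ⟨g₂, hg₂⟩ := htrans x' r
      have hne : ∀ (g : R) (s : PtSet D pt M), g • x' = s → s.1 ≠ p →
          (g : R ⧸ Hb) ≠ ((1 : R) : R ⧸ Hb) := fun g s hgs hs e => hs (by
        have hg : g ∈ Hb := by
          have := QuotientGroup.eq.1 e.symm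
          rwa [inv_one, one_mul] at this
        rw [← hgs, MulAction.mem_stabilizer_iff.1 hg])
      obtain ⟨⟨σ, hσ⟩, hσe, -⟩ := RankOne.Setup.regular h (hne g₁ q hg₁ hq) (hne g₂ r hg₂ hr)
      refine ⟨R.subtype σ, ⟨σ, hσ, rfl⟩, ?_⟩
      have hσe' : σ • (g₁ : R ⧸ Hb) = (g₂ : R ⧸ Hb) := hσe
      rw [MulAction.Quotient.smul_mk, smul_eq_mul] at hσe'
      have hmem := MulAction.mem_stabilizer_iff.1 (QuotientGroup.eq.1 hσe')
      rw [mul_smul, inv_smul_eq_iff, hg₂, mul_smul, hg₁] at hmem
      exact hmem.symm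
    · intro h' hh'
      refine Coprime.mem_normalizer_of_forall ?_
      rintro _ ⟨σ, hσ, rfl⟩
      obtain ⟨g, rfl⟩ := hfs σ
      let g' : memSub D M := ⟨h' * g * (h' : G)⁻¹, conj_mem_memSub P.conj_mem h'.2 g.2⟩
      have heq : R.subtype (f g') =
          P.normHom M h' * R.subtype (f g) * (P.normHom M h')⁻¹ := by
        simp only [Subgroup.coe_subtype]
        rw [hval, hval, ← map_inv, ← map_mul, ← map_mul]
        rfl
      refine ⟨f g', htwo _ ?_ ?_, heq⟩
      · refine MulAction.mem_stabilizer_iff.2 (Subtype.ext ?_)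
        rw [hsmul]
        show ((h' : G) * g * (h' : G)⁻¹) • p = p
        have hgp := congrArg Subtype.val (MulAction.mem_stabilizer_iff.1 (hQH hσ))
        rw [hsmul] at hgp
        rw [mul_smul, mul_smul, inv_smul_eq_iff.2 hh'.symm, show (g : G) • p = p from hgp, hh']
      · obtain ⟨k, hk⟩ := hQ2 ⟨f g, hσ⟩
        refine ⟨k, Subtype.ext ?_⟩
        have hk' : ((f g : R) : Equiv.Perm (PtSet D pt M)) ^ 2 ^ k = 1 :=
          congrArg (fun s : Q₀ => ((s : R) : Equiv.Perm (PtSet D pt M))) hk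
        rw [SubgroupClass.coe_pow, OneMemClass.coe_one]
        show (R.subtype (f g')) ^ 2 ^ k = 1
        rw [heq, conj_pow]
        rw [Subgroup.coe_subtype]
        rw [hk', mul_one, mul_inv_cancel]
  · refine Or.inl fun e he heM hep => by_contra fun hne => ?_
    haveI : Fact (Nat.Prime 2) := ⟨Nat.prime_two⟩
    have hdx : d • p = p := by rw [← hdp]; exact P.smul_pt hd
    set z := pt w with hz
    have hzd : z ≠ pt d := by rw [hdp]; exact hwp
    let e' : memSub D M := ⟨e, Subgroup.subset_closure ⟨he, heM⟩⟩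
    have hodd : Odd (orderOf (d * e)) := by
      rw [← Nat.not_even_iff_odd]
      intro hev
      obtain ⟨hD, hc, hne'⟩ := P.exists_partner hd he hev
      set g := d * (d * e) ^ (orderOf (d * e) / 2)
      let g' : memSub D M :=
        ⟨g, Subgroup.subset_closure ⟨hD, M.mul_mem hdM (M.pow_mem (M.mul_mem hdM heM) _)⟩⟩
      refine h2 ⟨f d', f g', ne_one (hf2 d' hd), ne_one (hf2 g' hD), fun e1 => hne' ?_,
        mul_self (hf2 d' hd), mul_self (hf2 g' hD),
        by rw [← map_mul, ← map_mul, show d' * g' = g' * d' from Subtype.ext hc.eq]⟩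
      have hv := congrArg (fun σ : R => ((σ • y' : PtSet D pt M) : Ω)) e1
      simp only [hsmul] at hv
      exact (P.eq_of_same_point hNC hd hD (P.pt_eq_of_commute hd hD hc) hzd hv).symm
    set t := f d' with ht
    have ht2 := hf2 d' hd
    obtain ⟨htop, -⟩ := isolated_case h2 t ht2
    set O := Cfsg.pPrimeCore 2 R with hOdef
    haveI : O.Normal := Cores.pPrimeCore_normal 2 R
    have hO1 : O ≠ ⊥ := fun e1 => hwp (by
      rw [e1, bot_sup_eq] at htop
      obtain ⟨σ, hσ⟩ := htrans x' y'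
      have hc : Commute σ t := mem_centralizer.1 (htop ▸ Subgroup.mem_top σ)
      have hfix : t • y' = y' := by
        rw [← hσ, ← mul_smul, ← hc.eq, mul_smul]
        congr 1
        exact Subtype.ext (by rw [hsmul]; exact hdx)
      exact congrArg Subtype.val (hd' y' hfix))
    obtain ⟨N, -, hN1, hNn, hNc⟩ := exists_abelian_normal (L := (⊤ : Subgroup R))
      (Nat.coprime_two_right.1 (Cores.coprime_card_pPrimeCore (G := R) 2)) hO1
      (by rw [Subgroup.normalizer_eq_top_iff.2 inferInstance])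
    have hconj : ∀ (g : R) {n : R}, n ∈ N → g * n * g⁻¹ ∈ N := fun g n hn =>
      (Subgroup.mem_normalizer_iff.1 (hNn (Subgroup.mem_top g)) n).1 hn
    obtain ⟨n, hn, hnx⟩ : ∃ n ∈ N, n • x' ≠ x' := by
      by_contra! hcon
      refine hN1 ((Subgroup.eq_bot_iff_forall _).2 fun n hn => ?_)
      refine Subtype.ext (Equiv.ext fun q => ?_)
      obtain ⟨σ, hσ⟩ := htrans x' q
      have h1 := hcon _ (hconj σ⁻¹ hn)
      rw [inv_inv, mul_smul, mul_smul, hσ, inv_smul_eq_iff, hσ] at h1
      exact h1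
    have htt : t * t = 1 := mul_self ht2
    have hkey : ∀ m ∈ N, (t * m * t⁻¹) • x' = m⁻¹ • x' := by
      intro m hm
      set m' := t * m * t⁻¹ with hm'
      have hc : t * (m * m') * t⁻¹ = m * m' := by
        rw [← conj_mul, ← hm', show t * m' * t⁻¹ = m by
          rw [hm', show t * (t * m * t⁻¹) * t⁻¹ = (t * t) * m * (t * t)⁻¹ by group, htt]; group]
        exact (hNc _ hm _ (hconj t hm)).eq.symm
      have hfix : t • (m * m') • x' = (m * m') • x' := by
        have htx : t • x' = x' := Subtype.ext (by rw [hsmul]; exact hdx)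
        rw [← mul_smul, mul_inv_eq_iff_eq_mul.1 hc, mul_smul, htx]
      have := hd' _ hfix
      rw [mul_smul] at this
      exact eq_inv_smul_iff.2 this
    set k := f (d' * e') with hk
    have hkx : k • x' = x' := Subtype.ext (by
      rw [hsmul]
      show (d * e) • p = p
      rw [mul_smul, show e • p = p from hep ▸ P.smul_pt he, hdx])
    have hktk : t * k * t⁻¹ = k⁻¹ := by
      have : d' * (d' * e') * d'⁻¹ = (d' * e')⁻¹ :=
        Subtype.ext (inverts_mul_left (P.inv d hd) (P.inv e he))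
      calc t * k * t⁻¹ = f (d' * (d' * e') * d'⁻¹) := by
            simp only [hk, ht, map_mul, map_inv]
        _ = k⁻¹ := by rw [this, map_inv, hk]
    have hkx' : k⁻¹ • x' = x' := inv_smul_eq_iff.2 hkx.symm
    set n' := k * n * k⁻¹ with hn'
    have h1 := hkey n' (hconj k hn)
    have e1 : t * n' * t⁻¹ = k⁻¹ * (t * n * t⁻¹) * k := by
      calc t * n' * t⁻¹ = (t * k * t⁻¹) * (t * n * t⁻¹) * (t * k * t⁻¹)⁻¹ := by rw [hn']; group
        _ = _ := by rw [hktk, inv_inv]
    rw [e1, mul_smul, mul_smul, hkx, hkey n hn] at h1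
    rw [hn', show (k * n * k⁻¹)⁻¹ = k * n⁻¹ * k⁻¹ by group, mul_smul, mul_smul, hkx'] at h1
    set q := n⁻¹ • x' with hq
    have hq2 : (k * k) • q = q := by
      rw [mul_smul, ← h1, smul_inv_smul]
    obtain ⟨l, hl⟩ := hodd
    have hk1 : k ^ orderOf (d * e) = 1 := by
      rw [hk, ← map_pow, show (d' * e') ^ orderOf (d * e) = 1 from
        Subtype.ext (by rw [SubgroupClass.coe_pow]; exact pow_orderOf_eq_one (d * e)), map_one]
    have hkk : k = (k * k) ^ (l + 1) := by
      rw [← pow_two, ← pow_mul, show 2 * (l + 1) = orderOf (d * e) + 1 by omega, pow_succ, hk1,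
        one_mul]
    have hkq : k • q = q := by
      rw [hkk]
      exact MulAction.mem_stabilizer_iff.1
        (Subgroup.pow_mem _ (MulAction.mem_stabilizer_iff.2 hq2) _)
    have hqp : q.1 ≠ pt d := fun e2 => hnx (by
      have : q = x' := Subtype.ext (e2.trans hdp)
      rw [hq, inv_smul_eq_iff] at this
      exact this.symm)
    refine hne (P.eq_of_same_point hNC hd he (hdp.trans hep.symm) hqp ?_).symm
    have h3 := congrArg Subtype.val hkq
    rw [hsmul] at h3
    have h4 : (d * e) • q.1 = q.1 := h3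
    rw [mul_smul] at h4
    conv_lhs => rw [← h4]
    rw [P.smul_smul_self hd]

end PointClass

end Cfsg.Agent.Aschbacher
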