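/-
A swapper centralising the centraliser of a member in the odd core of the pair (piece A of the
core-free criterion; owner: helper43).

Among the odd subgroups of `C(v)` fixing the point `a` of `v` and another point take `V` largest,
`A` a normal `r`-subgroup of it.  If a member of `C(A)` moves `a`, Bender's theorem on the points of
the members in `C(A)` gives a swapper of some `a, a'` centralising `V`, and maximality puts
`O_aa' ∩ C(v)` into `V`.  If none does, a central element of an invariant Sylow subgroup over `A` of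
a pair `b, v • b` gives one.

* `exists_fixed_point_in`, `exists_swapper_in` : in a proper subgroup
* `exists_swapper_hcent` : the hypothesis of `commute_trans_of_reflection`
-/
import Cfsg.Agent.Lib.Aschbacher.PairKernel
import Cfsg.Agent.Lib.Bender.SwapCentral

set_option autoImplicit false
set_option linter.style.haveILetI false
set_option linter.unusedSectionVars false

namespace Cfsg.Agent.Aschbacher.PointClass

open Cfsg Involution Bender
open scoped Pointwise

universe u

variable {G : Type u} {Ω : Type u} [Group G] [MulAction G Ω] [Finite G] [Finite Ω]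
  [FaithfulSMul G Ω] {D : Set G} {pt : G → Ω} (P : PointClass G Ω D pt)
  (hIH : PointCriterionBelow.{u} (Nat.card G)) (hNC : PointNC D pt)
  {M : Subgroup G} (hM : M ≠ ⊤) {v w : G} (hv : v ∈ D) (hvM : v ∈ M) (hw : w ∈ D) (hwM : w ∈ M)
  (hwv : pt w ≠ pt v) {V : Subgroup G} (hV : Odd (Nat.card V))
  (hVM : V ≤ Subgroup.normalizer (M : Set G)) (hVv : V ≤ Subgroup.centralizer ({v} : Set G))

include P in
theorem le_stab_of_centralizes {V : Subgroup G} {v : G} (hv : v ∈ D)
    (hVv : V ≤ Subgroup.centralizer ({v} : Set G)) : V ≤ MulAction.stabilizer G (pt v) :=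
  fun _ hx => MulAction.mem_stabilizer_iff.2 (P.commute_fix hv (mem_centralizer.1 (hVv hx)))

include P hIH hNC hM hv hvM hw hwM hwv hV hVM hVv in
/-- A group centralising `v` fixes the point of a further member in `M`, if `v` has a fellow. -/
theorem exists_fixed_point_in {v₁ : G} (hv₁ : v₁ ∈ D) (hv₁M : v₁ ∈ M) (hv₁p : pt v₁ = pt v)
    (hv₁v : v₁ ≠ v) :
    ∃ d ∈ D, d ∈ M ∧ pt d ≠ pt v ∧ V ≤ MulAction.stabilizer G (pt d) := by
  rcases P.exists_kernel_or_unique hIH hNC hM hv hvM rfl hw hwM hwv with h | ⟨Q, hQ, hQg, htr, hn⟩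
  · exact absurd (h v₁ hv₁ hv₁M hv₁p) hv₁v
  set W := (V.subgroupOf (Subgroup.normalizer (M : Set G))).map (P.normHom M) with hW
  have hWodd : Odd (Nat.card W) := hV.of_dvd_nat
    ((Subgroup.card_map_dvd _ _).trans (Cores.card_subgroupOf hVM).dvd)
  have hVa := P.le_stab_of_centralizes hv hVv
  obtain ⟨k, hk⟩ := IsPGroup.iff_card.1 hQ
  haveI : Group.IsSolvable W := OddOrderTheorem.solvable hWodd
  obtain ⟨z, hz, hfix⟩ := Coprime.exists_fixed_point (A := W) (K := Q)
    (by
      rintro _ ⟨x, hx, rfl⟩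
      exact hn x (MulAction.mem_stabilizer_iff.1 (hVa hx)))
    (by rw [hk]; exact (Nat.coprime_two_right.2 hWodd).pow_right k) (Or.inl inferInstance)
    {q : PtSet D pt M | q.1 ≠ pt v} ⟨⟨pt w, w, hw, hwM, rfl⟩, hwv⟩
    (by
      rintro _ ⟨x, hx, rfl⟩ q hq e
      refine hq (MulAction.injective (x : G) ?_)
      show (x : G) • q.1 = (x : G) • pt v
      exact e.trans (MulAction.mem_stabilizer_iff.1 (hVa hx)).symm)
    (by
      intro σ hσ q hq e
      obtain ⟨g, -, hg, rfl⟩ := hQg σ hσ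
      refine hq (MulAction.injective (g : G) ?_)
      show (g : G) • q.1 = (g : G) • pt v
      rw [hg]
      exact e)
    (fun q hq r hr => (htr q r hq hr).imp fun σ h => ⟨h.1, h.2⟩)
  obtain ⟨d, hd, hdM, hdz⟩ := z.2
  refine ⟨d, hd, hdM, hdz ▸ hz, fun x hx => MulAction.mem_stabilizer_iff.2 ?_⟩
  have h := congrArg Subtype.val (hfix _ ⟨⟨x, hVM hx⟩, hx, rfl⟩)
  rw [hdz]
  exact h

include P hIH hNC hM hv hvM hw hwM hwv hV hVM hVv in
/-- A pair `pt v, a'` of points of members in `M` fixed by `V` is exchanged in `M` centralising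
`V`. -/
theorem exists_swapper_in {d : G} (hd : d ∈ D) (hdM : d ∈ M) (hdv : pt d ≠ pt v)
    (hVd : V ≤ MulAction.stabilizer G (pt d)) :
    ∃ t ∈ D, t ∈ M ∧ t • pt v = pt d ∧ V ≤ Subgroup.centralizer ({t} : Set G) := by
  set a := pt v with ha
  set a' := pt d with ha'
  have hVa := P.le_stab_of_centralizes hv hVv
  rcases P.exists_kernel_or_unique hIH hNC hM hd hdM rfl hv hvM hdv.symm with
    h | ⟨Q, hQ, hQg, htr, hn⟩
  · -- a single member at `a'`
    obtain ⟨t, ht, htM, hte, htp⟩ := exists_mid_in P (K := M) hv hd hvM hdM hdv.symm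
    refine ⟨t, ht, htM, htp, fun x hx => mem_centralizer.2 ?_⟩
    have hxv : x * v * x⁻¹ = v := mul_inv_eq_iff_eq_mul.2 (mem_centralizer.1 (hVv hx)).eq
    have hxd : x * d * x⁻¹ = d := h _ (P.conj_mem x d hd)
      ((Subgroup.mem_normalizer_iff.1 (hVM hx) d).1 hdM)
      (by rw [P.pt_conj x hd]; exact MulAction.mem_stabilizer_iff.1 (hVd hx))
    have h1 : x * t * x⁻¹ = t := (P.mid_unique hv ht (P.conj_mem x t ht)
      (by rw [htp]; exact hdv) (by
        rw [hte]
        calc d = x * (t * v * t⁻¹) * x⁻¹ := by rw [hte, hxd]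
          _ = x * t * x⁻¹ * (x * v * x⁻¹) * (x * t * x⁻¹)⁻¹ := by group
          _ = x * t * x⁻¹ * v * (x * t * x⁻¹)⁻¹ := by rw [hxv])).symm
    exact mul_inv_eq_iff_eq_mul.1 h1
  -- the kernel at `a'`
  set a'' := v • a' with ha''
  have hne'' : a'' ≠ a' := P.smul_points_ne hv hdv
  set W := (V.subgroupOf (Subgroup.normalizer (M : Set G))).map (P.normHom M) with hW
  have hWodd : Odd (Nat.card W) := hV.of_dvd_nat
    ((Subgroup.card_map_dvd _ _).trans (Cores.card_subgroupOf hVM).dvd)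
  have hVa'' : ∀ x ∈ V, x • a'' = a'' := fun x hx => by
    rw [ha'', ← mul_smul, (mem_centralizer.1 (hVv hx)).eq, mul_smul,
      MulAction.mem_stabilizer_iff.1 (hVd hx)]
  let q₂ : PtSet D pt M := ⟨a'', P.smul_mem_ptSet hvM ⟨d, hd, hdM, rfl⟩⟩
  let q₁ : PtSet D pt M := ⟨a, v, hv, hvM, rfl⟩
  obtain ⟨σ, hσQ, hσ⟩ := htr q₂ q₁ hne'' hdv.symm
  obtain ⟨k, hk⟩ := IsPGroup.iff_card.1 hQ
  haveI : Group.IsSolvable W := OddOrderTheorem.solvable hWodd
  obtain ⟨c, ⟨hcQ, hcW⟩, hc⟩ := Coprime.exists_mem_centralizer_smul_eq (A := W) (K := Q)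
    (by
      rintro _ ⟨x, hx, rfl⟩
      exact hn x (MulAction.mem_stabilizer_iff.1 (hVd hx)))
    (by rw [hk]; exact (Nat.coprime_two_right.2 hWodd).pow_right k) (Or.inl inferInstance)
    (x := q₂) hσQ
    (by rintro _ ⟨x, hx, rfl⟩; exact Subtype.ext (hVa'' _ hx))
    (by
      rintro _ ⟨x, hx, rfl⟩
      rw [show σ • q₂ = q₁ from hσ]
      exact Subtype.ext (MulAction.mem_stabilizer_iff.1 (hVa hx)))
  obtain ⟨g, hgK, hga', rfl⟩ := hQg c hcQ
  have hga : (g : G) • a'' = a := congrArg Subtype.val (hc.trans hσ)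
  set t := (g : G) * v * (g : G)⁻¹ with ht
  have htD : t ∈ D := P.conj_mem g v hv
  have hta' : t • a' = a := by
    rw [ht, mul_smul, mul_smul, inv_smul_eq_iff.2 hga'.symm, ← ha'', hga]
  have htp : pt t = (g : G) • a := P.pt_conj g hv
  have hgM : (g : G) ∈ M := memSub_le D M hgK
  refine ⟨t, htD, M.mul_mem (M.mul_mem hgM hvM) (M.inv_mem hgM),
    by rw [← hta', P.smul_smul_self htD], fun x hx => mem_centralizer.2 ?_⟩
  have hxa : x • a = a := MulAction.mem_stabilizer_iff.1 (hVa hx)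
  have hxa' : x • a' = a' := MulAction.mem_stabilizer_iff.1 (hVd hx)
  have hxga : x • (g : G) • a = (g : G) • a := by
    have h := congrArg (fun π : Equiv.Perm (PtSet D pt M) => (π q₁ : PtSet D pt M).1)
      (Subgroup.mem_centralizer_iff.1 hcW (P.normHom M ⟨x, hVM hx⟩) ⟨⟨x, hVM hx⟩, hx, rfl⟩)
    have h' : x • (g : G) • a = (g : G) • x • a := h
    rwa [hxa] at h'
  have hne : a' ≠ pt t := fun e => hdv (by
    rw [← hta']
    nth_rw 2 [e]
    rw [P.smul_pt htD, e])
  have hsame : (x * t * x⁻¹) • a' = t • a' := by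
    rw [mul_smul, mul_smul, inv_smul_eq_iff.2 hxa'.symm, hta', hxa]
  have := P.eq_of_same_point hNC (P.conj_mem x t htD) htD
    (by rw [P.pt_conj x htD, htp, hxga]) (x := a')
    (by rw [P.pt_conj x htD, htp, hxga, ← htp]; exact hne) hsame
  exact mul_inv_eq_iff_eq_mul.1 this

include P in
/-- An `r`-group fixing a pair centralises a swapper unless `r` divides their number. -/
theorem exists_centralizing_swap {r : ℕ} [Fact r.Prime] {X : Subgroup G} (hX : IsPGroup r X)
    {x y : Ω} (hxy : x ≠ y) (hXx : X ≤ MulAction.stabilizer G x)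
    (hXy : X ≤ MulAction.stabilizer G y)
    (hr : ¬ r ∣ Nat.card {f : G // f ∈ D ∧ pt f = y}) :
    ∃ t ∈ D, t • x = y ∧ X ≤ Subgroup.centralizer ({t} : Set G) := by
  by_contra! hcon
  refine hr ?_
  rw [← P.card_swap hxy]
  exact dvd_card_of_conj_free hX (s := {t | t ∈ D ∧ t • x = y})
    (fun k hk t ht => ⟨P.conj_mem k t ht.1, smul_swap_conj P ht.2
      (MulAction.mem_stabilizer_iff.1 (hXx hk)) (MulAction.mem_stabilizer_iff.1 (hXy hk))⟩)
    fun t ht => hcon t ht.1 ht.2

include P in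
/-- If `r` divides the number of members at a point, an `r`-group centralising one centralises a
second one at the same point. -/
theorem exists_fellow {r : ℕ} [Fact r.Prime] {X : Subgroup G} (hX : IsPGroup r X) {v : G}
    (hv : v ∈ D) (hXv : X ≤ Subgroup.centralizer ({v} : Set G))
    (hr : r ∣ Nat.card {f : G // f ∈ D ∧ pt f = pt v}) :
    ∃ e ∈ D, pt e = pt v ∧ e ≠ v ∧ X ≤ Subgroup.centralizer ({e} : Set G) := by
  by_contra! hcon
  set S : Set G := {f | f ∈ D ∧ pt f = pt v} with hS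
  have h1 : r ∣ Nat.card ↑(S \ {v}) := by
    refine dvd_card_of_conj_free hX (fun k hk e he => ⟨⟨P.conj_mem k e he.1.1, ?_⟩, fun h => he.2 ?_⟩)
      fun e he => hcon e he.1.1 he.1.2 he.2
    · rw [P.pt_conj k he.1.1, he.1.2]
      exact MulAction.mem_stabilizer_iff.1 (P.le_stab_of_centralizes hv hXv hk)
    · have h' : k * e * k⁻¹ = k * v * k⁻¹ := by
        rw [(mul_inv_eq_iff_eq_mul.2 (mem_centralizer.1 (hXv hk)).eq : k * v * k⁻¹ = v)]
        exact h
      exact mul_left_cancel (mul_right_cancel h')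
  have hvS : v ∈ S := ⟨hv, rfl⟩
  have h2 : r ∣ S.ncard := by rwa [← Nat.card_coe_set_eq]
  rw [Nat.card_coe_set_eq] at h1
  rw [← Set.ncard_sdiff_singleton_add_one hvS, Nat.dvd_add_right h1] at h2
  exact (Fact.out : r.Prime).ne_one (Nat.dvd_one.1 h2)

include P in
/-- The centraliser of a nontrivial subgroup fixing a point is proper. -/
theorem centralizer_ne_top {Y : Subgroup G} (hY : Y ≠ ⊥) {a : Ω}
    (hYa : Y ≤ MulAction.stabilizer G a) : Subgroup.centralizer (Y : Set G) ≠ ⊤ := fun e => hY (by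
  refine (Subgroup.eq_bot_iff_forall _).2 fun y hy => eq_of_smul_eq_smul fun q : Ω => ?_
  obtain ⟨g, rfl⟩ := P.exists_smul_eq a q
  have hc : y * g = g * y := Subgroup.mem_centralizer_iff.1 (e ▸ Subgroup.mem_top g) y hy
  rw [one_smul, ← mul_smul, hc, mul_smul, MulAction.mem_stabilizer_iff.1 (hYa hy)])

include P hIH hNC in
/-- An `r`-group centralised by `v` and fixing a second point centralises a member moving `pt v`. -/
theorem exists_moving_member {r : ℕ} [Fact r.Prime] (hr2 : r ≠ 2) {A : Subgroup G} {v : G} (hv : v ∈ D)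
    (hA : IsPGroup r A) (hA1 : A ≠ ⊥) (hAv : A ≤ Subgroup.centralizer ({v} : Set G)) {b : Ω}
    (hb : b ≠ pt v) (hAb : A ≤ MulAction.stabilizer G b) :
    ∃ w ∈ D, pt w ≠ pt v ∧ A ≤ Subgroup.centralizer ({w} : Set G) := by
  by_contra! hcon
  set a := pt v with ha
  have hAa := P.le_stab_of_centralizes hv hAv
  -- `r` divides the number of members
  have hr : ∀ z, r ∣ Nat.card {f : G // f ∈ D ∧ pt f = z} := by
    by_contra hnot
    obtain ⟨t, ht, hta, htA⟩ := P.exists_centralizing_swap hA hb.symm hAa hAb fun h =>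
      hnot fun z => by rw [card_point_eq P z b]; exact h
    exact hcon t ht (fun e => hb (by rw [← hta, ← e, P.smul_pt ht])) htA
  have hvA : v ∈ Subgroup.normalizer (A : Set G) := Coprime.mem_normalizer_of_forall fun x hx => by
    rwa [(mem_centralizer.1 (hAv hx)).symm.eq, mul_inv_cancel_right]
  have hne : v • b ≠ b := P.smul_points_ne hv hb
  have hAK : A ≤ twoPt G b (v • b) := le_inf hAb (le_stab_smul hvA hAb)
  obtain ⟨Q, hAQ, hQK, hvQ, hQp, hQcard⟩ :=
    P.exists_sylow_invariant_twoPt hne.symm hr2 hv rfl hAK hA hvA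
  -- `C_Q(A)` fixes `a`, so `v` centralises it
  set C := Q ⊓ Subgroup.centralizer (A : Set G) with hC
  have hCa : C ≤ MulAction.stabilizer G a := fun x hx => MulAction.mem_stabilizer_iff.2 (by
    by_contra hmv
    refine hcon _ (P.conj_mem x v hv) (by rw [P.pt_conj x hv]; exact hmv) fun y hy =>
      mem_centralizer.2 ?_
    have h1 : y * x = x * y := Subgroup.mem_centralizer_iff.1 hx.2 y hy
    have h2 : Commute y v := mem_centralizer.1 (hAv hy)
    exact ((show Commute y x from h1).mul_right h2).mul_right (show Commute y x from h1).inv_right)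
  have hvC : v ∈ Subgroup.normalizer (C : Set G) := Coprime.mem_normalizer_of_forall fun x hx => by
    refine ⟨(Subgroup.mem_normalizer_iff.1 hvQ x).1 hx.1, Subgroup.mem_centralizer_iff.2 fun y hy => ?_⟩
    have h1 : Commute y v := mem_centralizer.1 (hAv hy)
    exact (h1.mul_right (show Commute y x from Subgroup.mem_centralizer_iff.1 hx.2 y hy)).mul_right
      h1.inv_right
  have hCv := hNC r hr v hv C (hQp.to_le inf_le_left) hvC hCa
  -- a central element
  have hQ1 : Q ≠ ⊥ := fun e => hA1 (le_bot_iff.1 (e ▸ hAQ))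
  obtain ⟨h, ⟨hhQ, hhZ⟩, hh1, hhp⟩ := PLocal.exists_central_of_order_p hQp hQ1
  have hhC : h ∈ C := ⟨hhQ, Subgroup.centralizer_le hAQ hhZ⟩
  obtain ⟨q, hq, hqa⟩ : ∃ q ∈ Q, q • a ≠ a := by
    by_contra! hfix
    have hQv := hNC r hr v hv Q hQp hvQ fun q hq => MulAction.mem_stabilizer_iff.2 (hfix q hq)
    obtain ⟨g, hg, hg1, hginv⟩ :=
      P.exists_inverted_twoPt hne.symm hr2 hQK hQcard (hr _) hv rfl hvQ
    have hc : v * g = g * v := (mem_centralizer.1 (hQv hg)).symm.eq
    rw [hc, mul_inv_cancel_right] at hginv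
    have h2 : orderOf g ∣ 2 :=
      orderOf_dvd_of_pow_eq_one (by rw [sq]; exact mul_eq_one_iff_eq_inv.2 hginv)
    exact hg1 (orderOf_eq_one_iff.1 (Nat.eq_one_of_dvd_coprimes (Nat.coprime_two_left.2
      ((odd_card_of_isPGroup hr2 hQp).of_dvd_nat (Subgroup.orderOf_dvd_natCard Q hg))) h2 dvd_rfl))
  -- the same situation for `⟨h⟩`
  set H := Subgroup.zpowers h with hH
  have hHQ : H ≤ Q := Subgroup.zpowers_le.2 hhQ
  have hH1 : H ≠ ⊥ := fun e => hh1 (Subgroup.zpowers_eq_bot.1 e)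
  have hHv : H ≤ Subgroup.centralizer ({v} : Set G) := Subgroup.zpowers_le.2 (hCv hhC)
  have hQM : Q ≤ Subgroup.centralizer (H : Set G) := fun x hx =>
    Subgroup.mem_centralizer_iff.2 fun y hy => by
      obtain ⟨i, rfl⟩ := Subgroup.mem_zpowers_iff.1 hy
      exact ((show Commute h x from
        (Subgroup.mem_centralizer_iff.1 hhZ x hx).symm).zpow_left i).eq
  have hvH : v ∈ Subgroup.centralizer (H : Set G) := Subgroup.mem_centralizer_iff.2 fun y hy =>
    (mem_centralizer.1 (hHv hy)).eq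
  have hwH : q * v * q⁻¹ ∈ Subgroup.centralizer (H : Set G) :=
    mul_mem (mul_mem (hQM hq) hvH) (inv_mem (hQM hq))
  have hHa := P.le_stab_of_centralizes hv hHv
  have hM := P.centralizer_ne_top hH1 hHa
  obtain ⟨e, he, hea, hev, hHe⟩ := P.exists_fellow (hQp.to_le hHQ) hv hHv (hr _)
  have heH : e ∈ Subgroup.centralizer (H : Set G) := Subgroup.mem_centralizer_iff.2 fun y hy =>
    (mem_centralizer.1 (hHe hy)).eq
  have hqv : pt (q * v * q⁻¹) ≠ a := by rw [P.pt_conj q hv]; exact hqa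
  have hAodd := odd_card_of_isPGroup hr2 hA
  have hAM : A ≤ Subgroup.normalizer (Subgroup.centralizer (H : Set G) : Set G) :=
    (hAQ.trans hQM).trans Subgroup.le_normalizer
  obtain ⟨d, hd, hdM, hdv, hAd⟩ := P.exists_fixed_point_in hIH hNC hM hv hvH (P.conj_mem q v hv)
    hwH hqv hAodd hAM hAv he heH hea hev
  obtain ⟨t, ht, -, hta, hAt⟩ := P.exists_swapper_in hIH hNC hM hv hvH (P.conj_mem q v hv)
    hwH hqv hAodd hAM hAv hd hdM hdv hAd
  exact hcon t ht (fun e => hdv (by rw [← hta, show pt v = pt t from e.symm, P.smul_pt ht])) hAt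

include P hIH hNC in
/-- **The hypothesis of the parity reflection.** -/
theorem exists_swapper_hcent {v : G} (hv : v ∈ D) {z : Ω} (hz : z ≠ pt v) :
    ∃ (b : Ω) (u : G), b ≠ pt v ∧ u ∈ D ∧ u • pt v = b ∧
      core 2 (twoPt G (pt v) b) ⊓ Subgroup.centralizer ({v} : Set G) ≤
        Subgroup.centralizer ({u} : Set G) := by
  set a := pt v with ha
  obtain ⟨V, ⟨hV, hVv, b, hb, hVb⟩, hmax⟩ := Set.Finite.exists_maximalFor
    (fun V : Subgroup G => Nat.card V)
    {V : Subgroup G | Odd (Nat.card V) ∧ V ≤ Subgroup.centralizer ({v} : Set G) ∧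
      ∃ y : Ω, y ≠ a ∧ V ≤ MulAction.stabilizer G y}
    (Set.toFinite _) ⟨⊥, by simp, bot_le, z, hz, bot_le⟩
  have hVa := P.le_stab_of_centralizes hv hVv
  suffices h : ∃ (a' : Ω) (t : G), a' ≠ a ∧ t ∈ D ∧ t • a = a' ∧
      V ≤ Subgroup.centralizer ({t} : Set G) by
    obtain ⟨a', t, ha', ht, hta, hVt⟩ := h
    refine ⟨a', t, ha', ht, hta, ?_⟩
    have hVa' : V ≤ MulAction.stabilizer G a' := fun x hx => MulAction.mem_stabilizer_iff.2 (by
      rw [← hta, ← mul_smul, (mem_centralizer.1 (hVt hx)).eq, mul_smul,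
        MulAction.mem_stabilizer_iff.1 (hVa hx)])
    set C := core 2 (twoPt G a a') ⊓ Subgroup.centralizer ({v} : Set G) with hC
    have hVC : V ≤ Subgroup.normalizer (C : Set G) := fun x hx =>
      Coprime.mem_normalizer_of_forall fun g hg => ⟨conj_mem_core_two
        (Subgroup.le_normalizer (le_inf hVa hVa' hx)) hg.1,
        Subgroup.mul_mem _ (Subgroup.mul_mem _ (hVv hx) hg.2) (Subgroup.inv_mem _ (hVv hx))⟩
    have hW : V ⊔ C ∈ {V : Subgroup G | Odd (Nat.card V) ∧
        V ≤ Subgroup.centralizer ({v} : Set G) ∧ ∃ y : Ω, y ≠ a ∧ V ≤ MulAction.stabilizer G y} :=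
      ⟨odd_card_sup_of_normalizes hVC ((odd_card_core_two _).of_dvd_nat
        (Subgroup.card_dvd_of_le inf_le_left)) hV, sup_le hVv inf_le_right, a', ha',
        sup_le hVa' (inf_le_left.trans ((core_le 2 _).trans inf_le_right))⟩
    have heq : V = V ⊔ C := Subgroup.eq_of_le_of_card_ge le_sup_left
      (hmax hW (Subgroup.card_le_of_le le_sup_left))
    exact (le_sup_right.trans heq.ge).trans hVt
  rcases eq_or_ne V ⊥ with rfl | hV1
  · obtain ⟨f, hf, hfz⟩ := P.exists_at z
    obtain ⟨t, ht, -, htp⟩ := P.exists_mid hv hf (by rw [hfz]; exact hz.symm)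
    exact ⟨z, t, hz, ht, by rwa [hfz] at htp, bot_le⟩
  obtain ⟨r, _, A, hr2, hAV, hA1, hA, hVA⟩ := exists_pgroup_normal hV hV1
  have hAv := hAV.trans hVv
  obtain ⟨w, hw, hwa, hAw⟩ :=
    P.exists_moving_member hIH hNC hr2 hv hA hA1 hAv hb (hAV.trans hVb)
  set M := Subgroup.centralizer (A : Set G) with hMdef
  have hmem : ∀ {g : G}, A ≤ Subgroup.centralizer ({g} : Set G) → g ∈ M := fun h =>
    Subgroup.mem_centralizer_iff.2 fun y hy => (mem_centralizer.1 (h hy)).eq
  have hM : M ≠ ⊤ := P.centralizer_ne_top hA1 (hAV.trans hVa)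
  have hVM : V ≤ Subgroup.normalizer (M : Set G) := fun x hx =>
    Coprime.mem_normalizer_of_forall fun c hc => Subgroup.mem_centralizer_iff.2 fun y hy => by
      have h1 : x⁻¹ * y * x ∈ A := (Subgroup.mem_normalizer_iff''.1 (hVA hx) y).1 hy
      calc y * (x * c * x⁻¹) = x * ((x⁻¹ * y * x) * c) * x⁻¹ := by group
        _ = x * (c * (x⁻¹ * y * x)) * x⁻¹ := by rw [Subgroup.mem_centralizer_iff.1 hc _ h1]
        _ = x * c * x⁻¹ * y := by group
  obtain ⟨d, hd, hdM, hda, hVd⟩ :
      ∃ d ∈ D, d ∈ M ∧ pt d ≠ a ∧ V ≤ MulAction.stabilizer G (pt d) := by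
    by_cases hr : r ∣ Nat.card {f : G // f ∈ D ∧ pt f = a}
    · obtain ⟨e, he, hea, hev, hAe⟩ := P.exists_fellow hA hv hAv hr
      exact P.exists_fixed_point_in hIH hNC hM hv (hmem hAv) hw (hmem hAw) hwa hV hVM hVv he
        (hmem hAe) hea hev
    · obtain ⟨t, ht, hta, hAt⟩ := P.exists_centralizing_swap hA hb.symm
        (hAV.trans hVa) (hAV.trans hVb) (by rwa [card_point_eq P b a])
      refine ⟨t * v * t⁻¹, P.conj_mem t v hv,
        mul_mem (mul_mem (hmem hAt) (hmem hAv)) (inv_mem (hmem hAt)), ?_, ?_⟩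
      · rw [P.pt_conj t hv, hta]; exact hb
      · rw [P.pt_conj t hv, hta]; exact hVb
  obtain ⟨t, ht, -, hta, hVt⟩ :=
    P.exists_swapper_in hIH hNC hM hv (hmem hAv) hw (hmem hAw) hwa hV hVM hVv hd hdM hda hVd
  exact ⟨pt d, t, hda, ht, hta, hVt⟩

end Cfsg.Agent.Aschbacher.PointClass
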