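/-
The group induced by the members in a proper subgroup on their points (piece A of the core-free
criterion; owner: helper2).

Main results (namespace `Cfsg.Agent.Aschbacher`, `PointCriterionBelow` the induction hypothesis):
* `PointClass.odd_card_members_in` : in any subgroup the members at a point, if any, are odd in number
* `PointClass.exists_image` : the induced group: members go to involutions, a point stabiliser is
  strongly embedded with trivial core and all involutions are images of members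
* `PointClass.exists_smul_points` : with two commuting members at `x` in `M`, the stabiliser of `x`
  in the subgroup they generate permutes the other points transitively
-/
import Cfsg.Agent.Lib.Aschbacher.CriterionFrame
import Cfsg.Agent.Lib.Bender.FreeCase

set_option autoImplicit false
set_option linter.style.haveILetI false
set_option linter.unusedSectionVars false

namespace Cfsg.Agent.Aschbacher

open Cfsg Involution Bender
open scoped Pointwise

universe u

variable {G : Type u} {Ω : Type u} [Group G] [MulAction G Ω]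

/-- The members in `M` generate this subgroup. -/
def memSub (D : Set G) (M : Subgroup G) : Subgroup G := Subgroup.closure {d | d ∈ D ∧ d ∈ M}

/-- The points of the members in `M`. -/
abbrev PtSet (D : Set G) (pt : G → Ω) (M : Subgroup G) : Type u :=
  {p : Ω // ∃ d ∈ D, d ∈ M ∧ pt d = p}

namespace PointClass

variable [Finite G] [Finite Ω] {D : Set G} {pt : G → Ω} (P : PointClass G Ω D pt) {M : Subgroup G}
include P

theorem smul_mem_ptSet {g : G} (hg : g ∈ M) {p : Ω} (hp : ∃ d ∈ D, d ∈ M ∧ pt d = p) :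
    ∃ d ∈ D, d ∈ M ∧ pt d = g • p := by
  obtain ⟨d, hd, hdM, rfl⟩ := hp
  exact ⟨g * d * g⁻¹, P.conj_mem g d hd, M.mul_mem (M.mul_mem hg hdM) (M.inv_mem hg), P.pt_conj g hd⟩

/-- The action of a subgroup of `M` on the points of the members in `M`. -/
def ptHom (K : Subgroup G) (hK : K ≤ M) : K →* Equiv.Perm (PtSet D pt M) where
  toFun g :=
    { toFun := fun p => ⟨(g : G) • p.1, P.smul_mem_ptSet (hK g.2) p.2⟩
      invFun := fun p => ⟨(g : G)⁻¹ • p.1, P.smul_mem_ptSet (M.inv_mem (hK g.2)) p.2⟩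
      left_inv := fun p => Subtype.ext (inv_smul_smul _ _)
      right_inv := fun p => Subtype.ext (smul_inv_smul _ _) }
  map_one' := Equiv.ext fun p => Subtype.ext (one_smul _ _)
  map_mul' g h := Equiv.ext fun p => Subtype.ext (mul_smul (g : G) (h : G) p.1)

end PointClass

theorem memSub_le (D : Set G) (M : Subgroup G) : memSub D M ≤ M :=
  (Subgroup.closure_le _).2 fun _ hd => hd.2

namespace PointClass

variable [Finite G] [Finite Ω] [FaithfulSMul G Ω] {D : Set G} {pt : G → Ω}
  (P : PointClass G Ω D pt) {M : Subgroup G}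
include P

/-- In a subgroup the members at a point are odd in number or none. -/
theorem odd_card_members_in {d : G} (hd : d ∈ D) (hdM : d ∈ M) {p : Ω} (hdp : pt d = p) {x y : Ω}
    (hxy : x ≠ y) : Odd (Nat.card {g : G // g ∈ D ∧ pt g = p ∧ g ∈ M}) := by
  classical
  set S : Set G := {g | g ∈ D ∧ pt g = p ∧ g ∈ M} with hS
  show Odd (Nat.card S)
  set C : Set G := {g | g ∈ S ∧ Commute d g} with hC
  have hd2 := mul_self (P.inv d hd)
  have hCS : C ⊆ S := fun g hg => hg.1
  have hnot : ∀ (T : Set G) (f : G → G), (∀ g ∈ T, f g ∈ T) → (∀ g ∈ T, f (f g) = g) →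
      (∀ g ∈ T, f g ≠ g) → Even T.ncard := by
    intro T f h1 h2 h3
    rw [← Nat.not_odd_iff_even, ← Nat.card_coe_set_eq]
    intro h
    obtain ⟨g, hg⟩ := exists_fixed_of_odd h (fun g => (⟨f g.1, h1 g.1 g.2⟩ : T))
      (fun g => Subtype.ext (h2 g.1 g.2))
    exact h3 g.1 g.2 (congrArg Subtype.val hg)
  have hcc : ∀ g : G, d * (d * g * d⁻¹) * d⁻¹ = g := fun g => by
    rw [show d * (d * g * d⁻¹) * d⁻¹ = (d * d) * g * (d * d)⁻¹ by group, hd2, one_mul, inv_one,
      mul_one]
  have hmaps : ∀ g ∈ S, d * g * d⁻¹ ∈ S := fun g hg =>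
    ⟨P.conj_mem d g hg.1, by rw [P.pt_conj d hg.1, hg.2.1, ← hdp, P.smul_pt hd],
      M.mul_mem (M.mul_mem hdM hg.2.2) (M.inv_mem hdM)⟩
  have h1 : Even (S \ C).ncard := by
    refine hnot _ (fun g => d * g * d⁻¹) (fun g hg => ⟨hmaps g hg.1, fun h => hg.2 ⟨hg.1, ?_⟩⟩)
      (fun g _ => hcc g) (fun g hg h => hg.2 ⟨hg.1, (mul_inv_eq_iff_eq_mul.1 h)⟩)
    have h' : Commute d (d * g * d⁻¹) := h.2
    have := (Commute.refl d).mul_right (h'.mul_right (Commute.refl d))
    rwa [show d * (d * g * d⁻¹ * d) = (d * d) * g by group, hd2, one_mul] at this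
  have hdC : d ∈ C := ⟨⟨hd, hdp, hdM⟩, Commute.refl d⟩
  have h2 : Even (C \ {d}).ncard := by
    refine hnot _ (fun g => d * g) ?_ (fun g _ => by rw [← mul_assoc, hd2, one_mul])
      (fun g _ h => ne_one (P.inv d hd) (mul_eq_right.1 h))
    intro g hg
    have hne : d ≠ g := fun e => hg.2 e.symm
    have hD := P.mul_mem_of_commute hd hg.1.1.1 hg.1.2 hne hxy
    refine ⟨⟨⟨hD, ?_, M.mul_mem hdM hg.1.1.2.2⟩, (Commute.refl d).mul_right hg.1.2⟩, fun e => ?_⟩
    · rw [P.pt_eq_of_commute hD hd ((Commute.refl d).mul_left hg.1.2.symm), hdp]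
    · exact ne_one (P.inv g hg.1.1.1) (mul_eq_left.1 (e : d * g = d))
  rw [Nat.card_coe_set_eq, ← Set.ncard_sdiff_add_ncard_of_subset hCS,
    ← Set.ncard_sdiff_singleton_add_one hdC]
  exact h1.add_odd h2.add_one

/-- The group induced on the points of the members in a proper subgroup `M`. -/
theorem exists_image (hIH : PointCriterionBelow.{u} (Nat.card G)) (hM : M ≠ ⊤) {x : Ω} {v w : G}
    (hv : v ∈ D) (hvM : v ∈ M) (hvx : pt v = x) (hw : w ∈ D) (hwM : w ∈ M) (hwx : pt w ≠ x) :
    ∃ (R : Subgroup (Equiv.Perm (PtSet D pt M))) (f : memSub D M →* R), Function.Surjective f ∧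
      (∀ (g : memSub D M) (p : PtSet D pt M), ((f g • p : PtSet D pt M) : Ω) = (g : G) • p.1) ∧
      (∀ g : memSub D M, (g : G) ∈ D → orderOf (f g) = 2) ∧
      (∀ σ : R, orderOf σ = 2 → ∃ g : memSub D M, (g : G) ∈ D ∧ f g = σ) ∧
      (∀ p q : PtSet D pt M, ∃ σ : R, σ • p = q) ∧
      IsStronglyEmbedded (MulAction.stabilizer R (⟨x, v, hv, hvM, hvx⟩ : PtSet D pt M)) ∧
      (MulAction.stabilizer R (⟨x, v, hv, hvM, hvx⟩ : PtSet D pt M)).normalCore = ⊥ := by
  classical
  haveI : Fact (Nat.Prime 2) := ⟨Nat.prime_two⟩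
  set y := pt w with hy
  have hxy : x ≠ y := hwx.symm
  set K := memSub D M with hKdef
  have hKM : K ≤ M := memSub_le D M
  have hmemK : ∀ {d : G}, d ∈ D → d ∈ M → d ∈ K := fun hd hdM =>
    Subgroup.subset_closure ⟨hd, hdM⟩
  let R := (P.ptHom K hKM).range
  let f : K →* R := (P.ptHom K hKM).rangeRestrict
  let DD : Set R := f '' {g | (g : G) ∈ D}
  have hsmul : ∀ (g : K) (p : PtSet D pt M), ((f g • p : PtSet D pt M) : Ω) = (g : G) • p.1 :=
    fun g p => by
      rw [Subgroup.smul_def, Equiv.Perm.smul_def]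
      rfl
  let x' : PtSet D pt M := ⟨x, v, hv, hvM, hvx⟩
  let y' : PtSet D pt M := ⟨y, w, hw, hwM, rfl⟩
  have hxy' : x' ≠ y' := fun e => hxy (congrArg Subtype.val e)
  have hptS : ∀ {g : K}, (g : G) ∈ D → ∃ d ∈ D, d ∈ M ∧ pt d = pt (g : G) := fun {g} hg =>
    ⟨g, hg, hKM g.2, rfl⟩
  have hfix : ∀ {g : K} (hg : (g : G) ∈ D) (p : PtSet D pt M),
      f g • p = p ↔ p = ⟨pt (g : G), hptS hg⟩ := fun {g} hg p => by
    rw [Subtype.ext_iff, hsmul, P.fixed_iff _ hg, Subtype.ext_iff]
  have hne1 : ∀ {g : K}, (g : G) ∈ D → f g ≠ 1 := fun {g} hg h => by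
    have key : ∀ p : PtSet D pt M, p = ⟨pt (g : G), hptS hg⟩ := fun p =>
      (hfix hg p).1 (by rw [h, one_smul])
    exact hxy' ((key x').trans (key y').symm)
  let fp : R → PtSet D pt M := fun σ => if h : ∃ p, σ • p = p then h.choose else x'
  have hfp : ∀ {g : K} (hg : (g : G) ∈ D), fp (f g) = ⟨pt (g : G), hptS hg⟩ := fun {g} hg => by
    have hex : ∃ p : PtSet D pt M, f g • p = p := ⟨_, (hfix hg _).2 rfl⟩
    show (if h : ∃ p, f g • p = p then h.choose else x') = _
    rw [dif_pos hex]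
    exact (hfix hg _).1 hex.choose_spec
  have hfinv : ∀ {g : K}, (g : G) ∈ D → g * g = 1 := fun {g} hg =>
    Subtype.ext (mul_self (P.inv _ hg))
  have hP' : PointClass R (PtSet D pt M) DD fp := by
    refine ⟨?_, ?_, ?_, ?_, fun p => ?_⟩
    · rintro _ ⟨g, hg, rfl⟩
      exact orderOf_of_sq (by rw [← map_mul, hfinv hg, map_one]) (hne1 hg)
    · rintro σ _ ⟨g, hg, rfl⟩
      obtain ⟨l, rfl⟩ := MonoidHom.rangeRestrict_surjective _ σ
      exact ⟨l * g * l⁻¹, P.conj_mem (l : G) _ hg, by rw [map_mul, map_mul, map_inv]⟩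
    · rintro _ ⟨g, hg, rfl⟩ p
      rw [hfp hg]
      exact hfix hg p
    · rintro _ ⟨g, hg, rfl⟩ _ ⟨g', hg', rfl⟩ hc hne σ hσ
      -- a commuting lift of the second member
      obtain ⟨e, heD, hge, hne', hfe⟩ : ∃ e : K, (e : G) ∈ D ∧ Commute (g : G) e ∧
          (e : G) ≠ g ∧ f e = f g' := by
        have ho : orderOf (f (g * g')) = 2 := by
          rw [map_mul]
          refine orderOf_of_sq ?_ fun h => hne ?_
          · calc f g * f g' * (f g * f g') = f g * (f g' * f g) * f g' := by group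
              _ = (f g * f g) * (f g' * f g') := by rw [← hc.eq]; group
              _ = 1 := by rw [← map_mul, ← map_mul, hfinv hg, hfinv hg', map_one, one_mul]
          · have h2 : f g' * f g' = 1 := by rw [← map_mul, hfinv hg', map_one]
            exact mul_right_cancel (h.trans h2.symm)
        have hev : Even (orderOf ((g : G) * g')) := by
          rw [even_iff_two_dvd, ← ho, ← Subgroup.coe_mul, Subgroup.orderOf_coe]
          exact orderOf_map_dvd f _
        obtain ⟨heD, hce, hnee⟩ := P.exists_partner hg hg' hev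
        set k := orderOf ((g : G) * g') / 2
        refine ⟨g * (g * g') ^ k, by simpa using heD, by simpa using hce, by simpa using hnee, ?_⟩
        rcases Nat.even_or_odd k with ⟨j, hj⟩ | ⟨j, hj⟩
        · exfalso
          have h1 : f ((g * g') ^ k) = 1 := by
            rw [map_pow, hj, ← two_mul, pow_mul, ← ho, pow_orderOf_eq_one, one_pow]
          have heq : ((g * (g * (g * g') ^ k) : K) : G) ∈ D := by
            have := P.mul_mem_of_commute hg heD hce hnee.symm hxy
            simpa using this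
          refine hne1 heq ?_
          rw [← mul_assoc, hfinv hg, one_mul]
          exact h1
        · rw [map_mul, map_pow, hj, pow_succ, pow_mul]
          rw [show f (g * g') ^ 2 = 1 by rw [← ho, pow_orderOf_eq_one], one_pow, one_mul, map_mul,
            ← mul_assoc, ← map_mul, hfinv hg, map_one, one_mul]
      have hw' : ((g * e : K) : G) ∈ D := P.mul_mem_of_commute hg heD hge (Ne.symm hne') hxy
      have hpe : pt ((g * e : K) : G) = pt (g : G) :=
        P.pt_eq_of_commute hw' hg ((Commute.refl (g : G)).mul_left hge.symm)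
      have h1 : f (g * e) • σ • (⟨pt ((g * e : K) : G), hptS hw'⟩ : PtSet D pt M) =
          σ • ⟨pt ((g * e : K) : G), hptS hw'⟩ := by
        rw [← mul_smul, show f (g * e) * σ = σ * f (g * e) by rw [map_mul, hfe]; exact hσ.eq.symm,
          mul_smul, (hfix hw' _).2 rfl]
      have h2 := (hfix hw' _).1 h1
      rw [hfp hg]
      have e1 : (⟨pt ((g * e : K) : G), hptS hw'⟩ : PtSet D pt M) = ⟨pt (g : G), hptS hg⟩ :=
        Subtype.ext hpe
      rwa [e1] at h2
    · -- fibres over an image are invariant under conjugation by a member of the fibre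
      let A := {g : K // (g : G) ∈ D ∧ pt (g : G) = p.1}
      let B := {σ : R // σ ∈ DD ∧ fp σ = p}
      let π : A → B := fun g => ⟨f g.1, ⟨g.1, g.2.1, rfl⟩, by
        rw [hfp g.2.1]; exact Subtype.ext g.2.2⟩
      have hA : Odd (Nat.card A) := by
        obtain ⟨d₀, hd₀, hd₀M, hd₀p⟩ := p.2
        convert P.odd_card_members_in (M := M) hd₀ hd₀M hd₀p hxy using 1
        exact Nat.card_congr
          { toFun := fun g => ⟨g.1, g.2.1, g.2.2, hKM g.1.2⟩
            invFun := fun d => ⟨⟨d.1, hmemK d.2.1 d.2.2.2⟩, d.2.1, d.2.2.1⟩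
            left_inv := fun g => rfl
            right_inv := fun d => rfl }
      have hfib : ∀ β : B, Odd (Nat.card {g : A // π g = β}) := by
        rintro ⟨_, ⟨g, hg, rfl⟩, hgp⟩
        rw [hfp hg] at hgp
        have hgp' : pt (g : G) = p.1 := congrArg Subtype.val hgp
        set β : B := ⟨f g, ⟨g, hg, rfl⟩, by rw [hfp hg]; exact Subtype.ext hgp'⟩
        show Odd (Nat.card {x : A // π x = β})
        have hg2 : g * g = 1 := hfinv hg
        have hcc : ∀ z : K, g * (g * z * g⁻¹) * g⁻¹ = z := fun z => by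
          rw [show g * (g * z * g⁻¹) * g⁻¹ = (g * g) * z * (g * g)⁻¹ by group, hg2, one_mul, inv_one,
            mul_one]
        have hmaps : ∀ z : {z : A // π z = β}, ((g * z.1.1 * g⁻¹ : K) : G) ∈ D ∧
            pt ((g * z.1.1 * g⁻¹ : K) : G) = p.1 ∧ f (g * z.1.1 * g⁻¹) = f g := fun z => by
          refine ⟨P.conj_mem (g : G) _ z.1.2.1, ?_, ?_⟩
          · show pt ((g : G) * z.1.1 * (g : G)⁻¹) = p.1
            rw [P.pt_conj _ z.1.2.1, z.1.2.2, ← hgp', P.smul_pt hg]
          · rw [map_mul, map_mul, show f z.1.1 = f g from congrArg Subtype.val z.2, map_inv,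
              mul_inv_cancel_right]
        haveI := Fintype.ofFinite {z : A // π z = β}
        let τ : {z : A // π z = β} → {z : A // π z = β} := fun z =>
          ⟨⟨_, (hmaps z).1, (hmaps z).2.1⟩, Subtype.ext (hmaps z).2.2⟩
        have hττ : ∀ z, τ (τ z) = z := fun z => Subtype.ext (Subtype.ext (hcc z.1.1))
        let σ : Equiv.Perm {z : A // π z = β} := ⟨τ, τ, hττ, hττ⟩
        have h := Equiv.Perm.card_compl_support_modEq (p := 2) (n := 1) (σ := σ) (by
          ext z
          rw [pow_one, sq, Equiv.Perm.mul_apply, Equiv.Perm.one_apply]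
          exact congrArg (fun y => ((y.1.1 : K) : G)) (hττ z))
        have hset : σ.supportᶜ = {(⟨⟨g, hg, hgp'⟩, rfl⟩ : {z : A // π z = β})} := by
          ext z
          rw [Finset.mem_compl, Equiv.Perm.notMem_support, Finset.mem_singleton]
          constructor
          · intro hz
            have hc : Commute (g : G) (z.1.1 : G) := by
              have h1 : g * z.1.1 * g⁻¹ = z.1.1 := congrArg (fun y => y.1.1) hz
              exact congrArg Subtype.val (mul_inv_eq_iff_eq_mul.1 h1)
            refine Subtype.ext (Subtype.ext (Subtype.ext (by_contra fun hne => ?_)))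
            have hD := P.mul_mem_of_commute hg z.1.2.1 hc (Ne.symm hne) hxy
            refine hne1 (g := g * z.1.1) hD ?_
            rw [map_mul, show f z.1.1 = f g from congrArg Subtype.val z.2, ← map_mul, hg2, map_one]
          · rintro rfl
            exact Subtype.ext (Subtype.ext (mul_inv_cancel_right g g))
        rw [hset, Finset.card_singleton, ← Nat.card_eq_fintype_card] at h
        rw [Nat.odd_iff]
        unfold Nat.ModEq at h
        omega
      haveI := Fintype.ofFinite B
      rw [← Nat.card_congr (Equiv.sigmaFiberEquiv π), Nat.card_sigma, Nat.odd_iff,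
        Finset.sum_nat_mod, Finset.sum_congr rfl fun β _ => Nat.odd_iff.1 (hfib β), Finset.sum_const,
        smul_eq_mul, mul_one, Finset.card_univ, ← Nat.card_eq_fintype_card, ← Nat.odd_iff] at hA
      exact hA
  -- the induction
  have hlt : Nat.card R < Nat.card G := by
    refine lt_of_le_of_lt (Nat.le_of_dvd Nat.card_pos (Subgroup.card_range_dvd _))
      (lt_of_le_of_ne (Subgroup.card_le_card_group _) fun h => hM (top_unique ?_))
    exact (Subgroup.eq_top_of_card_eq _ h).ge.trans hKM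
  have hgenR : Subgroup.closure DD = ⊤ := by
    have h : Subgroup.closure {g : K | (g : G) ∈ D} = ⊤ := by
      refine top_unique ((Subgroup.closure_closure_coe_preimage (k := {d | d ∈ D ∧ d ∈ M})).ge.trans
        (Subgroup.closure_mono fun g hg => ?_))
      exact hg.1
    show Subgroup.closure (f '' _) = ⊤
    rw [← MonoidHom.map_closure, h,
      Subgroup.map_top_of_surjective _ (MonoidHom.rangeRestrict_surjective _)]
  have hSE := (hP'.stronglyEmbedded_of_all
    (fun σ hσ => hIH R (PtSet D pt M) hlt DD fp hP' hgenR x' y' hxy' σ hσ) x' hxy')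
  exact ⟨R, f, MonoidHom.rangeRestrict_surjective _, hsmul,
    fun g hg => hP'.inv _ ⟨g, hg, rfl⟩,
    fun σ hσ => hIH R (PtSet D pt M) hlt DD fp hP' hgenR x' y' hxy' σ hσ,
    fun p q => hP'.exists_smul_eq p q, hSE.1, hSE.2⟩

/-- With two commuting members at `x` in `M` the stabiliser of `x` is transitive on the other
points of members in `M`. -/
theorem exists_smul_points (hIH : PointCriterionBelow.{u} (Nat.card G)) (hM : M ≠ ⊤) {x : Ω}
    {v e : G} (hv : v ∈ D) (hvM : v ∈ M) (hvx : pt v = x) (he : e ∈ D) (heM : e ∈ M)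
    (hve : Commute v e) (hne : v ≠ e) {z₁ z₂ : Ω} (h₁ : z₁ ≠ x) (h₂ : z₂ ≠ x)
    (hz₁ : ∃ d ∈ D, d ∈ M ∧ pt d = z₁) (hz₂ : ∃ d ∈ D, d ∈ M ∧ pt d = z₂) :
    ∃ h ∈ memSub D M, h • x = x ∧ h • z₁ = z₂ := by
  obtain ⟨w, hw, hwM, hwp⟩ := hz₁
  obtain ⟨R, f, hfs, hsmul, hf2, -, htrans, hSE, -⟩ :=
    P.exists_image hIH hM hv hvM hvx hw hwM (by rw [hwp]; exact h₁)
  set x' : PtSet D pt M := ⟨x, v, hv, hvM, hvx⟩
  set Hb := MulAction.stabilizer R x' with hHb
  let v' : memSub D M := ⟨v, Subgroup.subset_closure ⟨hv, hvM⟩⟩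
  let e' : memSub D M := ⟨e, Subgroup.subset_closure ⟨he, heM⟩⟩
  have hxy : x ≠ pt w := by rw [hwp]; exact h₁.symm
  have hprod : orderOf (f (v' * e')) = 2 :=
    hf2 _ (P.mul_mem_of_commute hv he hve hne hxy)
  have hsq : ∀ g : memSub D M, (g : G) ∈ D → f g * f g = 1 := fun g hg => mul_self (hf2 g hg)
  obtain ⟨g₁, hg₁⟩ := htrans x' ⟨z₁, w, hw, hwM, hwp⟩
  obtain ⟨g₂, hg₂⟩ := htrans x' ⟨z₂, hz₂⟩
  have hn : ∀ (g : R) {z : Ω} (hz : ∃ d ∈ D, d ∈ M ∧ pt d = z), z ≠ x →
      g • x' = (⟨z, hz⟩ : PtSet D pt M) → g ∉ Hb := fun g z hz hzx e1 h =>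
    hzx (congrArg Subtype.val (e1.symm.trans (MulAction.mem_stabilizer_iff.1 h)))
  obtain ⟨h, hh, hh'⟩ := transitive_of_coreTwo hSE ⟨f v', f e', ne_one (hf2 _ hv), ne_one (hf2 _ he),
      fun eq => ne_one hprod (by rw [map_mul, ← eq, hsq v' hv]), hsq v' hv, hsq e' he,
      by rw [← map_mul, ← map_mul, show v' * e' = e' * v' from Subtype.ext hve.eq]⟩
    (Bender.coreTwo hSE) g₁ g₂ (hn g₁ _ h₁ hg₁) (hn g₂ hz₂ h₂ hg₂)
  obtain ⟨k, rfl⟩ := hfs h
  have e1 : f k • (⟨z₁, w, hw, hwM, hwp⟩ : PtSet D pt M) = ⟨z₂, hz₂⟩ := by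
    have h3 := MulAction.mem_stabilizer_iff.1 hh'
    rwa [mul_smul, mul_smul, hg₁, inv_smul_eq_iff, hg₂] at h3
  refine ⟨k, k.2, ?_, ?_⟩
  · have h3 := congrArg Subtype.val (MulAction.mem_stabilizer_iff.1 hh)
    rwa [hsmul] at h3
  · have h3 := congrArg Subtype.val e1
    rwa [hsmul] at h3

end PointClass

end Cfsg.Agent.Aschbacher
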