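/-
The members of a point class at a point commute modulo an odd core as soon as they lie in a proper
subgroup moving the point (piece A of the core-free criterion; owner: helper2).

Main results (namespace `Cfsg.Agent.Aschbacher`):
* `CoreTwoAt D pt x` : the members at `x` commute modulo the odd core of the group they generate
* `PointClass.commute_mod_in` : in a proper subgroup moving `x` the members at `x` commute modulo
  an odd core
* `PointClass.coreTwoAt_of_proper` : a proper subgroup with all members at `x` and a member moving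
  `x` gives it, by induction
* `PointClass.coreTwoAt_of_normalized` : the criterion `crit` of Bender's argument: a non-trivial
  subgroup fixing `x, y`, normalised by `O(G_xy)`, a member at `x` and a swapper
-/
import Cfsg.Agent.Lib.Aschbacher.CriterionFrame
import Cfsg.Agent.Lib.Aschbacher.PairOdd
import Cfsg.Agent.Lib.Aschbacher.PointImage

set_option autoImplicit false
set_option linter.style.haveILetI false
set_option linter.unusedSectionVars false

namespace Cfsg.Agent.Aschbacher

open Cfsg Involution Bender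
open scoped Pointwise

universe u

section algebra

variable {Q : Type*} [Group Q] [Finite Q]

/-- Without an odd core, a normal subgroup of odd exponent is trivial. -/
theorem eq_one_of_pow_eq_one (hQ : Cfsg.pPrimeCore 2 Q = ⊥) {Y : Subgroup Q} [hY : Y.Normal] {m : ℕ}
    (hm : Odd m) (h : ∀ g ∈ Y, g ^ m = 1) {g : Q} (hg : g ∈ Y) : g = 1 := by
  have hodd : Odd (Nat.card Y) := by
    rw [← Nat.not_even_iff_odd]
    intro he
    haveI : Fact (Nat.Prime 2) := ⟨Nat.prime_two⟩
    obtain ⟨⟨t, ht⟩, ht2⟩ := exists_prime_orderOf_dvd_card' (G := Y) 2 (even_iff_two_dvd.1 he)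
    rw [Subgroup.orderOf_mk] at ht2
    exact Nat.not_even_iff_odd.2 hm
      (even_iff_two_dvd.2 (ht2 ▸ orderOf_dvd_iff_pow_eq_one.2 (h t ht)))
  have := Cores.le_pPrimeCore hY (Nat.coprime_two_right.2 hodd) hg
  rwa [hQ, Subgroup.mem_bot] at this

variable {L P : Type*} [Group L] [Finite L] [Group P] [Finite P]

/-- Generating involutions whose images commute modulo a normal odd subgroup, isolated over the
kernel, with products squaring to elements of odd order, commute modulo the odd core. -/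
theorem commutator_mem_core (φ : L →* P) {S : Set L} (hgen : Subgroup.closure S = ⊤)
    (hinv : ∀ d ∈ S, orderOf d = 2)
    (hiso : ∀ d ∈ S, ∀ w ∈ φ.ker, Commute d (w * d * w⁻¹) → w * d * w⁻¹ = d)
    (hodd : ∀ d ∈ S, ∀ e ∈ S, Odd (orderOf (d * e * (d * e))))
    (N : Subgroup P) (hN : Odd (Nat.card N)) (hNn : ∀ g : L, ∀ n ∈ N, φ g * n * (φ g)⁻¹ ∈ N)
    (hc : ∀ d ∈ S, ∀ e ∈ S, φ (d * e * (d * e)) ∈ N) :
    ∀ s t : L, s * t * s⁻¹ * t⁻¹ ∈ Cfsg.pPrimeCore 2 L := by
  haveI : Fact (Nat.Prime 2) := ⟨Nat.prime_two⟩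
  set W := φ.ker with hW
  set O := Cfsg.pPrimeCore 2 L with hO
  haveI : O.Normal := Cores.pPrimeCore_normal 2 L
  -- a generator centralises the kernel modulo the odd core
  have hcomm : ∀ d ∈ S, ∀ w ∈ W, d * w * d⁻¹ * w⁻¹ ∈ O := by
    intro d hd w hw
    set M2 := W ⊔ Subgroup.zpowers d with hM2
    have hdM : d ∈ M2 := Subgroup.mem_sup_right (Subgroup.mem_zpowers d)
    have hwM : w ∈ M2 := Subgroup.mem_sup_left hw
    have hiso2 : IsIsolatedInvolution (⟨d, hdM⟩ : M2) := by
      refine ⟨by rw [← Subgroup.orderOf_coe]; exact hinv d hd, ?_⟩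
      rintro ⟨g, hg⟩ hgc
      obtain ⟨a, ha, b, hb, e⟩ := Subgroup.mem_sup_of_normal_left.1 hg
      obtain ⟨i, rfl⟩ := Subgroup.mem_zpowers_iff.1 hb
      subst e
      have e1 : a * d ^ i * d * (a * d ^ i)⁻¹ = a * d * a⁻¹ := by group
      have hc' : Commute d (a * d * a⁻¹) := e1 ▸ congrArg Subtype.val hgc
      refine Subtype.ext ?_
      show a * d ^ i * d * (a * d ^ i)⁻¹ = d
      rw [e1, hiso d hd a ha hc']
    have hmem := ZStar.zStar_of_brauerSuzuki ZStar.uniqueInvolution hiso2 ⟨w, hwM⟩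
    set O2 := core 2 M2 with hO2
    have hin : d * w * d⁻¹ * w⁻¹ ∈ O2 := ⟨_, hmem, rfl⟩
    have hWM : W ≤ M2 := le_sup_left
    have hle : O2.subgroupOf W ≤ Cfsg.pPrimeCore 2 W := by
      refine Cores.le_pPrimeCore ⟨fun n hn g => Subgroup.mem_subgroupOf.2 ?_⟩ ?_
      · exact conj_mem_core_two (Subgroup.le_normalizer (hWM g.2)) (Subgroup.mem_subgroupOf.1 hn)
      · refine Nat.coprime_two_right.2 ((odd_card_core_two M2).of_dvd_nat ?_)
        rw [← Cores.card_map_subtype W (O2.subgroupOf W)]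
        refine Subgroup.card_dvd_of_le ?_
        rintro _ ⟨a, ha, rfl⟩
        exact ha
    have hOW : (Cfsg.pPrimeCore 2 W).map W.subtype ≤ O := by
      haveI := Cores.pPrimeCore_normal 2 W
      refine Cores.le_pPrimeCore (Cores.map_subtype_normal_of_characteristic W _) ?_
      rw [Cores.card_map_subtype]
      exact Cores.coprime_card_pPrimeCore 2
    have hW' : d * w * d⁻¹ * w⁻¹ ∈ W :=
      W.mul_mem ((MonoidHom.normal_ker φ).conj_mem w hw d) (W.inv_mem hw)
    exact hOW ⟨⟨_, hW'⟩, hle (Subgroup.mem_subgroupOf.2 hin), rfl⟩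
  -- the quotient by the odd core
  set ψ := QuotientGroup.mk' O with hψ
  have hψs : Function.Surjective ψ := QuotientGroup.mk'_surjective O
  have hψ1 : ∀ {g : L}, ψ g = 1 ↔ g ∈ O := fun {g} => QuotientGroup.eq_one_iff g
  have hQ : Cfsg.pPrimeCore 2 (L ⧸ O) = ⊥ := Cores.pPrimeCore_quotient_self 2
  have hgen' : Subgroup.closure (ψ '' S) = ⊤ := by
    rw [← MonoidHom.map_closure, hgen, Subgroup.map_top_of_surjective _ hψs]
  have hcentral : ∀ w ∈ W, ∀ q : L ⧸ O, Commute (ψ w) q := by
    intro w hw q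
    have h : Subgroup.closure (ψ '' S) ≤ Subgroup.centralizer ({ψ w} : Set (L ⧸ O)) := by
      refine (Subgroup.closure_le _).2 ?_
      rintro _ ⟨d, hd, rfl⟩
      refine mem_centralizer.2 ?_
      have h1 := hψ1.2 (hcomm d hd w hw)
      rw [map_mul, map_mul, map_mul, map_inv, map_inv, mul_inv_eq_one, mul_inv_eq_iff_eq_mul] at h1
      exact h1
    exact (mem_centralizer.1 (h (hgen'.symm ▸ Subgroup.mem_top q))).symm
  set N' := N.comap φ with hN'
  haveI : N'.Normal := ⟨fun n hn g => by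
    rw [hN', Subgroup.mem_comap, map_mul, map_mul, map_inv]
    exact hNn g _ hn⟩
  set A := N'.map ψ with hA
  haveI : A.Normal := Subgroup.Normal.map inferInstance ψ hψs
  have hidx : Odd (Subgroup.center A).index := by
    set χ := ψ.subgroupMap N' with hχ
    have hχs : Function.Surjective χ := ψ.subgroupMap_surjective N'
    have hle : (W.subgroupOf N').map χ ≤ Subgroup.center A := by
      rintro _ ⟨w, hw, rfl⟩
      exact Subgroup.mem_center_iff.2 fun q => Subtype.ext (hcentral w hw q.1).symm.eq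
    refine Odd.of_dvd_nat ?_ ((Subgroup.index_dvd_of_le hle).trans (Subgroup.index_map_dvd _ hχs))
    set θ := φ.subgroupComap N with hθ
    have hker : θ.ker = W.subgroupOf N' := by
      ext a
      rw [MonoidHom.mem_ker, Subgroup.mem_subgroupOf, hW, MonoidHom.mem_ker, Subtype.ext_iff]
      rfl
    rw [← hker, Subgroup.index_ker]
    exact hN.of_dvd_nat (Subgroup.card_subgroup_dvd_card _)
  set T := MonoidHom.transferCenterPow A with hT
  have hAcomm : ∀ a ∈ A, ∀ b ∈ A, Commute a b := by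
    have hTinj : Function.Injective T := by
      rw [← MonoidHom.ker_eq_bot_iff, eq_bot_iff]
      intro a ha
      set Y := T.ker.map A.subtype with hY
      have hpow : ∀ g ∈ Y, g ^ (Subgroup.center A).index = 1 := by
        rintro _ ⟨g, hg, rfl⟩
        have h1 := congrArg (fun z : Subgroup.center A => ((z : A) : L ⧸ O)) (MonoidHom.mem_ker.1 hg)
        simpa [hT, MonoidHom.transferCenterPow_apply] using h1
      haveI : Y.Normal := ⟨fun n hn g => by
        have h1 := hpow n hn
        obtain ⟨n, hnT, rfl⟩ := hn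
        have hmem : g * (n : L ⧸ O) * g⁻¹ ∈ A := Subgroup.Normal.conj_mem inferInstance _ n.2 g
        refine ⟨⟨_, hmem⟩, MonoidHom.mem_ker.2 (Subtype.ext (Subtype.ext ?_)), rfl⟩
        simp only [hT, MonoidHom.transferCenterPow_apply, SubgroupClass.coe_pow, OneMemClass.coe_one]
        rw [conj_pow]
        rw [Subgroup.coe_subtype] at h1
        rw [h1]
        group⟩
      rw [Subgroup.mem_bot]
      exact Subtype.ext (eq_one_of_pow_eq_one hQ hidx hpow (Subgroup.mem_map_of_mem A.subtype ha))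
    intro a ha b hb
    have h : (⟨a, ha⟩ : A) * ⟨b, hb⟩ = ⟨b, hb⟩ * ⟨a, ha⟩ := hTinj (by
      rw [map_mul, map_mul]
      exact Subtype.ext (Subgroup.mem_center_iff.1 (T ⟨b, hb⟩).2 (T ⟨a, ha⟩).1))
    exact congrArg Subtype.val h
  -- so the generators commute there
  have hSS : ∀ d ∈ S, ∀ e ∈ S, Commute (ψ d) (ψ e) := by
    intro d hd e he
    set c := ψ (d * e * (d * e)) with hcdef
    have hcA : c ∈ A := Subgroup.mem_map_of_mem ψ (hc d hd e he)
    have hco : Odd (orderOf c) := (hodd d hd e he).of_dvd_nat (orderOf_map_dvd ψ _)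
    let Y : Subgroup (L ⧸ O) :=
      { carrier := {g | g ∈ A ∧ g ^ orderOf c = 1}
        one_mem' := ⟨A.one_mem, one_pow _⟩
        mul_mem' := fun {a b} ha hb => ⟨A.mul_mem ha.1 hb.1, by
          rw [(hAcomm a ha.1 b hb.1).mul_pow, ha.2, hb.2, one_mul]⟩
        inv_mem' := fun {a} ha => ⟨A.inv_mem ha.1, by rw [inv_pow, ha.2, inv_one]⟩ }
    haveI : Y.Normal := ⟨fun n hn g => ⟨Subgroup.Normal.conj_mem inferInstance n hn.1 g, by
      rw [conj_pow, hn.2]; group⟩⟩
    have h1 : c = 1 := eq_one_of_pow_eq_one (Y := Y) hQ hco (fun g hg => hg.2)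
      (show c ∈ Y from ⟨hcA, pow_orderOf_eq_one c⟩)
    rw [hcdef, map_mul, map_mul] at h1
    have hd2 : (ψ d)⁻¹ = ψ d := by rw [← map_inv, inv_eq (hinv d hd)]
    have he2 : (ψ e)⁻¹ = ψ e := by rw [← map_inv, inv_eq (hinv e he)]
    show ψ d * ψ e = ψ e * ψ d
    calc ψ d * ψ e = (ψ d * ψ e)⁻¹ := eq_inv_of_mul_eq_one_left h1
      _ = ψ e * ψ d := by rw [mul_inv_rev, hd2, he2]
  intro s t
  rw [← hψ1, map_mul, map_mul, map_mul, map_inv, map_inv]
  have h1 : ∀ q : L ⧸ O, ∀ d ∈ S, Commute q (ψ d) := fun q d hd => by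
    have h : Subgroup.closure (ψ '' S) ≤ Subgroup.centralizer ({ψ d} : Set (L ⧸ O)) := by
      refine (Subgroup.closure_le _).2 ?_
      rintro _ ⟨e, he, rfl⟩
      exact mem_centralizer.2 (hSS e he d hd)
    exact mem_centralizer.1 (h (hgen'.symm ▸ Subgroup.mem_top q))
  have h2 : Commute (ψ s) (ψ t) := by
    have h : Subgroup.closure (ψ '' S) ≤ Subgroup.centralizer ({ψ s} : Set (L ⧸ O)) := by
      refine (Subgroup.closure_le _).2 ?_
      rintro _ ⟨e, he, rfl⟩
      exact mem_centralizer.2 (h1 _ e he).symm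
    exact (mem_centralizer.1 (h (hgen'.symm ▸ Subgroup.mem_top (ψ t)))).symm
  rw [h2.eq]
  group

end algebra

/-! ### the group induced on the points of a subgroup -/

section memGroup

variable {G : Type u} {Ω : Type u} [Group G] [MulAction G Ω]

/-- The group generated by the members at a point. -/
def atPoint (D : Set G) (pt : G → Ω) (x : Ω) : Subgroup G :=
  Subgroup.closure {d | d ∈ D ∧ pt d = x}

/-- The group generated by the members at a point in a subgroup. -/
def atPointIn (D : Set G) (pt : G → Ω) (M : Subgroup G) (x : Ω) : Subgroup G :=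
  Subgroup.closure {d | d ∈ D ∧ pt d = x ∧ d ∈ M}

/-- The members at `x` commute modulo the odd core of the group they generate. -/
def CoreTwoAt (D : Set G) (pt : G → Ω) (x : Ω) : Prop :=
  ∀ s t : ↥(atPoint D pt x), s * t * s⁻¹ * t⁻¹ ∈ Cfsg.pPrimeCore 2 ↥(atPoint D pt x)

namespace PointClass

variable [Finite G] [Finite Ω] [FaithfulSMul G Ω] {D : Set G} {pt : G → Ω}
  (P : PointClass G Ω D pt) {M : Subgroup G}
include P

/-- In a proper subgroup moving `x` the members at `x` commute modulo the odd core of the group they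
generate. -/
theorem commute_mod_in (hIH : PointCriterionBelow.{u} (Nat.card G)) (hM : M ≠ ⊤) {x : Ω}
    {v : G} (hv : v ∈ D) (hvM : v ∈ M) (hvx : pt v = x)
    {w : G} (hw : w ∈ D) (hwM : w ∈ M) (hwx : w • x ≠ x) :
    ∀ s t : ↥(atPointIn D pt M x),
      s * t * s⁻¹ * t⁻¹ ∈ Cfsg.pPrimeCore 2 ↥(atPointIn D pt M x) := by
  haveI : Fact (Nat.Prime 2) := ⟨Nat.prime_two⟩
  have hwx' : pt w ≠ x := fun e => hwx (by rw [← e, P.smul_pt hw])
  have hxy : x ≠ pt w := hwx'.symm
  set K := memSub D M with hKdef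
  obtain ⟨R, f, -, hsmul, hf2, -, -, hSE, -⟩ := P.exists_image hIH hM hv hvM hvx hw hwM hwx'
  set x' : PtSet D pt M := ⟨x, v, hv, hvM, hvx⟩ with hx'
  have hCT := Bender.coreTwo hSE
  set Hb := MulAction.stabilizer R x'
  have hmemK : ∀ {d : G}, d ∈ D → d ∈ M → d ∈ K := fun hd hdM =>
    Subgroup.subset_closure ⟨hd, hdM⟩
  have hne1 : ∀ {g : K}, (g : G) ∈ D → f g ≠ 1 := fun {g} hg => ne_one (hf2 g hg)
  -- the members at `x`
  set L := atPointIn D pt M x with hL
  have hLK : L ≤ K := (Subgroup.closure_le _).2 fun d hd => hmemK hd.1 hd.2.2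
  have hLx : L ≤ MulAction.stabilizer G x := (Subgroup.closure_le _).2 fun d hd =>
    MulAction.mem_stabilizer_iff.2 (hd.2.1 ▸ P.smul_pt hd.1)
  set φ : L →* R := f.comp (Subgroup.inclusion hLK) with hφ
  have hφH : ∀ g : L, φ g ∈ Hb := fun g => MulAction.mem_stabilizer_iff.2
    (Subtype.ext ((hsmul _ x').trans (MulAction.mem_stabilizer_iff.1 (hLx g.2))))
  let S : Set L := {g | (g : G) ∈ D ∧ pt (g : G) = x ∧ (g : G) ∈ M}
  have hgenL : Subgroup.closure S = ⊤ := by
    refine top_unique ((Subgroup.closure_closure_coe_preimage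
      (k := {d | d ∈ D ∧ pt d = x ∧ d ∈ M})).ge.trans (Subgroup.closure_mono fun g hg => hg))
  have himg : ∀ g ∈ S, φ g ≠ 1 := fun g hg => hne1 (g := Subgroup.inclusion hLK g) hg.1
  haveI := Cores.pPrimeCore_normal 2 Hb
  have hc : ∀ d ∈ S, ∀ e ∈ S, φ (d * e * (d * e)) ∈ core 2 Hb := by
    intro d hd e he
    have h2 : ∀ g ∈ S, orderOf (φ g) = 2 := fun g hg => orderOf_of_sq (by
      rw [← map_mul, show g * g = 1 from Subtype.ext (mul_self (P.inv _ hg.1)), map_one]) (himg g hg)
    refine ⟨_, hCT ⟨φ d, hφH d⟩ ⟨φ e, hφH e⟩ (h2 d hd) (h2 e he), ?_⟩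
    show φ d * φ e * (φ d)⁻¹ * (φ e)⁻¹ = φ (d * e * (d * e))
    rw [inv_eq (h2 d hd), inv_eq (h2 e he), map_mul, map_mul, mul_assoc (φ d * φ e)]
  refine commutator_mem_core φ hgenL (fun g hg => by rw [← Subgroup.orderOf_coe]; exact P.inv _ hg.1)
    ?_ ?_ (core 2 Hb) (odd_card_core_two Hb)
    (fun g n hn => conj_mem_core_two (Subgroup.le_normalizer (hφH g)) hn) hc
  · intro d hd a ha hcom
    by_contra hne
    have hD' : ((a * d * a⁻¹ : L) : G) ∈ D := P.conj_mem (a : G) _ hd.1
    have hmul := P.mul_mem_of_commute hd.1 hD' (congrArg Subtype.val hcom)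
      (fun e => hne (Subtype.ext e).symm) hxy
    refine hne1 (g := Subgroup.inclusion hLK (d * (a * d * a⁻¹))) hmul ?_
    show φ (d * (a * d * a⁻¹)) = 1
    rw [map_mul, map_mul, map_mul, map_inv, MonoidHom.mem_ker.1 ha, one_mul, inv_one, mul_one,
      ← map_mul, show d * d = 1 from Subtype.ext (mul_self (P.inv _ hd.1)), map_one]
  · intro d hd e he
    rw [← Nat.not_even_iff_odd]
    intro hev
    set o := orderOf ((d : G) * e) with ho
    have hoL : orderOf (d * e) = o := by rw [ho, ← Subgroup.coe_mul, Subgroup.orderOf_coe]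
    have hoe : Even o := by
      rw [← hoL]
      refine even_iff_two_dvd.2 ((even_iff_two_dvd.1 hev).trans ?_)
      rw [← sq]
      exact orderOf_pow_dvd 2
    have h4 : 4 ∣ o := by
      have h1 : orderOf (d * e * (d * e)) = o / 2 := by
        rw [← sq, orderOf_pow' _ (by norm_num), hoL, Nat.gcd_eq_right (even_iff_two_dvd.1 hoe)]
      obtain ⟨i, hi⟩ := even_iff_two_dvd.1 hev
      obtain ⟨j, hj⟩ := even_iff_two_dvd.1 hoe
      exact ⟨i, by omega⟩
    obtain ⟨hp, hpc, hpne⟩ := P.exists_partner hd.1 he.1 hoe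
    have hr := P.mul_mem_of_commute hd.1 hp hpc hpne.symm hxy
    rw [← mul_assoc, mul_self (P.inv _ hd.1), one_mul] at hr
    obtain ⟨i, hi⟩ := h4
    have hpow : (d * e * (d * e)) ^ i = (d * e) ^ (o / 2) := by
      rw [← sq, ← pow_mul, show o / 2 = 2 * i by omega]
    refine hne1 (g := Subgroup.inclusion hLK ((d * e) ^ (o / 2))) (by simpa using hr) ?_
    show φ ((d * e) ^ (o / 2)) = 1
    have hz : φ ((d * e) ^ (o / 2)) ∈ core 2 Hb := by
      rw [← hpow, map_pow]
      exact Subgroup.pow_mem _ (hc d hd e he) i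
    refine ZStar.eq_one_of_odd_of_sq ((odd_card_core_two Hb).of_dvd_nat
      (Subgroup.orderOf_dvd_natCard _ hz)) ?_
    rw [← map_pow, ← pow_mul, show o / 2 * 2 = o by omega, ← hoL, pow_orderOf_eq_one, map_one]

/-- A proper subgroup containing the members at `x` and a member moving `x`. -/
theorem coreTwoAt_of_proper (hgen : Subgroup.closure D = ⊤)
    (hIH : PointCriterionBelow.{u} (Nat.card G)) (hM : M ≠ ⊤) {x : Ω}
    (hMx : ∀ d ∈ D, pt d = x → d ∈ M) {w : G} (hw : w ∈ D) (hwM : w ∈ M) (hwx : w • x ≠ x) :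
    CoreTwoAt D pt x := by
  obtain ⟨v, hv, hvx⟩ := P.exists_at x
  have h := P.commute_mod_in hIH hM hv (hMx v hv hvx) hvx hw hwM hwx
  have e : atPointIn D pt M x = atPoint D pt x :=
    congrArg Subgroup.closure (Set.ext fun d => ⟨fun hd => ⟨hd.1, hd.2.1⟩,
      fun hd => ⟨hd.1, hd.2, hMx d hd.1 hd.2⟩⟩)
  rw [e] at h
  exact h

/-- The criterion of Bender's argument. -/
theorem coreTwoAt_of_normalized (hgen : Subgroup.closure D = ⊤)
    (hIH : PointCriterionBelow.{u} (Nat.card G)) {N : Subgroup G} {x y : Ω} (hxy : x ≠ y)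
    (hN : N ≠ ⊥) (hNK : N ≤ twoPt G x y)
    (hKN : core 2 (twoPt G x y) ≤ Subgroup.normalizer (N : Set G))
    {v : G} (hv : v ∈ D) (hvx : pt v = x) (hvN : v ∈ Subgroup.normalizer (N : Set G))
    {w : G} (hw : w ∈ D) (hwx : w • x = y) (hwN : w ∈ Subgroup.normalizer (N : Set G)) :
    CoreTwoAt D pt x := by
  refine P.coreTwoAt_of_proper hgen hIH (M := Subgroup.normalizer (N : Set G)) ?_ ?_ hw hwN
    (by rw [hwx]; exact hxy.symm)
  · intro htop
    haveI : N.Normal := Subgroup.normalizer_eq_top_iff.1 htop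
    refine hN ((Subgroup.eq_bot_iff_forall _).2 fun n hn => eq_of_smul_eq_smul fun p : Ω => ?_)
    obtain ⟨g, rfl⟩ := P.exists_smul_eq x p
    have h := MulAction.mem_stabilizer_iff.1
      (hNK (Subgroup.Normal.conj_mem inferInstance n hn g⁻¹)).1
    rw [inv_inv, mul_smul, mul_smul, inv_smul_eq_iff] at h
    rw [one_smul]
    exact h
  · intro d hd hdx
    obtain ⟨a, ha, rfl⟩ := P.exists_core_conj_point hxy hv hvx hd hdx
    exact mul_mem (mul_mem (hKN ha) hvN) (inv_mem (hKN ha))

end PointClass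

end memGroup

end Cfsg.Agent.Aschbacher
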