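/-
The members at a point when they commute (piece A of the core-free criterion, after stage 2;
owner: helper1).

`P : PointClass G Ω D pt`, `hcomm` : members at the same point commute.

Main results (namespace `Cfsg.Agent.Aschbacher.PointClass`):
* `eq_one_of_inverted_fixing`, `centralizes_of_fixing`, `pointNC_of_commute` : no member acts
  nontrivially on a subgroup of odd order fixing its point
* `mem_atPoint_iff` : the group `E_x` generated by the members at `x` consists of them and `1`
* `commute_atPoint`, `sq_atPoint`, `card_atPoint`, `exists_card_atPoint` : it is elementary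
  abelian of order `ι + 1 = 2 ^ r`
* `stabilizer_le_normalizer_atPoint`, `eq_pt_of_atPoint` : normal in `G_x`, semiregular off `x`
* `exists_swap_centralizing_core` : given transitivity, for every pair and every member at the
  first point a swapper centralises the part of the odd core centralising that member
-/
import Cfsg.Agent.Lib.Aschbacher.PairSwapCentral
import Cfsg.Agent.Lib.Aschbacher.PointCrit

set_option autoImplicit false
set_option linter.style.haveILetI false
set_option linter.unusedSectionVars false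

namespace Cfsg.Agent.Aschbacher

open Cfsg Involution Bender
open scoped Pointwise

universe u

/-- An automorphism maps cores to cores. -/
theorem core_map_equiv {G : Type*} [Group G] [Finite G] (φ : G ≃* G) (q : ℕ) (K : Subgroup G) :
    core q (K.map φ.toMonoidHom) = (core q K).map φ.toMonoidHom := by
  set e := K.equivMapOfInjective φ.toMonoidHom φ.injective
  rw [core, core, ← Cores.pPrimeCore_map_mulEquiv e q, Subgroup.map_map, Subgroup.map_map]
  rfl

/-- Conjugation maps the core of a two-point stabiliser to that of the image pair. -/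
theorem conj_mem_core_twoPt {G : Type*} {Ω : Type*} [Group G] [Finite G] [MulAction G Ω] {g a : G}
    {x y : Ω} (ha : a ∈ core 2 (twoPt G x y)) :
    g * a * g⁻¹ ∈ core 2 (twoPt G (g • x) (g • y)) := by
  have hK : (twoPt G x y).map (MulAut.conj g).toMonoidHom = twoPt G (g • x) (g • y) := by
    ext k
    constructor
    · rintro ⟨b, hb, rfl⟩
      simp only [MulEquiv.coe_toMonoidHom, MulAut.conj_apply, Subgroup.mem_inf,
        MulAction.mem_stabilizer_iff, mul_smul, inv_smul_smul] at hb ⊢
      obtain ⟨h1, h2⟩ := hb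
      exact ⟨by rw [h1], by rw [h2]⟩
    · intro hk
      refine ⟨g⁻¹ * k * g, ?_, by simp [mul_assoc]⟩
      obtain ⟨h1, h2⟩ := hk
      exact ⟨MulAction.mem_stabilizer_iff.2 (by
          rw [mul_smul, mul_smul, MulAction.mem_stabilizer_iff.1 h1, inv_smul_smul]),
        MulAction.mem_stabilizer_iff.2 (by
          rw [mul_smul, mul_smul, MulAction.mem_stabilizer_iff.1 h2, inv_smul_smul])⟩
  rw [← hK, core_map_equiv]
  exact Subgroup.mem_map_of_mem (MulAut.conj g).toMonoidHom ha

namespace PointClass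

variable {G : Type u} {Ω : Type u} [Group G] [MulAction G Ω] [Finite G] [Finite Ω]
variable {D : Set G} {pt : G → Ω} (P : PointClass G Ω D pt)
  (hcomm : ∀ s ∈ D, ∀ t ∈ D, pt s = pt t → Commute s t)
include P hcomm

/-- A member inverts no nontrivial element of odd order fixing its point. -/
theorem eq_one_of_inverted_fixing {v k : G} (hv : v ∈ D) (hk : k • pt v = pt v)
    (hodd : Odd (orderOf k)) (hinv : v * k * v⁻¹ = k⁻¹) : k = 1 := by
  have hc := hcomm v hv (k * v * k⁻¹) (P.conj_mem k v hv) (by rw [P.pt_conj k hv, hk])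
  have hv2 := mul_self (P.inv v hv)
  have e : v * (k * v * k⁻¹) = k⁻¹ * k⁻¹ := by
    calc v * (k * v * k⁻¹) = (v * k * v⁻¹) * (v * v) * k⁻¹ := by group
      _ = k⁻¹ * k⁻¹ := by rw [hv2, mul_one, hinv]
  have e' : (v * (k * v * k⁻¹)) * (v * (k * v * k⁻¹)) = 1 := by
    calc (v * (k * v * k⁻¹)) * (v * (k * v * k⁻¹))
        = v * ((k * v * k⁻¹) * v) * (k * v * k⁻¹) := by group
      _ = (v * v) * (k * (v * v) * k⁻¹) := by rw [← hc.eq]; group
      _ = 1 := by rw [hv2]; group
  rw [e] at e'
  have h4 : k ^ 4 = 1 := by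
    rw [← inv_inj, inv_one, ← inv_pow, show (4 : ℕ) = 1 + 1 + 1 + 1 from rfl]
    simp only [pow_add, pow_one]
    rw [mul_assoc (k⁻¹ * k⁻¹)]
    exact e'
  exact orderOf_eq_one_iff.1 (Nat.eq_one_of_dvd_coprimes
    ((Nat.coprime_two_right.2 hodd).pow_right 2) dvd_rfl (orderOf_dvd_of_pow_eq_one h4))

/-- A member centralises the odd subgroups fixing its point which it normalises. -/
theorem centralizes_of_fixing {v : G} (hv : v ∈ D) {X : Subgroup G} (hX : Odd (Nat.card X))
    (hvX : v ∈ Subgroup.normalizer (X : Set G)) (hXv : X ≤ MulAction.stabilizer G (pt v)) :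
    X ≤ Subgroup.centralizer ({v} : Set G) := by
  intro y hy
  set c := v * y * v⁻¹ * y⁻¹ with hc
  have hcX : c ∈ X := X.mul_mem ((Subgroup.mem_normalizer_iff.1 hvX y).1 hy) (inv_mem hy)
  have hvi := inv_eq (P.inv v hv)
  have h1 : c = 1 := P.eq_one_of_inverted_fixing hcomm hv (MulAction.mem_stabilizer_iff.1 (hXv hcX))
    (hX.of_dvd_nat (Subgroup.orderOf_dvd_natCard X hcX)) (by
      rw [hc]
      simp only [mul_inv_rev, inv_inv, hvi]
      rw [show v * (v * y * v * y⁻¹) * v = (v * v) * y * v * y⁻¹ * v by group,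
        mul_self (P.inv v hv), one_mul]
      group)
  rw [hc, mul_inv_eq_one, mul_inv_eq_iff_eq_mul] at h1
  exact mem_centralizer.2 h1.symm

/-- So `PointNC` holds. -/
theorem pointNC_of_commute : PointNC D pt := by
  intro r _ hr t ht X hX htX hfix
  refine P.centralizes_of_fixing hcomm ht ?_ htX hfix
  have hr2 : r ≠ 2 := by
    rintro rfl
    exact Nat.not_even_iff_odd.2 (P.odd_card (pt t)) (even_iff_two_dvd.2 (hr (pt t)))
  exact odd_card_of_isPGroup hr2 hX

variable [FaithfulSMul G Ω]

section atPoint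

variable {x y : Ω} (hxy : x ≠ y)
include hxy

/-- The group generated by the members at `x` consists of them and `1`. -/
theorem mem_atPoint_iff {g : G} :
    g ∈ atPoint D pt x ↔ g = 1 ∨ (g ∈ D ∧ pt g = x) := by
  refine ⟨fun hg => ?_, ?_⟩
  · induction hg using Subgroup.closure_induction with
    | mem d hd => exact Or.inr hd
    | one => exact Or.inl rfl
    | mul a b _ _ ha hb =>
      rcases ha with rfl | ⟨haD, hax⟩
      · rwa [one_mul]
      rcases hb with rfl | ⟨hbD, hbx⟩
      · rw [mul_one]; exact Or.inr ⟨haD, hax⟩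
      by_cases hab : a = b
      · exact Or.inl (hab ▸ mul_self (P.inv a haD))
      have hc := hcomm a haD b hbD (hax.trans hbx.symm)
      have hm := P.mul_mem_of_commute haD hbD hc hab hxy
      refine Or.inr ⟨hm, ?_⟩
      rw [← P.pt_eq_of_commute haD hm ((Commute.refl a).mul_right hc), hax]
    | inv a _ ha =>
      rcases ha with rfl | ⟨haD, hax⟩
      · exact Or.inl inv_one
      · exact Or.inr (by rw [inv_eq (P.inv a haD)]; exact ⟨haD, hax⟩)
  · rintro (rfl | h)
    · exact one_mem _
    · exact Subgroup.subset_closure h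

theorem sq_atPoint {g : G} (hg : g ∈ atPoint D pt x) : g * g = 1 := by
  rcases (P.mem_atPoint_iff hcomm hxy).1 hg with rfl | ⟨hgD, -⟩
  · exact one_mul 1
  · exact mul_self (P.inv g hgD)

theorem commute_atPoint {g h : G} (hg : g ∈ atPoint D pt x) (hh : h ∈ atPoint D pt x) :
    Commute g h := by
  rcases (P.mem_atPoint_iff hcomm hxy).1 hg with rfl | ⟨hgD, hgx⟩
  · exact Commute.one_left h
  rcases (P.mem_atPoint_iff hcomm hxy).1 hh with rfl | ⟨hhD, hhx⟩
  · exact Commute.one_right g
  exact hcomm g hgD h hhD (hgx.trans hhx.symm)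

theorem card_atPoint :
    Nat.card (atPoint D pt x) = Nat.card {d : G // d ∈ D ∧ pt d = x} + 1 := by
  have h1 : (1 : G) ∉ {d | d ∈ D ∧ pt d = x} := fun h => ne_one (P.inv 1 h.1) rfl
  have hset : ((atPoint D pt x : Subgroup G) : Set G) = insert 1 {d | d ∈ D ∧ pt d = x} := by
    ext g
    exact P.mem_atPoint_iff hcomm hxy
  calc Nat.card (atPoint D pt x) = Nat.card ((atPoint D pt x : Subgroup G) : Set G) := rfl
    _ = (insert 1 {d | d ∈ D ∧ pt d = x}).ncard := by rw [hset, Nat.card_coe_set_eq]
    _ = {d | d ∈ D ∧ pt d = x}.ncard + 1 := Set.ncard_insert_of_notMem h1 (Set.toFinite _)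
    _ = _ := by rw [← Nat.card_coe_set_eq]; rfl

theorem isPGroup_atPoint : IsPGroup 2 (atPoint D pt x) := fun g =>
  ⟨1, Subtype.ext (by rw [pow_one, pow_two]; exact P.sq_atPoint hcomm hxy g.2)⟩

/-- `ι + 1` is a power of two. -/
theorem exists_card_atPoint :
    ∃ r : ℕ, Nat.card {d : G // d ∈ D ∧ pt d = x} + 1 = 2 ^ r := by
  haveI : Fact (Nat.Prime 2) := ⟨Nat.prime_two⟩
  obtain ⟨r, hr⟩ := (P.isPGroup_atPoint hcomm hxy).exists_card_eq
  exact ⟨r, by rw [← hr, P.card_atPoint hcomm hxy]⟩

theorem stabilizer_le_normalizer_atPoint :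
    MulAction.stabilizer G x ≤ Subgroup.normalizer (atPoint D pt x : Set G) := by
  intro g hg
  refine Coprime.mem_normalizer_of_forall fun e he => ?_
  rcases (P.mem_atPoint_iff hcomm hxy).1 he with rfl | ⟨heD, hex⟩
  · rw [mul_one, mul_inv_cancel]; exact one_mem _
  · exact (P.mem_atPoint_iff hcomm hxy).2 (Or.inr ⟨P.conj_mem g e heD, by
      rw [P.pt_conj g heD, hex, MulAction.mem_stabilizer_iff.1 hg]⟩)

theorem eq_pt_of_atPoint {g : G} (hg : g ∈ atPoint D pt x) (hg1 : g ≠ 1) {z : Ω} (hz : g • z = z) :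
    z = x := by
  rcases (P.mem_atPoint_iff hcomm hxy).1 hg with rfl | ⟨hgD, hgx⟩
  · exact absurd rfl hg1
  · exact ((P.fixed_iff g hgD z).1 hz).trans hgx

end atPoint

/-- With transitivity: for every pair and every member at the first point a swapper centralises
what centralises it in the odd core, and these centralisers coincide. -/
theorem exists_swap_centralizing_core (hIH : PointCriterionBelow.{u} (Nat.card G))
    (htrans : ∀ x y z : Ω, x ≠ y → x ≠ z → ∃ g ∈ MulAction.stabilizer G x, g • y = z)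
    {v : G} (hv : v ∈ D) {y : Ω} (hy : y ≠ pt v) :
    ∃ u ∈ D, u • pt v = y ∧ core 2 (twoPt G (pt v) y) ⊓ Subgroup.centralizer ({v} : Set G) =
      core 2 (twoPt G (pt v) y) ⊓ Subgroup.centralizer ({u} : Set G) := by
  obtain ⟨b, u₀, hb, hu₀, hu₀b, hcent⟩ :=
    P.exists_swapper_hcent hIH (P.pointNC_of_commute hcomm) hv hy
  obtain ⟨h, hh, hhb⟩ := htrans (pt v) b y hb.symm hy.symm
  have hhv : h • pt v = pt v := MulAction.mem_stabilizer_iff.1 hh
  set v' := h * v * h⁻¹ with hv'
  have hv'D : v' ∈ D := P.conj_mem h v hv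
  have hv'pt : pt v' = pt v := by rw [hv', P.pt_conj h hv, hhv]
  obtain ⟨o, ho, hov⟩ := P.exists_core_conj_point hy.symm hv'D hv'pt hv rfl
  have hoK := core_le 2 _ ho
  set u := o * (h * u₀ * h⁻¹) * o⁻¹ with hu
  have huD : u ∈ D := P.conj_mem o _ (P.conj_mem h u₀ hu₀)
  have huy : u • pt v = y := by
    rw [hu, mul_smul, mul_smul, inv_smul_eq_iff.2 (MulAction.mem_stabilizer_iff.1 hoK.1).symm,
      mul_smul, mul_smul, inv_smul_eq_iff.2 hhv.symm, hu₀b, hhb,
      MulAction.mem_stabilizer_iff.1 hoK.2]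
  refine ⟨u, huD, huy, ?_⟩
  have hle : core 2 (twoPt G (pt v) y) ⊓ Subgroup.centralizer ({v} : Set G) ≤
      Subgroup.centralizer ({u} : Set G) := by
    intro a ha
    -- pull `a` back to the pair `pt v, b`
    set g := o * h with hg
    have hgv : g⁻¹ • pt v = pt v := by
      rw [inv_smul_eq_iff, hg, mul_smul, hhv, MulAction.mem_stabilizer_iff.1 hoK.1]
    have hgy : g⁻¹ • y = b := by
      rw [inv_smul_eq_iff, hg, mul_smul, hhb, MulAction.mem_stabilizer_iff.1 hoK.2]
    have h1 : g⁻¹ * a * g⁻¹⁻¹ ∈ core 2 (twoPt G (pt v) b) := by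
      have := conj_mem_core_twoPt (g := g⁻¹) ha.1
      rwa [hgv, hgy] at this
    have hgv' : g * v * g⁻¹ = v := by
      calc g * v * g⁻¹ = o * v' * o⁻¹ := by rw [hg, hv']; group
        _ = v := hov
    have h2 : Commute (g⁻¹ * a * g⁻¹⁻¹) v := by
      have := (mem_centralizer.1 ha.2).map (MulAut.conj g⁻¹).toMonoidHom
      simp only [MulEquiv.coe_toMonoidHom, MulAut.conj_apply] at this
      rwa [show g⁻¹ * v * g⁻¹⁻¹ = v from by nth_rw 1 [← hgv']; group] at this
    have h3 := mem_centralizer.1 (hcent ⟨h1, mem_centralizer.2 h2⟩)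
    refine mem_centralizer.2 ?_
    have := h3.map (MulAut.conj g).toMonoidHom
    simp only [MulEquiv.coe_toMonoidHom, MulAut.conj_apply] at this
    rwa [show g * (g⁻¹ * a * g⁻¹⁻¹) * g⁻¹ = a by group,
      show g * u₀ * g⁻¹ = u by rw [hg, hu]; group] at this
  refine Subgroup.eq_of_le_of_card_ge (le_inf inf_le_left hle) ?_
  have c1 := P.card_core_point hy.symm hv rfl
  have c2 := P.card_core_swap hy.symm huD huy
  rw [card_point_eq P y (pt v)] at c2
  rw [c1] at c2
  exact (Nat.eq_of_mul_eq_mul_left (Nat.pos_of_ne_zero (P.card_point_ne_zero (pt v))) c2).ge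

end PointClass

end Cfsg.Agent.Aschbacher
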