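/-
The setting of the finish of the core-free criterion (owner: helper1).

`h : FinishHyp G Ω D pt` bundles the hypotheses of `FinishStep`; `IsFixInv Ω u` says that `u` is an
involution fixing two points.  `E_x` is `atPoint D pt x`.

* `FinishHyp.hom_eq_one` : a homomorphism of `G` into an abelian group is trivial
* `FinishHyp.not_index_two` : no normal subgroup of index two
* `FinishHyp.false_of_hom` : so no homomorphism of a point stabiliser into an abelian group detects
  an involution fixing two points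
* `FinishHyp.exists_conj_mem` : Thompson transfer, every involution is conjugate into every subgroup
  of index two of a Sylow subgroup
* `finishStep_of` : `FinishStep` in this language
* `FinishHyp.mem_E`, `semiregular`, `stabilizer_le_normalizer`, `exists_card_E`, `three_le` : `E_x`
-/
import Cfsg.Agent.Lib.Aschbacher.PairElementary
import Cfsg.Agent.Lib.Aschbacher.PairAssembly
import Cfsg.Agent.Lib.Aschbacher.CriterionTransfer
import Cfsg.Agent.S0111

set_option autoImplicit false
set_option linter.style.haveILetI false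
set_option linter.unusedSectionVars false

namespace Cfsg.Agent.Aschbacher

open Cfsg Involution MulAction

universe u

/-- An involution fixing two points. -/
def IsFixInv {G : Type u} (Ω : Type u) [Group G] [MulAction G Ω] (u : G) : Prop :=
  orderOf u = 2 ∧ ∃ a b : Ω, a ≠ b ∧ u • a = a ∧ u • b = b

/-- The hypotheses of the finish of the criterion. -/
structure FinishHyp (G : Type u) [Group G] [Finite G] (Ω : Type u) [MulAction G Ω] (D : Set G)
    (pt : G → Ω) : Prop where
  pc : PointClass G Ω D pt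
  gen : Subgroup.closure D = ⊤
  ih : PointCriterionBelow.{u} (Nat.card G)
  pair : ∃ d ∈ D, ∃ e ∈ D, Commute d e ∧ d ≠ e
  comm : ∀ s ∈ D, ∀ t ∈ D, pt s = pt t → Commute s t
  trans : ∀ x y z : Ω, x ≠ y → x ≠ z → ∃ g ∈ MulAction.stabilizer G x, g • y = z

namespace FinishHyp

variable {G : Type u} {Ω : Type u} [Group G] [MulAction G Ω] [Finite G] [Finite Ω]
  [FaithfulSMul G Ω] {D : Set G} {pt : G → Ω} (h : FinishHyp G Ω D pt)
include h

/-- There are two points. -/
theorem exists_ne (x : Ω) : ∃ y : Ω, x ≠ y := by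
  obtain ⟨d, hd, -⟩ := h.pc.exists_at x
  by_contra! hall
  exact ne_one (h.pc.inv d hd) (eq_of_smul_eq_smul fun p : Ω => by rw [one_smul, ← hall (d • p), hall p])

/-- An involution fixing two points is not a member. -/
theorem not_mem_of_fixInv {u : G} (hu : IsFixInv Ω u) : u ∉ D := fun hD => by
  obtain ⟨-, a, b, hab, ha, hb⟩ := hu
  exact hab (((h.pc.fixed_iff u hD a).1 ha).trans ((h.pc.fixed_iff u hD b).1 hb).symm)

/-- At every point there are two members whose product is a member. -/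
theorem exists_two (x : Ω) :
    ∃ d e : G, d ∈ D ∧ e ∈ D ∧ pt d = x ∧ pt e = x ∧ d ≠ e ∧ d * e ∈ D := by
  obtain ⟨d, hd, e, he, hde, hne⟩ := h.pair
  obtain ⟨y, hy⟩ := h.exists_ne x
  have hpe : pt d = pt e := h.pc.pt_eq_of_commute hd he hde
  obtain ⟨g, hg⟩ := h.pc.exists_smul_eq (pt d) x
  refine ⟨g * d * g⁻¹, g * e * g⁻¹, h.pc.conj_mem g d hd, h.pc.conj_mem g e he,
    by rw [h.pc.pt_conj g hd, hg], by rw [h.pc.pt_conj g he, ← hpe, hg], by simpa using hne, ?_⟩
  rw [show g * d * g⁻¹ * (g * e * g⁻¹) = g * (d * e) * g⁻¹ by group]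
  exact h.pc.conj_mem g _ (h.pc.mul_mem_of_commute hd he hde hne hy)

/-- A homomorphism into an abelian group is trivial. -/
theorem hom_eq_one {A : Type*} [CommGroup A] (φ : G →* A) (g : G) : φ g = 1 := by
  have hD : ∀ t ∈ D, φ t = 1 := by
    intro t ht
    obtain ⟨d, e, hd, he, -, -, -, hde⟩ := h.exists_two (pt t)
    obtain ⟨y, hy⟩ := h.exists_ne (pt t)
    have key : ∀ s ∈ D, φ s = φ t := by
      intro s hs
      obtain ⟨c, rfl⟩ := isConj_iff.1 (h.pc.isConj_of_mem hy ht hs)
      rw [map_mul, map_mul, map_inv, mul_comm, inv_mul_cancel_left]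
    have h1 := key _ hde
    rw [map_mul, key d hd, key e he] at h1
    simpa using h1
  exact MonoidHom.mem_ker.1 (((Subgroup.closure_le φ.ker).2 hD) (h.gen ▸ Subgroup.mem_top g))

/-- There is no normal subgroup of index two. -/
theorem not_index_two (M : Subgroup G) [M.Normal] : M.index ≠ 2 := by
  intro hM
  haveI : IsCyclic (G ⧸ M) := isCyclic_of_prime_card (p := 2) (by rw [← Subgroup.index_eq_card, hM])
  letI : CommGroup (G ⧸ M) := IsCyclic.commGroup
  have htop : M = ⊤ := eq_top_iff.2 fun g _ =>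
    (QuotientGroup.eq_one_iff g).1 (h.hom_eq_one (QuotientGroup.mk' M) g)
  rw [htop, Subgroup.index_top] at hM
  omega

/-- **Thompson transfer.** Every involution of a Sylow subgroup is conjugate into each of its
subgroups of index two. -/
theorem exists_conj_mem (S : Sylow 2 G) (M : Subgroup G) (hMS : M ≤ (S : Subgroup G))
    (hM : M.relIndex (S : Subgroup G) = 2) {v : G} (hv : orderOf v = 2) (hvS : v ∈ (S : Subgroup G)) :
    ∃ g : G, g * v * g⁻¹ ∈ M := by
  by_cases hvM : v ∈ M
  · exact ⟨1, by simpa using hvM⟩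
  rcases S0111.result S M hMS hM v hv hvS hvM with ⟨N, hN, hNi, -⟩ | hc
  · haveI := hN
    exact absurd hNi (h.not_index_two N)
  · exact hc

/-- No homomorphism of a point stabiliser into an abelian group detects an involution fixing that
point and another. -/
theorem false_of_hom {a b : Ω} (hab : a ≠ b) {v : G} (hv : orderOf v = 2)
    (hva : v • a = a) (hvb : v • b = b) {A : Type*} [CommGroup A]
    (χ : stabilizer G a →* A) (hχ : χ ⟨v, mem_stabilizer_iff.2 hva⟩ ≠ 1) : False := by
  classical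
  haveI : Fact (Nat.Prime 2) := ⟨Nat.prime_two⟩
  have hv2 : v * v = 1 := mul_self hv
  have hsq : v ^ 2 = 1 := by rw [sq, hv2]
  have h₀ : (1 : G)⁻¹ * v * 1 ∈ stabilizer G a := by simpa using hva
  have hfixiff : ∀ g : G, v • (g : G ⧸ stabilizer G a) = g ↔ v • (g • a) = g • a := by
    intro g
    rw [TwoTransfer.mk_fixed_iff, mem_stabilizer_iff, mul_smul, mul_smul, inv_smul_eq_iff]
  have hcard : Nat.card {q : G ⧸ stabilizer G a // v • q = q} = Nat.card {p : Ω // v • p = p} := by
    refine Nat.card_congr (Equiv.ofBijective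
      (fun q => ⟨MulAction.ofQuotientStabilizer G a q.1, ?_⟩) ⟨?_, ?_⟩)
    · rw [← MulAction.ofQuotientStabilizer_smul, q.2]
    · exact fun q q' e => Subtype.ext
        (MulAction.injective_ofQuotientStabilizer G a (congrArg Subtype.val e))
    · rintro ⟨p, hp⟩
      obtain ⟨g, rfl⟩ := h.pc.exists_smul_eq a p
      exact ⟨⟨(g : G ⧸ stabilizer G a), (hfixiff g).2 hp⟩, rfl⟩
  have hodd : Odd (Nat.card {p : Ω // v • p = p}) := by
    obtain ⟨d, hd, -⟩ := h.pc.exists_at a
    have h1 := (IsPGroup.of_card (p := 2) (G := Subgroup.zpowers v) (n := 1)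
      (by rw [Nat.card_zpowers, hv, pow_one])).card_modEq_card_fixedPoints Ω
    have h2 : Nat.card (fixedPoints (Subgroup.zpowers v) Ω) = Nat.card {p : Ω // v • p = p} :=
      Nat.card_congr (Equiv.subtypeEquivRight fun p => ⟨fun hp => hp ⟨v, Subgroup.mem_zpowers v⟩,
        fun hp => fun ⟨x, hx⟩ => mem_stabilizer_iff.1
          (Subgroup.zpowers_le.2 (mem_stabilizer_iff.2 hp) hx)⟩)
    rw [Nat.odd_iff, ← h2]
    exact (show _ % 2 = _ % 2 from h1.symm).trans (Nat.odd_iff.1 (h.pc.odd_card_points hd))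
  have hV := transfer_involution χ hsq h₀ (fun g hg => by
    have hfix : v • (g • a) = g • a := (hfixiff g).1 ((TwoTransfer.mk_fixed_iff v g).2 hg)
    obtain ⟨d, hd, hda, hdv⟩ := h.pc.exists_commuting hv2 hva
    obtain ⟨e, he, heg, hev⟩ := h.pc.exists_commuting hv2 hfix
    obtain ⟨c, hcv, hcd⟩ := h.pc.exists_conj_centralizing hv2 hab hva hvb hd hdv he hev
    refine ⟨c, hcv, ?_⟩
    have h1 := h.pc.pt_conj c hd
    rw [hcd, heg, hda] at h1
    rw [QuotientGroup.eq, mem_stabilizer_iff, mul_one, mul_smul, inv_smul_eq_iff]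
    exact h1)
  rw [h.hom_eq_one, hcard] at hV
  obtain ⟨k, hk⟩ := hodd
  have e1 : (⟨(1 : G)⁻¹ * v * 1, h₀⟩ : stabilizer G a) = ⟨v, mem_stabilizer_iff.2 hva⟩ :=
    Subtype.ext (by simp)
  have e2 : χ ⟨v, mem_stabilizer_iff.2 hva⟩ ^ 2 = 1 := by
    rw [← map_pow, ← map_one χ]
    exact congrArg χ (Subtype.ext hsq)
  rw [hk, e1, pow_succ, pow_mul, e2, one_pow, one_mul] at hV
  exact hχ hV.symm

/-- `E_x` consists of the members at `x` and `1`. -/
theorem mem_E {x : Ω} {g : G} : g ∈ atPoint D pt x ↔ g = 1 ∨ (g ∈ D ∧ pt g = x) := by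
  obtain ⟨y, hy⟩ := h.exists_ne x
  exact h.pc.mem_atPoint_iff h.comm hy

/-- `E_x` is abelian. -/
theorem commute_E {x : Ω} {g k : G} (hg : g ∈ atPoint D pt x) (hk : k ∈ atPoint D pt x) :
    Commute g k := by
  obtain ⟨y, hy⟩ := h.exists_ne x
  exact h.pc.commute_atPoint h.comm hy hg hk

/-- `E_x` is of exponent two. -/
theorem sq_E {x : Ω} {g : G} (hg : g ∈ atPoint D pt x) : g * g = 1 := by
  obtain ⟨y, hy⟩ := h.exists_ne x
  exact h.pc.sq_atPoint h.comm hy hg

/-- `E_x` is semiregular off `x`. -/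
theorem semiregular {x z : Ω} {g : G} (hg : g ∈ atPoint D pt x) (hg1 : g ≠ 1) (hz : g • z = z) :
    z = x := by
  obtain ⟨y, hy⟩ := h.exists_ne x
  exact h.pc.eq_pt_of_atPoint h.comm hy hg hg1 hz

/-- `E_x` is normal in the stabiliser of `x`. -/
theorem stabilizer_le_normalizer (x : Ω) :
    stabilizer G x ≤ Subgroup.normalizer (atPoint D pt x : Set G) := by
  obtain ⟨y, hy⟩ := h.exists_ne x
  exact h.pc.stabilizer_le_normalizer_atPoint h.comm hy

/-- `|E_x| = 2 ^ r` with `r ≥ 2`. -/
theorem exists_card_E (x : Ω) : ∃ r : ℕ, 2 ≤ r ∧ Nat.card (atPoint D pt x) = 2 ^ r := by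
  obtain ⟨y, hy⟩ := h.exists_ne x
  obtain ⟨r, hr⟩ := h.pc.exists_card_atPoint h.comm hy
  rw [← h.pc.card_atPoint h.comm hy] at hr
  obtain ⟨d, e, hd, he, hdx, hex, hne, -⟩ := h.exists_two x
  refine ⟨r, ?_, hr⟩
  by_contra! hlt
  have h2 : Nat.card (atPoint D pt x) ≤ 2 := by
    rw [hr]
    exact (Nat.pow_le_pow_right two_pos (by omega : r ≤ 1)).trans_eq (pow_one 2)
  have h3 : Function.Injective (![⟨1, one_mem _⟩, ⟨d, h.mem_E.2 (Or.inr ⟨hd, hdx⟩)⟩,
      ⟨e, h.mem_E.2 (Or.inr ⟨he, hex⟩)⟩] : Fin 3 → atPoint D pt x) := by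
    have hd1 := ne_one (h.pc.inv d hd)
    have he1 := ne_one (h.pc.inv e he)
    intro i j hij
    fin_cases i <;> fin_cases j <;> simp_all [Subtype.ext_iff, eq_comm]
  have := Nat.card_le_card_of_injective _ h3
  rw [Nat.card_eq_fintype_card, Fintype.card_fin] at this
  omega

end FinishHyp

/-- `FinishStep` in this language. -/
theorem finishStep_of
    (H : ∀ (G : Type u) [Group G] [Finite G] (Ω : Type u) [MulAction G Ω] [Finite Ω]
      [FaithfulSMul G Ω] (D : Set G) (pt : G → Ω), FinishHyp G Ω D pt →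
      ∀ v : G, ¬ IsFixInv Ω v) : FinishStep.{u} :=
  fun G _ _ Ω _ _ _ D pt P hgen hIH hpair hcomm htrans v hv a b hab ha hb =>
    H G Ω D pt ⟨P, hgen, hIH, hpair, hcomm, htrans⟩ v ⟨hv, a, b, hab, ha, hb⟩

end Cfsg.Agent.Aschbacher
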