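/-
Goodness in a point class, two-point stabilisers of any order (port of `Bender/Good` with
`O_xy = core 2 (twoPt G x y)` in place of the stabiliser; piece A of the core-free criterion;
owner: helper87).

Main results (namespace `Cfsg.Agent.Aschbacher.PointClass`):
* `exists_swap_normalizing_core` : a swapper normalises a given Sylow subgroup of `O_xy`
* `exists_inverted_core`, `card_inverted_core` : the inverted elements of such a subgroup
* `centred_orbit_fixed_core` : an inverted element fixes the orbit of the point under `O_p'(O_xy)`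
* `exists_core_moved_pair` : in the critical situation some core moves the point of its swapper
* `not_commute_of_centred` : no member centralises an inverted element of a centred subgroup
-/
import Cfsg.Agent.Lib.Aschbacher.InvertedCore
import Cfsg.Agent.Lib.Aschbacher.PairSylow
import Cfsg.Agent.Lib.Bender.Centred

set_option autoImplicit false
set_option linter.style.haveILetI false
set_option linter.unusedSectionVars false

namespace Cfsg.Agent.Aschbacher

open Cfsg Involution Bender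
open scoped Pointwise

universe u v

namespace PointClass

variable {G : Type u} {Ω : Type v} [Group G] [MulAction G Ω] [Finite G] [Finite Ω]
variable {D : Set G} {pt : G → Ω} {p : ℕ} [Fact p.Prime]
  (PC : PointClass G Ω D pt)
include PC

/-- A swapper normalises a given Sylow subgroup of `O_xy`. -/
theorem exists_swap_normalizing_core {x y : Ω} (hxy : x ≠ y) {X : Subgroup G}
    (hX : X ≤ core 2 (twoPt G x y))
    (hcard : Nat.card X = p ^ (Nat.card (core 2 (twoPt G x y))).factorization p) :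
    ∃ w ∈ D, w ∈ Subgroup.normalizer (X : Set G) ∧ w • x = y := by
  set K := core 2 (twoPt G x y) with hK
  obtain ⟨e, he, hex⟩ := PC.exists_at x
  obtain ⟨f, hf, hfy⟩ := PC.exists_at y
  obtain ⟨w, hw, -, hwxy⟩ := PC.exists_mid he hf (by rw [hex, hfy]; exact hxy)
  rw [hex, hfy] at hwxy
  obtain ⟨Q, -, hQK, hwQ, -, hQcard⟩ := exists_sylow_invariant (p := p) (PC.inv w hw)
    (PC.swap_mem_normalizer_core hw hwxy) (odd_card_core_two _) (R := ⊥) bot_le IsPGroup.of_bot (by
      rw [Subgroup.normalizer_eq_top_iff.2 inferInstance]; exact Subgroup.mem_top w)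
  obtain ⟨S, hS⟩ := Coprime.exists_sylow_map_eq hQK hQcard
  obtain ⟨T, hT⟩ := Coprime.exists_sylow_map_eq hX hcard
  obtain ⟨g, hg⟩ := MulAction.exists_smul_eq K S T
  have hgK : (g : G) ∈ twoPt G x y := core_le 2 _ g.2
  have hXQ : MulAut.conj (g : G) • Q = X := by
    rw [← hS, ← hT, ← hg]
    exact (Coprime.map_subtype_smul g S).symm
  refine ⟨(g : G) * w * (g : G)⁻¹, PC.conj_mem _ w hw, ?_, ?_⟩
  · rw [← hXQ]
    refine Coprime.mem_normalizer_of_conj_eq ?_
    rw [← mul_smul, ← map_mul, inv_mul_cancel_right, map_mul, mul_smul,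
      Coprime.conj_eq_of_mem_normalizer hwQ]
  · have h1 : (g : G)⁻¹ • x = x := inv_smul_eq_iff.2 (MulAction.mem_stabilizer_iff.1 hgK.1).symm
    rw [mul_smul, mul_smul, h1, hwxy]
    exact MulAction.mem_stabilizer_iff.1 hgK.2

/-- A swapper inverts `p`-part-of-`ι` many elements of an invariant Sylow subgroup of `O_xy`. -/
theorem card_inverted_core {x y : Ω} (hxy : x ≠ y) {u : G} (hu : u ∈ D) (hux : u • x = y)
    {Q : Subgroup G} (hQK : Q ≤ core 2 (twoPt G x y)) (huQ : u ∈ Subgroup.normalizer (Q : Set G))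
    (hQ : Nat.card Q = p ^ (Nat.card (core 2 (twoPt G x y))).factorization p) :
    Nat.card {g : G // g ∈ Q ∧ u * g * u⁻¹ = g⁻¹} =
      pPart p (Nat.card {f : G // f ∈ D ∧ pt f = y}) := by
  have hu2 := PC.inv u hu
  set S : Set G := {s | ∃ g ∈ Q, u * g * u⁻¹ = g⁻¹ ∧ u * g = s} with hS
  have hcard : Nat.card S = Nat.card {g : G // g ∈ Q ∧ u * g * u⁻¹ = g⁻¹} :=
    (Nat.card_congr (Equiv.ofBijective
      (fun g : {g : G // g ∈ Q ∧ u * g * u⁻¹ = g⁻¹} => (⟨u * g.1, g.1, g.2.1, g.2.2, rfl⟩ : S))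
      ⟨fun g h e => Subtype.ext (mul_left_cancel (congrArg Subtype.val e)),
        fun s => by
          obtain ⟨g, hg, hgi, e⟩ := s.2
          exact ⟨⟨g, hg, hgi⟩, Subtype.ext e⟩⟩)).symm
  have hsplit := card_eq_mul_centralizer Q S (s₀ := u) ?_ ⟨1, Q.one_mem, by group, mul_one u⟩ ?_
  · rw [hcard] at hsplit
    have hcop : (Nat.card (Subgroup.zpowers u)).Coprime (Nat.card (core 2 (twoPt G x y))) := by
      rw [Nat.card_zpowers, hu2]
      exact Nat.coprime_two_left.2 (odd_card_core_two _)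
    have hC := Coprime.card_inf_centralizer_eq (A := Subgroup.zpowers u) (q := p)
      (Subgroup.zpowers_le.2 (PC.swap_mem_normalizer_core hu hux)) hcop hQK
      (Subgroup.zpowers_le.2 huQ) hQ (Subgroup.mem_zpowers u)
    rw [hQ, PC.card_core_swap hxy hu hux, Nat.factorization_mul (PC.card_point_ne_zero y)
      Nat.card_pos.ne', Finsupp.add_apply, pow_add, hC] at hsplit
    exact (Nat.eq_of_mul_eq_mul_right (pow_pos (Fact.out : p.Prime).pos _) hsplit).symm
  · rintro k hk _ ⟨g, hg, hginv, rfl⟩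
    refine ⟨u⁻¹ * k * u * g * k⁻¹, mul_mem (mul_mem ?_ hg) (inv_mem hk), ?_, by group⟩
    · have := (Subgroup.mem_normalizer_iff.1 (inv_mem huQ) k).1 hk
      rwa [inv_inv] at this
    · have hsq : u * g * (u * g) = 1 := by
        rw [inv_eq hu2] at hginv
        rw [← mul_assoc, hginv, inv_mul_cancel]
      refine eq_inv_of_mul_eq_one_left ?_
      calc u * (u⁻¹ * k * u * g * k⁻¹) * u⁻¹ * (u⁻¹ * k * u * g * k⁻¹)
          = k * u * g * k⁻¹ * (u * u)⁻¹ * k * u * g * k⁻¹ := by group
        _ = k * (u * g * (u * g)) * k⁻¹ := by rw [mul_self hu2]; group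
        _ = 1 := by rw [hsq]; group
  · rintro _ ⟨g, hg, hginv, rfl⟩
    obtain ⟨l, hl⟩ := Odd.of_dvd_nat (odd_card_core_two _)
      (Subgroup.orderOf_dvd_natCard _ (hQK hg))
    exact ⟨g ^ l, Q.pow_mem hg l, conj_half_pow hu2 hginv hl⟩

/-- A swapper normalising a Sylow subgroup of `O_xy` inverts a nontrivial element of it, if `p`
divides the number of members at a point. -/
theorem exists_inverted_core {P : Subgroup G} {x y : Ω} (hxy : x ≠ y)
    (hPK : P ≤ core 2 (twoPt G x y))
    (hcard : Nat.card P = p ^ (Nat.card (core 2 (twoPt G x y))).factorization p)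
    (hm : p ∣ Nat.card {f : G // f ∈ D ∧ pt f = y}) {u : G} (hu : u ∈ D) (hux : u • x = y)
    (huP : u ∈ Subgroup.normalizer (P : Set G)) :
    ∃ g ∈ P, g ≠ 1 ∧ u * g * u⁻¹ = g⁻¹ := by
  by_contra! hcon
  have hcount := PC.card_inverted_core (p := p) hxy hu hux hPK huP hcard
  have hone : Nat.card {g : G // g ∈ P ∧ u * g * u⁻¹ = g⁻¹} = 1 := by
    rw [Nat.card_eq_one_iff_unique]
    refine ⟨⟨fun a b => Subtype.ext ?_⟩, ⟨⟨1, P.one_mem, by group⟩⟩⟩
    rw [show a.1 = 1 from by_contra fun h => hcon a.1 a.2.1 h a.2.2,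
      show b.1 = 1 from by_contra fun h => hcon b.1 b.2.1 h b.2.2]
  rw [hone, pPart] at hcount
  have h1 := (Fact.out : p.Prime).factorization_pos_of_dvd (PC.card_point_ne_zero y) hm
  exact absurd hcount (Nat.one_lt_pow h1.ne' (Fact.out : p.Prime).one_lt).ne

variable {P : Subgroup G}

/-- An element of `P ∩ O_xy` inverted by the swapper `u` of `x, y` fixes the orbit of the point of `u`
under `O_p'(O_xy)`. -/
theorem centred_orbit_fixed_core (hPp : IsPGroup p P) {x y : Ω} (hxy : x ≠ y) {u g : G}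
    (hu : u ∈ D) (hux : u • x = y) (hgK : g ∈ core 2 (twoPt G x y)) (hgP : g ∈ P)
    (hgc : g • pt u = pt u) (hinv : u * g * u⁻¹ = g⁻¹) {a : G}
    (ha : a ∈ core p (core 2 (twoPt G x y))) : g • a • pt u = a • pt u := by
  obtain ⟨k, hk⟩ := hPp ⟨g, hgP⟩
  have hk' : g ^ p ^ k = 1 := congrArg Subtype.val hk
  have hu2 : u * u = 1 := mul_self (PC.inv u hu)
  have hu'D : u * g ∈ D := PC.mul_inverted_mem hu
    (Odd.of_dvd_nat (odd_card_core_two _) (Subgroup.orderOf_dvd_natCard _ hgK)) hinv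
  have hgA : g ∈ Subgroup.normalizer (core p (core 2 (twoPt G x y)) : Set G) :=
    le_normalizer_core p _ hgK
  have huA : u ∈ Subgroup.normalizer (core p (core 2 (twoPt G x y)) : Set G) :=
    normalizer_le_core p _ (PC.swap_mem_normalizer_core hu hux)
  have hu'c : pt (u * g) = pt u := ((PC.fixed_iff _ hu'D _).1
    (by rw [mul_smul, hgc, PC.smul_pt hu])).symm
  have huu' : u * (u * g) = g := by rw [← mul_assoc, hu2, one_mul]
  have := orbit_fixed (p := p) (odd_card_core (odd_card_core_two _)) not_dvd_card_core hu2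
    (mul_self (PC.inv _ hu'D))
    (PC.smul_pt hu) (by rw [mul_smul, hgc, PC.smul_pt hu]) huA (mul_mem huA hgA)
    (fun b _ hb => PC.commute_fix hu hb.symm) (fun b _ hb => by
      have h := PC.commute_fix hu'D hb.symm
      rwa [hu'c] at h) (k := k) (by rw [huu', hk']) a ha
  rwa [huu'] at this

variable (crit : ∀ (N : Subgroup G) (x y : Ω), x ≠ y → N ≠ ⊥ → N ≤ core 2 (twoPt G x y) →
    core 2 (twoPt G x y) ≤ Subgroup.normalizer (N : Set G) →
    ∀ u ∈ D, pt u = x → u ∈ Subgroup.normalizer (N : Set G) →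
    ∀ w ∈ D, w • x = y → w ∈ Subgroup.normalizer (N : Set G) → False)
  (hp : p ≠ 2) (hPp : IsPGroup p P)
  (htwo : ∃ x y : Ω, x ≠ y ∧ P ≤ twoPt G x y)
  (hmax : ∀ x y : Ω, x ≠ y → ∀ Q : Subgroup G, IsPGroup p Q → Q ≤ twoPt G x y →
    Nat.card Q ≤ Nat.card P)
  (hcentred : ¬ Free D pt P)
  (hm : ∀ y : Ω, p ∣ Nat.card {f : G // f ∈ D ∧ pt f = y})

omit PC in
include hPp hmax in
/-- A maximal `P` meets every `O_xy`, `P ≤ G_xy`, in a Sylow subgroup. -/
theorem centred_card_core {x y : Ω} (hxy : x ≠ y) (hPK : P ≤ twoPt G x y) :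
    Nat.card ↥(P ⊓ core 2 (twoPt G x y)) =
      p ^ (Nat.card (core 2 (twoPt G x y))).factorization p := by
  refine le_antisymm (Coprime.card_le_of_isPGroup (hPp.to_le inf_le_left) inf_le_right) ?_
  obtain ⟨Q, hQp, hQO, hQcard⟩ := exists_pPart (p := p) (core 2 (twoPt G x y))
  obtain ⟨S, hQS, hSK, hSp, hScard⟩ :=
    exists_sylow_twoPt (G := G) (p := p) x y hQp (hQO.trans (core_le 2 _))
  have hPcard : Nat.card P = p ^ (Nat.card (twoPt G x y)).factorization p :=
    le_antisymm (Coprime.card_le_of_isPGroup hPp hPK)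
      (hScard.symm.trans_le (hmax x y hxy S hSp hSK))
  obtain ⟨T, hT⟩ := Coprime.exists_sylow_map_eq hPK hPcard
  obtain ⟨S', hS'⟩ := Coprime.exists_sylow_map_eq hSK hScard
  obtain ⟨g, hg⟩ := MulAction.exists_smul_eq (twoPt G x y) S' T
  have hSP : MulAut.conj (g : G) • S = P := by
    rw [← hS', ← hT, ← hg]
    exact (Coprime.map_subtype_smul g S').symm
  refine hQcard.symm.trans_le ?_
  rw [← Coprime.card_conj (g : G) Q]
  refine Subgroup.card_le_of_le (le_inf ?_ fun h hh => ?_)
  · rw [← hSP, Subgroup.pointwise_smul_le_pointwise_smul_iff]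
    exact hQS
  · rw [Coprime.mem_conj] at hh
    have := (Subgroup.mem_normalizer_iff.1 (le_normalizer_core 2 _ g.2) _).1 (hQO hh)
    simpa [mul_assoc] using this

include hPp hp hmax hcentred in
/-- For a pair with `P ≤ G_xy` a swapper normalises `P`, and `P` fixes the new pair. -/
theorem exists_swap_centred {x y : Ω} (hxy : x ≠ y) (hPK : P ≤ twoPt G x y) :
    ∃ u ∈ D, u ∈ Subgroup.normalizer (P : Set G) ∧ u • x = y ∧ pt u ≠ x ∧
      P ≤ twoPt G (pt u) x := by
  obtain ⟨S, hS1, hS2, hSp, hScard⟩ := exists_sylow_twoPt (G := G) (p := p) x y hPp hPK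
  have hPcard : Nat.card P = p ^ (Nat.card (twoPt G x y)).factorization p :=
    le_antisymm (Coprime.card_le_of_isPGroup hPp hPK)
      (hScard.symm.trans_le (hmax x y hxy S hSp hS2))
  obtain ⟨u, hu, huP, hux⟩ := PC.exists_swap_normalizing_twoPt hxy hp hPK hPcard
  have hc : P ≤ MulAction.stabilizer G (pt u) := not_not.1 fun h => hcentred ⟨u, hu, huP, h⟩
  exact ⟨u, hu, huP, hux, fun h => hxy (by rw [← hux, ← h, PC.smul_pt hu]),
    le_inf hc (hPK.trans inf_le_left)⟩

omit PC in
/-- An element normalising `P` and the pair normalises `P ∩ O_xy`. -/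
theorem mem_normalizer_inf_core {K : Subgroup G} {g : G}
    (hgP : g ∈ Subgroup.normalizer (P : Set G)) (hgK : g ∈ Subgroup.normalizer (K : Set G)) :
    g ∈ Subgroup.normalizer ((P ⊓ core 2 K : Subgroup G) : Set G) :=
  Coprime.mem_normalizer_of_forall fun h hh =>
    ⟨(Subgroup.mem_normalizer_iff.1 hgP h).1 hh.1, conj_mem_core_two hgK hh.2⟩

include crit hp hPp htwo hmax hcentred hm in
/-- In the critical situation some `O_p'(O_xy)` moves the point of the swapper of its pair. -/
theorem exists_core_moved_pair : ∃ x y : Ω, x ≠ y ∧ P ≤ twoPt G x y ∧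
    ∃ u ∈ D, u ∈ Subgroup.normalizer (P : Set G) ∧ u • x = y ∧
      ∃ a ∈ core p (core 2 (twoPt G x y)), a • pt u ≠ pt u := by
  by_contra! hcon
  obtain ⟨x₀, y₀, hxy₀, hP₀⟩ := htwo
  obtain ⟨⟨x, y⟩, ⟨hxy, hPK⟩, hmaxpair⟩ := Set.Finite.exists_maximalFor
    (fun q : Ω × Ω => Nat.card (core p (core 2 (twoPt G q.1 q.2))))
    {q | q.1 ≠ q.2 ∧ P ≤ twoPt G q.1 q.2}
    (Set.toFinite _) ⟨(x₀, y₀), hxy₀, hP₀⟩
  obtain ⟨u, hu, huP, hux, hcx, hPc⟩ := PC.exists_swap_centred hp hPp hmax hcentred hxy hPK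
  set c := pt u with hcdef
  obtain ⟨w, hw, hwP, hwc, -, -⟩ := PC.exists_swap_centred hp hPp hmax hcentred hcx hPc
  set P₀ := P ⊓ core 2 (twoPt G c x) with hP₀def
  have hP₀p : IsPGroup p P₀ := hPp.to_le inf_le_left
  have hP₀card := centred_card_core hPp hmax hcx hPc
  -- the core of `x, y` is the core of `c, x`
  have hle : core p (core 2 (twoPt G x y)) ≤ core p (core 2 (twoPt G c x)) := by
    refine invariant_le_core_of_odd (odd_card_core_two _) inf_le_right hP₀card
      (fun a ha => PC.core_inf_stab_le hxy hu hux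
        ⟨core_le p _ ha, MulAction.mem_stabilizer_iff.2 (hcon x y hxy hPK u hu huP hux a ha)⟩)
      not_dvd_card_core (inf_le_left.trans (hPK.trans
        ((le_normalizer_core 2 _).trans (normalizer_le_core p _))))
  have heq : core p (core 2 (twoPt G x y)) = core p (core 2 (twoPt G c x)) :=
    Subgroup.eq_of_le_of_card_ge hle
      (hmaxpair (j := (c, x)) ⟨hcx, hPc⟩ (Subgroup.card_le_of_le hle))
  by_cases hbot : core p (core 2 (twoPt G c x)) = ⊥
  · -- all cores are trivial: the centre of the Thompson subgroup is normal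
    have hwP₀ : w ∈ Subgroup.normalizer (P₀ : Set G) :=
      mem_normalizer_inf_core hwP (swap_mem_normalizer_twoPt PC hw hwc)
    obtain ⟨g₀, hg₀, hg₀1, -⟩ := PC.exists_inverted_core hcx inf_le_right hP₀card (hm x) hw hwc hwP₀
    have huP₀ : u ∈ Subgroup.normalizer (P₀ : Set G) := by
      obtain ⟨h1, h2⟩ : P₀ ≤ P ⊓ core 2 (twoPt G c x) ∧
          P ⊓ core 2 (twoPt G x y) ≤ P₀ :=
        ⟨le_rfl, fun g hg => ⟨hg.1, PC.core_inf_stab_le hxy hu hux ⟨hg.2, (hPc hg.1).1⟩⟩⟩
      have e : P ⊓ core 2 (twoPt G x y) = P₀ := Subgroup.eq_of_le_of_card_ge h2 (by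
        rw [hP₀card, hcdef, PC.card_core_fixed hxy hu hux, ← centred_card_core hPp hmax hxy hPK])
      exact e ▸ mem_normalizer_inf_core huP (swap_mem_normalizer_twoPt PC hu hux)
    set Z := centerThompsonOf p P₀
    have hZ : Z ≠ ⊥ := by
      obtain ⟨z, hz, hz1, hzp⟩ := PLocal.exists_central_of_order_p hP₀p
        fun e => hg₀1 (Subgroup.mem_bot.1 (e ▸ hg₀))
      exact fun e => hz1 (Subgroup.mem_bot.1 (e ▸ PLocal.central_le_centerThompsonOf hz hzp))
    have hZN : ∀ g ∈ Subgroup.normalizer (P₀ : Set G), g ∈ Subgroup.normalizer (Z : Set G) := by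
      intro g hg
      rw [PLocal.mem_normalizer_iff_map_eq,
        PLocal.map_centerThompsonOf _ (MulAut.conj g).injective.injOn,
        PLocal.mem_normalizer_iff_map_eq.1 hg]
    refine crit Z c x hcx hZ ((inf_le_left.trans (PLocal.thompsonSubgroupOf_le P₀)).trans
      inf_le_right) ?_ u hu rfl (hZN u huP₀) w hw hwc (hZN w hwP₀)
    intro g hg
    obtain ⟨a, ha, n, -, hn, rfl⟩ := exists_core_mul_centerThompson hp (odd_card_core_two _)
      inf_le_right hP₀card hg
    rw [hbot, Subgroup.mem_bot] at ha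
    rwa [ha, one_mul]
  · refine crit _ c x hcx hbot (core_le p _) (le_normalizer_core p _) u hu rfl ?_ w hw hwc
      (normalizer_le_core p _ (PC.swap_mem_normalizer_core hw hwc))
    rw [← heq]
    exact normalizer_le_core p _ (PC.swap_mem_normalizer_core hu hux)

include crit hp hPp htwo hmax hcentred hm in
/-- **Goodness.** No member centralises a nontrivial element of a centred subgroup inverted by a
member that normalises the subgroup. -/
theorem not_commute_of_centred {v g : G} (hv : v ∈ D)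
    (hvP : v ∈ Subgroup.normalizer (P : Set G)) (hg : g ∈ P) (hg1 : g ≠ 1)
    (hinv : v * g * v⁻¹ = g⁻¹) {z₀ : G} (hz₀ : z₀ ∈ D) : ¬ Commute g z₀ := by
  obtain ⟨x, y, hxy, hPK, u, hu, huP, hux, a, ha, hmove⟩ :=
    PC.exists_core_moved_pair crit hp hPp htwo hmax hcentred hm
  have hcP : ∀ w ∈ D, w ∈ Subgroup.normalizer (P : Set G) → P ≤ MulAction.stabilizer G (pt w) :=
    fun w hw hwP => not_not.1 fun h => hcentred ⟨w, hw, hwP, h⟩
  have hcx : pt u ≠ x := fun h => hxy (by rw [← hux, ← h, PC.smul_pt hu])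
  have hPc : P ≤ twoPt G (pt u) x := le_inf (hcP u hu huP) (hPK.trans inf_le_left)
  -- `v` is conjugate to `u` inside `N(P)`
  obtain ⟨k, hk, hkv⟩ : ∃ k ∈ Subgroup.normalizer (P : Set G), k * v * k⁻¹ = u := by
    by_cases hne : pt v = pt u
    · obtain ⟨w, hw, hwP, hwc, -, -⟩ := PC.exists_swap_centred hp hPp hmax hcentred hcx hPc
      have hpt : pt (w * v * w⁻¹) ≠ pt u := by
        rw [PC.pt_conj w hv, hne, hwc]
        exact hcx.symm
      obtain ⟨k, hk, e⟩ := exists_conj_in PC (PC.conj_mem w v hv) hu (mem_normalizer_conj hwP hvP)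
        huP hpt
      exact ⟨k * w, mul_mem hk hwP, by rw [← e]; group⟩
    · exact exists_conj_in PC hv hu hvP huP hne
  set g' := k * g * k⁻¹ with hg'
  have hg'P : g' ∈ P := (Subgroup.mem_normalizer_iff.1 hk g).1 hg
  have hg'1 : g' ≠ 1 := fun e => hg1 (by
    rwa [hg', mul_inv_eq_one, mul_eq_left] at e)
  have hinv' : u * g' * u⁻¹ = g'⁻¹ := by
    calc u * g' * u⁻¹ = k * (v * g * v⁻¹) * k⁻¹ := by rw [← hkv, hg']; group
      _ = g'⁻¹ := by rw [hinv, hg']; group
  have hgc : g' • pt u = pt u := MulAction.mem_stabilizer_iff.1 (hcP u hu huP hg'P)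
  have hgK : g' ∈ core 2 (twoPt G x y) :=
    PC.inverted_mem_core_of_pGroup hxy hp hu hux hPp hPK hg'P hinv'
  -- an element of the core centralising `g'` moves the point of `u`
  set c := pt u
  set A := core p (core 2 (twoPt G x y)) with hA
  set R := A ⊓ MulAction.stabilizer G c with hR
  have hgA : g' ∈ Subgroup.normalizer (A : Set G) := le_normalizer_core p _ hgK
  have hfix : g' • a • c = a • c :=
    PC.centred_orbit_fixed_core hPp hxy hu hux hgK hg'P hgc hinv' ha
  obtain ⟨j, hj⟩ := hPp ⟨g', hg'P⟩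
  have hiter : ∀ (i : ℕ) (z : G), (fun t => g' * t * g'⁻¹)^[i] z = g' ^ i * z * (g' ^ i)⁻¹ := by
    intro i
    induction i with
    | zero => simp
    | succ i ih =>
      intro z
      rw [Function.iterate_succ_apply', ih, pow_succ' g']
      group
  obtain ⟨z, hzR, hzg⟩ := exists_fixed_coset (R := R) (p := p)
    (fun h => not_dvd_card_core (h.trans (Subgroup.card_dvd_of_le inf_le_left)))
    a (fun t => g' * t * g'⁻¹) (fun t ht => by
      obtain ⟨htA, htc⟩ := ht
      have h1 : t ∈ A := by simpa using A.mul_mem ha htA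
      have h2 : g' * t * g'⁻¹ ∈ A := (Subgroup.mem_normalizer_iff.1 hgA t).1 h1
      refine ⟨A.mul_mem (A.inv_mem ha) h2, MulAction.mem_stabilizer_iff.2 ?_⟩
      have h3 : t • c = a • c := by
        have := MulAction.mem_stabilizer_iff.1 htc
        rwa [mul_smul, inv_smul_eq_iff] at this
      rw [mul_smul, inv_smul_eq_iff, mul_smul, mul_smul, inv_smul_eq_iff.2 hgc.symm, h3, hfix])
    (k := j) (fun t => by
      rw [hiter, show g' ^ p ^ j = 1 from congrArg Subtype.val hj]
      simp)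
  have hzc : z • c = a • c := by
    have := MulAction.mem_stabilizer_iff.1 hzR.2
    rwa [mul_smul, inv_smul_eq_iff] at this
  have hcomm : Commute z g' := by
    have h1 : g' * z = z * g' := by
      nth_rw 2 [← hzg]
      group
    exact h1.symm
  intro hgz
  refine PC.not_commute_inverted_moved hu hg'1
    (Odd.of_dvd_nat (odd_card_core_two _) (Subgroup.orderOf_dvd_natCard _ hgK)) hinv' hcomm
    (by rw [hzc]; exact hmove) (PC.conj_mem k z₀ hz₀) ?_
  exact hgz.map (MulAut.conj k).toMonoidHom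

end PointClass

end Cfsg.Agent.Aschbacher
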