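/-
The centred case in a point class, two-point stabilisers of any order (port of `Bender/Centred`:
the odd core of `C(J)` replaces `C(J)`; piece A of the core-free criterion; owner: helper87).

Main result (namespace `Cfsg.Agent.Aschbacher.PointClass`):
* `false_of_centred_core` : no centred `p`-subgroup of largest order fixing two points exists in the critical
  situation if `p` divides the number of members at a point
-/
import Cfsg.Agent.Lib.Aschbacher.PairGood

set_option autoImplicit false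
set_option linter.style.haveILetI false
set_option linter.unusedSectionVars false

namespace Cfsg.Agent.Aschbacher

open Cfsg Involution Bender
open scoped Pointwise commutatorElement

universe u v

/-- An automorphism preserves the order of the `p`-core of the odd core. -/
theorem card_core_core_map {G : Type u} [Group G] [Finite G] (φ : G ≃* G) (p : ℕ)
    (K : Subgroup G) :
    Nat.card (core p (core 2 (K.map φ.toMonoidHom))) = Nat.card (core p (core 2 K)) := by
  have key : ∀ (q : ℕ) (K : Subgroup G),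
      core q (K.map φ.toMonoidHom) = (core q K).map φ.toMonoidHom := by
    intro q K
    set e := K.equivMapOfInjective φ.toMonoidHom φ.injective
    rw [core, core, ← Cores.pPrimeCore_map_mulEquiv e q, Subgroup.map_map, Subgroup.map_map]
    rfl
  rw [key 2, key p]
  exact Subgroup.card_map_of_injective φ.injective

namespace PointClass

variable {G : Type u} {Ω : Type v} [Group G] [MulAction G Ω] [Finite G] [Finite Ω] [FaithfulSMul G Ω]
variable {D : Set G} {pt : G → Ω} {p : ℕ} [Fact p.Prime] (PC : PointClass G Ω D pt)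
  (crit : ∀ (N : Subgroup G) (x y : Ω), x ≠ y → N ≠ ⊥ → N ≤ core 2 (twoPt G x y) →
    core 2 (twoPt G x y) ≤ Subgroup.normalizer (N : Set G) →
    ∀ u ∈ D, pt u = x → u ∈ Subgroup.normalizer (N : Set G) →
    ∀ w ∈ D, w • x = y → w ∈ Subgroup.normalizer (N : Set G) → False)
  {P : Subgroup G}
  (hp : p ≠ 2) (hPp : IsPGroup p P)
  (htwo : ∃ x y : Ω, x ≠ y ∧ P ≤ twoPt G x y)
  (hmax : ∀ x y : Ω, x ≠ y → ∀ Q : Subgroup G, IsPGroup p Q → Q ≤ twoPt G x y →
    Nat.card Q ≤ Nat.card P)
  (hcentred : ¬ Free D pt P)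

include PC crit hp hPp htwo hmax hcentred in
/-- **The centred case.** -/
theorem false_of_centred_core {z₀ : Ω} (hm : p ∣ Nat.card {f : G // f ∈ D ∧ pt f = z₀}) : False := by
  have hm' : ∀ y : Ω, p ∣ Nat.card {f : G // f ∈ D ∧ pt f = y} := fun y => by
    rwa [card_point_eq PC y z₀]
  obtain ⟨x, y, hxy, hPK, u, hu, huP, hux, a, ha, hmove⟩ :=
    PC.exists_core_moved_pair crit hp hPp htwo hmax hcentred hm'
  have hu2 := PC.inv u hu
  have hui : u⁻¹ = u := inv_eq hu2
  set c := pt u with hcdef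
  have huc : u • c = c := PC.smul_pt hu
  have hPc : P ≤ MulAction.stabilizer G c := not_not.1 fun h => hcentred ⟨u, hu, huP, h⟩
  have hPcard := centred_card_core hPp hmax hxy hPK
  have huP₀ := mem_normalizer_inf_core (K := twoPt G x y) huP (swap_mem_normalizer_twoPt PC hu hux)
  obtain ⟨g₀, hg₀', hg₀1, hg₀inv⟩ := PC.exists_inverted_core hxy inf_le_right hPcard
    (hm' y) hu hux huP₀
  have hg₀ : g₀ ∈ P := hg₀'.1
  have hinvO : ∀ g ∈ P, u * g * u⁻¹ = g⁻¹ → g ∈ core 2 (twoPt G x y) := fun g hg h =>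
    PC.inverted_mem_core_of_pGroup hxy hp hu hux hPp hPK hg h
  set J : Subgroup G := Subgroup.closure {g | g ∈ P ∧ u * g * u⁻¹ = g⁻¹} with hJdef
  have hJP : J ≤ P := (Subgroup.closure_le _).2 fun g hg => hg.1
  have hJgen : ∀ g ∈ P, u * g * u⁻¹ = g⁻¹ → g ∈ J := fun g hg h =>
    Subgroup.subset_closure ⟨hg, h⟩
  have hJp : IsPGroup p J := hPp.to_le hJP
  have huJ : u ∈ Subgroup.normalizer (J : Set G) := by
    refine Coprime.mem_normalizer_of_forall fun g hg => ?_
    induction hg using Subgroup.closure_induction with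
    | mem h hh =>
      rw [hh.2]
      exact J.inv_mem (hJgen h hh.1 hh.2)
    | one => simp
    | mul h k _ _ ih1 ih2 =>
      have := mul_mem ih1 ih2
      rwa [conj_mul] at this
    | inv h _ ih =>
      have := inv_mem ih
      rwa [conj_inv] at this
  -- the odd core of its centraliser
  set C := Subgroup.centralizer (J : Set G) with hCdef
  have hCD : ∀ z ∈ D, z ∉ C := fun z hz hzC =>
    PC.not_commute_of_centred crit hp hPp htwo hmax hcentred hm' hu huP hg₀ hg₀1 hg₀inv hz
      (Subgroup.mem_centralizer_iff.1 hzC g₀ (hJgen g₀ hg₀ hg₀inv))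
  set X := core 2 C with hXdef
  have hXC : X ≤ C := core_le 2 C
  have hXodd : Odd (Nat.card X) := odd_card_core_two C
  haveI : Group.IsSolvable X := OddOrderTheorem.solvable hXodd
  have huX : u ∈ Subgroup.normalizer (X : Set G) := by
    refine normalizer_le_core 2 C ?_
    refine Coprime.mem_normalizer_of_forall fun z hz => Subgroup.mem_centralizer_iff.2 fun j hj => ?_
    have h1 : u⁻¹ * j * u ∈ J := (Subgroup.mem_normalizer_iff''.1 huJ j).1 hj
    have h2 := Subgroup.mem_centralizer_iff.1 hz _ h1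
    calc j * (u * z * u⁻¹) = u * (u⁻¹ * j * u * z) * u⁻¹ := by group
      _ = u * z * u⁻¹ * j := by rw [h2]; group
  -- `J` lies in the odd core of every pair it fixes that is exchanged by `u`
  have hJO : ∀ x' y' : Ω, x' ≠ y' → u • x' = y' → J ≤ twoPt G x' y' →
      J ≤ core 2 (twoPt G x' y') := by
    intro x' y' hne hswap hJK
    refine (Subgroup.closure_le _).2 ?_
    rintro g ⟨hgP, hginv⟩
    exact PC.inverted_mem_core hne hu hswap (hJK (hJgen g hgP hginv))
      (Odd.of_dvd_nat (odd_card_core_two _) (Subgroup.orderOf_dvd_natCard _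
        (hinvO g hgP hginv))) hginv
  -- `I` fixes the orbit of `c` under every core it meets
  have hfixes : ∀ x' y' : Ω, x' ≠ y' → u • x' = y' → J ≤ twoPt G x' y' →
      ∀ b ∈ core p (core 2 (twoPt G x' y')), J ≤ MulAction.stabilizer G (b • c) := by
    intro x' y' hne hswap hJK b hb
    refine (Subgroup.closure_le _).2 ?_
    rintro g ⟨hgP, hginv⟩
    exact MulAction.mem_stabilizer_iff.2 (PC.centred_orbit_fixed_core hPp hne hu hswap
      (hJO x' y' hne hswap hJK (hJgen g hgP hginv)) hgP (MulAction.mem_stabilizer_iff.1 (hPc hgP)) hginv hb)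
  have hXmove : ¬ X ≤ MulAction.stabilizer G c := by
    intro hle
    have hJK : J ≤ twoPt G x y := hJP.trans hPK
    obtain ⟨z, -, hzc, hzX⟩ := exists_centralizing_of_fixed hJp not_dvd_card_core
      (hJP.trans (hPK.trans ((le_normalizer_core 2 _).trans (normalizer_le_core p _))))
      (hJP.trans hPc) ha
      (hfixes x y hxy hux hJK a ha)
    obtain ⟨r, hr, hrc⟩ := PC.exists_core_mul_centralizing hxy hu
      (Coprime.mem_normalizer_of_forall fun z hz => Subgroup.mem_centralizer_iff.2 fun j hj => by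
        have h1 : u⁻¹ * j * u ∈ J := (Subgroup.mem_normalizer_iff''.1 huJ j).1 hj
        have h2 := Subgroup.mem_centralizer_iff.1 hz _ h1
        calc j * (u * z * u⁻¹) = u * (u⁻¹ * j * u * z) * u⁻¹ := by group
          _ = u * z * u⁻¹ * j := by rw [h2]; group) hCD hzX
    refine hmove ?_
    rw [← hzc, ← mul_inv_cancel_left r z, mul_smul, PC.commute_fix hu hrc]
    exact MulAction.mem_stabilizer_iff.1 (hle hr)
  -- a smallest member of the derived series moving `c`
  obtain ⟨V, ⟨hVX, hVn, hVmove⟩, hVmin⟩ := Set.Finite.exists_minimalFor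
    (fun V : Subgroup G => Nat.card V)
    {V | V ≤ X ∧ Subgroup.normalizer (X : Set G) ≤ Subgroup.normalizer (V : Set G) ∧
      ¬ V ≤ MulAction.stabilizer G c} (Set.toFinite _) ⟨X, le_rfl, le_rfl, hXmove⟩
  have hVodd : Odd (Nat.card V) := hXodd.of_dvd_nat (Subgroup.card_dvd_of_le hVX)
  have hV'c : (⁅V, V⁆ : Subgroup G) ≤ MulAction.stabilizer G c := by
    by_contra hno
    haveI : Group.IsSolvable V := OddOrderTheorem.solvable hVodd
    haveI : Nontrivial V := (Subgroup.nontrivial_iff_ne_bot V).2 fun e => hVmove (e ▸ bot_le)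
    have hC0 : (⁅V, V⁆ : Subgroup G) = (commutator ↥V).map V.subtype :=
      V.map_subtype_commutator.symm
    have hlt : (⁅V, V⁆ : Subgroup G) < V := by
      refine lt_of_le_of_ne (hC0 ▸ Subgroup.map_subtype_le _) fun e => ?_
      refine (Group.IsSolvable.commutator_lt_top_of_nontrivial V).ne ?_
      refine Subgroup.map_injective V.subtype_injective ?_
      rw [← hC0, e, ← MonoidHom.range_eq_map, Subgroup.range_subtype]
    have hn : Subgroup.normalizer (X : Set G) ≤
        Subgroup.normalizer ((⁅V, V⁆ : Subgroup G) : Set G) := by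
      intro n hnn
      refine Coprime.mem_normalizer_of_conj_eq ?_
      show (⁅V, V⁆ : Subgroup G).map (MulAut.conj n).toMonoidHom = ⁅V, V⁆
      rw [Subgroup.map_commutator]
      have := Coprime.conj_eq_of_mem_normalizer (hVn hnn)
      exact congrArg₂ (fun K L : Subgroup G => ⁅K, L⁆) this this
    exact absurd (hVmin ⟨hlt.le.trans hVX, hn, hno⟩ (Subgroup.card_le_of_le hlt.le))
      (not_le.2 (Set.Finite.card_lt_card (Set.toFinite _) (SetLike.coe_ssubset_coe.2 hlt)))
  -- the action of `V` on the orbit of `c` is abelian, and inverted by `u`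
  have hcomm : ∀ w₁ ∈ V, ∀ w₂ ∈ V, w₁ • w₂ • c = w₂ • w₁ • c := by
    intro w₁ h₁ w₂ h₂
    have h3 : ⁅w₁⁻¹, w₂⁻¹⁆ ∈ (⁅V, V⁆ : Subgroup G) :=
      Subgroup.commutator_mem_commutator (V.inv_mem h₁) (V.inv_mem h₂)
    have h4 := MulAction.mem_stabilizer_iff.1 (hV'c h3)
    calc w₁ • w₂ • c = (w₁ * w₂) • c := (mul_smul _ _ _).symm
      _ = (w₁ * w₂) • ⁅w₂⁻¹, w₁⁻¹⁆ • c := by
          rw [MulAction.mem_stabilizer_iff.1 (hV'c (Subgroup.commutator_mem_commutator
            (V.inv_mem h₂) (V.inv_mem h₁)))]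
      _ = w₂ • w₁ • c := by
          rw [← mul_smul, ← mul_smul, commutatorElement_def]
          congr 1
          group
  have huV : ∀ w ∈ V, u * w * u ∈ V := by
    intro w hw
    have := (Subgroup.mem_normalizer_iff.1 (hVn huX) w).1 hw
    rwa [hui] at this
  have huinv : ∀ w ∈ V, u • w • c = w⁻¹ • c := by
    intro w hw
    set t := w * (u * w * u) with ht
    have htV : t ∈ V := V.mul_mem hw (huV w hw)
    have htc : (u * t * u) • c = t • c := by
      rw [ht]
      calc (u * (w * (u * w * u)) * u) • c = (u * w * u) • w • c := by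
            rw [← mul_smul]
            congr 1
            calc u * (w * (u * w * u)) * u = u * w * u * w * (u * u) := by group
              _ = u * w * u * w := by rw [mul_self hu2, mul_one]
        _ = (w * (u * w * u)) • c := by rw [hcomm _ (huV w hw) _ hw, mul_smul w]
    set R : Subgroup G := V ⊓ MulAction.stabilizer G c with hR
    haveI : Fact (Nat.Prime 2) := ⟨Nat.prime_two⟩
    obtain ⟨z, hzR, hzu⟩ := exists_fixed_coset (R := R) (p := 2)
      (Nat.two_dvd_ne_zero.2 (Nat.odd_iff.1 (hVodd.of_dvd_nat (Subgroup.card_dvd_of_le inf_le_left))))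
      t (fun z => u * z * u) (fun z hz => by
        have hzV : z ∈ V := by simpa using V.mul_mem htV hz.1
        have hzc : z • c = t • c := by
          have := MulAction.mem_stabilizer_iff.1 hz.2
          rwa [mul_smul, inv_smul_eq_iff] at this
        refine ⟨V.mul_mem (V.inv_mem htV) (huV z hzV), MulAction.mem_stabilizer_iff.2 ?_⟩
        rw [mul_smul, mul_smul, huc] at htc
        rw [mul_smul, inv_smul_eq_iff, mul_smul, mul_smul, huc, hzc, htc]) (k := 1) (fun z => by
        show u * (u * z * u) * u = z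
        calc u * (u * z * u) * u = (u * u) * z * (u * u) := by group
          _ = z := by rw [mul_self hu2]; group)
    have hzc : z • c = c := by
      refine PC.commute_fix hu ?_
      show z * u = u * z
      calc z * u = (u * z * u) * u := by rw [hzu]
        _ = u * z * (u * u) := by group
        _ = u * z := by rw [mul_self hu2, mul_one]
    have htc' : t • c = c := by
      have := MulAction.mem_stabilizer_iff.1 hzR.2
      rw [mul_smul, inv_smul_eq_iff, hzc] at this
      exact this.symm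
    rw [ht, mul_smul, ← eq_inv_smul_iff, mul_smul, huc, mul_smul] at htc'
    exact htc'
  -- the pairs
  have hXV : ∀ z ∈ C, ∀ w ∈ V, z * w * z⁻¹ ∈ V := fun z hz w hw =>
    (Subgroup.mem_normalizer_iff.1 (hVn (le_normalizer_core 2 C hz)) w).1 hw
  have hsqrt : ∀ w ∈ V, (w * w) • c = c → w • c = c := by
    intro w hw hwc
    obtain ⟨l, hl⟩ := Odd.of_dvd_nat hVodd (Subgroup.orderOf_dvd_natCard _ hw)
    have e : (w * w) ^ (l + 1) = w := by
      rw [← pow_two, ← pow_mul, show 2 * (l + 1) = orderOf w + 1 by omega, pow_succ,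
        pow_orderOf_eq_one, one_mul]
    have := pow_mem (MulAction.mem_stabilizer_iff.2 hwc : w * w ∈ MulAction.stabilizer G c) (l + 1)
    rwa [e, MulAction.mem_stabilizer_iff] at this
  have hne : ∀ w ∈ V, w • c ≠ c → w • c ≠ w⁻¹ • c := fun w hw hwc e =>
    hwc (hsqrt w hw (by rw [mul_smul, e, smul_inv_smul]))
  have hJfix : ∀ w ∈ V, J ≤ MulAction.stabilizer G (w • c) := by
    intro w hw j hj
    rw [MulAction.mem_stabilizer_iff, ← mul_smul, Subgroup.mem_centralizer_iff.1 (hXC (hVX hw)) j hj,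
      mul_smul, MulAction.mem_stabilizer_iff.1 (hPc (hJP hj))]
  have hJK : ∀ w ∈ V, J ≤ twoPt G (w • c) (w⁻¹ • c) := fun w hw =>
    le_inf (hJfix w hw) (hJfix _ (V.inv_mem hw))
  have hcorefix : ∀ w ∈ V, w • c ≠ c →
      core p (core 2 (twoPt G (w • c) (w⁻¹ • c))) ≤ MulAction.stabilizer G c := by
    intro w hw hwc b hb
    obtain ⟨z, hzA, hzc, hzX⟩ := exists_centralizing_of_fixed hJp not_dvd_card_core
      ((hJO _ _ (hne w hw hwc) (huinv w hw) (hJK w hw)).trans (le_normalizer_core p _))
      (hJP.trans hPc) hb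
      (hfixes _ _ (hne w hw hwc) (huinv w hw) (hJK w hw) b hb)
    have hz1 := MulAction.mem_stabilizer_iff.1 (core_le 2 _ (core_le p _ hzA)).1
    have hz2 := MulAction.mem_stabilizer_iff.1 (core_le 2 _ (core_le p _ hzA)).2
    set w' := z * w * z⁻¹ with hw'
    have hw'V : w' ∈ V := hXV z hzX w hw
    have e1 : w' • z • c = w • c := by
      rw [hw', ← mul_smul, inv_mul_cancel_right, mul_smul, hz1]
    have e2 : w'⁻¹ • z • c = w⁻¹ • c := by
      rw [hw', ← mul_smul, show (z * w * z⁻¹)⁻¹ * z = z * w⁻¹ by group, mul_smul, hz2]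
    set t := w'⁻¹ * w with ht
    have htV : t ∈ V := V.mul_mem (V.inv_mem hw'V) hw
    have e3 : z • c = t • c := by rw [ht, mul_smul, ← e1, inv_smul_smul]
    have e4 : z • c = w' • w⁻¹ • c := by rw [← e2, smul_inv_smul]
    have htt : (t * t) • c = c := by
      rw [mul_smul, ← e3, e4, hcomm _ hw'V _ (V.inv_mem hw), ht, mul_smul, smul_inv_smul,
        inv_smul_smul]
    rw [MulAction.mem_stabilizer_iff, ← hzc, e3]
    exact hsqrt t htV htt
  -- the Sylow subgroups of the pairs fix `c`
  have hQ : ∀ w ∈ V, w • c ≠ c → ∃ Q : Subgroup G, J ≤ Q ∧ IsPGroup p Q ∧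
      Q ≤ core 2 (twoPt G c (w • c)) ∧ Q ≤ core 2 (twoPt G (w • c) (w⁻¹ • c)) ∧
      u ∈ Subgroup.normalizer (Q : Set G) ∧
      Nat.card Q = p ^ (Nat.card (core 2 (twoPt G c (w • c)))).factorization p := by
    intro w hw hwc
    obtain ⟨Q, hJQ, hQK, huQ, hQp, hQcard⟩ := exists_sylow_invariant (p := p) hu2
      (PC.swap_mem_normalizer_core hu (huinv w hw)) (odd_card_core_two _)
      (hJO _ _ (hne w hw hwc) (huinv w hw) (hJK w hw)) hJp huJ
    have hsub : {g : G | g ∈ Q ∧ u * g * u⁻¹ = g⁻¹} = {g : G | g ∈ P ∧ u * g * u⁻¹ = g⁻¹} := by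
      have hss : {g : G | g ∈ P ∧ u * g * u⁻¹ = g⁻¹} ⊆ {g : G | g ∈ Q ∧ u * g * u⁻¹ = g⁻¹} :=
        fun g hg => ⟨hJQ (hJgen g hg.1 hg.2), hg.2⟩
      refine (Set.eq_of_subset_of_ncard_le hss ?_).symm
      rw [← Nat.card_coe_set_eq, ← Nat.card_coe_set_eq]
      refine le_of_eq ?_
      show Nat.card {g : G // g ∈ Q ∧ u * g * u⁻¹ = g⁻¹} =
        Nat.card {g : G // g ∈ P ∧ u * g * u⁻¹ = g⁻¹}
      rw [PC.card_inverted_core (hne w hw hwc) hu (huinv w hw) hQK huQ hQcard,
        ← Nat.card_congr (Equiv.subtypeEquivRight fun g =>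
          (⟨fun h => ⟨h.1.1, h.2⟩, fun h => ⟨⟨h.1, hinvO g h.1 h.2⟩, h.2⟩⟩ :
            g ∈ P ⊓ core 2 (twoPt G x y) ∧ u * g * u⁻¹ = g⁻¹ ↔ g ∈ P ∧ u * g * u⁻¹ = g⁻¹)),
        PC.card_inverted_core hxy hu hux inf_le_right huP₀ hPcard, card_point_eq PC _ y]
    have hQc : Q ≤ MulAction.stabilizer G c := by
      intro q hq
      set i := u * q * u * q⁻¹ with hi
      have hiQ : i ∈ Q := by
        have := (Subgroup.mem_normalizer_iff.1 huQ q).1 hq
        rw [hui] at this
        exact Q.mul_mem this (Q.inv_mem hq)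
      have hiinv : u * i * u⁻¹ = i⁻¹ := by
        rw [hi, mul_inv_rev, mul_inv_rev, mul_inv_rev, inv_inv, hui]
        calc u * (u * q * u * q⁻¹) * u = (u * u) * q * u * q⁻¹ * u := by group
          _ = q * (u * (q⁻¹ * u)) := by rw [mul_self hu2]; group
      have hiP : i ∈ {g : G | g ∈ P ∧ u * g * u⁻¹ = g⁻¹} := hsub ▸ ⟨hiQ, hiinv⟩
      have hic : i • c = c := MulAction.mem_stabilizer_iff.1 (hPc hiP.1)
      have hd : u • q⁻¹ • c = q⁻¹ • c := by
        have e : u * i = q * u * q⁻¹ := by
          rw [hi, ← mul_assoc, ← mul_assoc, ← mul_assoc, mul_self hu2, one_mul]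
        have h1 : (q * u * q⁻¹) • c = c := by rw [← e, mul_smul, hic, huc]
        rw [mul_smul, mul_smul, ← eq_inv_smul_iff] at h1
        exact h1
      have h2 := (PC.fixed_iff u hu _).1 hd
      rw [← hcdef, inv_smul_eq_iff] at h2
      exact MulAction.mem_stabilizer_iff.2 h2.symm
    refine ⟨Q, hJQ, hQp, fun q hq => PC.core_inf_stab_le (hne w hw hwc) hu (huinv w hw)
      ⟨hQK hq, hQc hq⟩, hQK, huQ, ?_⟩
    rw [hQcard, hcdef, PC.card_core_fixed (hne w hw hwc) hu (huinv w hw)]
  -- a pair with core of largest order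
  obtain ⟨w₀, hw₀, hw₀c⟩ : ∃ w ∈ V, w • c ≠ c := by
    obtain ⟨w, hw, hwc⟩ := SetLike.not_le_iff_exists.1 hVmove
    exact ⟨w, hw, fun e => hwc (MulAction.mem_stabilizer_iff.2 e)⟩
  obtain ⟨w, ⟨hw, hwc⟩, hwmax⟩ := Set.Finite.exists_maximalFor
    (fun w : G => Nat.card (core p (core 2 (twoPt G (w • c) (w⁻¹ • c)))))
    {w | w ∈ V ∧ w • c ≠ c} (Set.toFinite _) ⟨w₀, hw₀, hw₀c⟩
  obtain ⟨Q, hJQ, hQp, hQK, hQK', huQ, hQcard⟩ := hQ w hw hwc
  have hcw : c ≠ w • c := fun e => hwc e.symm
  set A := core p (core 2 (twoPt G (w • c) (w⁻¹ • c))) with hA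
  have hle : A ≤ core p (core 2 (twoPt G c (w • c))) :=
    invariant_le_core_of_odd (odd_card_core_two _) hQK hQcard
      (fun g hg => PC.core_inf_stab_le (hne w hw hwc) hu (huinv w hw)
        ⟨core_le p _ hg, hcorefix w hw hwc hg⟩) not_dvd_card_core
      (hQK'.trans (le_normalizer_core p _))
  -- the pair `c, w • c` is a translate of a pair of the family
  obtain ⟨l, hl⟩ := Odd.of_dvd_nat hVodd (Subgroup.orderOf_dvd_natCard _ hw)
  set r := w ^ (l + 1) with hr
  have hr2 : r * r = w := by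
    rw [hr, ← pow_add, show l + 1 + (l + 1) = orderOf w + 1 by omega, pow_succ, pow_orderOf_eq_one,
      one_mul]
  have hrV : r ∈ V := V.pow_mem hw _
  have hrc : r • c ≠ c := fun e => hwc (by rw [← hr2, mul_smul, e, e])
  have hmap : (twoPt G (r • c) (r⁻¹ • c)).map (MulAut.conj r).toMonoidHom = twoPt G c (w • c) := by
    ext g
    rw [Subgroup.mem_map_equiv, Subgroup.mem_inf, Subgroup.mem_inf, MulAut.conj_symm_apply,
      MulAction.mem_stabilizer_iff, MulAction.mem_stabilizer_iff, MulAction.mem_stabilizer_iff,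
      MulAction.mem_stabilizer_iff, and_comm]
    simp only [mul_smul, inv_smul_eq_iff, smul_inv_smul, ← hr2]
  have hcardeq : Nat.card (core p (core 2 (twoPt G c (w • c)))) =
      Nat.card (core p (core 2 (twoPt G (r • c) (r⁻¹ • c)))) := by
    rw [← hmap]
    exact card_core_core_map (MulAut.conj r) p _
  have heq : A = core p (core 2 (twoPt G c (w • c))) := Subgroup.eq_of_le_of_card_ge hle
    (hcardeq.le.trans (hwmax (j := r) ⟨hrV, hrc⟩ ((Subgroup.card_le_of_le hle).trans_eq hcardeq)))
  obtain ⟨w', hw', hw'Q, hw'c⟩ := PC.exists_swap_normalizing_core hcw hQK hQcard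
  by_cases hbot : core p (core 2 (twoPt G c (w • c))) = ⊥
  · set Z := centerThompsonOf p Q
    have hQ1 : Q ≠ ⊥ := fun e => hg₀1 (by
      simpa [e] using hJQ (hJgen g₀ hg₀ hg₀inv))
    have hZ : Z ≠ ⊥ := by
      obtain ⟨z, hz, hz1, hzp⟩ := PLocal.exists_central_of_order_p hQp hQ1
      exact fun e => hz1 (Subgroup.mem_bot.1 (e ▸ PLocal.central_le_centerThompsonOf hz hzp))
    have hZN : ∀ g ∈ Subgroup.normalizer (Q : Set G), g ∈ Subgroup.normalizer (Z : Set G) := by
      intro g hg
      rw [PLocal.mem_normalizer_iff_map_eq,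
        PLocal.map_centerThompsonOf _ (MulAut.conj g).injective.injOn,
        PLocal.mem_normalizer_iff_map_eq.1 hg]
    refine crit Z c (w • c) hcw hZ ((inf_le_left.trans (PLocal.thompsonSubgroupOf_le Q)).trans hQK)
      ?_ u hu rfl (hZN u huQ) w' hw' hw'c (hZN w' hw'Q)
    intro g hg
    obtain ⟨b, hb, n, -, hn, rfl⟩ :=
      exists_core_mul_centerThompson hp (odd_card_core_two _) hQK hQcard hg
    rw [hbot, Subgroup.mem_bot] at hb
    rwa [hb, one_mul]
  · refine crit _ c (w • c) hcw hbot (core_le p _) (le_normalizer_core p _) u hu rfl ?_ w' hw' hw'c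
      (normalizer_le_core p _ (PC.swap_mem_normalizer_core hw' hw'c))
    rw [← heq]
    exact normalizer_le_core p _ (PC.swap_mem_normalizer_core hu (huinv w hw))

end PointClass

end Cfsg.Agent.Aschbacher
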