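/-
The free case set-up in a point class, two-point stabilisers of any order (port of the needed part
of `Bender/Transitive`; piece A of the core-free criterion; owner: helper87).

Main results (namespace `Cfsg.Agent.Aschbacher`):
* `PairSetup` : a free `p`-subgroup of largest order among those fixing two points
* `PairSetup.fix_eq`, `full_two`, `fix_two`, `exists_larger` : as in Bender
* `PairSetup.exists_conj_pair` : full pairs are conjugate
* `PointClass.exists_pairSetup` : one exists in the critical situation if `p` divides the number of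
  members at a point
-/
import Cfsg.Agent.Lib.Aschbacher.PairCentred
import Cfsg.Agent.Lib.Bender.FreeNC

set_option autoImplicit false
set_option linter.style.haveILetI false
set_option linter.unusedSectionVars false

namespace Cfsg.Agent.Aschbacher

open Cfsg Involution Bender
open scoped Pointwise

universe u v

variable {G : Type u} {Ω : Type v} [Group G] [MulAction G Ω] [Finite G] [Finite Ω]
variable {D : Set G} {pt : G → Ω} {p : ℕ} [Fact p.Prime]

/-- A free `p`-subgroup of largest order among those fixing two points. -/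
structure PairSetup (D : Set G) (pt : G → Ω) (p : ℕ) (X₀ : Subgroup G) (a₀ b₀ : Ω) : Prop where
  pointClass : PointClass G Ω D pt
  pgroup : IsPGroup p X₀
  ne : a₀ ≠ b₀
  fix_left : X₀ ≤ MulAction.stabilizer G a₀
  fix_right : X₀ ≤ MulAction.stabilizer G b₀
  free : Free D pt X₀
  max : ∀ Q : Subgroup G, IsPGroup p Q → ∀ x y : Ω, x ≠ y → Q ≤ MulAction.stabilizer G x →
    Q ≤ MulAction.stabilizer G y → Nat.card Q ≤ Nat.card X₀
  odd_prime : p ≠ 2

namespace PairSetup

variable {X₀ : Subgroup G} {a₀ b₀ : Ω} (S : PairSetup D pt p X₀ a₀ b₀)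
include S

theorem card_le {x y : Ω} (hxy : x ≠ y) : pPart p (Nat.card (twoPt G x y)) ≤ Nat.card X₀ := by
  obtain ⟨Q, -, hQ, hQp, hQcard⟩ := exists_sylow_twoPt (G := G) (p := p) x y (X := ⊥)
    IsPGroup.of_bot bot_le
  exact hQcard.symm.trans_le
    (S.max Q hQp x y hxy (hQ.trans inf_le_left) (hQ.trans inf_le_right))

theorem fix_eq {z : Ω} (hz : X₀ ≤ MulAction.stabilizer G z) : z = a₀ ∨ z = b₀ := by
  have P := S.pointClass
  by_contra! h
  have hswap : ∀ x y : Ω, x ≠ y → X₀ ≤ MulAction.stabilizer G x → X₀ ≤ MulAction.stabilizer G y →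
      ∃ w ∈ D, w ∈ Subgroup.normalizer (X₀ : Set G) ∧ w • x = y := fun x y hxy hx hy =>
    P.exists_swap_normalizing_twoPt hxy S.odd_prime (le_inf hx hy)
      (le_antisymm (Coprime.card_le_of_isPGroup S.pgroup (le_inf hx hy)) (S.card_le hxy))
  obtain ⟨u, hu, huX, hua⟩ := hswap a₀ b₀ S.ne S.fix_left S.fix_right
  obtain ⟨v, hv, hvX, hva⟩ := hswap a₀ z h.1.symm S.fix_left hz
  obtain ⟨w, hw, hwX, hwb⟩ := hswap b₀ z h.2.symm S.fix_right hz
  have hodd : Odd (Nat.card X₀) := odd_card_of_isPGroup S.odd_prime S.pgroup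
  exact not_three P hodd S.free S.fix_right hu huX hua hv hvX hva hw hwX hwb

theorem sylow_stab {Q : Subgroup G} (hQ : IsPGroup p Q) (hXQ : X₀ ≤ Q)
    (hQa : Q ≤ MulAction.stabilizer G a₀) : Q = X₀ := by
  refine (hXQ.eq_or_lt.resolve_right fun hlt => ?_).symm
  obtain ⟨T, hXT, hTQ, hTn⟩ := exists_normalizing hQ hlt
  have hTb : T ≤ MulAction.stabilizer G b₀ := by
    intro t ht
    rw [MulAction.mem_stabilizer_iff]
    refine (S.fix_eq (le_stab_smul (hTn ht) S.fix_right)).resolve_left fun e => S.ne ?_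
    exact (MulAction.injective t ((MulAction.mem_stabilizer_iff.1 (hQa (hTQ ht))).trans e.symm))
  exact absurd (S.max T (hQ.to_le hTQ) a₀ b₀ S.ne (hTQ.trans hQa) hTb)
    (not_le.2 (card_lt_of_lt hXT))

theorem exists_smul_eq (z : Ω) : ∃ g : G, g • z = a₀ := by
  rcases eq_or_ne z a₀ with rfl | hne
  · exact ⟨1, one_smul _ _⟩
  obtain ⟨e, he, hez⟩ := S.pointClass.exists_at z
  obtain ⟨f, hf, hfa⟩ := S.pointClass.exists_at a₀
  obtain ⟨w, -, -, hw⟩ := S.pointClass.exists_mid he hf (by rwa [hez, hfa])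
  exact ⟨w, by rwa [hez, hfa] at hw⟩

/-- Every `p`-subgroup with a fixed point is conjugate into `X₀`. -/
theorem exists_conj_le {Q : Subgroup G} (hQ : IsPGroup p Q) {z : Ω}
    (hz : Q ≤ MulAction.stabilizer G z) :
    ∃ g : G, g • z = a₀ ∧ MulAut.conj g • Q ≤ X₀ := by
  set K := MulAction.stabilizer G a₀ with hK
  obtain ⟨w, hw⟩ := S.exists_smul_eq z
  set Q₁ := MulAut.conj w • Q with hQ₁
  have hQ₁K : Q₁ ≤ K := by
    intro x hx
    rw [hQ₁, Coprime.mem_conj] at hx
    rw [MulAction.mem_stabilizer_iff, ← hw]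
    calc x • w • z = w • (w⁻¹ * x * w) • z := by simp only [← mul_smul]; group
      _ = w • z := by rw [MulAction.mem_stabilizer_iff.1 (hz hx)]
  have hQ₁p : IsPGroup p Q₁ := hQ.map _
  obtain ⟨T, hT⟩ := (hQ₁p.comap_subtype : IsPGroup p (Q₁.subgroupOf K)).exists_le_sylow
  obtain ⟨T₀, hT₀⟩ := (S.pgroup.comap_subtype : IsPGroup p (X₀.subgroupOf K)).exists_le_sylow
  have hT₀X : (T₀ : Subgroup K).map K.subtype = X₀ :=
    S.sylow_stab (T₀.2.map _) (fun g hg => ⟨⟨g, S.fix_left hg⟩, hT₀ hg, rfl⟩)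
      (Subgroup.map_subtype_le _)
  obtain ⟨h, rfl⟩ := MulAction.exists_smul_eq K T T₀
  refine ⟨(h : G) * w, by rw [mul_smul, hw]; exact MulAction.mem_stabilizer_iff.1 h.2, ?_⟩
  rw [map_mul, mul_smul, ← hT₀X, Coprime.map_subtype_smul, Subgroup.pointwise_smul_le_pointwise_smul_iff]
  exact fun x hx => ⟨⟨x, hQ₁K hx⟩, hT hx, rfl⟩

theorem fix_conj {Q : Subgroup G} {g : G} {z : Ω} :
    MulAut.conj g • Q ≤ MulAction.stabilizer G (g • z) ↔ Q ≤ MulAction.stabilizer G z := by
  constructor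
  · intro h x hx
    have h1 := MulAction.mem_stabilizer_iff.1 (h ((Coprime.mem_conj (g := g) (x := g * x * g⁻¹)).2
      (by simpa [mul_assoc] using hx)))
    rw [mul_smul, mul_smul, inv_smul_smul] at h1
    exact MulAction.mem_stabilizer_iff.2 (MulAction.injective g h1)
  · intro h x hx
    rw [MulAction.mem_stabilizer_iff]
    calc x • g • z = g • (g⁻¹ * x * g) • z := by simp only [← mul_smul]; group
      _ = g • z := by rw [MulAction.mem_stabilizer_iff.1 (h (Coprime.mem_conj.1 hx))]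

/-- A `p`-subgroup of full order fixing two points fixes no other. -/
theorem full_two {Q : Subgroup G} (hQ : IsPGroup p Q) (hcard : Nat.card Q = Nat.card X₀) {x y z : Ω}
    (hx : Q ≤ MulAction.stabilizer G x) (hy : Q ≤ MulAction.stabilizer G y) (hxy : x ≠ y)
    (hz : Q ≤ MulAction.stabilizer G z) : z = x ∨ z = y := by
  obtain ⟨g, hgx, hg⟩ := S.exists_conj_le hQ hx
  have heq : MulAut.conj g • Q = X₀ :=
    Subgroup.eq_of_le_of_card_ge hg (by rw [Coprime.card_conj, hcard])
  have h1 : ∀ w : Ω, Q ≤ MulAction.stabilizer G w → g • w = a₀ ∨ g • w = b₀ := fun w hw =>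
    S.fix_eq (heq ▸ (fix_conj S).2 hw)
  have hgy : g • y = b₀ := (h1 y hy).resolve_left fun e =>
    hxy (MulAction.injective g (hgx.trans e.symm))
  exact (h1 z hz).imp (fun e => MulAction.injective g (e.trans hgx.symm))
    (fun e => MulAction.injective g (e.trans hgy.symm))

/-- The congruence: the number of fixed points is two mod `p`. -/
theorem fix_two {Q : Subgroup G} (hQ : IsPGroup p Q) {z : Ω} (hz : Q ≤ MulAction.stabilizer G z) :
    Nat.card {x : Ω // Q ≤ MulAction.stabilizer G x} ≡ 2 [MOD p] := by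
  obtain ⟨g, -, hg⟩ := S.exists_conj_le hQ hz
  have h1 : Nat.card {x : Ω // Q ≤ MulAction.stabilizer G x} =
      Nat.card {x : Ω // MulAut.conj g • Q ≤ MulAction.stabilizer G x} :=
    Nat.card_congr (Equiv.subtypeEquiv (MulAction.toPerm g) fun x => (fix_conj S).symm)
  have h2 : Nat.card {x : Ω // X₀ ≤ MulAction.stabilizer G x} = 2 := by
    rw [Nat.card_eq_two_iff]
    refine ⟨⟨a₀, S.fix_left⟩, ⟨b₀, S.fix_right⟩, fun e => S.ne (congrArg Subtype.val e), ?_⟩
    ext ⟨x, hx⟩
    simp only [Set.mem_insert_iff, Set.mem_singleton_iff, Set.mem_univ, iff_true, Subtype.mk.injEq]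
    exact S.fix_eq hx
  rw [h1, ← h2]
  exact fix_modEq S.pgroup hg

/-- A smaller `p`-subgroup fixing a point is normalised by a larger one fixing that point. -/
theorem exists_larger {Q : Subgroup G} (hQ : IsPGroup p Q) {z : Ω}
    (hz : Q ≤ MulAction.stabilizer G z) (hlt : Nat.card Q < Nat.card X₀) :
    ∃ T : Subgroup G, IsPGroup p T ∧ Q < T ∧ T ≤ MulAction.stabilizer G z ∧
      T ≤ Subgroup.normalizer (Q : Set G) := by
  obtain ⟨g, hgz, hg⟩ := S.exists_conj_le hQ hz
  set Q' := MulAut.conj g⁻¹ • X₀ with hQ'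
  have hQQ' : Q ≤ Q' := by
    rw [hQ', map_inv, ← Subgroup.pointwise_smul_le_pointwise_smul_iff (a := MulAut.conj g),
      smul_inv_smul]
    exact hg
  have hQ'z : Q' ≤ MulAction.stabilizer G z := by
    have := (fix_conj S (Q := X₀) (g := g⁻¹) (z := a₀)).2 S.fix_left
    rwa [← hgz, inv_smul_smul] at this
  have hne : Q ≠ Q' := fun e => hlt.ne (by rw [e, hQ', Coprime.card_conj])
  obtain ⟨T, h1, h2, h3⟩ := exists_normalizing (S.pgroup.map _ : IsPGroup p Q') (hQQ'.lt_of_ne hne)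
  exact ⟨T, (S.pgroup.map _ : IsPGroup p Q').to_le h2, h1, h2.trans hQ'z, h3⟩

/-- Pairs with full `p`-part are conjugate. -/
theorem exists_conj_pair {x y x' y' : Ω} (hxy : x ≠ y) (hxy' : x' ≠ y')
    (h : pPart p (Nat.card (twoPt G x y)) = Nat.card X₀)
    (h' : pPart p (Nat.card (twoPt G x' y')) = Nat.card X₀) :
    ∃ g : G, g • x = x' ∧ g • y = y' := by
  have key : ∀ a z : Ω, a ≠ z → pPart p (Nat.card (twoPt G a z)) = Nat.card X₀ →
      ∃ g : G, g • a = a₀ ∧ g • z = b₀ := by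
    intro a z hz he
    obtain ⟨Q, hQp, hQK, hQcard⟩ := exists_pPart (p := p) (twoPt G a z)
    rw [he] at hQcard
    obtain ⟨g, hgx, hg⟩ := S.exists_conj_le hQp (hQK.trans inf_le_left)
    have heq : MulAut.conj g • Q = X₀ :=
      Subgroup.eq_of_le_of_card_ge hg (by rw [Coprime.card_conj, hQcard])
    refine ⟨g, hgx, (S.fix_eq ?_).resolve_left fun e => hz (MulAction.injective g (hgx.trans e.symm))⟩
    exact heq ▸ (fix_conj S).2 (hQK.trans inf_le_right)
  obtain ⟨g, hgx, hgy⟩ := key x y hxy h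
  obtain ⟨g', hgx', hgy'⟩ := key x' y' hxy' h'
  exact ⟨g'⁻¹ * g, by rw [mul_smul, hgx, ← hgx', inv_smul_smul],
    by rw [mul_smul, hgy, ← hgy', inv_smul_smul]⟩

end PairSetup

namespace PointClass

/-- In the critical situation a set-up exists. -/
theorem exists_pairSetup [FaithfulSMul G Ω] (PC : PointClass G Ω D pt)
    (crit : ∀ (N : Subgroup G) (x y : Ω), x ≠ y → N ≠ ⊥ → N ≤ core 2 (twoPt G x y) →
      core 2 (twoPt G x y) ≤ Subgroup.normalizer (N : Set G) →
      ∀ u ∈ D, pt u = x → u ∈ Subgroup.normalizer (N : Set G) →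
      ∀ w ∈ D, w • x = y → w ∈ Subgroup.normalizer (N : Set G) → False)
    (hp : p ≠ 2) {x y : Ω} (hxy : x ≠ y) {z : Ω}
    (hm : p ∣ Nat.card {f : G // f ∈ D ∧ pt f = z}) :
    ∃ (X₀ : Subgroup G) (a b : Ω), PairSetup D pt p X₀ a b := by
  obtain ⟨⟨a, b⟩, hab, hmax⟩ := Set.Finite.exists_maximalFor
    (fun q : Ω × Ω => pPart p (Nat.card (twoPt G q.1 q.2))) {q | q.1 ≠ q.2}
    (Set.toFinite _) ⟨(x, y), hxy⟩
  obtain ⟨X, hXp, hXab, hXcard⟩ := exists_pPart (p := p) (twoPt G a b)
  have hle : ∀ Q : Subgroup G, IsPGroup p Q → ∀ q r : Ω, q ≠ r → Q ≤ twoPt G q r →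
      Nat.card Q ≤ Nat.card X := by
    intro Q hQ q r hqr hQK
    refine (Coprime.card_le_of_isPGroup hQ hQK).trans ?_
    rw [hXcard]
    rcases le_total (pPart p (Nat.card (twoPt G q r))) (pPart p (Nat.card (twoPt G a b))) with h | h
    · exact h
    · exact hmax (j := (q, r)) hqr h
  refine ⟨X, a, b, PC, hXp, hab, hXab.trans inf_le_left, hXab.trans inf_le_right, ?_,
    fun Q hQ q r hqr hq hr => hle Q hQ q r hqr (le_inf hq hr), hp⟩
  by_contra hcentred
  exact PC.false_of_centred_core crit hp hXp ⟨a, b, hab, hXab⟩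
    (fun q r hqr Q hQ hQK => hle Q hQ q r hqr hQK) hcentred hm

end PointClass

end Cfsg.Agent.Aschbacher
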