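/-
A free set-up from `CoreTwoAt` (port of `Bender.exists_setup`; bridge from piece A of the core-free
criterion; owner: helper2).

The class of a member is the set of the members at its point congruent to it modulo the odd core of
the group they generate.  All classes have the same size, smaller than the number `ι` of members at
a point as two members commute.  For a prime `p` with more in `ι` than in a class, a `p`-group of
largest order fixing two points is free: a swapper `u` normalising it with fixed point fixed by it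
would have its class fixed by it, leaving too small a `p`-part.

Main results (namespace `Cfsg.Agent.Aschbacher`):
* `clsAt` : the class of a member
* `PointClass.exists_pairSetup_core` : some prime has a `PairSetup`
-/
import Cfsg.Agent.Lib.Aschbacher.PairSetup
import Cfsg.Agent.Lib.Aschbacher.PointCrit

set_option autoImplicit false
set_option linter.style.haveILetI false
set_option linter.unusedSectionVars false

namespace Cfsg.Agent.Aschbacher

open Cfsg Involution Bender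
open scoped Pointwise

universe u

variable {G : Type u} {Ω : Type u} [Group G] [MulAction G Ω] [Finite G] [Finite Ω]
  [FaithfulSMul G Ω] {D : Set G} {pt : G → Ω}

/-- The members at the point of `d` congruent to it modulo the odd core of the group they generate. -/
def clsAt (D : Set G) (pt : G → Ω) (d : G) : Set G :=
  {e | e ∈ D ∧ pt e = pt d ∧ d⁻¹ * e ∈ core 2 (atPoint D pt (pt d))}

namespace PointClass

variable (P : PointClass G Ω D pt)
include P

theorem conj_mem_core_atPoint {g : G} {x : Ω} {a : G} (ha : a ∈ core 2 (atPoint D pt x)) :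
    g * a * g⁻¹ ∈ core 2 (atPoint D pt (g • x)) := by
  have hmap : (atPoint D pt x).map (MulAut.conj g).toMonoidHom = atPoint D pt (g • x) := by
    unfold atPoint
    rw [MonoidHom.map_closure]
    refine congrArg Subgroup.closure (Set.ext fun d => ⟨?_, fun hd => ?_⟩)
    · rintro ⟨e, ⟨he, rfl⟩, rfl⟩
      exact ⟨P.conj_mem g e he, P.pt_conj g he⟩
    · refine ⟨g⁻¹ * d * g, ⟨?_, ?_⟩, by simp [mul_assoc]⟩
      · simpa using P.conj_mem g⁻¹ d hd.1
      · have := P.pt_conj g⁻¹ hd.1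
        rw [inv_inv, hd.2, inv_smul_smul] at this
        exact this
  obtain ⟨k, hk, rfl⟩ := ha
  set e := ((atPoint D pt x).equivMapOfInjective (MulAut.conj g).toMonoidHom
    (MulAut.conj g).injective).trans (MulEquiv.subgroupCongr hmap)
  refine ⟨e k, ?_, rfl⟩
  rw [← Cores.pPrimeCore_map_mulEquiv e 2]
  exact Subgroup.mem_map_of_mem e.toMonoidHom hk

theorem conj_mem_clsAt {d e : G} (hd : d ∈ D) (g : G) (he : e ∈ clsAt D pt d) :
    g * e * g⁻¹ ∈ clsAt D pt (g * d * g⁻¹) := by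
  refine ⟨P.conj_mem g e he.1, by rw [P.pt_conj g he.1, P.pt_conj g hd, he.2.1], ?_⟩
  rw [P.pt_conj g hd, show (g * d * g⁻¹)⁻¹ * (g * e * g⁻¹) = g * (d⁻¹ * e) * g⁻¹ by group]
  exact P.conj_mem_core_atPoint he.2.2

theorem card_clsAt_eq {x y : Ω} (hxy : x ≠ y) {d e : G} (hd : d ∈ D) (he : e ∈ D) :
    Nat.card (clsAt D pt d) = Nat.card (clsAt D pt e) := by
  obtain ⟨g, rfl⟩ := isConj_iff.1 (P.isConj_of_mem hxy hd he)
  refine Nat.card_congr (Equiv.subtypeEquiv (MulAut.conj g).toEquiv fun k => ?_)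
  show k ∈ clsAt D pt d ↔ g * k * g⁻¹ ∈ clsAt D pt (g * d * g⁻¹)
  refine ⟨P.conj_mem_clsAt hd g, fun h => ?_⟩
  have h' := P.conj_mem_clsAt (P.conj_mem g d hd) g⁻¹ h
  simpa [mul_assoc] using h'

/-- Commuting members are in different classes. -/
theorem not_mem_clsAt {x y : Ω} (hxy : x ≠ y) {d e : G} (hd : d ∈ D) (he : e ∈ D)
    (hde : Commute d e) (hne : d ≠ e) : e ∉ clsAt D pt d := by
  intro h
  have hD := P.mul_mem_of_commute hd he hde hne hxy
  have h2 : orderOf (d⁻¹ * e) = 2 := by rw [inv_eq (P.inv d hd)]; exact P.inv _ hD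
  have h3 := Subgroup.orderOf_dvd_natCard _ h.2.2
  rw [h2] at h3
  exact Nat.not_even_iff_odd.2 (odd_card_core_two (atPoint D pt (pt d))) (even_iff_two_dvd.2 h3)

/-- Some prime has more in the number of members at a point than in the size of a class. -/
theorem exists_prime_class {x y : Ω} (hxy : x ≠ y) (hpair : ∃ d ∈ D, ∃ e ∈ D, Commute d e ∧ d ≠ e) :
    ∃ (p : ℕ) (_ : Fact p.Prime), p ≠ 2 ∧ ∀ d ∈ D,
      pPart p (Nat.card (clsAt D pt d)) < pPart p (Nat.card {f : G // f ∈ D ∧ pt f = pt d}) := by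
  obtain ⟨d, hd, e, he, hde, hne⟩ := hpair
  set s := Nat.card (clsAt D pt d) with hs
  set m := Nat.card {f : G // f ∈ D ∧ pt f = pt d} with hm
  have hlt : s < m := by
    have h1 : clsAt D pt d ⊂ {f : G | f ∈ D ∧ pt f = pt d} := by
      refine ⟨fun f hf => ⟨hf.1, hf.2.1⟩, fun h => P.not_mem_clsAt hxy hd he hde hne ?_⟩
      exact h ⟨he, (P.pt_eq_of_commute hd he hde).symm⟩
    exact Set.Finite.card_lt_card (Set.toFinite _) h1
  have hs0 : s ≠ 0 :=
    (Nat.card_pos_iff.2 ⟨⟨⟨d, hd, rfl, by rw [inv_mul_cancel]; exact one_mem _⟩⟩, inferInstance⟩).ne'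
  have hm0 : m ≠ 0 := (P.odd_card (pt d)).pos.ne'
  obtain ⟨p, hp⟩ : ∃ p, s.factorization p < m.factorization p := by
    by_contra! hcon
    exact absurd (Nat.le_of_dvd (Nat.pos_of_ne_zero hs0)
      ((Nat.factorization_le_iff_dvd hm0 hs0).1 hcon)) (not_le.2 hlt)
  have hpp : p.Prime := Nat.prime_of_mem_primeFactors
    (Nat.support_factorization m ▸ Finsupp.mem_support_iff.2 (by omega))
  haveI : Fact p.Prime := ⟨hpp⟩
  refine ⟨p, inferInstance, ?_, fun d' hd' => ?_⟩
  · rintro rfl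
    have : m.factorization 2 = 0 := Nat.factorization_eq_zero_of_not_dvd
      (Nat.two_dvd_ne_zero.2 (Nat.odd_iff.1 (P.odd_card (pt d))))
    omega
  · rw [P.card_clsAt_eq hxy hd' hd, card_point_eq P (pt d') (pt d), ← hs, ← hm]
    exact Nat.pow_lt_pow_right hpp.one_lt hp

/-- A `p`-group fixing `c, a` and normalised by a member at `c` fixes its class, so is smaller than
the `p`-part of `G_ca`. -/
theorem card_lt_of_fixed {c a : Ω} (hc2 : CoreTwoAt D pt c) (hca : c ≠ a) {p : ℕ} [Fact p.Prime]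
    (hp : p ≠ 2) {u : G} (hu : u ∈ D) (huc : pt u = c)
    (hlt : pPart p (Nat.card (clsAt D pt u)) < pPart p (Nat.card {f : G // f ∈ D ∧ pt f = pt u}))
    {X : Subgroup G} (hX : IsPGroup p X) (hXK : X ≤ twoPt G c a)
    (huX : u ∈ Subgroup.normalizer (X : Set G)) :
    Nat.card X < pPart p (Nat.card (twoPt G c a)) := by
  subst huc
  set K := twoPt G (pt u) a with hK
  set R := core 2 (atPoint D pt (pt u)) with hR
  have hconjR : ∀ g ∈ K, ∀ r ∈ R, g * r * g⁻¹ ∈ R := fun g hg r hr => by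
    have := P.conj_mem_core_atPoint (g := g) hr
    rwa [MulAction.mem_stabilizer_iff.1 hg.1] at this
  let Sc : Subgroup G :=
    { carrier := {g | g ∈ K ∧ u⁻¹ * (g * u * g⁻¹) ∈ R}
      one_mem' := ⟨one_mem _, by rw [one_mul, inv_one, mul_one, inv_mul_cancel]; exact one_mem _⟩
      mul_mem' := by
        rintro g h ⟨hg, hg'⟩ ⟨hh, hh'⟩
        refine ⟨mul_mem hg hh, ?_⟩
        rw [show u⁻¹ * (g * h * u * (g * h)⁻¹) =
          u⁻¹ * (g * u * g⁻¹) * (g * (u⁻¹ * (h * u * h⁻¹)) * g⁻¹) by group]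
        exact mul_mem hg' (hconjR g hg _ hh')
      inv_mem' := by
        rintro g ⟨hg, hg'⟩
        refine ⟨inv_mem hg, ?_⟩
        rw [show u⁻¹ * (g⁻¹ * u * g⁻¹⁻¹) = (g⁻¹ * (u⁻¹ * (g * u * g⁻¹)) * g⁻¹⁻¹)⁻¹ by group]
        exact inv_mem (hconjR g⁻¹ (inv_mem hg) _ hg') }
  have hXS : X ≤ Sc := by
    intro g hg
    refine ⟨hXK hg, ?_⟩
    set k := u⁻¹ * (g * u * g⁻¹) with hk
    have hkX : k ∈ X := by
      rw [hk, show u⁻¹ * (g * u * g⁻¹) = (u⁻¹ * g * u) * g⁻¹ by group]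
      exact mul_mem ((Subgroup.mem_normalizer_iff''.1 huX g).1 hg) (inv_mem hg)
    obtain ⟨l, hl⟩ := (odd_card_of_isPGroup hp hX).of_dvd_nat (Subgroup.orderOf_dvd_natCard X hkX)
    have hgu : g * u * g⁻¹ ∈ D ∧ pt (g * u * g⁻¹) = pt u :=
      ⟨P.conj_mem g u hu, by rw [P.pt_conj g hu]; exact MulAction.mem_stabilizer_iff.1 (hXK hg).1⟩
    let s : atPoint D pt (pt u) := ⟨u, Subgroup.subset_closure ⟨hu, rfl⟩⟩
    let t : atPoint D pt (pt u) := ⟨g * u * g⁻¹, Subgroup.subset_closure hgu⟩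
    have h2 : k * k ∈ R := by
      refine ⟨s * t * s⁻¹ * t⁻¹, hc2 s t, ?_⟩
      show u * (g * u * g⁻¹) * u⁻¹ * (g * u * g⁻¹)⁻¹ = k * k
      rw [hk, inv_eq (P.inv u hu), inv_eq (P.inv _ hgu.1)]
      group
    rw [show k = (k * k) ^ (l + 1) by
      rw [← sq, ← pow_mul, show 2 * (l + 1) = (2 * l + 1) + 1 by ring, pow_succ, ← hl,
        pow_orderOf_eq_one, one_mul]]
    exact pow_mem h2 _
  set s := clsAt D pt u with hs
  set C := Subgroup.centralizer ({u} : Set G) with hC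
  have hus : u ∈ s := ⟨hu, rfl, by rw [inv_mul_cancel]; exact one_mem _⟩
  have hSs : ∀ g ∈ Sc, ∀ e ∈ s, g * e * g⁻¹ ∈ s := fun g hg e he => by
    refine ⟨P.conj_mem g e he.1, ?_, ?_⟩
    · rw [P.pt_conj g he.1, he.2.1]; exact MulAction.mem_stabilizer_iff.1 hg.1.1
    · rw [show u⁻¹ * (g * e * g⁻¹) = u⁻¹ * (g * u * g⁻¹) * (g * (u⁻¹ * e) * g⁻¹) by group]
      exact mul_mem hg.2 (hconjR g hg.1 _ he.2.2)
  have e1 := card_eq_mul_centralizer Sc s hSs hus fun e he => by
    obtain ⟨o, ho, e'⟩ := P.exists_core_conj_point hca hu rfl he.1 he.2.1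
    exact ⟨o, ⟨core_le 2 _ ho, by rw [e']; exact he.2.2⟩, e'⟩
  have e2 := card_eq_mul_centralizer K {f | f ∈ D ∧ pt f = pt u}
    (fun g hg f hf => ⟨P.conj_mem g f hf.1,
      by rw [P.pt_conj g hf.1, hf.2]; exact MulAction.mem_stabilizer_iff.1 hg.1⟩) ⟨hu, rfl⟩
    fun f hf => by
      obtain ⟨o, ho, e'⟩ := P.exists_core_conj_point hca hu rfl hf.1 hf.2
      exact ⟨o, core_le 2 _ ho, e'⟩
  have h3 : Nat.card ↥(Sc ⊓ C) = Nat.card ↥(K ⊓ C) := by
    refine congrArg (fun H : Subgroup G => Nat.card H) (le_antisymm (inf_le_inf_right _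
      (fun g hg => hg.1)) fun g hg => ⟨⟨hg.1, ?_⟩, hg.2⟩)
    rw [(mem_centralizer.1 hg.2).eq, mul_inv_cancel_right, inv_mul_cancel]
    exact one_mem _
  have hs0 : Nat.card s ≠ 0 := (Nat.card_pos_iff.2 ⟨⟨⟨u, hus⟩⟩, inferInstance⟩).ne'
  have hI0 : Nat.card {f : G | f ∈ D ∧ pt f = pt u} ≠ 0 := (P.odd_card (pt u)).pos.ne'
  calc Nat.card X ≤ pPart p (Nat.card Sc) := Coprime.card_le_of_isPGroup hX hXS
    _ = pPart p (Nat.card s) * pPart p (Nat.card ↥(K ⊓ C)) := by
      rw [e1, h3, pPart_mul hs0 Nat.card_pos.ne']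
    _ < pPart p (Nat.card {f : G | f ∈ D ∧ pt f = pt u}) * pPart p (Nat.card ↥(K ⊓ C)) :=
      Nat.mul_lt_mul_of_pos_right hlt (pow_pos (Fact.out : p.Prime).pos _)
    _ = pPart p (Nat.card K) := by rw [e2, pPart_mul hI0 Nat.card_pos.ne']

/-- **A set-up exists.** -/
theorem exists_pairSetup_core (hc2 : ∀ x : Ω, CoreTwoAt D pt x)
    (hpair : ∃ d ∈ D, ∃ e ∈ D, Commute d e ∧ d ≠ e) {x y : Ω} (hxy : x ≠ y) :
    ∃ (p : ℕ) (_ : Fact p.Prime) (X₀ : Subgroup G) (a b : Ω), PairSetup D pt p X₀ a b := by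
  obtain ⟨p, hpF, hp2, hlt⟩ := P.exists_prime_class hxy hpair
  obtain ⟨⟨a, b⟩, hab, hmax⟩ := Set.Finite.exists_maximalFor
    (fun q : Ω × Ω => pPart p (Nat.card (twoPt G q.1 q.2))) {q | q.1 ≠ q.2}
    (Set.toFinite _) ⟨(x, y), hxy⟩
  obtain ⟨X, hXp, hXab, hXcard⟩ := exists_pPart (p := p) (twoPt G a b)
  obtain ⟨u, hu, huX, hua⟩ := P.exists_swap_normalizing_twoPt hab hp2 hXab hXcard
  refine ⟨p, hpF, X, a, b, P, hXp, hab, hXab.trans inf_le_left, hXab.trans inf_le_right,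
    ⟨u, hu, huX, fun hc => ?_⟩, fun Q hQ q r hqr hq hr => ?_, hp2⟩
  · have hca : pt u ≠ a := fun e => hab (by rw [← hua, ← e, P.smul_pt hu])
    have h := P.card_lt_of_fixed (hc2 _) hca hp2 hu rfl (hlt u hu) hXp
      (le_inf hc (hXab.trans inf_le_left)) huX
    rw [card_twoPt_fixed P hab hu hua, hXcard] at h
    exact lt_irrefl _ h
  · refine (Coprime.card_le_of_isPGroup hQ (le_inf hq hr : Q ≤ twoPt G q r)).trans ?_
    rw [hXcard]
    rcases le_total (pPart p (Nat.card (twoPt G q r))) (pPart p (Nat.card (twoPt G a b))) with h | h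
    · exact h
    · exact hmax (j := (q, r)) hqr h

end PointClass

end Cfsg.Agent.Aschbacher
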