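/-
An involution with two fixed points when the members at a point commute (CRITERION.md B2, B4;
owner: helper87).

`P : PointClass G Ω D pt`, `u` an involution fixing `a ≠ b`, `c` the number of members at `a`
centralising `u`, `ι` the number of members at `a`.

* `eq_of_same_image` : members at one point centralising `u` with the same image on `Fix u` agree
* `exists_centralizing_conj` : the members centralising `u` are conjugate in `C(u)`
* `card_centralizing_eq` : `c` does not depend on the fixed point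
* `centralizing_dvd`, `card_point_le_sq` : `c ∣ ι` and `ι + 1 ≤ (c + 1) ^ 2`
* `exists_half_param` : if `u` moves a member at `a` then `c + 1 = 2 ^ m`, `ι = c (c + 2)`
* `card_moved_pencil` : and `(n - f) (c + 2) = f c (f - 1)`, `f` the number of fixed points
* `exists_pairSetup_of_dvd` : a free set-up for every odd prime dividing `ι`
-/
import Cfsg.Agent.Lib.Aschbacher.PairElementary
import Cfsg.Agent.Lib.Aschbacher.PairSetupCore
import Cfsg.Agent.Lib.Aschbacher.CriterionFrame

set_option autoImplicit false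
set_option linter.style.haveILetI false
set_option linter.unusedSectionVars false

namespace Cfsg.Agent.Aschbacher

open Cfsg Involution Bender
open scoped Pointwise

universe u

variable {G : Type u} {Ω : Type u} [Group G] [MulAction G Ω] [Finite G] [Finite Ω]
  [FaithfulSMul G Ω] {D : Set G} {pt : G → Ω}

namespace PointClass

variable (P : PointClass G Ω D pt)
  (hcomm : ∀ s ∈ D, ∀ t ∈ D, pt s = pt t → Commute s t)
include P hcomm

/-- For every odd prime dividing the number of members at a point there is a free set-up. -/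
theorem exists_pairSetup_of_dvd {p : ℕ} [Fact p.Prime] (hp : p ≠ 2) {x y : Ω} (hxy : x ≠ y) {z : Ω}
    (hdvd : p ∣ Nat.card {f : G // f ∈ D ∧ pt f = z}) :
    ∃ (X₀ : Subgroup G) (a b : Ω), PairSetup D pt p X₀ a b := by
  obtain ⟨⟨a, b⟩, hab, hmax⟩ := Set.Finite.exists_maximalFor
    (fun q : Ω × Ω => pPart p (Nat.card (twoPt G q.1 q.2))) {q | q.1 ≠ q.2}
    (Set.toFinite _) ⟨(x, y), hxy⟩
  obtain ⟨X, hXp, hXab, hXcard⟩ := exists_pPart (p := p) (twoPt G a b)
  obtain ⟨u, hu, huX, hua⟩ := P.exists_swap_normalizing_twoPt hab hp hXab hXcard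
  refine ⟨X, a, b, P, hXp, hab, hXab.trans inf_le_left, hXab.trans inf_le_right,
    ⟨u, hu, huX, fun hc => ?_⟩, fun Q hQ q r hqr hq hr => ?_, hp⟩
  · have hca : pt u ≠ a := fun e => hab (by rw [← hua, ← e, P.smul_pt hu])
    have hcls : clsAt D pt u = {u} := by
      ext e
      simp only [clsAt, Set.mem_setOf_eq, Set.mem_singleton_iff]
      refine ⟨fun ⟨he, hpe, hcore⟩ => ?_, fun h => ⟨h ▸ hu, by rw [h], by
        rw [h, inv_mul_cancel]; exact one_mem _⟩⟩
      obtain ⟨y', hy'⟩ : ∃ y', pt u ≠ y' := ⟨a, hca⟩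
      have h1 := P.sq_atPoint hcomm hy' (core_le 2 _ hcore)
      have hodd := (odd_card_core_two (atPoint D pt (pt u))).of_dvd_nat
        (Subgroup.orderOf_dvd_natCard _ hcore)
      exact (inv_mul_eq_one.1 (ZStar.eq_one_of_odd_of_sq hodd (by rw [sq, h1]))).symm
    have hlt : pPart p (Nat.card (clsAt D pt u)) <
        pPart p (Nat.card {f : G // f ∈ D ∧ pt f = pt u}) := by
      rw [hcls, card_point_eq P (pt u) z]
      have h1 : Nat.card ({u} : Set G) = 1 := by simp
      rw [h1]
      have hne : Nat.card {f : G // f ∈ D ∧ pt f = z} ≠ 0 := (P.odd_card z).pos.ne'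
      have hpp : p.Prime := Fact.out
      have h2 : Nat.factorization 1 p = 0 := by simp
      have h3 := hpp.factorization_pos_of_dvd hne hdvd
      simp only [pPart, h2, pow_zero]
      exact Nat.one_lt_pow h3.ne' hpp.one_lt
    have hcore2 : CoreTwoAt D pt (pt u) := fun s t => by
      have h1 := P.commute_atPoint hcomm hca s.2 t.2
      have : s * t * s⁻¹ * t⁻¹ = 1 := by
        rw [show s * t = t * s from Subtype.ext h1.eq]
        group
      rw [this]
      exact one_mem _
    have h := P.card_lt_of_fixed hcore2 hca hp hu rfl hlt hXp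
      (le_inf hc (hXab.trans inf_le_left)) huX
    rw [card_twoPt_fixed P hab hu hua, hXcard] at h
    exact lt_irrefl _ h
  · refine (Coprime.card_le_of_isPGroup hQ (le_inf hq hr : Q ≤ twoPt G q r)).trans ?_
    rw [hXcard]
    rcases le_total (pPart p (Nat.card (twoPt G q r))) (pPart p (Nat.card (twoPt G a b))) with h | h
    · exact h
    · exact hmax (j := (q, r)) hqr h

/-! ### an involution with two fixed points -/

variable {v : G} (hv : orderOf v = 2) {a b : Ω} (hab : a ≠ b) (hva : v • a = a) (hvb : v • b = b)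
include hv hab hva hvb

/-- Members at a point centralising `v` with the same image on its fixed points agree. -/
theorem eq_of_same_image {d e : G} (hd : d ∈ D) (he : e ∈ D) (hpt : pt d = pt e)
    (hdv : Commute d v) (himg : ∀ p : Ω, v • p = p → d • p = e • p) : d = e := by
  by_contra hne
  have hD := P.mul_mem_of_commute hd he (hcomm d hd e he hpt) hne hab
  have hfix : ∀ p : Ω, v • p = p → (d * e) • p = p := fun p hp => by
    rw [mul_smul, ← himg p hp, P.smul_smul_self hd]
  exact hab (((P.fixed_iff _ hD a).1 (hfix a hva)).trans ((P.fixed_iff _ hD b).1 (hfix b hvb)).symm)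

/-- The members centralising `v` are conjugate in its centraliser. -/
theorem exists_centralizing_conj {d e : G} (hd : d ∈ D) (hdv : Commute d v) (he : e ∈ D)
    (hev : Commute e v) : ∃ g, Commute g v ∧ g * d * g⁻¹ = e := by
  have PF := fixGroup_pointClass (u := v) P (mul_self hv) hva hvb hab
  let d' : centMembers D v := ⟨d, mem_centMembers hd hdv⟩
  let e' : centMembers D v := ⟨e, mem_centMembers he hev⟩
  obtain ⟨σ, hσ⟩ := isConj_iff.1 (PF.isConj_of_mem (x := ⟨a, hva⟩) (y := ⟨b, hvb⟩)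
    (fun h => hab (congrArg Subtype.val h))
    (d := (fixHom Ω D v).rangeRestrict d') (e := (fixHom Ω D v).rangeRestrict e')
    ⟨d', hd, rfl⟩ ⟨e', he, rfl⟩)
  obtain ⟨l, rfl⟩ := MonoidHom.rangeRestrict_surjective _ σ
  rw [← map_inv, ← map_mul, ← map_mul] at hσ
  have hlv := commute_of_mem_centMembers l.2
  refine ⟨l, hlv, ?_⟩
  have hD : ((l * d' * l⁻¹ : centMembers D v) : G) ∈ D := P.conj_mem (l : G) d hd
  have h1 := fixed_image P hD ⟨pt ((l * d' * l⁻¹ : centMembers D v) : G), pt_fixSet P hD⟩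
  rw [hσ, fixed_image P he] at h1
  have hpt : pt ((l * d' * l⁻¹ : centMembers D v) : G) = pt e := congrArg Subtype.val (h1.2 rfl)
  refine P.eq_of_same_image hcomm hv hab hva hvb hD he hpt
    (commute_of_mem_centMembers (l * d' * l⁻¹).2) fun p hp => ?_
  have := congrArg (fun σ : fixGroup Ω D v => ((σ • (⟨p, hp⟩ : FixSet Ω v) : FixSet Ω v) : Ω)) hσ
  exact this

/-- The number of members centralising `v` is the same at all its fixed points. -/
theorem card_centralizing_eq {x : Ω} (hvx : v • x = x) :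
    Nat.card {d : G // d ∈ D ∧ pt d = x ∧ Commute d v} =
      Nat.card {d : G // d ∈ D ∧ pt d = a ∧ Commute d v} := by
  obtain ⟨d, hd, hdx, hdv⟩ := P.exists_commuting (mul_self hv) hvx
  obtain ⟨e, he, hea, hev⟩ := P.exists_commuting (mul_self hv) hva
  obtain ⟨g, hgv, hge⟩ := P.exists_centralizing_conj hcomm hv hab hva hvb hd hdv he hev
  have hga : g • x = a := by rw [← hdx, ← P.pt_conj g hd, hge, hea]
  refine Nat.card_congr (Equiv.subtypeEquiv (MulAut.conj g).toEquiv fun f => ?_)
  show _ ↔ g * f * g⁻¹ ∈ D ∧ pt (g * f * g⁻¹) = a ∧ Commute (g * f * g⁻¹) v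
  constructor
  · rintro ⟨hf, hfx, hfv⟩
    exact ⟨P.conj_mem g f hf, by rw [P.pt_conj g hf, hfx, hga],
      (hgv.mul_left hfv).mul_left hgv.inv_left⟩
  · rintro ⟨hf, hfa, hfv⟩
    have hfD : f ∈ D := by simpa [mul_assoc] using P.conj_mem g⁻¹ _ hf
    refine ⟨hfD, MulAction.injective g ?_, ?_⟩
    · show g • pt f = g • x
      rw [← P.pt_conj g hfD, hfa, hga]
    · have := (hgv.inv_left.mul_left hfv).mul_left hgv
      rwa [show g⁻¹ * (g * f * g⁻¹) * g = f by group] at this

/-- The swappers of a moved pair centralising `v` account for all members at a point. -/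
theorem card_swappers_mul {y : Ω} (hy : v • y ≠ y) :
    Nat.card {w : G // w ∈ D ∧ Commute w v ∧ w • y = v • y} *
        Nat.card {d : G // d ∈ D ∧ pt d = a ∧ Commute d v} =
      Nat.card {d : G // d ∈ D ∧ pt d = a} := by
  classical
  have hvv := mul_self hv
  have hvi := inv_eq hv
  set T := {d : G // d ∈ D ∧ pt d = y}
  set W := {w : G // w ∈ D ∧ Commute w v ∧ w • y = v • y}
  have hmid : ∀ d : T, ∃ w : W, w.1 * d.1 * w.1⁻¹ = v * d.1 * v⁻¹ := fun d => by
    have hpd : pt (v * d.1 * v⁻¹) = v • y := by rw [P.pt_conj v d.2.1, d.2.2]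
    obtain ⟨w, hw, hwe, hwp⟩ := P.exists_mid d.2.1 (P.conj_mem v _ d.2.1) (by
      rw [hpd, d.2.2]; exact hy.symm)
    rw [hpd, d.2.2] at hwp
    refine ⟨⟨w, hw, ?_, hwp⟩, hwe⟩
    have hww := mul_self (P.inv w hw)
    have hwi := inv_eq (P.inv w hw)
    have e1 : w * (v * d.1 * v⁻¹) * w⁻¹ = d.1 := by
      rw [← hwe, show w * (w * d.1 * w⁻¹) * w⁻¹ = (w * w) * d.1 * (w * w)⁻¹ by group, hww, one_mul,
        inv_one, mul_one]
    have h2 : (v * w * v⁻¹) * d.1 * (v * w * v⁻¹)⁻¹ = v * d.1 * v⁻¹ := by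
      calc (v * w * v⁻¹) * d.1 * (v * w * v⁻¹)⁻¹
          = v * (w * (v⁻¹ * d.1 * v) * w⁻¹) * v⁻¹ := by group
        _ = v * (w * (v * d.1 * v⁻¹) * w⁻¹) * v⁻¹ := by rw [hvi]
        _ = _ := by rw [e1]
    have h3 := P.mid_unique d.2.1 hw (P.conj_mem v w hw) (by rw [d.2.2, hwp]; exact hy)
      (hwe.trans h2.symm)
    exact (mul_inv_eq_iff_eq_mul.1 h3.symm).symm
  choose Φ hΦ using hmid
  have hfib : ∀ w : W, Nat.card {d : T // Φ d = w} =
      Nat.card {d : G // d ∈ D ∧ pt d = a ∧ Commute d v} := by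
    rintro ⟨w, hw, hwv, hwy⟩
    set x := pt w
    have hvx : v • x = x := P.commute_fix hw hwv.symm
    have hyx : y ≠ x := fun h => hy (by rw [h]; exact hvx)
    set g := v * w with hg
    have hgy : g • y = y := by rw [hg, mul_smul, hwy, ← mul_smul, hvv, one_smul]
    have hgx : g • x = x := by rw [hg, mul_smul, P.smul_pt hw, hvx]
    have hg2 : orderOf g = 2 := by
      refine orderOf_of_sq ?_ fun h => hab ?_
      · calc g * g = v * (w * v) * w := by rw [hg]; group
          _ = (v * v) * (w * w) := by rw [hwv.eq]; group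
          _ = 1 := by rw [hvv, mul_self (P.inv w hw), one_mul]
      · have hvw : v = w := by rw [eq_inv_of_mul_eq_one_left h, inv_eq (P.inv w hw)]
        exact ((P.fixed_iff w hw a).1 (hvw ▸ hva)).trans ((P.fixed_iff w hw b).1 (hvw ▸ hvb)).symm
    have e1 : Nat.card {d : G // d ∈ D ∧ pt d = y ∧ Commute d g} =
        Nat.card {d : G // d ∈ D ∧ pt d = x ∧ Commute d g} :=
      P.card_centralizing_eq hcomm hg2 hyx.symm hgx hgy hgy
    have e2 : Nat.card {d : G // d ∈ D ∧ pt d = x ∧ Commute d g} =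
        Nat.card {d : G // d ∈ D ∧ pt d = a ∧ Commute d v} := by
      rw [← P.card_centralizing_eq hcomm hv hab hva hvb hvx]
      refine Nat.card_congr (Equiv.subtypeEquivRight fun d => ?_)
      refine and_congr_right fun hd => and_congr_right fun hdx => ?_
      have hc := hcomm d hd w hw hdx
      refine ⟨fun h => ?_, fun h => h.mul_right hc⟩
      have := h.mul_right hc.inv_right
      rwa [hg, mul_inv_cancel_right] at this
    rw [← e2, ← e1]
    refine Nat.card_congr
      { toFun := fun d => ⟨d.1.1, d.1.2.1, d.1.2.2, ?_⟩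
        invFun := fun d => ⟨⟨d.1, d.2.1, d.2.2.1⟩, ?_⟩
        left_inv := fun d => rfl
        right_inv := fun d => rfl }
    · have h := hΦ d.1
      rw [d.2] at h
      have h' := congrArg (fun z => v⁻¹ * z * v) h
      simp only at h'
      rw [show v⁻¹ * (v * d.1.1 * v⁻¹) * v = d.1.1 by group,
        show v⁻¹ * (w * d.1.1 * w⁻¹) * v = v⁻¹ * w * d.1.1 * (v⁻¹ * w)⁻¹ by group, hvi, ← hg,
        mul_inv_eq_iff_eq_mul] at h'
      exact h'.symm
    · refine Subtype.ext (P.mid_unique d.2.1 (Φ ⟨d.1, d.2.1, d.2.2.1⟩).2.1 hw ?_ ?_)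
      · intro e
        exact hy (((Φ ⟨d.1, d.2.1, d.2.2.1⟩).2.2.2.symm.trans
          (congrArg _ d.2.2.1.symm)).trans (e.trans d.2.2.1))
      · rw [hΦ ⟨d.1, d.2.1, d.2.2.1⟩]
        have h : (v * w) * d.1 * (v * w)⁻¹ = d.1 := by
          show g * d.1 * g⁻¹ = d.1
          rw [← d.2.2.2.eq, mul_inv_cancel_right]
        have h' : v * (v * w * d.1 * (v * w)⁻¹) * v⁻¹ = v * d.1 * v⁻¹ := by rw [h]
        rw [← h', show v * (v * w * d.1 * (v * w)⁻¹) * v⁻¹ = (v * v) * (w * d.1 * w⁻¹) * (v * v)⁻¹ by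
          group, hvv, one_mul, inv_one, mul_one]
  haveI := Fintype.ofFinite W
  rw [card_point_eq P a y, ← Nat.card_congr (Equiv.sigmaFiberEquiv Φ), Nat.card_sigma,
    Finset.sum_congr rfl fun w _ => hfib w, Finset.sum_const, smul_eq_mul, Finset.card_univ,
    ← Nat.card_eq_fintype_card]

/-- The number of fixed points of `v w` does not depend on the member `w` centralising `v`. -/
theorem card_fixed_mul_eq {w w' : G} (hw : w ∈ D) (hwv : Commute w v) (hw' : w' ∈ D)
    (hwv' : Commute w' v) :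
    Nat.card {p : Ω // (v * w) • p = p} = Nat.card {p : Ω // (v * w') • p = p} := by
  obtain ⟨g, hgv, hge⟩ := P.exists_centralizing_conj hcomm hv hab hva hvb hw hwv hw' hwv'
  refine Nat.card_congr (Equiv.subtypeEquiv (MulAction.toPerm g) fun p => ?_)
  rw [MulAction.toPerm_apply, ← hge, show v * (g * w * g⁻¹) = g * (v * w) * g⁻¹ by
    rw [← mul_assoc, ← mul_assoc, ← hgv.eq]; group]
  rw [mul_smul (g * (v * w)), inv_smul_smul, mul_smul g, smul_left_cancel_iff]

/-- The pencil count, for any member `w₀` centralising `v`. -/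
theorem card_moved_mul {w₀ : G} (hw₀ : w₀ ∈ D) (hw₀v : Commute w₀ v) :
    (Nat.card Ω - Nat.card {p : Ω // v • p = p}) * Nat.card {d : G // d ∈ D ∧ pt d = a} =
      Nat.card {p : Ω // v • p = p} * Nat.card {d : G // d ∈ D ∧ pt d = a ∧ Commute d v} ^ 2 *
        (Nat.card {p : Ω // (v * w₀) • p = p} - 1) := by
  classical
  haveI := Fintype.ofFinite Ω
  set c := Nat.card {d : G // d ∈ D ∧ pt d = a ∧ Commute d v} with hc
  set ι := Nat.card {d : G // d ∈ D ∧ pt d = a} with hι
  set f := Nat.card {p : Ω // v • p = p} with hf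
  set f' := Nat.card {p : Ω // (v * w₀) • p = p} with hf'
  let M := {y : Ω // v • y ≠ y}
  let W := {w : G // w ∈ D ∧ Commute w v}
  haveI := Fintype.ofFinite W
  have hM : Nat.card M = Nat.card Ω - f := by
    have : Nat.card M = Nat.card {y : Ω // ¬ v • y = y} := rfl
    rw [this, hf, Nat.card_eq_fintype_card, Nat.card_eq_fintype_card, Nat.card_eq_fintype_card,
      Fintype.card_subtype_compl]
  have hW : Nat.card W = f * c := by
    let e : W ≃ Σ x : {p : Ω // v • p = p}, {d : G // d ∈ D ∧ pt d = x.1 ∧ Commute d v} :=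
      { toFun := fun w => ⟨⟨pt w.1, P.commute_fix w.2.1 w.2.2.symm⟩, w.1, w.2.1, rfl, w.2.2⟩
        invFun := fun r => ⟨r.2.1, r.2.2.1, r.2.2.2.2⟩
        left_inv := fun w => rfl
        right_inv := by
          rintro ⟨⟨x, hx⟩, d, hd, hdx, hdv⟩
          dsimp only at hdx
          subst hdx
          rfl }
    haveI := Fintype.ofFinite {p : Ω // v • p = p}
    rw [Nat.card_congr e, Nat.card_sigma, Finset.sum_congr rfl fun x _ =>
      P.card_centralizing_eq hcomm hv hab hva hvb x.2, Finset.sum_const, smul_eq_mul,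
      Finset.card_univ, ← Nat.card_eq_fintype_card]
  let e : (Σ y : M, {w : G // w ∈ D ∧ Commute w v ∧ w • y.1 = v • y.1}) ≃
      Σ w : W, {y : Ω // v • y ≠ y ∧ w.1 • y = v • y} :=
    { toFun := fun r => ⟨⟨r.2.1, r.2.2.1, r.2.2.2.1⟩, r.1.1, r.1.2, r.2.2.2.2⟩
      invFun := fun r => ⟨⟨r.2.1, r.2.2.1⟩, r.1.1, r.1.2.1, r.1.2.2, r.2.2.2⟩
      left_inv := fun r => rfl
      right_inv := fun r => rfl }
  have hfibW : ∀ w : W, Nat.card {y : Ω // v • y ≠ y ∧ w.1 • y = v • y} = f' - 1 := by
    rintro ⟨w, hw, hwv⟩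
    have hvx : v • pt w = pt w := P.commute_fix hw hwv.symm
    have hset : {y : Ω | (v * w) • y = y} = insert (pt w) {y | v • y ≠ y ∧ w • y = v • y} := by
      ext y
      simp only [Set.mem_setOf_eq, Set.mem_insert_iff, mul_smul]
      constructor
      · intro h
        have h1 : w • y = v • y := by
          calc w • y = v • v • w • y := by rw [← mul_smul v v, mul_self hv, one_smul]
            _ = v • y := by rw [h]
        by_cases hvy : v • y = y
        · exact Or.inl ((P.fixed_iff w hw y).1 (h1.trans hvy))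
        · exact Or.inr ⟨hvy, h1⟩
      · rintro (rfl | ⟨-, h⟩)
        · rw [P.smul_pt hw, hvx]
        · rw [h, ← mul_smul, mul_self hv, one_smul]
    rw [hf', P.card_fixed_mul_eq hcomm hv hab hva hvb hw₀ hw₀v hw hwv]
    show ({y : Ω | v • y ≠ y ∧ w • y = v • y}).ncard = ({y : Ω | (v * w) • y = y}).ncard - 1
    rw [hset, Set.ncard_insert_of_notMem (fun h => h.1 hvx) (Set.toFinite _), Nat.add_sub_cancel]
  have hfibM : ∀ y : M, Nat.card {w : G // w ∈ D ∧ Commute w v ∧ w • y.1 = v • y.1} * c = ι :=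
    fun y => P.card_swappers_mul hcomm hv hab hva hvb y.2
  calc (Nat.card Ω - f) * ι = ∑ _y : M, ι := by
        rw [Finset.sum_const, smul_eq_mul, Finset.card_univ, ← Nat.card_eq_fintype_card, hM]
    _ = (∑ y : M, Nat.card {w : G // w ∈ D ∧ Commute w v ∧ w • y.1 = v • y.1}) * c := by
        rw [Finset.sum_mul]; exact Finset.sum_congr rfl fun y _ => (hfibM y).symm
    _ = f * c ^ 2 * (f' - 1) := by
        rw [← Nat.card_sigma, Nat.card_congr e, Nat.card_sigma,
          Finset.sum_congr rfl fun w _ => hfibW w, Finset.sum_const, smul_eq_mul, Finset.card_univ,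
          ← Nat.card_eq_fintype_card, hW]
        ring

/-- The number of members at a point centralising `v` divides the number of members there. -/
theorem centralizing_dvd :
    Nat.card {d : G // d ∈ D ∧ pt d = a ∧ Commute d v} ∣ Nat.card {d : G // d ∈ D ∧ pt d = a} := by
  obtain ⟨y, hy⟩ : ∃ y : Ω, v • y ≠ y := by
    by_contra! h
    exact ne_one hv (eq_of_smul_eq_smul fun p : Ω => by rw [h p, one_smul])
  exact ⟨_, ((P.card_swappers_mul hcomm hv hab hva hvb hy).symm.trans (mul_comm _ _))⟩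

/-- An involution centralises at least the square root of `E`. -/
theorem card_point_le_sq :
    Nat.card {d : G // d ∈ D ∧ pt d = a} + 1 ≤
      (Nat.card {d : G // d ∈ D ∧ pt d = a ∧ Commute d v} + 1) ^ 2 := by
  set E := atPoint D pt a with hE
  set C : Subgroup G := E ⊓ Subgroup.centralizer ({v} : Set G) with hC
  have hcard : Nat.card C = Nat.card {d : G // d ∈ D ∧ pt d = a ∧ Commute d v} + 1 := by
    have hset : (C : Set G) = insert 1 {d | d ∈ D ∧ pt d = a ∧ Commute d v} := by
      ext g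
      rw [SetLike.mem_coe, hC, Subgroup.mem_inf, P.mem_atPoint_iff hcomm hab, mem_centralizer,
        Set.mem_insert_iff, Set.mem_setOf_eq]
      constructor
      · rintro ⟨rfl | ⟨h1, h2⟩, h⟩
        · exact Or.inl rfl
        · exact Or.inr ⟨h1, h2, h⟩
      · rintro (rfl | ⟨h1, h2, h⟩)
        · exact ⟨Or.inl rfl, Commute.one_left v⟩
        · exact ⟨Or.inr ⟨h1, h2⟩, h⟩
    calc Nat.card C = (C : Set G).ncard := Nat.card_coe_set_eq (C : Set G)
      _ = _ := by
        rw [hset, Set.ncard_insert_of_notMem (fun h => ne_one (P.inv 1 h.1) rfl) (Set.toFinite _)]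
        rfl
  have hnorm := P.stabilizer_le_normalizer_atPoint hcomm hab (MulAction.mem_stabilizer_iff.2 hva)
  have hconj : ∀ e ∈ E, v * e * v⁻¹ ∈ E := fun e he =>
    (Subgroup.mem_normalizer_iff.1 hnorm e).1 he
  have hcc : ∀ {x y : G}, x ∈ E → y ∈ E → Commute x y := fun hx hy =>
    P.commute_atPoint hcomm hab hx hy
  have hmem : ∀ e : E, (e : G) * (v * e * v⁻¹) ∈ C := fun e => by
    refine ⟨E.mul_mem e.2 (hconj _ e.2), mem_centralizer.2 (Commute.symm ?_)⟩
    show v * (e * (v * e * v⁻¹)) = e * (v * e * v⁻¹) * v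
    calc v * ((e : G) * (v * e * v⁻¹)) = (v * e * v⁻¹) * (v * v) * e * v⁻¹ := by group
      _ = (v * e * v⁻¹) * e * v⁻¹ := by rw [mul_self hv, mul_one]
      _ = (e : G) * (v * e * v⁻¹) * v⁻¹ := by rw [(hcc (hconj _ e.2) e.2).eq]
      _ = _ := by rw [inv_eq hv]
  let φ : E →* C :=
    { toFun := fun e => ⟨_, hmem e⟩
      map_one' := Subtype.ext (by simp)
      map_mul' := fun x y => Subtype.ext (by
        show (x : G) * y * (v * (x * y) * v⁻¹) = x * (v * x * v⁻¹) * (y * (v * y * v⁻¹))
        rw [show v * ((x : G) * y) * v⁻¹ = (v * x * v⁻¹) * (v * y * v⁻¹) by group]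
        calc (x : G) * y * ((v * x * v⁻¹) * (v * y * v⁻¹))
            = x * (y * (v * x * v⁻¹)) * (v * y * v⁻¹) := by group
          _ = x * ((v * x * v⁻¹) * y) * (v * y * v⁻¹) := by
            rw [(hcc y.2 (hconj _ x.2)).eq]
          _ = _ := by group) }
  have hker : Nat.card φ.ker ≤ Nat.card C := by
    refine Nat.card_le_card_of_injective (fun e : φ.ker => (⟨e.1.1, e.1.2, ?_⟩ : C)) fun x y h => ?_
    · have h : (e.1 : G) * (v * e.1 * v⁻¹) = 1 := congrArg Subtype.val (MonoidHom.mem_ker.1 e.2)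
      have h' : v * e.1 * v⁻¹ = (e.1 : G) := by
        rw [eq_inv_of_mul_eq_one_right h, inv_eq_of_mul_eq_one_right (P.sq_atPoint hcomm hab e.1.2)]
      exact mem_centralizer.2 (mul_inv_eq_iff_eq_mul.1 h').symm
    · exact Subtype.ext (Subtype.ext (congrArg (fun z : C => (z : G)) h))
  have hrange : Nat.card φ.range ≤ Nat.card C :=
    Nat.card_le_card_of_injective Subtype.val Subtype.val_injective
  have h1 := Subgroup.card_mul_index φ.ker
  rw [Subgroup.index_ker] at h1
  rw [← P.card_atPoint hcomm hab, ← hcard, ← hE, ← h1, sq]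
  exact Nat.mul_le_mul hker hrange

/-- If `v` moves a member at `a` then `c + 1 = 2 ^ m` and `ι = c (c + 2)`. -/
theorem exists_half_param {d : G} (hd : d ∈ D) (hda : pt d = a) (hdv : ¬ Commute d v) :
    ∃ m, 1 ≤ m ∧ Nat.card {d : G // d ∈ D ∧ pt d = a ∧ Commute d v} + 1 = 2 ^ m ∧
      Nat.card {d : G // d ∈ D ∧ pt d = a} =
        Nat.card {d : G // d ∈ D ∧ pt d = a ∧ Commute d v} *
          (Nat.card {d : G // d ∈ D ∧ pt d = a ∧ Commute d v} + 2) := by
  set c := Nat.card {d : G // d ∈ D ∧ pt d = a ∧ Commute d v} with hc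
  set ι := Nat.card {d : G // d ∈ D ∧ pt d = a} with hι
  obtain ⟨r, hr⟩ := P.exists_card_atPoint hcomm hab
  have hdvd := P.centralizing_dvd hcomm hv hab hva hvb
  have hle := P.card_point_le_sq hcomm hv hab hva hvb
  have hc0 : 1 ≤ c := by
    obtain ⟨e, he, hea, hev⟩ := P.exists_commuting (mul_self hv) hva
    exact Nat.card_pos_iff.2 ⟨⟨⟨e, he, hea, hev⟩⟩, inferInstance⟩
  have hlt : c < ι := by
    refine Set.Finite.card_lt_card (s := {d : G | d ∈ D ∧ pt d = a ∧ Commute d v})
      (t := {d : G | d ∈ D ∧ pt d = a}) (Set.toFinite _) ?_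
    exact ⟨fun e he => ⟨he.1, he.2.1⟩, fun h => hdv (h ⟨hd, hda⟩).2.2⟩
  -- `c + 1` is a power of two
  obtain ⟨m, hm⟩ : ∃ m, c + 1 = 2 ^ m := by
    haveI : Fact (Nat.Prime 2) := ⟨Nat.prime_two⟩
    set C : Subgroup G := atPoint D pt a ⊓ Subgroup.centralizer ({v} : Set G) with hC
    obtain ⟨m, hm⟩ := ((P.isPGroup_atPoint hcomm hab).to_le (inf_le_left (b :=
      Subgroup.centralizer ({v} : Set G)))).exists_card_eq
    refine ⟨m, ?_⟩
    rw [← hm]
    symm
    have hset : (C : Set G) = insert 1 {d | d ∈ D ∧ pt d = a ∧ Commute d v} := by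
      ext g
      rw [SetLike.mem_coe, hC, Subgroup.mem_inf, P.mem_atPoint_iff hcomm hab, mem_centralizer,
        Set.mem_insert_iff, Set.mem_setOf_eq]
      constructor
      · rintro ⟨rfl | ⟨h1, h2⟩, h⟩
        · exact Or.inl rfl
        · exact Or.inr ⟨h1, h2, h⟩
      · rintro (rfl | ⟨h1, h2, h⟩)
        · exact ⟨Or.inl rfl, Commute.one_left v⟩
        · exact ⟨Or.inr ⟨h1, h2⟩, h⟩
    calc Nat.card C = (C : Set G).ncard := Nat.card_coe_set_eq (C : Set G)
      _ = _ := by
        rw [hset, Set.ncard_insert_of_notMem (fun h => ne_one (P.inv 1 h.1) rfl) (Set.toFinite _)]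
        rfl
  rw [← hι] at hr
  rw [← hc, ← hι] at hle
  have hm1 : 1 ≤ m := by
    rcases Nat.eq_zero_or_pos m with rfl | h
    · simp at hm; omega
    · exact h
  have hmr : m < r := (Nat.pow_lt_pow_iff_right (a := 2) (by omega)).1 (by omega)
  have hr2 : r ≤ 2 * m := (Nat.pow_le_pow_iff_right (a := 2) (by omega)).1 (by
    rw [← hr, mul_comm 2 m, pow_mul, ← hm]; exact hle)
  obtain ⟨s, rfl⟩ := Nat.exists_eq_add_of_lt hmr
  set s' := s + 1 with hs'
  have hs : m + s + 1 = m + s' := by omega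
  rw [hs, pow_add, ← hm] at hr
  have hsm : s' ≤ m := by omega
  have hS : 2 ^ s' ≤ c + 1 := hm ▸ Nat.pow_le_pow_right two_pos hsm
  have hS2 : 2 ≤ 2 ^ s' := Nat.le_self_pow (by omega) 2
  have hdiv : c ∣ 2 ^ s' - 1 := by
    have e1 : ι = c * 2 ^ s' + (2 ^ s' - 1) := by
      rw [add_mul, one_mul] at hr
      omega
    rw [← hc, ← hι, e1] at hdvd
    exact (Nat.dvd_add_right (dvd_mul_right c _)).1 hdvd
  have hge : c ≤ 2 ^ s' - 1 := Nat.le_of_dvd (by omega) hdiv
  have heq : 2 ^ s' = c + 1 := by omega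
  refine ⟨m, hm1, hm, ?_⟩
  rw [heq] at hr
  have : (c + 1) * (c + 1) = c * (c + 2) + 1 := by ring
  omega

/-- The pencil count when `v` moves a member at `a`. -/
theorem card_moved_pencil {d : G} (hd : d ∈ D) (hda : pt d = a) (hdv : ¬ Commute d v) :
    (Nat.card Ω - Nat.card {p : Ω // v • p = p}) *
        (Nat.card {d : G // d ∈ D ∧ pt d = a ∧ Commute d v} + 2) =
      Nat.card {p : Ω // v • p = p} * Nat.card {d : G // d ∈ D ∧ pt d = a ∧ Commute d v} *
        (Nat.card {p : Ω // v • p = p} - 1) := by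
  classical
  obtain ⟨m, hm1, hm, hι⟩ := P.exists_half_param hcomm hv hab hva hvb hd hda hdv
  set c := Nat.card {d : G // d ∈ D ∧ pt d = a ∧ Commute d v} with hc
  set ι := Nat.card {d : G // d ∈ D ∧ pt d = a} with hιdef
  set f := Nat.card {p : Ω // v • p = p} with hf
  set n := Nat.card Ω with hn
  obtain ⟨w, hw, hwa, hwv⟩ := P.exists_commuting (mul_self hv) hva
  have hcnt := P.card_moved_mul hcomm hv hab hva hvb hw hwv
  rw [← hc, ← hf, ← hn, ← hιdef] at hcnt
  set g := v * w with hg
  set f' := Nat.card {p : Ω // g • p = p} with hf'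
  have hcpos : 0 < c := by
    have : 2 ≤ 2 ^ m := Nat.le_self_pow (by omega) 2
    omega
  have hn1 : f < n := by
    obtain ⟨y, hy⟩ : ∃ y : Ω, v • y ≠ y := by
      by_contra! h
      exact ne_one hv (eq_of_smul_eq_smul fun p : Ω => by rw [h p, one_smul])
    haveI := Fintype.ofFinite Ω
    rw [hf, hn, Nat.card_eq_fintype_card, Nat.card_eq_fintype_card]
    exact Fintype.card_subtype_lt hy
  have hfpos : 0 < f := Nat.card_pos_iff.2 ⟨⟨⟨a, hva⟩⟩, inferInstance⟩
  have hf'2 : 2 ≤ f' := by
    by_contra h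
    rw [show f' - 1 = 0 by omega, mul_zero] at hcnt
    rcases Nat.mul_eq_zero.1 hcnt with h1 | h1
    · omega
    · rw [hι] at h1
      rcases Nat.mul_eq_zero.1 h1 with h2 | h2 <;> omega
  have hgx : g • a = a := by rw [hg, mul_smul, ← hwa, P.smul_pt hw, hwa, hva]
  have hg2 : orderOf g = 2 := by
    refine orderOf_of_sq ?_ fun h => hab ?_
    · calc g * g = v * (w * v) * w := by rw [hg]; group
        _ = (v * v) * (w * w) := by rw [hwv.eq]; group
        _ = 1 := by rw [mul_self hv, mul_self (P.inv w hw), one_mul]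
    · have hvw : v = w := by rw [eq_inv_of_mul_eq_one_left h, inv_eq (P.inv w hw)]
      exact ((P.fixed_iff w hw a).1 (hvw ▸ hva)).trans ((P.fixed_iff w hw b).1 (hvw ▸ hvb)).symm
  obtain ⟨z, hgz, hza⟩ : ∃ z, g • z = z ∧ a ≠ z := by
    haveI : Nontrivial {p : Ω // g • p = p} := Finite.one_lt_card_iff_nontrivial.1 (by omega)
    obtain ⟨⟨z, hz⟩, hne⟩ := exists_ne (⟨a, hgx⟩ : {p : Ω // g • p = p})
    exact ⟨z, hz, fun e => hne (Subtype.ext e.symm)⟩
  have hwg : Commute w g := by rw [hg]; exact hwv.mul_right (Commute.refl w)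
  have hcnt' := P.card_moved_mul hcomm hg2 hza hgx hgz hw hwg
  have hcg : Nat.card {d : G // d ∈ D ∧ pt d = a ∧ Commute d g} = c := by
    rw [hc]
    refine Nat.card_congr (Equiv.subtypeEquivRight fun e => ?_)
    refine and_congr_right fun he => and_congr_right fun hea => ?_
    have hcw := hcomm e he w hw (hea.trans hwa.symm)
    refine ⟨fun h => ?_, fun h => h.mul_right hcw⟩
    have := h.mul_right hcw.inv_right
    rwa [hg, mul_inv_cancel_right] at this
  have hgw : g * w = v := by rw [hg, mul_assoc, mul_self (P.inv w hw), mul_one]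
  rw [hgw, ← hf, ← hf', ← hn, hcg] at hcnt'
  have hf'n : f' ≤ n := Nat.card_le_card_of_injective Subtype.val Subtype.val_injective
  zify [hn1.le, hf'n, show 1 ≤ f by omega, show 1 ≤ f' by omega] at hcnt hcnt'
  rw [← hιdef] at hcnt'
  have key : ((f' : ℤ) - f) * ((ι : ℤ) - (c : ℤ) ^ 2) = 0 := by
    linear_combination hcnt - hcnt'
  have hιc : (ι : ℤ) - (c : ℤ) ^ 2 = 2 * c := by rw [hι]; push_cast; ring
  rw [hιc] at key
  have hff : (f' : ℤ) = f := by
    rcases mul_eq_zero.1 key with h | h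
    · linarith
    · exfalso; omega
  zify [hn1.le, show 1 ≤ f by omega]
  rw [hff, hι] at hcnt
  push_cast at hcnt
  refine mul_left_cancel₀ (a := (c : ℤ)) (by exact_mod_cast hcpos.ne') ?_
  linear_combination hcnt

end PointClass

end Cfsg.Agent.Aschbacher
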