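/-
The number of points when all involutions are members (CRITERION.md B3; owner: helper87).

* `PointClass.card_points_cases` : a point class in which every involution is a member and two
  members commute has `q ^ j + 1` points, `1 ≤ j ≤ 3`, where `q - 1` members lie at each point
* `PointClass.card_fixed_cases` : so an involution fixing `a, b` and centralising `c ≥ 2` members at
  `a` has `(c + 1) ^ j + 1` fixed points
-/
import Cfsg.Agent.Lib.Aschbacher.CriterionPencil
import Cfsg.Agent.Lib.Bender.RankOneHalf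
import Cfsg.Agent.Lib.SuzukiRankOne.Unitary.TwoGroup

set_option autoImplicit false
set_option linter.style.haveILetI false
set_option linter.unusedSectionVars false

namespace Cfsg.Agent.Aschbacher

open Cfsg Involution MulAction Bender SuzukiRankOne

universe u

variable {G : Type u} {Ω : Type u} [Group G] [MulAction G Ω] [Finite G] [Finite Ω]
  [FaithfulSMul G Ω] {D : Set G} {pt : G → Ω}

/-- With all involutions members there are `q ^ j + 1` points, `j ∈ {1, 2, 3}`. -/
theorem PointClass.card_points_cases (P : PointClass G Ω D pt)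
    (hall : ∀ v : G, orderOf v = 2 → v ∈ D) {x y : Ω} (hxy : x ≠ y)
    (hpair : ∃ d ∈ D, ∃ e ∈ D, Commute d e ∧ d ≠ e) :
    ∃ j : ℕ, (j = 1 ∨ j = 2 ∨ j = 3) ∧
      Nat.card Ω = (Nat.card {d : G // d ∈ D ∧ pt d = x} + 1) ^ j + 1 := by
  classical
  set H := stabilizer G x with hH
  obtain ⟨hSE, hcore⟩ := P.stronglyEmbedded_of_all hall x hxy
  have h2 : TwoInvolutions G := by
    obtain ⟨d, hd, e, he, hc, hne⟩ := hpair
    exact ⟨d, e, ne_one (P.inv d hd), ne_one (P.inv e he), hne, mul_self (P.inv d hd),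
      mul_self (P.inv e he), hc.eq⟩
  obtain ⟨t, Q, h⟩ := rankOneHalf G H hSE hcore h2
  haveI := faithful_of_normalCore hcore
  obtain ⟨hQ2, hel⟩ := kernelShape G (G ⧸ H) _ t Q h h2
  haveI : IsPretransitive G Ω := ⟨P.exists_smul_eq⟩
  have hΩ : Nat.card Ω = Nat.card Q + 1 := by
    rw [← RankOne.Setup.card_omega h, ← index_stabilizer_of_transitive G x, Subgroup.index]
  have hst : stabilizer G ((1 : G) : G ⧸ H) = H := stabilizer_quotient _
  have hII : Cfsg.involutionsIn (stabilizer G ((1 : G) : G ⧸ H) : Set G) =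
      {d | d ∈ D ∧ pt d = x} := by
    ext z
    rw [hst]
    constructor
    · rintro ⟨hzH, hz1, hzz⟩
      have hzD := hall z (orderOf_of_sq hzz hz1)
      exact ⟨hzD, ((P.fixed_iff z hzD x).1 (mem_stabilizer_iff.1 hzH)).symm⟩
    · rintro ⟨hzD, hzx⟩
      exact ⟨mem_stabilizer_iff.2 (hzx ▸ P.smul_pt hzD), ne_one (P.inv z hzD),
        mul_self (P.inv z hzD)⟩
  have hparam : param G ((1 : G) : G ⧸ H) = Nat.card {d : G // d ∈ D ∧ pt d = x} + 1 := by
    rw [param, hII]
    rfl
  rw [← hparam]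
  by_cases hc : IsMulCommutative Q
  · refine ⟨1, Or.inl rfl, ?_⟩
    rw [hΩ, pow_one]
    congr 1
    set I := Cfsg.involutionsIn (stabilizer G ((1 : G) : G ⧸ H) : Set G) with hI
    have hset : (Q : Set G) = insert 1 I := by
      ext z
      constructor
      · intro hz
        by_cases h1 : z = 1
        · exact Or.inl h1
        · exact Or.inr ⟨h.le hz, h1, hel hc z hz⟩
      · rintro (rfl | hz)
        · exact one_mem _
        · exact RankOne.Setup.mem_Q_of_ii h hz
    calc Nat.card Q = (Q : Set G).ncard := Nat.card_coe_set_eq (Q : Set G)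
      _ = I.ncard + 1 := by
        rw [hset, Set.ncard_insert_of_notMem (fun h1 => h1.2.1 rfl) (Set.toFinite _)]
      _ = _ := by rw [param, ← hI, Nat.card_coe_set_eq]
  · obtain ⟨n, hn, hq, ⟨C⟩⟩ := exists_coords h h2
    have hF : Nat.card (GaloisField 2 n) = param G ((1 : G) : G ⧸ H) := by
      rw [hq, GaloisField.card 2 n (by omega)]
    rcases C.card_cases h h2 hQ2 hc with e | e
    · exact ⟨2, Or.inr (Or.inl rfl), by rw [hΩ, e, hF]⟩
    · exact ⟨3, Or.inr (Or.inr rfl), by rw [hΩ, e, hF]⟩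

/-- The number of fixed points of an involution centralising two members at one of them. -/
theorem PointClass.card_fixed_cases (P : PointClass G Ω D pt)
    (hcomm : ∀ s ∈ D, ∀ t ∈ D, pt s = pt t → Commute s t)
    {v : G} (hv : orderOf v = 2) {a b : Ω} (hab : a ≠ b) (hva : v • a = a) (hvb : v • b = b)
    (hIH : PointCriterionBelow.{u} (Nat.card G))
    (hc2 : 2 ≤ Nat.card {d : G // d ∈ D ∧ pt d = a ∧ Commute d v}) :
    ∃ j : ℕ, (j = 1 ∨ j = 2 ∨ j = 3) ∧ Nat.card {p : Ω // v • p = p} =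
      (Nat.card {d : G // d ∈ D ∧ pt d = a ∧ Commute d v} + 1) ^ j + 1 := by
  classical
  set c := Nat.card {d : G // d ∈ D ∧ pt d = a ∧ Commute d v} with hc
  have PF := fixGroup_pointClass (u := v) P (mul_self hv) hva hvb hab
  have hall : ∀ σ : fixGroup Ω D v, orderOf σ = 2 → σ ∈ fixMembers Ω D v := fun σ hσ =>
    fixGroup_mem P (mul_self hv) hva hvb hab hIH (ne_one hv) hσ
  have himg : ∀ (g : centMembers D v), (g : G) ∈ D → ∀ (g' : centMembers D v), (g' : G) ∈ D →
      pt (g : G) = pt (g' : G) →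
      (fixHom Ω D v).rangeRestrict g = (fixHom Ω D v).rangeRestrict g' → g = g' :=
    fun g hg g' hg' hpt h => Subtype.ext (P.eq_of_same_image hcomm hv hab hva hvb hg hg' hpt
      (commute_of_mem_centMembers g.2) fun p hp =>
        congrArg (fun σ : fixGroup Ω D v => ((σ • (⟨p, hp⟩ : FixSet Ω v) : FixSet Ω v) : Ω)) h)
  have hmemcard : Nat.card {σ : fixGroup Ω D v //
      σ ∈ fixMembers Ω D v ∧ fixPoint D ⟨a, hva⟩ σ = ⟨a, hva⟩} = c := by
    let j : {d : G // d ∈ D ∧ pt d = a ∧ Commute d v} →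
        {σ : fixGroup Ω D v // σ ∈ fixMembers Ω D v ∧ fixPoint D ⟨a, hva⟩ σ = ⟨a, hva⟩} :=
      fun e => ⟨(fixHom Ω D v).rangeRestrict ⟨e.1, mem_centMembers e.2.1 e.2.2.2⟩,
        ⟨⟨e.1, mem_centMembers e.2.1 e.2.2.2⟩, e.2.1, rfl⟩, by
          rw [fixPoint_image P hva (g := ⟨e.1, mem_centMembers e.2.1 e.2.2.2⟩) e.2.1]
          exact Subtype.ext e.2.2.1⟩
    refine (Nat.card_congr (Equiv.ofBijective j ⟨fun e e' h => ?_, fun σ => ?_⟩)).symm
    · have := himg _ e.2.1 _ e'.2.1 (e.2.2.1.trans e'.2.2.1.symm) (congrArg Subtype.val h)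
      exact Subtype.ext (congrArg (fun g : centMembers D v => (g : G)) this)
    · obtain ⟨σ, ⟨g, hg, rfl⟩, hσ⟩ := σ
      rw [fixPoint_image P hva hg] at hσ
      exact ⟨⟨g, hg, congrArg Subtype.val hσ, commute_of_mem_centMembers g.2⟩, rfl⟩
  have hpair : ∃ s ∈ fixMembers Ω D v, ∃ t ∈ fixMembers Ω D v, Commute s t ∧ s ≠ t := by
    obtain ⟨⟨e, he⟩, ⟨e', he'⟩, hne⟩ := (Finite.one_lt_card_iff_nontrivial.1
      (show 1 < Nat.card {d : G // d ∈ D ∧ pt d = a ∧ Commute d v} by omega)).exists_pair_ne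
    let g : centMembers D v := ⟨e, mem_centMembers he.1 he.2.2⟩
    let g' : centMembers D v := ⟨e', mem_centMembers he'.1 he'.2.2⟩
    refine ⟨_, ⟨g, he.1, rfl⟩, _, ⟨g', he'.1, rfl⟩, ?_, fun h => hne ?_⟩
    · exact Commute.map (show Commute g g' from
        Subtype.ext (hcomm e he.1 e' he'.1 (he.2.1.trans he'.2.1.symm)).eq) _
    · exact Subtype.ext (congrArg (fun g : centMembers D v => (g : G))
        (himg g he.1 g' he'.1 (he.2.1.trans he'.2.1.symm) h))
  obtain ⟨j, hj, hf⟩ := PF.card_points_cases hall (x := ⟨a, hva⟩) (y := ⟨b, hvb⟩)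
    (fun h => hab (congrArg Subtype.val h)) hpair
  rw [hmemcard] at hf
  exact ⟨j, hj, hf⟩

end Cfsg.Agent.Aschbacher
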