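/-
An involution with two fixed points centralises the members at them (CRITERION.md §4;
owner: helper87).

Otherwise its centraliser in `E` has order `q₁`, `q = q₁ ^ 2`, and on its fixed points the members
centralising it give a rank one set-up with `q₁ ^ j + 1` points.  The pencil count and `n ≡ 2` mod a
prime divisor of `q₁ + 1` leave `q₁ = 2` or `n = q + 1`; in both cases the point stabiliser has an
abelian image on which the involution is non-trivial, against transfer.

* `PointClass.false_of_sign_point` : `false_of_sign` on the points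
* `PointClass.false_of_regular` : the case `n = q + 1`
* `PointClass.commute_of_fixed`, `FinishHyp.commute_of_fixInv` : the result
-/
import Cfsg.Agent.Lib.Aschbacher.CriterionPencil
import Cfsg.Agent.Lib.Aschbacher.CriterionRankOne
import Cfsg.Agent.Lib.Aschbacher.CriterionTransfer
import Cfsg.Agent.Lib.Aschbacher.CriterionCtx
import Cfsg.Agent.Lib.Cores.Fitting
import Cfsg.Agent.S1161

set_option autoImplicit false
set_option linter.style.haveILetI false
set_option linter.unusedSectionVars false

namespace Cfsg.Agent.Aschbacher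

open Cfsg Involution Bender
open scoped Pointwise

universe u

variable {G : Type u} {Ω : Type u} [Group G] [MulAction G Ω] [Finite G] [Finite Ω]
  [FaithfulSMul G Ω] {D : Set G} {pt : G → Ω}

namespace PointClass

variable (P : PointClass G Ω D pt) (hgen : Subgroup.closure D = ⊤)
include P

include hgen in
/-- No homomorphism of a point stabiliser into an abelian group detects an involution with two
fixed points. -/
theorem false_of_sign_point {v : G} (hv : orderOf v = 2) {a b : Ω} (hab : a ≠ b) (hvb : v • b = b)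
    {A : Type*} [CommGroup A] (χ : MulAction.stabilizer G a →* A)
    (hva : v ∈ MulAction.stabilizer G a) (hχ : χ ⟨v, hva⟩ ≠ 1) : False := by
  let e : G ⧸ MulAction.stabilizer G a ≃ Ω := Equiv.ofBijective (MulAction.ofQuotientStabilizer G a)
    ⟨MulAction.injective_ofQuotientStabilizer G a, fun p => by
      obtain ⟨g, hg⟩ := P.exists_smul_eq a p
      exact ⟨(g : G ⧸ MulAction.stabilizer G a), hg⟩⟩
  have hsmul : ∀ (g : G) (q : G ⧸ MulAction.stabilizer G a), e (g • q) = g • e q := fun g q =>
    MulAction.ofQuotientStabilizer_smul G a g q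
  haveI : FaithfulSMul G (G ⧸ MulAction.stabilizer G a) := ⟨fun {g g'} h => eq_of_smul_eq_smul fun p : Ω => by
    rw [← e.apply_symm_apply p, ← hsmul, h, hsmul]⟩
  have P' : PointClass G (G ⧸ MulAction.stabilizer G a) D (fun d => e.symm (pt d)) := by
    refine ⟨P.inv, P.conj_mem, fun d hd q => ?_, fun d hd d' hd' hdd hne c hc => ?_, fun q => ?_⟩
    · rw [← e.injective.eq_iff, hsmul, P.fixed_iff d hd, e.eq_symm_apply]
    · rw [← e.injective.eq_iff, hsmul, e.apply_symm_apply]
      exact P.product d hd d' hd' hdd hne c hc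
    · convert P.odd_card (e q) using 1
      exact Nat.card_congr (Equiv.subtypeEquivRight fun d => and_congr_right fun _ => e.symm_apply_eq)
  have h1 : e ((1 : G) : G ⧸ MulAction.stabilizer G a) = a := one_smul G a
  refine false_of_sign P' (fun d hd d' hd' => P.isConj_of_mem hab hd hd') hgen χ hv
    (a := ((1 : G) : G ⧸ MulAction.stabilizer G a)) (b := e.symm b) (fun h => hab ?_) ?_ ?_ hva hχ
  · rw [← h1, h, e.apply_symm_apply]
  · rw [← e.injective.eq_iff, hsmul, h1]
    exact MulAction.mem_stabilizer_iff.1 hva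
  · rw [← e.injective.eq_iff, hsmul, e.apply_symm_apply, hvb]

variable (hcomm : ∀ s ∈ D, ∀ t ∈ D, pt s = pt t → Commute s t)
  {v : G} (hv : orderOf v = 2) {a b : Ω} (hab : a ≠ b) (hva : v • a = a) (hvb : v • b = b)
  {d : G} (hd : d ∈ D) (hda : pt d = a) (hdv : ¬ Commute d v)
include hgen hcomm hv hab hva hvb hd hda hdv

/-- With three members at a point the sign on them detects `v`. -/
theorem false_of_three (hι : Nat.card {d : G // d ∈ D ∧ pt d = a} = 3) : False := by
  classical
  haveI : Fact (Nat.Prime 2) := ⟨Nat.prime_two⟩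
  let S := {d : G // d ∈ D ∧ pt d = a}
  haveI := Fintype.ofFinite S
  have hconj : ∀ g : MulAction.stabilizer G a, ∀ e : S,
      (g : G) * e.1 * (g : G)⁻¹ ∈ D ∧ pt ((g : G) * e.1 * (g : G)⁻¹) = a := fun g e =>
    ⟨P.conj_mem _ _ e.2.1, by rw [P.pt_conj _ e.2.1, e.2.2]; exact MulAction.mem_stabilizer_iff.1 g.2⟩
  let f : MulAction.stabilizer G a → S → S := fun g e => ⟨_, hconj g e⟩
  have hf1 : ∀ e : S, f 1 e = e := fun e => Subtype.ext (by simp [f])
  have hfm : ∀ g h e, f (g * h) e = f g (f h e) := fun g h e => Subtype.ext (by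
    show ((g : G) * h) * e.1 * ((g : G) * h)⁻¹ = g * (h * e.1 * (h : G)⁻¹) * (g : G)⁻¹
    group)
  let φ : MulAction.stabilizer G a →* Equiv.Perm S :=
    { toFun := fun g => ⟨f g, f g⁻¹, fun e => by rw [← hfm, inv_mul_cancel, hf1],
        fun e => by rw [← hfm, mul_inv_cancel, hf1]⟩
      map_one' := Equiv.ext hf1
      map_mul' := fun g h => Equiv.ext (hfm g h) }
  have hvH : v ∈ MulAction.stabilizer G a := MulAction.mem_stabilizer_iff.2 hva
  refine P.false_of_sign_point hgen hv hab hvb (Equiv.Perm.sign.comp φ) hvH ?_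
  set σ := φ ⟨v, hvH⟩ with hσ
  have hσ1 : σ ≠ 1 := fun h => hdv (by
    have h1 : v * d * v⁻¹ = d :=
      congrArg (fun π : Equiv.Perm S => (π ⟨d, hd, hda⟩ : G)) h
    exact (mul_inv_eq_iff_eq_mul.1 h1).symm)
  have hσ2 : σ ^ 2 ^ 1 = 1 := by
    rw [pow_one, hσ, ← map_pow, show (⟨v, hvH⟩ : MulAction.stabilizer G a) ^ 2 = 1 from
      Subtype.ext (by simp [sq, mul_self hv]), map_one]
  have h1 := Equiv.Perm.card_compl_support_modEq (p := 2) (n := 1) hσ2
  have h2 : 2 ≤ σ.support.card := Equiv.Perm.two_le_card_support_of_ne_one hσ1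
  have h3 : σ.support.card ≤ Fintype.card S := Finset.card_le_univ _
  rw [Finset.card_compl] at h1
  have h4 : Fintype.card S = 3 := by rw [← Nat.card_eq_fintype_card]; exact hι
  have h5 : σ.support.card = 2 := by
    unfold Nat.ModEq at h1
    omega
  show Equiv.Perm.sign σ ≠ 1
  rw [(Equiv.Perm.card_support_eq_two.1 h5).sign_eq]
  decide

/-- The case of `q + 1` points: `E` is regular off its point, and the automorphisms of a cyclic
group detect `v`. -/
theorem false_of_regular
    (hn : Nat.card Ω = Nat.card {d : G // d ∈ D ∧ pt d = a} + 2) : False := by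
  classical
  obtain ⟨m, hm1, hm, hι⟩ := P.exists_half_param hcomm hv hab hva hvb hd hda hdv
  set c := Nat.card {d : G // d ∈ D ∧ pt d = a ∧ Commute d v} with hc
  set E := atPoint D pt a with hE
  set H := MulAction.stabilizer G a with hH
  have hHE : H ≤ Subgroup.normalizer (E : Set G) := P.stabilizer_le_normalizer_atPoint hcomm hab
  let ψ : H →* MulAut E := E.normalizerMonoidHom.comp (Subgroup.inclusion hHE)
  have hψ : ∀ (h : H) (e : E), ((ψ h e : E) : G) = (h : G) * e * (h : G)⁻¹ := fun h e => rfl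
  have hEH : E ≤ H := (Subgroup.closure_le _).2 fun e he =>
    MulAction.mem_stabilizer_iff.2 (he.2 ▸ P.smul_pt he.1)
  -- every element of `H` acts on `E` as one fixing `b`
  have hreg : ∀ h : H, ∃ g : H, (g : G) • b = b ∧ ψ h = ψ g := by
    intro h
    let j : E → {y : Ω // y ≠ a} := fun e => ⟨(e : G) • b, fun h1 => hab (by
      have := congrArg (fun z => (e : G)⁻¹ • z) h1
      simp only [inv_smul_smul] at this
      rw [this, MulAction.mem_stabilizer_iff.1 (hEH (E.inv_mem e.2))])⟩
    have hinj : Function.Injective j := fun e e' h1 => by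
      have h1' : ((e'⁻¹ * e : E) : G) • b = b := by
        have := congrArg Subtype.val h1
        show ((e' : G)⁻¹ * e) • b = b
        rw [mul_smul, inv_smul_eq_iff]
        exact this
      by_contra hne
      exact hab (P.eq_pt_of_atPoint hcomm hab (e'⁻¹ * e).2
        (fun h2 => hne (inv_mul_eq_one.1 (Subtype.ext h2 : e'⁻¹ * e = 1)).symm) h1').symm
    have hcard : Nat.card E = Nat.card {y : Ω // y ≠ a} := by
      haveI := Fintype.ofFinite Ω
      rw [hE, P.card_atPoint hcomm hab, Nat.card_eq_fintype_card (α := {y : Ω // y ≠ a}),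
        Fintype.card_subtype_compl, Fintype.card_subtype_eq, ← Nat.card_eq_fintype_card, hn]
      omega
    obtain ⟨e, he⟩ := ((Nat.bijective_iff_injective_and_card j).2 ⟨hinj, hcard⟩).2
      ⟨(h : G) • b, fun h1 => hab (by
        have := congrArg (fun z => (h : G)⁻¹ • z) h1
        simp only [inv_smul_smul] at this
        rw [this, MulAction.mem_stabilizer_iff.1 (H.inv_mem h.2)])⟩
    have he' : (e : G) • b = (h : G) • b := congrArg Subtype.val he
    refine ⟨(⟨e, hEH e.2⟩ : H)⁻¹ * h, ?_, ?_⟩
    · show ((e : G)⁻¹ * h) • b = b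
      rw [mul_smul, ← he', inv_smul_smul]
    · have h1 : ψ ⟨e, hEH e.2⟩ = 1 := by
        refine MulEquiv.ext fun x => Subtype.ext ?_
        rw [hψ, MulAut.one_apply]
        show (e : G) * x * (e : G)⁻¹ = x
        rw [(P.commute_atPoint hcomm hab e.2 x.2).eq, mul_inv_cancel_right]
      rw [map_mul, map_inv, h1, inv_one, one_mul]
  -- the image of the odd core of the two-point stabiliser
  set O := core 2 (twoPt G a b) with hO
  have hOH : O ≤ H := (core_le 2 _).trans inf_le_left
  set D' := (O.subgroupOf H).map ψ with hD'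
  have hoddD : Odd (Nat.card D') := by
    refine (odd_card_core_two (twoPt G a b)).of_dvd_nat ?_
    rw [← hO, ← Nat.card_congr (Subgroup.subgroupOfEquivOfLe hOH).toEquiv]
    exact Subgroup.card_map_dvd _ _
  have hnormD : ∀ h : H, ∀ x ∈ D', ψ h * x * (ψ h)⁻¹ ∈ D' := by
    rintro h _ ⟨o, ho, rfl⟩
    obtain ⟨g, hgb, hhg⟩ := hreg h
    refine ⟨g * o * g⁻¹, ?_, by rw [map_mul, map_mul, map_inv, hhg]⟩
    show (g : G) * o * (g : G)⁻¹ ∈ O
    have := conj_mem_core_twoPt (g := (g : G)) (a := (o : G)) (x := a) (y := b) ho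
    rwa [MulAction.mem_stabilizer_iff.1 g.2, hgb] at this
  -- the action on the additive group
  letI : CommGroup E := { (inferInstance : Group E) with
    mul_comm := fun x y => Subtype.ext (P.commute_atPoint hcomm hab x.2 y.2).eq }
  letI : DistribMulAction D' (Additive E) :=
    { smul := fun g e => Additive.ofMul ((g : MulAut E) e.toMul)
      one_smul := fun e => rfl
      mul_smul := fun g h e => rfl
      smul_zero := fun g => congrArg Additive.ofMul (map_one (g : MulAut E))
      smul_add := fun g x y => congrArg Additive.ofMul (map_mul (g : MulAut E) x.toMul y.toMul) }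
  haveI : FaithfulSMul D' (Additive E) := ⟨fun {g g'} h => Subtype.ext (MulEquiv.ext fun e =>
    Additive.ofMul.injective (h (Additive.ofMul e)))⟩
  haveI : Nontrivial (Additive E) := by
    refine ⟨Additive.ofMul ⟨d, Subgroup.subset_closure ⟨hd, hda⟩⟩, 0, fun h => ne_one (P.inv d hd) ?_⟩
    exact congrArg (fun z : Additive E => ((z.toMul : E) : G)) h
  have hmemb : ∀ x : Additive E, x ≠ 0 → ((x.toMul : E) : G) ∈ D ∧ pt ((x.toMul : E) : G) = a :=
    fun x hx => ((P.mem_atPoint_iff hcomm hab).1 x.toMul.2).resolve_left fun h1 =>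
      hx (congrArg Additive.ofMul (Subtype.ext h1 : x.toMul = (1 : E)))
  have htrans : ∀ x y : Additive E, x ≠ 0 → y ≠ 0 → ∃ g : D', g • x = y := by
    intro x y hx hy
    obtain ⟨o, ho, hoe⟩ := P.exists_core_conj_point hab (hmemb x hx).1 (hmemb x hx).2 (hmemb y hy).1
      (hmemb y hy).2
    refine ⟨⟨ψ ⟨o, hOH ho⟩, ⟨⟨o, hOH ho⟩, ho, rfl⟩⟩, congrArg Additive.ofMul (Subtype.ext ?_)⟩
    rw [hψ]
    exact hoe
  obtain ⟨hcyc, hfpf, hder⟩ := S1161.result hoddD Nat.prime_two (fun x : Additive E =>
    congrArg Additive.ofMul (show x.toMul ^ 2 = (1 : E) from Subtype.ext (by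
      rw [pow_two]; exact P.sq_atPoint hcomm hab x.toMul.2))) htrans
  set F := Cfsg.fittingSubgroup D' with hF
  -- `H` acts on the Fitting subgroup
  set F' := F.map D'.subtype with hF'
  have hψF : ∀ h : H, ψ h ∈ Subgroup.normalizer (F' : Set (MulAut E)) := by
    intro h
    refine Coprime.mem_normalizer_of_forall ?_
    rintro _ ⟨x, hx, rfl⟩
    have hN : ψ h ∈ Subgroup.normalizer (D' : Set (MulAut E)) :=
      Coprime.mem_normalizer_of_forall (hnormD h)
    set e := D'.normalizerMonoidHom ⟨ψ h, hN⟩ with he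
    refine ⟨e x, ?_, rfl⟩
    have := (Cores.fittingSubgroup_characteristic D').fixed e
    rw [← hF] at this
    rw [← this] at hx
    exact hx
  haveI : IsCyclic F' := by
    haveI := hcyc
    exact isCyclic_of_surjective (F.equivMapOfInjective D'.subtype D'.subtype_injective).toMonoidHom
      (F.equivMapOfInjective D'.subtype D'.subtype_injective).surjective
  let χ : H →* (ZMod (Nat.card F'))ˣ :=
    (IsCyclic.mulAutMulEquiv F').toMonoidHom.comp
      (F'.normalizerMonoidHom.comp (ψ.codRestrict _ hψF))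
  have hvH : v ∈ H := MulAction.mem_stabilizer_iff.2 hva
  refine P.false_of_sign_point hgen hv hab hvb χ hvH fun h => ?_
  -- otherwise `v` centralises `F`
  have hvF : ∀ x ∈ F', Commute (ψ ⟨v, hvH⟩) x := fun x hx => by
    have h1 : F'.normalizerMonoidHom ⟨ψ ⟨v, hvH⟩, hψF _⟩ = 1 :=
      (IsCyclic.mulAutMulEquiv F').injective (h.trans (map_one _).symm)
    have h2 : ψ ⟨v, hvH⟩ * x * (ψ ⟨v, hvH⟩)⁻¹ = x :=
      congrArg (fun π : MulAut F' => ((π ⟨x, hx⟩ : F') : MulAut E)) h1
    exact mul_inv_eq_iff_eq_mul.1 h2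
  have hFc : Nat.card F ≤ c := by
    obtain ⟨e₀, he₀, he₀a, he₀v⟩ := P.exists_commuting (mul_self hv) hva
    set s₀ : E := ⟨e₀, Subgroup.subset_closure ⟨he₀, he₀a⟩⟩ with hs₀
    have hs1 : Additive.ofMul s₀ ≠ 0 := fun h1 =>
      ne_one (P.inv e₀ he₀) (congrArg (fun z : Additive E => ((z.toMul : E) : G)) h1)
    have hmem : ∀ f : F, (((f : D') : MulAut E) s₀ : G) ∈ D ∧
        pt (((f : D') : MulAut E) s₀ : G) = a ∧ Commute (((f : D') : MulAut E) s₀ : G) v := by
      intro f
      have h1 := hmemb (Additive.ofMul (((f : D') : MulAut E) s₀)) fun h1 => hs1 (by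
        have := congrArg (fun z => ((f : D') : MulAut E).symm (Additive.toMul z)) h1
        simp only [toMul_ofMul, MulEquiv.symm_apply_apply, toMul_zero, map_one] at this
        rw [this]; rfl)
      refine ⟨h1.1, h1.2, ?_⟩
      have hc' := congrArg (fun π : MulAut E => ((π s₀ : E) : G)) (hvF _ ⟨f, f.2, rfl⟩).eq
      simp only [MulAut.mul_apply, Subgroup.coe_subtype] at hc'
      rw [hψ, show ψ ⟨v, hvH⟩ s₀ = s₀ from Subtype.ext (by
        rw [hψ]
        show v * e₀ * v⁻¹ = e₀
        rw [← he₀v.eq, mul_inv_cancel_right])] at hc'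
      exact (mul_inv_eq_iff_eq_mul.1 hc').symm
    refine Nat.card_le_card_of_injective (fun f : F =>
      (⟨_, hmem f⟩ : {d : G // d ∈ D ∧ pt d = a ∧ Commute d v})) fun f f' h1 => ?_
    by_contra hne
    refine hs1 (hfpf _ (F.mul_mem (F.inv_mem f'.2) f.2)
      (fun h2 => hne (Subtype.ext (inv_mul_eq_one.1 h2).symm)) _ ?_)
    have h2 : ((f : D') : MulAut E) s₀ = ((f' : D') : MulAut E) s₀ :=
      Subtype.ext (congrArg (fun z : {d : G // d ∈ D ∧ pt d = a ∧ Commute d v} => (z : G)) h1)
    show Additive.ofMul ((((f' : D')⁻¹ * (f : D') : D') : MulAut E) s₀) = Additive.ofMul s₀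
    rw [Subgroup.coe_mul, Subgroup.coe_inv, MulAut.mul_apply, h2]
    exact congrArg Additive.ofMul (((f' : D') : MulAut E).symm_apply_apply s₀)
  -- `D'` is bounded by `|F| |Aut F|`
  haveI hFn : F.Normal := Cores.fittingSubgroup_normal _
  haveI := hcyc
  let θ : D' →* MulAut F := MulAut.conjNormal
  have hker : θ.ker ≤ F := by
    refine Cores.le_fittingSubgroup θ.normal_ker ?_
    refine Group.of_quotient_center_nilpotent ?_
    have hc : ∀ x y : θ.ker ⧸ Subgroup.center θ.ker, x * y = y * x := by
      intro x y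
      induction x using QuotientGroup.induction_on with | _ x => ?_
      induction y using QuotientGroup.induction_on with | _ y => ?_
      rw [← QuotientGroup.mk_mul, ← QuotientGroup.mk_mul, QuotientGroup.eq, Subgroup.mem_center_iff]
      intro z
      set k := (x * y)⁻¹ * (y * x) with hk
      have hkF : (k : D') ∈ F := by
        refine hder ?_
        rw [hk]
        simp only [Subgroup.coe_mul, Subgroup.coe_inv, mul_inv_rev]
        have h3 : Abelianization.of ((y : D')⁻¹ * (x : D')⁻¹ * ((y : D') * (x : D'))) = 1 := by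
          simp only [map_mul, map_inv]
          rw [mul_comm (Abelianization.of (y : D')) (Abelianization.of (x : D'))]
          group
        rw [← Abelianization.ker_of]
        exact MonoidHom.mem_ker.2 h3
      have h1 : (z : D') * (k : D') * (z : D')⁻¹ = k := by
        have h2 := congrArg (fun π : MulAut F => ((π ⟨k, hkF⟩ : F) : D')) (MonoidHom.mem_ker.1 z.2)
        simp only [θ, MulAut.conjNormal_apply, MulAut.one_apply] at h2
        exact h2
      exact Subtype.ext (mul_inv_eq_iff_eq_mul.1 h1)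
    letI : CommGroup (θ.ker ⧸ Subgroup.center θ.ker) := { mul_comm := hc }
    exact CommGroup.isNilpotent
  have hD'le : Nat.card D' ≤ c * c := by
    have h1 := Subgroup.card_mul_index θ.ker
    rw [Subgroup.index_ker] at h1
    rw [← h1]
    refine Nat.mul_le_mul ((Subgroup.card_le_of_le hker).trans hFc) ?_
    refine (Nat.card_le_card_of_injective Subtype.val Subtype.val_injective).trans ?_
    rw [IsCyclic.card_mulAut F]
    exact (Nat.totient_le _).trans hFc
  have hD'ge : Nat.card {d : G // d ∈ D ∧ pt d = a} ≤ Nat.card D' := by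
    set d₀ : Additive E := Additive.ofMul ⟨d, Subgroup.subset_closure ⟨hd, hda⟩⟩
    have hd0 : d₀ ≠ 0 := fun h1 =>
      ne_one (P.inv d hd) (congrArg (fun z : Additive E => ((z.toMul : E) : G)) h1)
    choose g hg using fun x : {d : G // d ∈ D ∧ pt d = a} =>
      htrans d₀ (Additive.ofMul ⟨x, Subgroup.subset_closure x.2⟩) hd0 fun h1 =>
        ne_one (P.inv x.1 x.2.1) (congrArg (fun z : Additive E => ((z.toMul : E) : G)) h1)
    refine Nat.card_le_card_of_injective g fun x y h1 => Subtype.ext ?_
    have h2 := (hg x).symm.trans ((congrArg (fun k : D' => k • d₀) h1).trans (hg y))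
    exact congrArg (fun z : Additive E => ((z.toMul : E) : G)) h2
  have hpos : 2 ≤ 2 ^ m := Nat.le_self_pow (by omega) 2
  rw [hι, Nat.mul_add] at hD'ge
  omega

end PointClass

/-- **An involution with two fixed points centralises the members at them.** -/
theorem PointClass.commute_of_fixed (P : PointClass G Ω D pt) (hgen : Subgroup.closure D = ⊤)
    (hIH : PointCriterionBelow.{u} (Nat.card G))
    (hcomm : ∀ s ∈ D, ∀ t ∈ D, pt s = pt t → Commute s t)
    {v : G} (hv : orderOf v = 2) {a b : Ω} (hab : a ≠ b) (hva : v • a = a) (hvb : v • b = b)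
    {d : G} (hd : d ∈ D) (hda : pt d = a) : Commute d v := by
  classical
  by_contra hdv
  obtain ⟨m, hm1, hm, hι⟩ := P.exists_half_param hcomm hv hab hva hvb hd hda hdv
  have hcnt := P.card_moved_pencil hcomm hv hab hva hvb hd hda hdv
  set c := Nat.card {d : G // d ∈ D ∧ pt d = a ∧ Commute d v} with hc
  set ι := Nat.card {d : G // d ∈ D ∧ pt d = a} with hιdef
  rcases Nat.lt_or_ge m 2 with hm2 | hm2
  · obtain rfl : m = 1 := by omega
    obtain hc1 : c = 1 := by simpa using hm
    refine P.false_of_three hgen hcomm hv hab hva hvb hd hda hdv ?_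
    rw [← hιdef, hι, hc1]
  have hm4 : 4 ≤ 2 ^ m := (Nat.pow_le_pow_right (by norm_num) hm2 : 2 ^ 2 ≤ 2 ^ m)
  -- the set-up on the fixed points
  obtain ⟨j, hj, hf⟩ := P.card_fixed_cases hcomm hv hab hva hvb hIH (by rw [← hc]; omega)
  rw [← hc] at hf
  set n := Nat.card Ω with hn
  have hfn : Nat.card {p : Ω // v • p = p} ≤ n :=
    Nat.card_le_card_of_injective Subtype.val Subtype.val_injective
  rw [hf] at hcnt hfn
  rw [Nat.add_sub_cancel] at hcnt
  zify [hfn] at hcnt
  rcases hj with rfl | rfl | rfl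
  · refine P.false_of_regular hgen hcomm hv hab hva hvb hd hda hdv ?_
    rw [← hn, ← hιdef]
    have : ((n : ℤ) - ((c + 1) ^ 1 + 1 + c * (c + 1))) * (c + 2) = 0 := by linear_combination hcnt
    have h1 := (mul_eq_zero.1 this).resolve_right (by positivity)
    rw [hι]
    zify
    linear_combination h1
  · have h1 : ((c : ℤ) + 2) ∣ 4 := ⟨-((n : ℤ) - ((c + 1) ^ 2 + 1)) + (c : ℤ) ^ 4 + 2 * c ^ 3 + 3 * c ^ 2
      + 2, by linear_combination hcnt⟩
    have h2 := Int.le_of_dvd (by norm_num) h1
    omega
  · have hex : ∃ p, p.Prime ∧ p ∣ c + 2 := ⟨_, Nat.minFac_prime (by omega), Nat.minFac_dvd _⟩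
    obtain ⟨p, hp, hpc⟩ := hex
    haveI : Fact p.Prime := ⟨hp⟩
    have hp2 : p ≠ 2 := by
      rintro rfl
      have : Even (c + 1) := hm ▸ (Nat.even_pow.2 ⟨even_two, by omega⟩)
      rw [Nat.even_iff] at this
      omega
    obtain ⟨X₀, x₀, y₀, S⟩ := P.exists_pairSetup_of_dvd hcomm hp2 hab (z := a)
      (by rw [← hιdef, hι]; exact hpc.mul_left c)
    have h2 := S.fix_two (Q := ⊥) IsPGroup.of_bot (z := a) bot_le
    rw [Nat.card_congr (Equiv.subtypeUnivEquiv fun x => bot_le), ← hn] at h2
    have hc2 : (c : ZMod p) = -2 := by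
      rw [eq_neg_iff_add_eq_zero]
      exact_mod_cast (ZMod.natCast_eq_zero_iff _ _).2 hpc
    have hn2 : (n : ZMod p) = 2 := by exact_mod_cast (ZMod.natCast_eq_natCast_iff _ _ _).2 h2
    have e : ((n : ℤ) - (c + 1) ^ 3 - 1 - c * (c + 1) ^ 3 * (c ^ 2 + c + 1)) * (c + 2) = 0 := by
      linear_combination hcnt
    have h1 := (mul_eq_zero.1 e).resolve_right (by positivity)
    have h3 := congrArg (fun z : ℤ => (z : ZMod p)) h1
    simp only [Int.cast_sub, Int.cast_natCast, Int.cast_pow, Int.cast_add, Int.cast_one,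
      Int.cast_mul, Int.cast_zero, hn2, hc2] at h3
    have h4 : ((4 : ℕ) : ZMod p) = 0 := by push_cast; linear_combination (-1 : ZMod p) * h3
    have h5 : p ∣ 2 * 2 := (ZMod.natCast_eq_zero_iff _ _).1 h4
    exact hp2 ((Nat.prime_dvd_prime_iff_eq hp Nat.prime_two).1
      ((hp.dvd_mul.1 h5).elim id id))

/-- Every involution with two fixed points centralises the members at each of its fixed points. -/
theorem FinishHyp.commute_of_fixInv (h : FinishHyp G Ω D pt) {v : G} (hv : IsFixInv Ω v) {x : Ω}
    (hvx : v • x = x) {d : G} (hd : d ∈ D) (hdx : pt d = x) : Commute d v := by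
  obtain ⟨hv2, a, b, hab, ha, hb⟩ := hv
  by_cases hax : x = a
  · subst hax
    exact h.pc.commute_of_fixed h.gen h.ih h.comm hv2 hab hvx hb hd hdx
  · exact h.pc.commute_of_fixed h.gen h.ih h.comm hv2 hax hvx ha hd hdx

end Cfsg.Agent.Aschbacher
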