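/-
Fixed points when every involution fixing two points centralises the members there (finish of the
core-free criterion, CRITERION.md 5.0 and B4; owner: helper2).

`C : ChordHyp G Ω D pt`, `q = |E_a|`.

* `ChordHyp.chord_cases` : the points of a proper `M` full at `a` are those of the chord, or the
  chord has `q + 1` and `M` has `q ^ 3 + 1`
* `ChordHyp.mem_chord_of_fix` : the chord is `Fix u` unless `|Fix u| = q ^ 3 + 1`
* `ChordHyp.swapper_unique`, `exists_swapper` : exactly one member centralising `u` sends `y` to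
  `u • y` when `u` moves `y`
* `ChordHyp.card_fix_mul`, `card_omega` : B4
* `ChordHyp.exists_pencil` : commuting involutions fixing a point
* `ChordHyp.fix_eq_pair` : an element centralising `u` and no member at `a` fixes only `a`, `b`
* `ChordHyp.eq_one_of_odd_centralizing` : no odd element centralises `u` and the members on `Fix u`
* `ChordHyp.fix_pts_cases` : an involution fixing two points of `M` fixes all or only their chord
-/
import Cfsg.Agent.Lib.Aschbacher.CriterionChord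

set_option autoImplicit false
set_option linter.style.haveILetI false
set_option linter.unusedSectionVars false

namespace Cfsg.Agent.Aschbacher

open Cfsg Involution MulAction

universe u

/-- The sizes of blocks. -/
theorem block_cases {q l j : ℕ} (hq : 4 ≤ q) (hl : 1 ≤ l) (hj : j ≤ 3) (hle : q ^ l + 1 ≤ q ^ j + 1)
    (hdvd : (q ^ l + 1) * q ^ l ∣ (q ^ j + 1) * q ^ j) : l = j ∨ (l = 1 ∧ j = 3) := by
  have hlj : l ≤ j := (Nat.pow_le_pow_iff_right (by omega : 1 < q)).1 (by omega)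
  have hcop : (q ^ l + 1).Coprime (q ^ j) := by
    refine Nat.Coprime.pow_right j ?_
    obtain ⟨l', rfl⟩ : ∃ l', l = l' + 1 := ⟨l - 1, by omega⟩
    rw [pow_succ, Nat.coprime_mul_right_add_left]
    exact Nat.coprime_one_left q
  have hd : q ^ l + 1 ∣ q ^ j + 1 :=
    hcop.dvd_of_dvd_mul_right ((dvd_mul_right _ _).trans hdvd)
  interval_cases j <;> interval_cases l <;> try omega
  · exfalso
    have h1 : q + 1 ∣ (q ^ 2 + 1) + (q - 1) := by
      refine ⟨q, ?_⟩
      zify [(by omega : 1 ≤ q)]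
      ring
    rw [pow_one] at hd
    have h2 := Nat.le_of_dvd (by omega) ((Nat.dvd_add_right hd).1 h1)
    omega
  · exfalso
    have h1 : q ^ 2 + 1 ∣ (q ^ 3 + 1) + (q - 1) := by
      refine ⟨q, ?_⟩
      zify [(by omega : 1 ≤ q)]
      ring
    have h2 := Nat.le_of_dvd (by omega) ((Nat.dvd_add_right hd).1 h1)
    nlinarith [Nat.sub_le q 1]

theorem mem_normalizer_centMembers {G : Type u} {Ω : Type u} [Group G] [Finite G] [MulAction G Ω]
    {D : Set G} {pt : G → Ω} (P : PointClass G Ω D pt) {u g : G} (hg : Commute g u) :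
    g ∈ Subgroup.normalizer (centMembers D u : Set G) :=
  Bender.mem_normalizer_of_forall fun r hr => by
    have h : ∀ r ∈ centMembers D u, r ∈ (centMembers D u).comap (MulAut.conj g).toMonoidHom :=
      (Subgroup.closure_le _).2 fun d hd => mem_centMembers (P.conj_mem g d hd.1)
        ((hg.mul_left hd.2).mul_left hg.inv_left)
    exact h r hr

variable {G : Type u} {Ω : Type u} [Group G] [MulAction G Ω] [Finite G] [Finite Ω]
  [FaithfulSMul G Ω] {D : Set G} {pt : G → Ω}

namespace ChordHyp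

variable (C : ChordHyp G Ω D pt)
include C

/-- The points of a proper subgroup full at `a` against a chord in it. -/
theorem chord_cases {M : Subgroup G} {a b : Ω} (hab : a ≠ b) (hM : M ≠ ⊤)
    (hMa : ∀ d ∈ D, pt d = a → d ∈ M) (hb : ∃ f ∈ D, f ∈ M ∧ pt f = b) :
    (∀ p : Ω, (∃ f ∈ D, f ∈ M ∧ pt f = p) → ∃ f ∈ D, f ∈ chord D pt a b ∧ pt f = p) ∨
      (Nat.card (PtSet D pt (chord D pt a b)) = Nat.card (atPoint D pt a) + 1 ∧
        Nat.card (PtSet D pt M) = Nat.card (atPoint D pt a) ^ 3 + 1) := by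
  obtain ⟨w, hw, hwM, hwb⟩ := id hb
  have hwa : pt w ≠ a := hwb ▸ hab.symm
  have hfull : ∀ d ∈ D, (∃ f ∈ D, f ∈ M ∧ pt f = pt d) → d ∈ M := fun d hd hp =>
    C.fin.mem_of_full hM hMa hw hwM hwa hd hp
  obtain ⟨v, hv, hva⟩ := C.fin.pc.exists_at a
  obtain ⟨hle, hdvd⟩ := C.card_chord_dvd hab hfull ⟨v, hv, hMa v hv hva, hva⟩ hb
  obtain ⟨j, -, hj3, hj⟩ := C.fin.exists_card_full hM hMa hw hwM hwa
  obtain ⟨l, hl1, -, hl⟩ := C.exists_card_chord hab
  rw [hj, hl, Nat.add_sub_cancel, Nat.add_sub_cancel] at hdvd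
  rw [hj, hl] at hle
  rcases block_cases (C.fin.card_E_ge a) hl1 hj3 hle hdvd with rfl | ⟨rfl, rfl⟩
  · refine Or.inl fun p hp => ?_
    have hcM : chord D pt a b ≤ M := chord_le hMa fun f hf e => hfull f hf (e ▸ hb)
    let ι : PtSet D pt (chord D pt a b) → PtSet D pt M := fun p =>
      ⟨p.1, by obtain ⟨f, hf, hfc, e⟩ := p.2; exact ⟨f, hf, hcM hfc, e⟩⟩
    have hι : Function.Injective ι := fun p q e =>
      Subtype.ext (congrArg (fun z : PtSet D pt M => z.1) e)
    obtain ⟨z, hz⟩ := ((Nat.bijective_iff_injective_and_card ι).2 ⟨hι, hl.trans hj.symm⟩).2 ⟨p, hp⟩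
    have e : z.1 = p := congrArg (fun z : PtSet D pt M => z.1) hz
    exact e ▸ z.2
  · exact Or.inr ⟨by rw [hl, pow_one], hj⟩

/-- The points of the members centralising `u` are its fixed points. -/
theorem pts_centMembers {u : G} (hu : IsFixInv Ω u) (p : Ω) :
    (∃ f ∈ D, f ∈ centMembers D u ∧ pt f = p) ↔ u • p = p := by
  constructor
  · rintro ⟨f, hf, hfM, rfl⟩
    exact C.fin.pc.commute_fix hf (commute_of_mem_centMembers hfM).symm
  · intro hp
    obtain ⟨f, hf, hfp⟩ := C.fin.pc.exists_at p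
    exact ⟨f, hf, mem_centMembers hf (C.cent u hu f hf (by rw [hfp, hp])).symm, hfp⟩

theorem card_pts_centMembers {u : G} (hu : IsFixInv Ω u) :
    Nat.card (PtSet D pt (centMembers D u)) = Nat.card (FixSet Ω u) :=
  Nat.card_congr (Equiv.subtypeEquivRight (C.pts_centMembers hu))

theorem centMembers_ne_top {u : G} (hu : IsFixInv Ω u) : centMembers D u ≠ ⊤ := by
  obtain ⟨hu2, a, b, -, ha, -⟩ := id hu
  exact C.fin.ne_top_of_le_centralizer ha (ne_one hu2) fun g hg => commute_of_mem_centMembers hg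

theorem fix_cases {u : G} (hu : IsFixInv Ω u) {a b : Ω} (hab : a ≠ b) (ha : u • a = a)
    (hb : u • b = b) :
    (∀ p : Ω, u • p = p → ∃ f ∈ D, f ∈ chord D pt a b ∧ pt f = p) ∨
      (Nat.card (PtSet D pt (chord D pt a b)) = Nat.card (atPoint D pt a) + 1 ∧
        Nat.card (FixSet Ω u) = Nat.card (atPoint D pt a) ^ 3 + 1) := by
  rcases C.chord_cases hab (C.centMembers_ne_top hu)
    (fun d hd hda => mem_centMembers hd (C.cent u hu d hd (by rw [hda, ha])).symm)
    ((C.pts_centMembers hu b).2 hb) with h1 | ⟨h1, h2⟩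
  · exact Or.inl fun p hp => h1 p ((C.pts_centMembers hu p).2 hp)
  · exact Or.inr ⟨h1, (C.card_pts_centMembers hu).symm.trans h2⟩

/-- The fixed points of `u` are `q ^ i + 1` in number. -/
theorem exists_card_fix {u : G} (hu : IsFixInv Ω u) {a : Ω} (ha : u • a = a) :
    ∃ i : ℕ, 1 ≤ i ∧ i ≤ 3 ∧ Nat.card (FixSet Ω u) = Nat.card (atPoint D pt a) ^ i + 1 := by
  obtain ⟨-, c, d, hcd, hc, hd⟩ := id hu
  obtain ⟨b, hb, hba⟩ : ∃ b, u • b = b ∧ b ≠ a := by
    by_cases h : c = a
    · exact ⟨d, hd, fun e => hcd (h.trans e.symm)⟩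
    · exact ⟨c, hc, h⟩
  obtain ⟨w, hw, hwM, hwb⟩ := (C.pts_centMembers hu b).2 hb
  obtain ⟨j, h1, h2, h3⟩ := C.fin.exists_card_full (C.centMembers_ne_top hu) (a := a)
    (fun d hd hda => mem_centMembers hd (C.cent u hu d hd (by rw [hda, ha])).symm) hw hwM (hwb ▸ hba)
  exact ⟨j, h1, h2, (C.card_pts_centMembers hu).symm.trans h3⟩

/-- The chord is the fixed set, unless that has `q ^ 3 + 1` points. -/
theorem mem_chord_of_fix {u : G} (hu : IsFixInv Ω u) {a b : Ω} (hab : a ≠ b) (ha : u • a = a)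
    (hb : u • b = b) (hF : Nat.card (FixSet Ω u) ≠ Nat.card (atPoint D pt a) ^ 3 + 1) {p : Ω}
    (hp : u • p = p) : ∃ f ∈ D, f ∈ chord D pt a b ∧ pt f = p := by
  rcases C.fix_cases hu hab ha hb with h1 | ⟨-, h2⟩
  · exact h1 p hp
  · exact absurd h2 hF

/-- So `R(a,b)` centralises every member at the fixed points of `u`. -/
theorem commute_of_centPair {u : G} (hu : IsFixInv Ω u) {a b : Ω} (hab : a ≠ b) (ha : u • a = a)
    (hb : u • b = b) (hF : Nat.card (FixSet Ω u) ≠ Nat.card (atPoint D pt a) ^ 3 + 1) {k : G}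
    (hk : k ∈ centPair D pt a b) {d : G} (hd : d ∈ D) (hdu : u • pt d = pt d) : Commute k d :=
  (C.commute_chord hab hk (C.mem_chord_of_pts hab hd (C.mem_chord_of_fix hu hab ha hb hF hdu))).symm

/-- `R(a,b)` fixes the fixed points of `u`. -/
theorem smul_fix_of_centPair {u : G} (hu : IsFixInv Ω u) {a b : Ω} (hab : a ≠ b) (ha : u • a = a)
    (hb : u • b = b) (hF : Nat.card (FixSet Ω u) ≠ Nat.card (atPoint D pt a) ^ 3 + 1) {k : G}
    (hk : k ∈ centPair D pt a b) {p : Ω} (hp : u • p = p) : k • p = p :=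
  C.smul_pts_of_centPair hab hk (C.mem_chord_of_fix hu hab ha hb hF hp)

/-- The product of `u` with a centralising member is an involution fixing two points. -/
theorem isFixInv_mul {u t : G} (hu : IsFixInv Ω u) (ht : t ∈ D) (htu : Commute t u) :
    IsFixInv Ω (u * t) ∧ (u * t) • pt t = pt t := by
  have P := C.fin.pc
  obtain ⟨hu2, a, b, hab, ha, hb⟩ := id hu
  have hut : (u * t) • pt t = pt t := by rw [mul_smul, P.smul_pt ht, P.commute_fix ht htu.symm]
  obtain ⟨p, hp⟩ : ∃ p : Ω, u • p ≠ p := by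
    by_contra! hall
    exact ne_one hu2 (eq_of_smul_eq_smul fun p : Ω => by rw [hall p, one_smul])
  obtain ⟨c, hc, hfix⟩ := P.exists_fixed_mul (mul_self hu2) hab ha hb hp ht htu
  refine ⟨⟨orderOf_of_sq ?_ fun e => C.fin.not_mem_of_fixInv hu ?_, c, pt t, hc, hfix, hut⟩, hut⟩
  · rw [show u * t * (u * t) = u * (t * u) * t by group, htu.eq, ← mul_assoc, mul_self hu2, one_mul,
      mul_self (P.inv t ht)]
  · rw [mul_eq_one_iff_eq_inv, inv_eq (P.inv t ht)] at e
    exact e ▸ ht

/-- At most one member centralising `u` sends `y` to `u • y`. -/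
theorem swapper_unique {u : G} (hu : IsFixInv Ω u) {y : Ω} (hy : u • y ≠ y) {t t' : G} (ht : t ∈ D)
    (ht' : t' ∈ D) (htu : Commute t u) (htu' : Commute t' u) (hty : t • y = u • y)
    (hty' : t' • y = u • y) : t = t' := by
  obtain ⟨f, hf, rfl⟩ := C.fin.pc.exists_at y
  have key : ∀ {t : G}, t ∈ D → Commute t u → t • pt f = u • pt f → t * f * t⁻¹ = u * f * u⁻¹ := by
    intro t ht htu hty
    have hfix : (u * t) • pt f = pt f := by
      rw [mul_smul, hty, ← mul_smul, mul_self hu.1, one_smul]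
    have hc := C.cent _ (C.isFixInv_mul hu ht htu).1 f hf hfix
    have h1 : u * t * f * (u * t)⁻¹ = f := by rw [hc.eq, mul_inv_cancel_right]
    have h2 : u * (u * t * f * (u * t)⁻¹) * u⁻¹ = t * f * t⁻¹ := by
      calc u * (u * t * f * (u * t)⁻¹) * u⁻¹ = (u * u) * (t * f * t⁻¹) * (u * u)⁻¹ := by group
        _ = t * f * t⁻¹ := by rw [mul_self hu.1, one_mul, inv_one, mul_one]
    rw [h1] at h2
    exact h2.symm
  exact C.fin.pc.mid_unique hf ht ht' (by rw [hty]; exact hy)
    ((key ht htu hty).trans (key ht' htu' hty').symm)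

/-- Some member centralising `u` sends `y` to `u • y`. -/
theorem exists_swapper {u : G} (hu : IsFixInv Ω u) {y : Ω} (hy : u • y ≠ y) :
    ∃ t ∈ D, Commute t u ∧ t • y = u • y := by
  have P := C.fin.pc
  obtain ⟨f, hf, rfl⟩ := P.exists_at y
  have hu2 := mul_self hu.1
  obtain ⟨t, ht, hte, htp⟩ := P.exists_mid hf (P.conj_mem u f hf)
    (by rw [P.pt_conj u hf]; exact hy.symm)
  rw [P.pt_conj u hf] at htp
  refine ⟨t, ht, ?_, htp⟩
  have ht2 := mul_self (P.inv t ht)
  have h0 : t * (t * f * t⁻¹) * t⁻¹ = f := by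
    rw [show t * (t * f * t⁻¹) * t⁻¹ = (t * t) * f * (t * t)⁻¹ by group, ht2]; group
  rw [hte] at h0
  have h1 : u * t * u⁻¹ * f * (u * t * u⁻¹)⁻¹ = t * f * t⁻¹ := by
    calc u * t * u⁻¹ * f * (u * t * u⁻¹)⁻¹
        = u * (t * (u⁻¹ * f * u) * t⁻¹) * u⁻¹ := by group
      _ = t * f * t⁻¹ := by
          rw [inv_eq hu.1] at h0 hte ⊢
          rw [h0, ← hte]
  have h2 := P.mid_unique hf ht (P.conj_mem u t ht) (by rw [htp]; exact hy) h1.symm
  exact (mul_inv_eq_iff_eq_mul.1 h2.symm).symm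

/-- The members centralising `u`. -/
theorem card_centralizing {u : G} (hu : IsFixInv Ω u) (a : Ω) :
    Nat.card {w : G // w ∈ D ∧ Commute w u} =
      Nat.card (FixSet Ω u) * (Nat.card (atPoint D pt a) - 1) := by
  classical
  have P := C.fin.pc
  obtain ⟨-, c, d, hcd, -, -⟩ := id hu
  haveI := Fintype.ofFinite (FixSet Ω u)
  have hq : ∀ p : FixSet Ω u, Nat.card {d : G // d ∈ D ∧ pt d = p.1} =
      Nat.card (atPoint D pt a) - 1 := fun p => by
    obtain ⟨y, hy⟩ := C.fin.exists_ne p.1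
    rw [C.fin.card_E_eq a p.1, P.card_atPoint C.fin.comm hy, Nat.add_sub_cancel]
  calc Nat.card {w : G // w ∈ D ∧ Commute w u}
      = Nat.card (Σ p : FixSet Ω u, {d : G // d ∈ D ∧ pt d = p.1}) := Nat.card_congr
        { toFun := fun w => ⟨⟨pt w.1, P.commute_fix w.2.1 w.2.2.symm⟩, w.1, w.2.1, rfl⟩
          invFun := fun z => ⟨z.2.1, z.2.2.1, (C.cent u hu _ z.2.2.1 (by rw [z.2.2.2, z.1.2])).symm⟩
          left_inv := fun w => rfl
          right_inv := by rintro ⟨⟨p, hp⟩, d, hd, hdp⟩; dsimp only at hdp; subst hdp; rfl }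
    _ = _ := by
        rw [Nat.card_sigma, Finset.sum_congr rfl fun p _ => hq p, Finset.sum_const, Finset.card_univ,
          smul_eq_mul, ← Nat.card_eq_fintype_card]

theorem card_fix_ne {v : G} {x : Ω} (hx : v • x = x) :
    Nat.card {y : Ω // v • y = y ∧ y ≠ x} = Nat.card (FixSet Ω v) - 1 := by
  classical
  haveI := Fintype.ofFinite (FixSet Ω v)
  calc Nat.card {y : Ω // v • y = y ∧ y ≠ x}
      = Nat.card {z : FixSet Ω v // ¬ z = ⟨x, hx⟩} := Nat.card_congr
        { toFun := fun y => ⟨⟨y.1, y.2.1⟩, fun e => y.2.2 (congrArg Subtype.val e)⟩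
          invFun := fun z => ⟨z.1.1, z.1.2, fun e => z.2 (Subtype.ext e)⟩
          left_inv := fun y => rfl
          right_inv := fun z => rfl }
    _ = _ := by
        rw [Nat.card_eq_fintype_card, Fintype.card_subtype_compl, Fintype.card_subtype_eq,
          Nat.card_eq_fintype_card]

/-- The points moved by `u` counted at its centralising members. -/
theorem card_count {u t : G} (hu : IsFixInv Ω u) (ht : t ∈ D) (htu : Commute t u) (a : Ω) :
    Nat.card Ω = Nat.card (FixSet Ω u) + Nat.card (FixSet Ω u) * (Nat.card (atPoint D pt a) - 1) *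
      (Nat.card (FixSet Ω (u * t)) - 1) := by
  classical
  have P := C.fin.pc
  obtain ⟨hu2, c, d, hcd, hc, hd⟩ := id hu
  have hconj : ∀ w : {w : G // w ∈ D ∧ Commute w u},
      Nat.card {y : Ω // (u * w.1) • y = y ∧ y ≠ pt w.1} = Nat.card (FixSet Ω (u * t)) - 1 := by
    rintro ⟨w, hw, hwu⟩
    rw [card_fix_ne C (C.isFixInv_mul hu hw hwu).2]
    congr 1
    obtain ⟨g, hg, rfl⟩ := P.exists_conj_centralizing (mul_self hu2) hcd hc hd ht htu hw hwu
    refine (Nat.card_congr (Equiv.subtypeEquiv (MulAction.toPerm g) fun y => ?_)).symm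
    rw [MulAction.toPerm_apply,
      show u * (g * t * g⁻¹) = g * (u * t) * g⁻¹ by rw [← mul_assoc g u t, hg.eq]; group]
    simp only [mul_smul, inv_smul_smul, smul_left_cancel_iff]
  choose sw hsw hswu hswy using fun y : {y : Ω // u • y ≠ y} => C.exists_swapper hu y.2
  haveI := Fintype.ofFinite Ω
  haveI := Fintype.ofFinite {w : G // w ∈ D ∧ Commute w u}
  have hback : ∀ {w : G} (_ : w ∈ D) {y : Ω}, (u * w) • y = y → y ≠ pt w → u • y ≠ y := by
    intro w hw y hfix hne e
    rw [mul_smul] at hfix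
    exact hne ((P.fixed_iff w hw y).1 (smul_left_cancel u (hfix.trans e.symm)))
  have hsum : Nat.card {y : Ω // u • y ≠ y} =
      ∑ w : {w : G // w ∈ D ∧ Commute w u}, Nat.card {y : Ω // (u * w.1) • y = y ∧ y ≠ pt w.1} := by
    rw [← Nat.card_sigma]
    refine Nat.card_congr
      { toFun := fun y => ⟨⟨sw y, hsw y, hswu y⟩, y.1,
          by rw [mul_smul, hswy y, ← mul_smul, mul_self hu2, one_smul],
          fun e => y.2 (by rw [e]; exact P.commute_fix (hsw y) (hswu y).symm)⟩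
        invFun := fun z => ⟨z.2.1, hback z.1.2.1 z.2.2.1 z.2.2.2⟩
        left_inv := fun y => rfl
        right_inv := ?_ }
    rintro ⟨⟨w, hw, hwu⟩, y, hfix, hne⟩
    have hy := hback hw hfix hne
    have : sw ⟨y, hy⟩ = w := C.swapper_unique hu hy (hsw _) hw (hswu _) hwu (hswy ⟨y, hy⟩) (by
      rw [mul_smul] at hfix
      calc w • y = u • u • w • y := by rw [← mul_smul u u, mul_self hu2, one_smul]
        _ = u • y := by rw [hfix])
    subst this
    rfl
  rw [Finset.sum_congr rfl fun w _ => hconj w, Finset.sum_const, Finset.card_univ, smul_eq_mul,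
    ← Nat.card_eq_fintype_card, C.card_centralizing hu a] at hsum
  rw [← hsum, ← Nat.card_sum]
  exact (Nat.card_congr (Equiv.sumCompl fun y : Ω => u • y = y)).symm

/-- B4: the fixed set of `u * t` is as large as that of `u`. -/
theorem card_fix_mul {u t : G} (hu : IsFixInv Ω u) (ht : t ∈ D) (htu : Commute t u) :
    Nat.card (FixSet Ω (u * t)) = Nat.card (FixSet Ω u) := by
  have hq := C.fin.card_E_ge (pt t)
  have h1 := C.card_count hu ht htu (pt t)
  have h2 := C.card_count (C.isFixInv_mul hu ht htu).1 ht (htu.mul_right (Commute.refl t))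
    (pt t)
  rw [mul_assoc u t t, mul_self (C.fin.pc.inv t ht), mul_one] at h2
  have hpos : 0 < Nat.card (FixSet Ω u) := by
    obtain ⟨-, a, -, -, ha, -⟩ := hu
    exact Nat.card_pos_iff.2 ⟨⟨⟨a, ha⟩⟩, inferInstance⟩
  have hpos' : 0 < Nat.card (FixSet Ω (u * t)) :=
    Nat.card_pos_iff.2 ⟨⟨⟨pt t, (C.isFixInv_mul hu ht htu).2⟩⟩, inferInstance⟩
  obtain ⟨x, hx⟩ : ∃ x, Nat.card (FixSet Ω u) = x + 1 := ⟨_, (Nat.succ_pred_eq_of_pos hpos).symm⟩
  obtain ⟨y, hy⟩ : ∃ y, Nat.card (FixSet Ω (u * t)) = y + 1 :=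
    ⟨_, (Nat.succ_pred_eq_of_pos hpos').symm⟩
  obtain ⟨c, hc⟩ : ∃ c, Nat.card (atPoint D pt (pt t)) - 1 = c + 2 := ⟨Nat.card (atPoint D pt (pt t)) - 3, by omega⟩
  rw [hx, hy, hc, Nat.add_sub_cancel] at h1 h2
  rw [hx, hy]
  rcases lt_trichotomy y x with h | h | h
  · nlinarith
  · rw [h]
  · nlinarith

/-- B4: `|Ω| = f + (q - 1) f (f - 1)`. -/
theorem card_omega {u : G} (hu : IsFixInv Ω u) (a : Ω) :
    Nat.card Ω = Nat.card (FixSet Ω u) + Nat.card (FixSet Ω u) * (Nat.card (atPoint D pt a) - 1) *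
      (Nat.card (FixSet Ω u) - 1) := by
  obtain ⟨hu2, c, -, -, hc, -⟩ := id hu
  obtain ⟨t, ht, -, htu⟩ := C.fin.pc.exists_commuting (mul_self hu2) hc
  have h := C.card_count hu ht htu a
  rwa [C.card_fix_mul hu ht htu] at h

/-- Commuting involutions fixing `a`: if `v` fixes no other fixed point `z` of `u`, a member at `a`
takes `z` to `v • z`. -/
theorem exists_pencil {u v : G} (hu : IsFixInv Ω u) (hv : IsFixInv Ω v) (huv : Commute u v) {a : Ω}
    (hno : ∀ z : Ω, u • z = z → z ≠ a → v • z ≠ z) {z : Ω} (hz : u • z = z)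
    (hza : z ≠ a) :
    ∃ w ∈ D, pt w = a ∧ Commute w v ∧ (v * w) • z = z := by
  have P := C.fin.pc
  obtain ⟨w, hw, hwv, hwz⟩ := C.exists_swapper hv (hno z hz hza)
  have hu2 := mul_self hu.1
  have huz : u⁻¹ • z = z := inv_smul_eq_iff.2 hz.symm
  have h1 : u * w * u⁻¹ = w := by
    refine C.swapper_unique hv (hno z hz hza) (P.conj_mem u w hw) hw ?_ hwv ?_ hwz
    · exact ((huv.mul_left hwv).mul_left huv.inv_left)
    · rw [mul_smul, mul_smul, huz, hwz, ← mul_smul, huv.eq, mul_smul, hz]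
  have hwu : Commute w u := (mul_inv_eq_iff_eq_mul.1 h1).symm
  refine ⟨w, hw, ?_, hwv, by rw [mul_smul, hwz, ← mul_smul, mul_self hv.1, one_smul]⟩
  by_contra hne
  exact hno (pt w) (P.commute_fix hw hwu.symm) hne (P.commute_fix hw hwv.symm)

/-- An element centralising `u` and no member at `a` fixes only `a` and `b`. -/
theorem fix_eq_pair {u : G} (hu : IsFixInv Ω u) {a b : Ω} (hab : a ≠ b) (ha : u • a = a)
    (hb : u • b = b) {g : G} (hgu : Commute g u) (hga : g • a = a) (hgb : g • b = b)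
    (hnone : ∀ d ∈ D, pt d = a → ¬ Commute g d) {p : Ω} (hp : g • p = p) : p = a ∨ p = b := by
  have P := C.fin.pc
  have key : ∀ c : Ω, u • c = c → g • c = c → c = a ∨ c = b := by
    intro c hc hgc
    by_contra! hcab
    obtain ⟨v, e, hv, he, hva, hea, hve, -⟩ := C.fin.exists_two a
    obtain ⟨f, hf, -, hfa, hgf⟩ := C.fin.exists_commute_member (C.centMembers_ne_top hu) hv
      (mem_centMembers hv (C.cent u hu v hv (by rw [hva, ha])).symm) hva he
      (mem_centMembers he (C.cent u hu e he (by rw [hea, ha])).symm) hea hve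
      (mem_normalizer_centMembers P hgu) hga ((C.pts_centMembers hu c).2 hc)
      ((C.pts_centMembers hu b).2 hb) hcab.1 hab.symm hcab.2 hgc hgb
    exact hnone f hf hfa hgf
  by_cases hup : u • p = p
  · exact key p hup hp
  exfalso
  obtain ⟨t, ht, htu, htp⟩ := C.exists_swapper hu hup
  have hgp : g⁻¹ • p = p := inv_smul_eq_iff.2 hp.symm
  have h1 : g * t * g⁻¹ = t := by
    refine C.swapper_unique hu hup (P.conj_mem g t ht) ht ?_ htu ?_ htp
    · exact (hgu.mul_left htu).mul_left hgu.inv_left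
    · rw [mul_smul, mul_smul, hgp, htp, ← mul_smul, hgu.eq, mul_smul, hp]
  have hgt : Commute g t := mul_inv_eq_iff_eq_mul.1 h1
  rcases key (pt t) (P.commute_fix ht htu.symm) (P.commute_fix ht hgt) with h2 | h2
  · exact hnone t ht h2 hgt
  · have htb : t • b = b := by rw [← h2]; exact P.smul_pt ht
    rcases key (t • a) (smul_mem_fixSet htu ha) (by rw [← mul_smul, hgt.eq, mul_smul, hga]) with
      h3 | h3
    · exact hab (((P.fixed_iff t ht a).1 h3).trans h2)
    · exact hab (smul_left_cancel t (h3.trans htb.symm))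

/-- No non-trivial odd element centralises `u` and the members at its fixed points. -/
theorem eq_one_of_odd_centralizing {u k : G} (hu : IsFixInv Ω u) (hodd : Odd (orderOf k))
    (hku : Commute k u) (hk : ∀ d ∈ D, u • pt d = pt d → Commute k d) : k = 1 := by
  classical
  by_contra hk1
  set p := (orderOf k).minFac with hp
  have hpp : p.Prime := Nat.minFac_prime fun e => hk1 (orderOf_eq_one_iff.1 e)
  haveI := Fact.mk hpp
  set k' := k ^ (orderOf k / p)
  have hord : orderOf k' = p :=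
    orderOf_pow_orderOf_div (orderOf_pos k).ne' (Nat.minFac_dvd _)
  have hk' : ∀ d ∈ D, u • pt d = pt d → Commute k' d := fun d hd hdu => (hk d hd hdu).pow_left _
  have hku' : Commute k' u := hku.pow_left _
  have hk'1 : k' ≠ 1 := fun e => hpp.ne_one (by rw [← hord, e, orderOf_one])
  have hp2 : p ≠ 2 := fun e => Nat.not_even_iff_odd.2 hodd
    (even_iff_two_dvd.2 (e ▸ Nat.minFac_dvd _))
  clear_value k'
  have P := C.fin.pc
  obtain ⟨hu2, a, b, hab, ha, hb⟩ := id hu
  obtain ⟨t, ht, hta, htu⟩ := P.exists_commuting (mul_self hu2) ha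
  have hkt : Commute k' t := hk' t ht (by rw [hta, ha])
  have hka : k' • a = a := hta ▸ P.commute_fix ht hkt
  set v := u * t
  obtain ⟨hv, hva⟩ := C.isFixInv_mul hu ht htu
  rw [hta] at hva
  have hkv : Commute k' v := hku'.mul_right hkt
  obtain ⟨i, -, -, hi⟩ := C.exists_card_fix hu ha
  obtain ⟨r, -, hr⟩ := C.fin.exists_card_E a
  -- a fixed point of `k'` moved by `u`
  obtain ⟨y, hvy, hya, hky⟩ : ∃ y : Ω, v • y = y ∧ y ≠ a ∧ k' • y = y := by
    haveI := Fintype.ofFinite {y : Ω // v • y = y ∧ y ≠ a}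
    have hmaps : ∀ y : Ω, v • y = y ∧ y ≠ a ↔ v • (k' • y) = k' • y ∧ k' • y ≠ a := fun y => by
      rw [show v • k' • y = k' • v • y by rw [← mul_smul, ← hkv.eq, mul_smul], smul_left_cancel_iff]
      exact and_congr_right fun _ => not_congr ⟨fun e => by rw [e, hka],
        fun e => smul_left_cancel k' (e.trans hka.symm)⟩
    let σ : Equiv.Perm {y : Ω // v • y = y ∧ y ≠ a} :=
      (MulAction.toPerm k').subtypePerm fun y => (hmaps y).symm
    obtain ⟨y, hy⟩ := Equiv.Perm.exists_fixed_point_of_prime (p := p) (n := 1) (σ := σ) (by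
      rw [← Nat.card_eq_fintype_card, C.card_fix_ne hva, C.card_fix_mul hu ht htu, hi,
        Nat.add_sub_cancel, hr, ← pow_mul]
      exact fun hd => hp2 ((Nat.prime_dvd_prime_iff_eq hpp Nat.prime_two).1 (hpp.dvd_of_dvd_pow hd)))
      (by
        have h1 : ∀ (n : ℕ) (y : {y : Ω // v • y = y ∧ y ≠ a}), ((σ ^ n) y).1 = k' ^ n • y.1 := by
          intro n
          induction n with
          | zero => intro y; simp
          | succ n ih =>
            intro y
            rw [pow_succ', pow_succ', Equiv.Perm.mul_apply, mul_smul, ← ih]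
            rfl
        rw [pow_one]
        refine Equiv.ext fun y => Subtype.ext ?_
        rw [h1, ← hord, pow_orderOf_eq_one, one_smul]
        rfl)
    exact ⟨y.1, y.2.1, y.2.2, congrArg Subtype.val hy⟩
  have huy : u • y ≠ y := fun e => hya (by
    have : t • y = y := smul_left_cancel u (by rw [← mul_smul, hvy, e])
    rw [(P.fixed_iff t ht y).1 this, hta])
  have hR : k' ∈ centPair D pt a y :=
    mem_centPair.2 ⟨hka, hky, fun d hd hda => hk' d hd (by rw [hda, ha])⟩
  have hky' : ∀ d ∈ D, pt d = y → Commute k' d :=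
    (mem_centPair.1 (C.centPair_le hya.symm hR)).2.2
  set M := centMembers D k'
  have hM : M ≠ ⊤ := C.fin.ne_top_of_le_centralizer hka hk'1 fun g hg => commute_of_mem_centMembers hg
  have hMa : ∀ d ∈ D, pt d = a → d ∈ M := fun d hd hda =>
    mem_centMembers hd (hk' d hd (by rw [hda, ha])).symm
  have hFM : ∀ z : Ω, u • z = z → ∃ f ∈ D, f ∈ M ∧ pt f = z := fun z hz => by
    obtain ⟨f, hf, hfz⟩ := P.exists_at z
    exact ⟨f, hf, mem_centMembers hf (hk' f hf (by rw [hfz, hz])).symm, hfz⟩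
  have hyM : ∃ f ∈ D, f ∈ M ∧ pt f = y := by
    obtain ⟨f, hf, hfy⟩ := P.exists_at y
    exact ⟨f, hf, mem_centMembers hf (hky' f hf hfy).symm, hfy⟩
  rcases C.chord_cases hab hM hMa (hFM b hb) with h1 | ⟨h1, h2⟩
  · exact huy (C.smul_pts_chord hu ha hb (h1 y hyM))
  rcases C.fix_cases hu hab ha hb with h3 | ⟨-, h4⟩
  · have hf : Nat.card (FixSet Ω u) = Nat.card (atPoint D pt a) + 1 := by
      rw [← h1]
      exact Nat.card_congr (Equiv.subtypeEquivRight fun z =>
        ⟨h3 z, C.smul_pts_chord hu ha hb⟩)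
    have hn : Nat.card (PtSet D pt M) = Nat.card Ω := by
      rw [h2, C.card_omega hu a, hf, Nat.add_sub_cancel]
      obtain ⟨c, hc⟩ : ∃ c, Nat.card (atPoint D pt a) = c + 1 :=
        ⟨_ - 1, (Nat.sub_add_cancel (by have := C.fin.card_E_ge a; omega)).symm⟩
      rw [hc, Nat.add_sub_cancel]
      ring
    have hall := ((Nat.bijective_iff_injective_and_card (Subtype.val : PtSet D pt M → Ω)).2
      ⟨Subtype.val_injective, hn⟩).2
    refine hk'1 (eq_of_smul_eq_smul fun z : Ω => ?_)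
    obtain ⟨⟨-, f, hf, hfM, rfl⟩, rfl⟩ := hall z
    rw [one_smul]
    exact P.commute_fix hf (commute_of_mem_centMembers hfM).symm
  · haveI := Fintype.ofFinite (FixSet Ω u)
    haveI := Fintype.ofFinite (PtSet D pt M)
    have hlt := Fintype.card_lt_of_injective_of_notMem
      (fun z : FixSet Ω u => (⟨z.1, hFM z.1 z.2⟩ : PtSet D pt M))
      (fun z z' e => Subtype.ext (congrArg Subtype.val e :)) (b := ⟨y, hyM⟩) (by
        rintro ⟨z, hz⟩
        exact huy (by rw [← show z.1 = y from congrArg Subtype.val hz]; exact z.2))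
    rw [← Nat.card_eq_fintype_card, ← Nat.card_eq_fintype_card, h2, h4] at hlt
    exact lt_irrefl _ hlt

/-- `C_R(u)` has no non-trivial element of odd order when the chord is `Fix u`. -/
theorem eq_one_of_centPair_odd {u : G} (hu : IsFixInv Ω u) {a b : Ω} (hab : a ≠ b) (ha : u • a = a)
    (hb : u • b = b) (hF : Nat.card (FixSet Ω u) ≠ Nat.card (atPoint D pt a) ^ 3 + 1) {k : G}
    (hk : k ∈ centPair D pt a b) (hku : Commute k u) (hodd : Odd (orderOf k)) : k = 1 :=
  C.eq_one_of_odd_centralizing hu hodd hku fun _ hd hdu =>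
    C.commute_of_centPair hu hab ha hb hF hk hd hdu

/-- An involution fixing two points of members in `M` fixes all, or only the points of their
chord. -/
theorem fix_pts_cases {M : Subgroup G} {a b : Ω} (hab : a ≠ b) (hM : M ≠ ⊤)
    (hMa : ∀ d ∈ D, pt d = a → d ∈ M) (hb : ∃ f ∈ D, f ∈ M ∧ pt f = b) {v : G} (hv : IsFixInv Ω v)
    (hva : v • a = a) (hvb : v • b = b) :
    (∀ p : Ω, (∃ f ∈ D, f ∈ M ∧ pt f = p) → v • p = p) ∨
      ∀ p : Ω, (∃ f ∈ D, f ∈ M ∧ pt f = p) → v • p = p →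
        ∃ f ∈ D, f ∈ chord D pt a b ∧ pt f = p := by
  obtain ⟨w, hw, hwM, hwb⟩ := id hb
  set M' := M ⊓ centMembers D v
  have hM' : M' ≠ ⊤ := fun e => hM (top_unique (e.ge.trans inf_le_left))
  have hM'a : ∀ d ∈ D, pt d = a → d ∈ M' := fun d hd hda =>
    ⟨hMa d hd hda, mem_centMembers hd (C.cent v hv d hd (by rw [hda, hva])).symm⟩
  have hb' : ∃ f ∈ D, f ∈ M' ∧ pt f = b :=
    ⟨w, hw, ⟨hwM, mem_centMembers hw (C.cent v hv w hw (by rw [hwb, hvb])).symm⟩, hwb⟩
  rcases C.chord_cases hab hM' hM'a hb' with h1 | ⟨-, h2⟩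
  · refine Or.inr fun p hp hvp => h1 p ?_
    obtain ⟨f, hf, hfM, hfp⟩ := hp
    exact ⟨f, hf, ⟨hfM, mem_centMembers hf (C.cent v hv f hf (by rw [hfp, hvp])).symm⟩, hfp⟩
  · refine Or.inl fun p hp => ?_
    obtain ⟨j, -, hj3, hj⟩ := C.fin.exists_card_full hM hMa hw hwM (hwb ▸ hab.symm)
    let ι : PtSet D pt M' → PtSet D pt M := fun z =>
      ⟨z.1, by obtain ⟨f, hf, hfM, e⟩ := z.2; exact ⟨f, hf, hfM.1, e⟩⟩
    have hι : Function.Injective ι := fun z z' e =>
      Subtype.ext (congrArg (fun y : PtSet D pt M => y.1) e)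
    have hge := Nat.card_le_card_of_injective ι hι
    have hle : Nat.card (PtSet D pt M) ≤ Nat.card (PtSet D pt M') := by
      rw [hj, h2]
      exact Nat.add_le_add_right (Nat.pow_le_pow_right (by have := C.fin.card_E_ge a; omega) hj3) 1
    obtain ⟨z, hz⟩ := ((Nat.bijective_iff_injective_and_card ι).2 ⟨hι, hge.antisymm hle⟩).2 ⟨p, hp⟩
    obtain ⟨f, hf, hfM, e⟩ := z.2
    have e' : z.1 = p := congrArg (fun y : PtSet D pt M => y.1) hz
    rw [← e', ← e]
    exact C.fin.pc.commute_fix hf (commute_of_mem_centMembers hfM.2).symm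

end ChordHyp

end Cfsg.Agent.Aschbacher
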