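/-
The torus of a chord (finish of the core-free criterion, CRITERION.md 5.0; owner: helper2).

`C : ChordHyp G Ω D pt`, `a ≠ b`, `q = |E_a|`.

* `ChordHyp.exists_torus` : `j` of odd order in the chord, fixing `a` and `b`, its powers transitive
  on the members at `a`, `j ^ (q - 1) ∈ R(a,b)`; it commutes with `R(a,b)` by `commute_chord`
* `ChordHyp.torus_fix` : a power outside `R(a,b)` fixes only `a` and `b`
* `ChordHyp.exists_torus_regular` : if `|Fix u| ≠ q ^ 3 + 1` its order is `q - 1` and every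
  non-trivial power fixes only `a` and `b`
-/
import Cfsg.Agent.Lib.Aschbacher.CriterionChordFix

set_option autoImplicit false
set_option linter.style.haveILetI false
set_option linter.unusedSectionVars false

namespace Cfsg.Agent.Aschbacher

open Cfsg Involution MulAction Cfsg.Agent.SuzukiRankOne

universe u

variable {G : Type u} {Ω : Type u} [Group G] [MulAction G Ω] [Finite G] [Finite Ω]
  [FaithfulSMul G Ω] {D : Set G} {pt : G → Ω}

namespace ChordHyp

variable (C : ChordHyp G Ω D pt)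
include C

/-- The torus of a chord. -/
theorem exists_torus {a b : Ω} (hab : a ≠ b) :
    ∃ j ∈ chord D pt a b, Odd (orderOf j) ∧ j • a = a ∧ j • b = b ∧
      j ^ (Nat.card (atPoint D pt a) - 1) ∈ centPair D pt a b ∧
      ∀ d ∈ D, pt d = a → ∀ e ∈ D, pt e = a → ∃ m : ℕ, j ^ m * d * (j ^ m)⁻¹ = e := by
  classical
  have P := C.fin.pc
  obtain ⟨v₀, e₀, hv₀, he₀, hva, hea, hve, -⟩ := C.fin.exists_two a
  obtain ⟨w, hw, hwc, hwb⟩ := C.pts_right a (b := b)
  obtain ⟨R, f, hfs, hsmul, -, -, hinj, t, Q, hS, h2, -, hq⟩ :=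
    P.exists_rankOne_sub C.fin.comm C.fin.ih (C.chord_ne_top hab) hv₀ (mem_chord_left b hv₀ hva) hva
      he₀ (mem_chord_left b he₀ hea) hea hve hw hwc (hwb ▸ hab.symm)
  set a' : PtSet D pt (chord D pt a b) := ⟨a, v₀, hv₀, mem_chord_left b hv₀ hva, hva⟩
  set b' : PtSet D pt (chord D pt a b) := ⟨b, w, hw, hwc, hwb⟩
  obtain ⟨n, hn, hn', ⟨K⟩⟩ := exists_coords hS h2
  have hqn : Nat.card (atPoint D pt a) = 2 ^ n := by
    rw [← hn', hq, P.card_atPoint C.fin.comm hab]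
    congr 1
    exact Nat.card_congr (Equiv.subtypeEquivRight fun d =>
      ⟨fun hd => ⟨hd.1, hd.2, mem_chord_left b hd.1 hd.2⟩, fun hd => ⟨hd.1, hd.2.1⟩⟩)
  have hunits : Nat.card (GaloisField 2 n)ˣ = Nat.card (atPoint D pt a) - 1 := by
    rw [Nat.card_units, GaloisField.card 2 n (by omega), hqn]
  have hodd : Odd (Nat.card (GaloisField 2 n)ˣ) := by
    rw [hunits, hqn, Nat.odd_iff]
    obtain ⟨n, rfl⟩ : ∃ n', n = n' + 1 := ⟨n - 1, by omega⟩
    have := Nat.one_le_two_pow (n := n)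
    rw [pow_succ]
    omega
  obtain ⟨g, hga, hgb⟩ := (MulAction.is_two_pretransitive_iff.1 hS.two_transitive)
    (show a' ≠ t • a' from fun e => hS.not_mem (mem_stabilizer_iff.2 e.symm))
    (show a' ≠ b' from fun e => hab (congrArg Subtype.val e))
  obtain ⟨b₀, hb₀⟩ := IsCyclic.exists_monoid_generator (α := (GaloisField 2 n)ˣ)
  obtain ⟨j₀, hj₀⟩ := hfs (g * K.k b₀ * g⁻¹)
  obtain ⟨s, o, ho, hso⟩ := Nat.exists_eq_pow_mul_and_not_dvd
    (orderOf_pos (j₀ : G)).ne' 2 (by norm_num)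
  set j : memSub D (chord D pt a b) := j₀ ^ 2 ^ s with hj
  have hfj : ∀ m : ℕ, f (j ^ m) = g * K.k (b₀ ^ (2 ^ s * m)) * g⁻¹ := fun m => by
    rw [hj, ← pow_mul, map_pow, hj₀, conj_pow, map_pow]
  have hjodd : Odd (orderOf (j : G)) := by
    have h1 := orderOf_pow_orderOf_div (x := (j₀ : G)) (n := o) (orderOf_pos _).ne'
      (by rw [hso]; exact dvd_mul_left _ _)
    rw [hso, Nat.mul_div_left _ (Nat.pos_of_ne_zero (by rintro rfl; exact ho (dvd_zero 2)))] at h1
    rw [hj, SubgroupClass.coe_pow, h1, ← Nat.not_even_iff_odd, even_iff_two_dvd]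
    exact ho
  have hjfix : ∀ {x : PtSet D pt (chord D pt a b)}, f j • x = x → (j : G) • x.1 = x.1 := fun {x} hx => by
    rw [← hsmul, hx]
  have hfix1 : (j : G) • a = a ∧ (j : G) • b = b := by
    have hk := (K.k_mem (b₀ ^ (2 ^ s * 1))).1
    have h1 := hfj 1
    rw [pow_one] at h1
    refine ⟨hjfix (x := a') ?_, hjfix (x := b') ?_⟩
    · rw [h1, mul_smul, mul_smul, inv_smul_eq_iff.2 hga.symm, mem_stabilizer_iff.1 hk.1, hga]
    · rw [h1, mul_smul, mul_smul, inv_smul_eq_iff.2 hgb.symm, mem_stabilizer_iff.1 hk.2, hgb]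
  have hjM : (j : G) ∈ chord D pt a b := memSub_le D _ j.2
  have hja : ∀ (m : ℕ) {d : G}, d ∈ D → pt d = a →
      (j : G) ^ m * d * ((j : G) ^ m)⁻¹ ∈ D ∧ pt ((j : G) ^ m * d * ((j : G) ^ m)⁻¹) = a := by
    intro m d hd hda
    refine ⟨P.conj_mem _ d hd, ?_⟩
    rw [P.pt_conj _ hd, hda]
    exact mem_stabilizer_iff.1
      ((stabilizer G a).pow_mem (mem_stabilizer_iff.2 hfix1.1) m)
  have hlift : ∀ {d : G}, d ∈ D → pt d = a → d ∈ memSub D (chord D pt a b) := fun hd hda =>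
    Subgroup.subset_closure ⟨hd, mem_chord_left b hd hda⟩
  refine ⟨j, hjM, hjodd, hfix1.1, hfix1.2, mem_centPair.2
    ⟨mem_stabilizer_iff.1 ((stabilizer G a).pow_mem (mem_stabilizer_iff.2 hfix1.1) _),
      mem_stabilizer_iff.1 ((stabilizer G b).pow_mem (mem_stabilizer_iff.2 hfix1.2) _),
      fun d hd hda => ?_⟩, fun d hd hda e he hea => ?_⟩
  · set m := Nat.card (atPoint D pt a) - 1
    have h1 : f (j ^ m) = 1 := by
      rw [hfj, mul_comm, pow_mul, ← hunits, pow_card_eq_one', one_pow, map_one, mul_one, mul_inv_cancel]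
    have h3 := hinj (j ^ m * ⟨d, hlift hd hda⟩ * (j ^ m)⁻¹) ⟨d, hlift hd hda⟩
      (P.conj_mem _ d hd) hd (by rw [map_mul, map_mul, map_inv, h1, one_mul, inv_one, mul_one])
    exact mul_inv_eq_iff_eq_mul.1 (congrArg (fun z : memSub D (chord D pt a b) => (z : G)) h3)
  · have hz : ∀ {d : G} (hd : d ∈ D) (hda : pt d = a),
        ∃ x, x ≠ 0 ∧ f ⟨d, hlift hd hda⟩ = g * K.z x * g⁻¹ := by
      intro d hd hda
      set σ := f ⟨d, hlift hd hda⟩
      have hσa : σ • a' = a' := Subtype.ext (by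
        rw [hsmul]; exact (P.fixed_iff d hd a).2 hda.symm)
      have hσ2 : σ * σ = 1 := by
        rw [← map_mul, show (⟨d, hlift hd hda⟩ * ⟨d, hlift hd hda⟩ : memSub D (chord D pt a b)) = 1
          from Subtype.ext (mul_self (P.inv d hd)), map_one]
      obtain ⟨x, hx⟩ := K.z_surj (g⁻¹ * σ * g) (mem_stabilizer_iff.2 (by
        rw [mul_smul, mul_smul, hga, hσa, inv_smul_eq_iff, hga])) (by
        rw [show g⁻¹ * σ * g * (g⁻¹ * σ * g) = g⁻¹ * (σ * σ) * g by group, hσ2]; group)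
      have hσx : σ = g * K.z x * g⁻¹ := by rw [hx]; group
      refine ⟨x, fun e0 => ?_, hσx⟩
      have hz0 : K.z 0 = 1 := left_eq_mul.1 (show K.z 0 = K.z 0 * K.z 0 by rw [← K.z_add, add_zero])
      rw [e0, hz0, mul_one, mul_inv_cancel] at hσx
      have h4 := congrArg (fun τ : R => (τ • b').1) hσx
      simp only [one_smul] at h4
      rw [hsmul] at h4
      exact hab (((P.fixed_iff d hd b).1 h4).trans hda).symm
    obtain ⟨x, hx0, hx⟩ := hz hd hda
    obtain ⟨y, hy0, hy⟩ := hz he hea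
    have hcop : (Nat.card (GaloisField 2 n)ˣ).Coprime (2 ^ (s + 1)) :=
      (Nat.coprime_two_right.2 hodd).pow_right _
    obtain ⟨c, hc⟩ := (powCoprime hcop).surjective (Units.mk0 (y / x) (div_ne_zero hy0 hx0))
    obtain ⟨m, hm⟩ := (Submonoid.mem_powers_iff _ _).1 (hb₀ c)
    refine ⟨m, ?_⟩
    have hB : ((b₀ ^ (2 ^ s * m) : (GaloisField 2 n)ˣ) : GaloisField 2 n) *
        ((b₀ ^ (2 ^ s * m) : (GaloisField 2 n)ˣ) : GaloisField 2 n) * x = y := by
      have h5 : b₀ ^ (2 ^ s * m) * b₀ ^ (2 ^ s * m) = c ^ 2 ^ (s + 1) := by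
        rw [← hm, ← pow_add, ← pow_mul, pow_succ]
        congr 1
        ring
      rw [← Units.val_mul, h5, show c ^ 2 ^ (s + 1) = Units.mk0 (y / x) (div_ne_zero hy0 hx0) from hc,
        Units.val_mk0, div_mul_cancel₀ y hx0]
    have h3 := hinj (j ^ m * ⟨d, hlift hd hda⟩ * (j ^ m)⁻¹) ⟨e, hlift he hea⟩
      (P.conj_mem _ d hd) he (by
        rw [map_mul, map_mul, map_inv, hfj, hx, hy, ← hB, ← K.k_conj]
        group)
    exact congrArg (fun z : memSub D (chord D pt a b) => (z : G)) h3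

/-- A power of the torus outside `R(a,b)` fixes only `a` and `b`. -/
theorem torus_fix {a b : Ω} (hab : a ≠ b) {j : G} (hj : j ∈ chord D pt a b) (hja : j • a = a)
    (hjb : j • b = b)
    (htr : ∀ d ∈ D, pt d = a → ∀ e ∈ D, pt e = a → ∃ m : ℕ, j ^ m * d * (j ^ m)⁻¹ = e) {m : ℕ}
    (hm : j ^ m ∉ centPair D pt a b) {p : Ω} (hp : j ^ m • p = p) : p = a ∨ p = b := by
  obtain ⟨u, hu, ha, hb⟩ := C.exists_fixInv_at hab
  have hjm : ∀ {x : Ω}, j • x = x → j ^ m • x = x := fun {x} hx =>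
    mem_stabilizer_iff.1 ((stabilizer G x).pow_mem (mem_stabilizer_iff.2 hx) m)
  refine C.fix_eq_pair hu hab ha hb (C.commute_of_mem_chord hu ha hb ((chord D pt a b).pow_mem hj m))
    (hjm hja) (hjm hjb) (fun d hd hda hc => hm (mem_centPair.2 ⟨hjm hja, hjm hjb, ?_⟩)) hp
  intro e he hea
  obtain ⟨l, rfl⟩ := htr d hd hda e he hea
  exact ((Commute.pow_pow_self j m l).mul_right hc).mul_right (Commute.pow_pow_self j m l).inv_right

/-- The torus is regular when the chord is `Fix u`. -/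
theorem exists_torus_regular {u : G} (hu : IsFixInv Ω u) {a b : Ω} (hab : a ≠ b) (ha : u • a = a)
    (hb : u • b = b) (hF : Nat.card (FixSet Ω u) ≠ Nat.card (atPoint D pt a) ^ 3 + 1) :
    ∃ j ∈ chord D pt a b, j • a = a ∧ j • b = b ∧ orderOf j = Nat.card (atPoint D pt a) - 1 ∧
      (∀ d ∈ D, pt d = a → ∀ e ∈ D, pt e = a → ∃ m : ℕ, j ^ m * d * (j ^ m)⁻¹ = e) ∧
      (∀ k ∈ centPair D pt a b, Commute j k) ∧
      ∀ g ∈ Subgroup.zpowers j, g ≠ 1 → ∀ p : Ω, g • p = p → p = a ∨ p = b := by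
  obtain ⟨j, hj, hodd, hja, hjb, hjq, htr⟩ := C.exists_torus hab
  have hone : ∀ m : ℕ, j ^ m ∈ centPair D pt a b → j ^ m = 1 := fun m hm =>
    C.eq_one_of_centPair_odd hu hab ha hb hF hm
      (C.commute_of_mem_chord hu ha hb ((chord D pt a b).pow_mem hj m))
      (hodd.of_dvd_nat (orderOf_pow_dvd _))
  refine ⟨j, hj, hja, hjb, ?_, htr, fun k hk => C.commute_chord hab hk hj, fun g hg hg1 p hp => ?_⟩
  · have hq := C.fin.card_E_ge a
    refine le_antisymm (Nat.le_of_dvd (by omega) (orderOf_dvd_of_pow_eq_one (hone _ hjq))) ?_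
    obtain ⟨d, hd, hda⟩ := C.fin.pc.exists_at a
    choose m hm using fun e : {e : G // e ∈ D ∧ pt e = a} => htr d hd hda e.1 e.2.1 e.2.2
    rw [C.fin.pc.card_atPoint C.fin.comm hab, Nat.add_sub_cancel, ← Nat.card_zpowers]
    refine Nat.card_le_card_of_injective
      (fun e => (⟨j ^ m e, Subgroup.pow_mem _ (Subgroup.mem_zpowers j) _⟩ : Subgroup.zpowers j))
      fun e e' he => ?_
    apply Subtype.ext
    rw [← hm e, ← hm e', show j ^ m e = j ^ m e' from congrArg Subtype.val he]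
  · obtain ⟨m, rfl⟩ := (isOfFinOrder_of_finite j).mem_powers_iff_mem_zpowers.2 hg
    exact C.torus_fix hab hj hja hjb htr (fun hm => hg1 (hone m hm)) hp

end ChordHyp

end Cfsg.Agent.Aschbacher
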