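/-
What the cases `i = 1, 2` use of the chords (CRITERION_FINISH.md "Standing"; owner: helper2).

* `FinishHyp.chordHyp` : the hypotheses of the chord files hold once `u` fixes two points
* `ChordHyp.chord_eq_centMembers`, `pts_chord_iff` : the chord is the centralised group, on `Fix u`
* `ChordHyp.card_fix_eq` : all involutions fixing two points fix equally many
* `ChordHyp.isPGroup_centPair_centralizer` : `C_R(u)` is a 2-group
* `ChordHyp.isCyclic_odd_pgroup` : for `|Fix u| = q + 1` the odd `l`-subgroups of the chord are cyclic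
-/
import Cfsg.Agent.Lib.Aschbacher.CriterionTorus
import Cfsg.Agent.Lib.Aschbacher.CriterionMove
import Cfsg.Agent.Lib.SuzukiRankOne.Elementary
import Cfsg.Agent.Lib.GLOrder.Torus

set_option autoImplicit false
set_option linter.style.haveILetI false
set_option linter.unusedSectionVars false

namespace Cfsg.Agent.Aschbacher

open Cfsg Involution MulAction Cfsg.Agent.SuzukiRankOne
open scoped MatrixGroups

universe u

/-- In a set-up with kernel of the order of the parameter, generated by involutions, the odd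
prime power subgroups are cyclic. -/
theorem isCyclic_odd_pgroup_of_card {R Ω : Type u} [Group R] [Finite R] [MulAction R Ω]
    [FaithfulSMul R Ω] {a : Ω} {t : R} {Q : Subgroup R} (hS : Cfsg.IsRankOneSetup R Ω a t Q)
    (h2 : TwoInvolutions R) (hQ : Nat.card Q = param R a)
    (hgen : Subgroup.closure {x : R | orderOf x = 2} = ⊤) {l : ℕ} [Fact l.Prime] (hl : l ≠ 2)
    {L : Subgroup R} (hL : IsPGroup l L) : IsCyclic L := by
  classical
  obtain ⟨n, hn, hn', ⟨K⟩⟩ := exists_coords hS h2
  have hsq : ∀ x ∈ Q, x * x = 1 := by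
    intro x hx
    obtain ⟨y, hy⟩ := ((Nat.bijective_iff_injective_and_card
      (fun y => (⟨K.z y, K.z_mem_Q hS y⟩ : Q))).2
      ⟨fun y y' e => K.z_inj (congrArg Subtype.val e),
        by rw [GaloisField.card 2 n (by omega), hQ, hn']⟩).2 ⟨x, hx⟩
    rw [← show K.z y = x from congrArg Subtype.val hy]
    exact (K.z_mem y).2
  obtain ⟨N, hN, hodd, F, iF, iFt, ⟨m, hm, hcard⟩, ⟨φ⟩⟩ := elementary_case hS h2 hsq
  haveI := hN
  have htop : N = ⊤ := by
    rw [eq_top_iff, ← hgen]
    refine (Subgroup.closure_le _).2 fun x hx => (QuotientGroup.eq_one_iff x).1 ?_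
    have h1 : orderOf (x : R ⧸ N) ∣ 2 := hx ▸ orderOf_map_dvd (QuotientGroup.mk' N) x
    have h3 : orderOf (x : R ⧸ N) ∣ N.index := by
      rw [Subgroup.index_eq_card]
      exact orderOf_dvd_natCard _
    exact orderOf_eq_one_iff.1 (Nat.eq_one_of_dvd_coprimes (Nat.coprime_two_right.2 hodd) h3 h1)
  letI := iF
  letI := iFt
  haveI : Fact (Nat.Prime 2) := ⟨Nat.prime_two⟩
  haveI : CharP F 2 := charP_of_card_eq_prime_pow (f := m)
    (by rw [hcard])
  have hc : Subgroup.center SL(2, F) = ⊥ := by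
    rw [Subgroup.eq_bot_iff_forall]
    intro g hg
    obtain ⟨c, hc, he⟩ := Matrix.SpecialLinearGroup.mem_center_iff.1 hg
    rw [Fintype.card_fin] at hc
    have hc1 : c = 1 := frobenius_inj F 2 (by simpa [frobenius_def] using hc)
    apply Subtype.ext
    rw [← he, hc1, map_one]
    rfl
  let e : R ≃* SL(2, F) := (Subgroup.topEquiv.symm.trans (MulEquiv.subgroupCongr htop.symm)).trans
    (φ.trans ((QuotientGroup.quotientMulEquivOfEq hc).trans QuotientGroup.quotientBot))
  obtain ⟨S, hS'⟩ := (hL.map e.toMonoidHom).exists_le_sylow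
  haveI := GLOrder.isCyclic_sylow_SL_two 2 l hl hl S
  exact isCyclic_of_injective ((Subgroup.inclusion hS').comp
      (Subgroup.equivMapOfInjective L e.toMonoidHom e.injective).toMonoidHom)
    ((Subgroup.inclusion_injective hS').comp (MulEquiv.injective _))

variable {G : Type u} {Ω : Type u} [Group G] [MulAction G Ω] [Finite G] [Finite Ω]
  [FaithfulSMul G Ω] {D : Set G} {pt : G → Ω}

/-- The chord hypotheses hold. -/
theorem FinishHyp.chordHyp (h : FinishHyp G Ω D pt) {u : G} (hu : IsFixInv Ω u) :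
    ChordHyp G Ω D pt :=
  ⟨h, fun _ hv _ hd hvd => (h.commute_of_fixInv hv hvd hd rfl).symm, ⟨u, hu⟩⟩

namespace ChordHyp

variable (C : ChordHyp G Ω D pt)
include C

/-- Fixed sets of size `q + 1` or `q ^ 2 + 1` are not of size `q ^ 3 + 1`. -/
theorem card_fix_ne_cube {u : G} {a : Ω} {i : ℕ} (hi : i ≤ 2)
    (hf : Nat.card (FixSet Ω u) = Nat.card (atPoint D pt a) ^ i + 1) :
    Nat.card (FixSet Ω u) ≠ Nat.card (atPoint D pt a) ^ 3 + 1 := by
  rw [hf]
  have h := Nat.pow_lt_pow_right (by have := C.fin.card_E_ge a; omega : 1 < Nat.card (atPoint D pt a))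
    (show i < 3 by omega)
  omega

/-- All involutions fixing two points fix equally many. -/
theorem card_fix_eq {u v : G} (hu : IsFixInv Ω u) (hv : IsFixInv Ω v) :
    Nat.card (FixSet Ω u) = Nat.card (FixSet Ω v) := by
  obtain ⟨-, a, -, -, ha, -⟩ := id hu
  obtain ⟨-, c, -, -, hc, -⟩ := id hv
  have key : ∀ {x y k : ℕ}, 1 ≤ x → 1 ≤ k → x < y → x + x * k * (x - 1) < y + y * k * (y - 1) := by
    intro x y k hx hk hxy
    have h1 : x * k * (x - 1) ≤ y * k * (y - 1) :=
      Nat.mul_le_mul (Nat.mul_le_mul_right k hxy.le) (by omega)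
    omega
  have hk : 1 ≤ Nat.card (atPoint D pt a) - 1 := by have := C.fin.card_E_ge a; omega
  have h1 := C.card_omega hu a
  have h2 := C.card_omega hv a
  have hu1 : 1 ≤ Nat.card (FixSet Ω u) := Nat.card_pos_iff.2 ⟨⟨⟨a, ha⟩⟩, inferInstance⟩
  have hv1 : 1 ≤ Nat.card (FixSet Ω v) := Nat.card_pos_iff.2 ⟨⟨⟨c, hc⟩⟩, inferInstance⟩
  rcases lt_trichotomy (Nat.card (FixSet Ω u)) (Nat.card (FixSet Ω v)) with h | h | h
  · have := key hu1 hk h
    omega
  · exact h
  · have := key hv1 hk h
    omega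

/-- One involution fixing `q + 1` or `q ^ 2 + 1` points excludes `q ^ 3 + 1` for all. -/
theorem card_fix_ne_cube_all {u : G} (hu : IsFixInv Ω u) {a : Ω} {i : ℕ} (hi : i ≤ 2)
    (hf : Nat.card (FixSet Ω u) = Nat.card (atPoint D pt a) ^ i + 1) :
    ∀ (x : Ω) (v : G), IsFixInv Ω v →
      Nat.card (FixSet Ω v) ≠ Nat.card (atPoint D pt x) ^ 3 + 1 := fun x v hv => by
  rw [← C.card_fix_eq hu hv, C.fin.card_E_eq x a]
  exact C.card_fix_ne_cube hi hf

variable {u : G} (hu : IsFixInv Ω u) {a b : Ω} (hab : a ≠ b) (ha : u • a = a) (hb : u • b = b)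
  (hF : Nat.card (FixSet Ω u) ≠ Nat.card (atPoint D pt a) ^ 3 + 1)
include hu hab ha hb hF

/-- The points of the chord are the fixed points of `u`. -/
theorem pts_chord_iff {p : Ω} : (∃ f ∈ D, f ∈ chord D pt a b ∧ pt f = p) ↔ u • p = p :=
  ⟨C.smul_pts_chord hu ha hb, C.mem_chord_of_fix hu hab ha hb hF⟩

/-- The chord is generated by the members centralising `u`. -/
theorem chord_eq_centMembers : chord D pt a b = centMembers D u := by
  refine le_antisymm (chord_le (fun d hd hda => mem_centMembers hd ?_)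
    fun d hd hdb => mem_centMembers hd ?_) ((Subgroup.closure_le _).2 fun d hd =>
      C.mem_chord_of_pts hab hd.1
        (C.mem_chord_of_fix hu hab ha hb hF (C.fin.pc.commute_fix hd.1 hd.2.symm)))
  · exact (C.cent u hu d hd (by rw [hda, ha])).symm
  · exact (C.cent u hu d hd (by rw [hdb, hb])).symm

/-- `C_R(u)` is a 2-group. -/
theorem isPGroup_centPair_centralizer :
    IsPGroup 2 ↥(centPair D pt a b ⊓ Subgroup.centralizer {u}) := by
  rintro ⟨g, hg, hgu⟩
  obtain ⟨s, o, ho, hso⟩ := Nat.exists_eq_pow_mul_and_not_dvd (orderOf_pos g).ne' 2 (by norm_num)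
  have hord : orderOf (g ^ 2 ^ s) = o := by
    have h1 := orderOf_pow_orderOf_div (x := g) (n := o) (orderOf_pos g).ne'
      (by rw [hso]; exact dvd_mul_left _ _)
    rwa [hso, Nat.mul_div_left _ (Nat.pos_of_ne_zero (by rintro rfl; exact ho (dvd_zero 2)))] at h1
  refine ⟨s, Subtype.ext (C.eq_one_of_centPair_odd hu hab ha hb hF
    ((centPair D pt a b).pow_mem hg _) ((mem_centralizer_iff_commute.1 hgu).pow_left _) ?_)⟩
  show Odd (orderOf (g ^ 2 ^ s))
  rw [hord, ← Nat.not_even_iff_odd, even_iff_two_dvd]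
  exact ho

omit hF in
/-- For `|Fix u| = q + 1` the odd prime power subgroups of the chord are cyclic. -/
theorem isCyclic_odd_pgroup (hf : Nat.card (FixSet Ω u) = Nat.card (atPoint D pt a) + 1) {l : ℕ}
    [Fact l.Prime] (hl : l ≠ 2) {L : Subgroup G} (hLM : L ≤ centMembers D u) (hL : IsPGroup l L) :
    IsCyclic L := by
  classical
  have P := C.fin.pc
  have hF := C.card_fix_ne_cube (u := u) (a := a) (i := 1) (by norm_num) (by rw [hf, pow_one])
  obtain ⟨v, e, hv, he, hva, hea, hve, -⟩ := C.fin.exists_two a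
  have hin : ∀ {d : G}, d ∈ D → pt d = a → d ∈ centMembers D u := fun hd hda =>
    mem_centMembers hd (C.cent u hu _ hd (by rw [hda, ha])).symm
  obtain ⟨w, hw, hwM, hwb⟩ := (C.pts_centMembers hu b).2 hb
  obtain ⟨R, f, hfs, hsmul, hf2, -, hinj, t, Q, hS, h2, -, hq⟩ :=
    P.exists_rankOne_sub C.fin.comm C.fin.ih (C.centMembers_ne_top hu) hv (hin hv hva) hva he
      (hin he hea) hea hve hw hwM (hwb ▸ hab.symm)
  have hmem : centMembers D u ≤ memSub D (centMembers D u) :=
    (Subgroup.closure_le _).2 fun d hd => Subgroup.subset_closure ⟨hd.1, mem_centMembers hd.1 hd.2⟩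
  have hgen : Subgroup.closure {x : R | orderOf x = 2} = ⊤ := by
    have htop : Subgroup.closure {g : memSub D (centMembers D u) | (g : G) ∈ D} = ⊤ :=
      top_unique ((Subgroup.closure_closure_coe_preimage
        (k := {d | d ∈ D ∧ d ∈ centMembers D u})).ge.trans (Subgroup.closure_mono fun g hg => hg.1))
    rw [← top_le_iff, ← Subgroup.map_top_of_surjective f hfs, ← htop, MonoidHom.map_closure]
    refine Subgroup.closure_mono ?_
    rintro _ ⟨g, hg, rfl⟩
    exact hf2 g hg
  have hQ : Nat.card Q = param R (⟨a, v, hv, hin hv hva, hva⟩ : PtSet D pt (centMembers D u)) := by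
    have h1 := RankOne.Setup.card_omega hS
    rw [C.card_pts_centMembers hu, hf] at h1
    rw [hq, show Nat.card Q = Nat.card (atPoint D pt a) by omega, P.card_atPoint C.fin.comm hab]
    congr 1
    exact Nat.card_congr (Equiv.subtypeEquivRight fun d =>
      ⟨fun hd => ⟨hd.1, hd.2, hin hd.1 hd.2⟩, fun hd => ⟨hd.1, hd.2.1⟩⟩)
  let θ : L →* R := f.comp (Subgroup.inclusion (hLM.trans hmem))
  have hθ : Function.Injective θ := by
    rw [injective_iff_map_eq_one]
    rintro ⟨g, hgL⟩ hg
    obtain ⟨k, hk⟩ := hL ⟨g, hgL⟩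
    obtain ⟨k', -, hk'⟩ := (Nat.dvd_prime_pow (Fact.out : l.Prime)).1
      (orderOf_dvd_of_pow_eq_one (congrArg Subtype.val hk : g ^ l ^ k = 1))
    set g' : memSub D (centMembers D u) := ⟨g, hmem (hLM hgL)⟩
    have hg' : f g' = 1 := hg
    have hfix : ∀ p : PtSet D pt (centMembers D u), g • p.1 = p.1 := fun p => by
      rw [show g • p.1 = (f g' • p).1 from (hsmul g' p).symm, hg', one_smul]
    refine Subtype.ext (C.eq_one_of_centPair_odd hu hab ha hb hF (k := g) (mem_centPair.2
      ⟨hfix ⟨a, v, hv, hin hv hva, hva⟩, hfix ⟨b, w, hw, hwM, hwb⟩, fun d hd hda => ?_⟩)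
      (commute_of_mem_centMembers (hLM hgL)) ?_)
    · have h3 := hinj (g' * ⟨d, hmem (hin hd hda)⟩ * g'⁻¹) ⟨d, hmem (hin hd hda)⟩
        (P.conj_mem g d hd) hd (by rw [map_mul, map_mul, map_inv, hg', one_mul, inv_one, mul_one])
      exact mul_inv_eq_iff_eq_mul.1
        (congrArg (fun z : memSub D (centMembers D u) => (z : G)) h3)
    · rw [hk']
      exact ((Fact.out : l.Prime).odd_of_ne_two hl).pow
  haveI := isCyclic_odd_pgroup_of_card hS h2 hQ hgen hl (IsPGroup.of_surjective hL θ.rangeRestrict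
    θ.rangeRestrict_surjective)
  exact (MonoidHom.ofInjective hθ).isCyclic.2 inferInstance

end ChordHyp

end Cfsg.Agent.Aschbacher
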