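/-
Every two-point stabiliser has full `p`-part (port of `Bender/Full` to point classes with two-point
stabilisers of any order; bridge from piece A of the core-free criterion; owner: helper43).

The parity arguments of `Bender/Transitive` are replaced by the following.  Call a `p`-group `R`
*saturated* by a member `u` if `u` normalises it, `R` moves the point of `u` and `u` inverts at least
`ι_p` of its elements.  A `p`-group `T ≥ R` normalising `R` is then saturated again: a conjugate of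
`u` normalises a Sylow subgroup over `T` of `T` times the core, this fixes some point `e` fixed by
`R`, and in the stabiliser of `e` and its image only elements of `R` are inverted.

Main results (namespace `Cfsg.Agent.Aschbacher.PairSetup`):
* `SatBy` : saturation
* `extend` : saturation passes to `p`-groups normalising `R` and containing it
* `no_three` : a saturated subgroup larger than a failing one fixes at most two points
* `full` : every two-point stabiliser contains a conjugate of `X₀`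
* `transitive` : a point stabiliser is transitive on the other points
-/
import Cfsg.Agent.Lib.Aschbacher.PairSetup

set_option autoImplicit false
set_option linter.style.haveILetI false
set_option linter.unusedSectionVars false

namespace Cfsg.Agent.Aschbacher

open Cfsg Involution Bender
open scoped Pointwise

universe u v

variable {G : Type u} {Ω : Type v} [Group G] [MulAction G Ω] [Finite G] [Finite Ω]
variable {D : Set G} {pt : G → Ω} {p : ℕ} [Fact p.Prime]

/-- `R` is normalised by the member `u`, moves its point and has at least `ι_p` elements inverted by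
it. -/
structure SatBy (D : Set G) (pt : G → Ω) (p : ℕ) (R : Subgroup G) (u : G) : Prop where
  mem : u ∈ D
  norm : u ∈ Subgroup.normalizer (R : Set G)
  moved : ¬ R ≤ MulAction.stabilizer G (pt u)
  count : pPart p (Nat.card {f : G // f ∈ D ∧ pt f = pt u}) ≤
    Nat.card {g : G // g ∈ R ∧ u * g * u⁻¹ = g⁻¹}

namespace PairSetup

variable {X₀ : Subgroup G} {a₀ b₀ : Ω} (S : PairSetup D pt p X₀ a₀ b₀)
include S

/-- A Sylow subgroup of a two-point stabiliser is saturated by a swapper normalising it and moved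
off its point. -/
theorem satBy_of_sylow {a b : Ω} (hab : a ≠ b) {X : Subgroup G} (hXab : X ≤ twoPt G a b)
    (hXcard : Nat.card X = pPart p (Nat.card (twoPt G a b))) {u : G} (hu : u ∈ D)
    (huX : u ∈ Subgroup.normalizer (X : Set G)) (hua : u • a = b)
    (hmoved : ¬ X ≤ MulAction.stabilizer G (pt u)) : SatBy D pt p X u :=
  ⟨hu, huX, hmoved, by
    rw [S.pointClass.card_inverted_twoPt hab S.odd_prime hu hua hXab huX hXcard,
      card_point_eq S.pointClass (pt u) b]⟩

/-- **Saturation is inherited.** -/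
theorem extend {R T : Subgroup G} {u : G} (hsat : SatBy D pt p R u) (hR : IsPGroup p R)
    (hT : IsPGroup p T) (hRT : R ≤ T) (hTn : T ≤ Subgroup.normalizer (R : Set G)) {z : Ω}
    (hRz : R ≤ MulAction.stabilizer G z) :
    ∃ u' : G, u' ∈ Subgroup.normalizer (R : Set G) ∧ SatBy D pt p T u' := by
  classical
  have P := S.pointClass
  have hfree : Free D pt R := ⟨u, hsat.mem, hsat.norm, hsat.moved⟩
  obtain ⟨N, hNK, hNodd, hnorm, hcomm, -⟩ :=
    exists_core P (odd_card_of_isPGroup S.odd_prime hR) hfree hsat.mem hsat.norm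
  set K := T ⊔ N with hK
  have hTN : T ≤ Subgroup.normalizer (N : Set G) := fun t ht =>
    Coprime.mem_normalizer_of_forall fun a ha => hnorm t (hTn ht) a ha
  have hKodd : Odd (Nat.card K) :=
    odd_card_sup_of_normalizes hTN hNodd (odd_card_of_isPGroup S.odd_prime hT)
  have hKn : K ≤ Subgroup.normalizer (R : Set G) := sup_le hTn hNK
  have huK : u ∈ Subgroup.normalizer (K : Set G) := by
    have hle : K ≤ K.comap (MulAut.conj u).toMonoidHom := by
      refine sup_le (fun t ht => ?_) fun a ha => Subgroup.mem_sup_right (hnorm u hsat.norm a ha)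
      show u * t * u⁻¹ ∈ K
      have h := K.mul_mem (Subgroup.mem_sup_right (hcomm t (hTn ht)) : u * t * u⁻¹ * t⁻¹ ∈ K)
        (Subgroup.mem_sup_left ht)
      rwa [inv_mul_cancel_right] at h
    exact Coprime.mem_normalizer_of_forall fun g hg => hle hg
  obtain ⟨P₀, -, hP₀K, huP₀, -, hP₀card⟩ := exists_sylow_invariant (p := p) (P.inv u hsat.mem) huK
    hKodd (R := ⊥) bot_le IsPGroup.of_bot (by
      rw [Subgroup.normalizer_eq_top_iff.2 inferInstance]; exact Subgroup.mem_top u)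
  obtain ⟨S₀, hS₀⟩ := Coprime.exists_sylow_map_eq hP₀K hP₀card
  obtain ⟨S₁, hS₁⟩ := (hT.comap_subtype : IsPGroup p (T.subgroupOf K)).exists_le_sylow
  obtain ⟨⟨k, hkK⟩, hk⟩ := MulAction.exists_smul_eq K S₀ S₁
  set P₁ := MulAut.conj k • P₀ with hP₁def
  have hP₁eq : P₁ = (S₁ : Subgroup K).map K.subtype := by
    rw [hP₁def, ← hS₀, ← hk]
    exact (Coprime.map_subtype_smul ⟨k, hkK⟩ S₀).symm
  have hTP₁ : T ≤ P₁ := fun t ht =>
    hP₁eq.ge ⟨⟨t, Subgroup.mem_sup_left ht⟩, hS₁ (Subgroup.mem_subgroupOf.2 ht), rfl⟩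
  have hP₁K : P₁ ≤ K := hP₁eq.le.trans (Subgroup.map_subtype_le _)
  have hP₁p : IsPGroup p P₁ := by rw [hP₁eq]; exact S₁.2.map _
  set u' := k * u * k⁻¹ with hu'
  have hu'D : u' ∈ D := P.conj_mem k u hsat.mem
  have hkR : k ∈ Subgroup.normalizer (R : Set G) := hKn hkK
  have hu'R : u' ∈ Subgroup.normalizer (R : Set G) := mem_normalizer_conj hkR hsat.norm
  have hu'P₁ : u' ∈ Subgroup.normalizer (P₁ : Set G) := by
    refine Coprime.mem_normalizer_of_forall fun g hg => ?_
    rw [hP₁def, Coprime.mem_conj] at hg ⊢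
    have h := (Subgroup.mem_normalizer_iff.1 huP₀ _).1 hg
    convert h using 1
    rw [hu']; group
  have hmove' : ¬ R ≤ MulAction.stabilizer G (pt u') := free_iff_forall P hfree hu'D hu'R
  have hcnt : pPart p (Nat.card {f : G // f ∈ D ∧ pt f = pt u'}) ≤
      Nat.card {g : G // g ∈ R ∧ u' * g * u'⁻¹ = g⁻¹} := by
    rw [card_point_eq P (pt u') (pt u)]
    refine hsat.count.trans (le_of_eq (Nat.card_congr (Equiv.subtypeEquiv
      (MulAut.conj k).toEquiv fun g => ?_)))
    show g ∈ R ∧ u * g * u⁻¹ = g⁻¹ ↔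
      k * g * k⁻¹ ∈ R ∧ u' * (k * g * k⁻¹) * u'⁻¹ = (k * g * k⁻¹)⁻¹
    refine and_congr (Subgroup.mem_normalizer_iff.1 hkR g) ?_
    rw [show u' * (k * g * k⁻¹) * u'⁻¹ = k * (u * g * u⁻¹) * k⁻¹ by rw [hu']; group,
      show (k * g * k⁻¹)⁻¹ = k * g⁻¹ * k⁻¹ by group, mul_left_inj, mul_right_inj]
  -- a fixed point of `P₁` among those of `R`
  obtain ⟨e, hRe, hP₁e⟩ : ∃ e : Ω, R ≤ MulAction.stabilizer G e ∧
      P₁ ≤ MulAction.stabilizer G e := by
    by_contra! hcon
    have h := (card_modEq_fixed hP₁p {x : Ω | R ≤ MulAction.stabilizer G x}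
      fun q hq x hx => le_stab_smul (hKn (hP₁K hq)) hx).symm.trans (S.fix_two hR hRz)
    have h0 : Nat.card {x : Ω // x ∈ {x : Ω | R ≤ MulAction.stabilizer G x} ∧
        P₁ ≤ MulAction.stabilizer G x} = 0 :=
      Nat.card_eq_zero.2 (Or.inl ⟨fun x => hcon x.1 x.2.1 x.2.2⟩)
    rw [h0] at h
    exact S.odd_prime ((Nat.prime_dvd_prime_iff_eq (Fact.out : p.Prime) Nat.prime_two).1
      (Nat.modEq_zero_iff_dvd.1 h.symm))
  have hne : e ≠ u' • e := fun h => hmove' ((P.fixed_iff u' hu'D e).1 h.symm ▸ hRe)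
  obtain ⟨Q, hP₁Q, hQK, hu'Q, -, hQcard⟩ := P.exists_sylow_invariant_twoPt hne S.odd_prime hu'D rfl
    (le_inf hP₁e (le_stab_smul hu'P₁ hP₁e)) hP₁p hu'P₁
  have hinv : ∀ g ∈ Q, u' * g * u'⁻¹ = g⁻¹ → g ∈ R := by
    intro g hg hg'
    have h1 := P.card_inverted_twoPt hne S.odd_prime hu'D rfl hQK hu'Q hQcard
    rw [card_point_eq P (u' • e) (pt u')] at h1
    have hsub : {g : G | g ∈ R ∧ u' * g * u'⁻¹ = g⁻¹} ⊆ {g : G | g ∈ Q ∧ u' * g * u'⁻¹ = g⁻¹} :=
      fun g hg => ⟨hP₁Q (hTP₁ (hRT hg.1)), hg.2⟩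
    have heq := Set.eq_of_subset_of_ncard_le hsub (by
      rw [← Nat.card_coe_set_eq, ← Nat.card_coe_set_eq]
      exact h1.trans_le hcnt) (Set.toFinite _)
    exact (heq.ge (show g ∈ {g : G | g ∈ Q ∧ u' * g * u'⁻¹ = g⁻¹} from ⟨hg, hg'⟩)).1
  have hu'T : u' ∈ Subgroup.normalizer (T : Set G) := by
    refine Coprime.mem_normalizer_of_forall fun t ht => ?_
    set g := u' * t * u'⁻¹ * t⁻¹ with hg
    have hgQ : g ∈ Q := hP₁Q (mul_mem ((Subgroup.mem_normalizer_iff.1 hu'P₁ t).1 (hTP₁ ht))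
      (inv_mem (hTP₁ ht)))
    have hginv : u' * g * u'⁻¹ = g⁻¹ := by
      have h2 := mul_self (P.inv u' hu'D)
      rw [hg]
      simp only [mul_inv_rev, inv_inv, inv_eq (P.inv u' hu'D)]
      rw [show u' * (u' * t * u' * t⁻¹) * u' = (u' * u') * t * u' * t⁻¹ * u' by group, h2, one_mul]
      group
    have h := T.mul_mem (hRT (hinv g hgQ hginv)) ht
    rwa [hg, inv_mul_cancel_right] at h
  refine ⟨u', hu'R, hu'D, hu'T, fun h => hmove' (hRT.trans h), hcnt.trans ?_⟩
  refine Nat.card_le_card_of_injective (fun g => ⟨g.1, hRT g.2.1, g.2.2⟩) fun g g' h => ?_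
  exact Subtype.ext (by simpa using h)

theorem hbig_of {X : Subgroup G}
    (hcl : ∀ x y : Ω, x ≠ y → pPart p (Nat.card (twoPt G x y)) = Nat.card X₀ ∨
      pPart p (Nat.card (twoPt G x y)) ≤ Nat.card X) :
    ∀ R : Subgroup G, IsPGroup p R → Nat.card X < Nat.card R → ∀ x y : Ω, x ≠ y →
      R ≤ MulAction.stabilizer G x → R ≤ MulAction.stabilizer G y →
      pPart p (Nat.card (twoPt G x y)) = Nat.card X₀ := fun R hR hXR x y hxy hx hy =>
  (hcl x y hxy).resolve_right fun h =>
    absurd ((Coprime.card_le_of_isPGroup hR (le_inf hx hy : R ≤ twoPt G x y)).trans h)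
      (not_le.2 hXR)

/-- A saturated `p`-subgroup larger than `X` fixes at most two points. -/
theorem no_three {X : Subgroup G}
    (hbig : ∀ R : Subgroup G, IsPGroup p R → Nat.card X < Nat.card R → ∀ x y : Ω, x ≠ y →
      R ≤ MulAction.stabilizer G x → R ≤ MulAction.stabilizer G y →
      pPart p (Nat.card (twoPt G x y)) = Nat.card X₀)
    {R : Subgroup G} {u : G} (hsat : SatBy D pt p R u) (hR : IsPGroup p R)
    (hXR : Nat.card X < Nat.card R) {x y z : Ω} (hx : R ≤ MulAction.stabilizer G x)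
    (hy : R ≤ MulAction.stabilizer G y) (hz : R ≤ MulAction.stabilizer G z) (hxy : x ≠ y)
    (hzx : z ≠ x) (hzy : z ≠ y) : False := by
  induction hn : Nat.card X₀ - Nat.card R using Nat.strong_induction_on generalizing R u x y z with
  | _ n ih =>
    have P := S.pointClass
    have hRle : Nat.card R ≤ Nat.card X₀ := S.max R hR x y hxy hx hy
    have hRlt : Nat.card R < Nat.card X₀ := lt_of_le_of_ne hRle fun e =>
      (S.full_two hR e hx hy hxy hz).elim hzx hzy
    set L := Subgroup.normalizer (R : Set G) with hL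
    have hviol : ∀ T : Subgroup G, IsPGroup p T → R < T → T ≤ L → ∀ o q r : Ω,
        T ≤ MulAction.stabilizer G o → T ≤ MulAction.stabilizer G q →
        T ≤ MulAction.stabilizer G r → o ≠ q → o ≠ r → q ≠ r → False := by
      intro T hT hRT hTL o q r ho hq hr hoq hor hqr
      obtain ⟨u', -, hsat'⟩ := S.extend hsat hR hT hRT.le hTL hx
      have hlt := card_lt_of_lt hRT
      have hle := S.max T hT q r hqr hq hr
      exact ih (Nat.card X₀ - Nat.card T) (by omega) hsat' hT (hXR.trans hlt) hq hr ho hqr hoq hor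
        rfl
    have hpair : ∀ q r : Ω, q ≠ r → R ≤ MulAction.stabilizer G q → R ≤ MulAction.stabilizer G r →
        ∃ T : Subgroup G, IsPGroup p T ∧ R < T ∧ T ≤ L ∧ T ≤ MulAction.stabilizer G q ∧
          T ≤ MulAction.stabilizer G r := by
      intro q r hqr hq hr
      obtain ⟨Q, hRQ, hQK, hQp, hQcard⟩ := exists_sylow_twoPt q r hR (le_inf hq hr)
      rw [hbig R hR hXR q r hqr hq hr] at hQcard
      have hne : R ≠ Q := fun e => hRlt.ne (by rw [e, hQcard])
      obtain ⟨T, h1, h2, h3⟩ := exists_normalizing hQp (hRQ.lt_of_ne hne)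
      exact ⟨T, hQp.to_le h2, h1, h3, (h2.trans hQK).trans inf_le_left,
        (h2.trans hQK).trans inf_le_right⟩
    -- the stabiliser in `L` of a fixed point is transitive on the other fixed points
    have htrans : ∀ o q r : Ω, R ≤ MulAction.stabilizer G o → o ≠ q → o ≠ r →
        R ≤ MulAction.stabilizer G q → R ≤ MulAction.stabilizer G r →
        ∃ h ∈ L ⊓ MulAction.stabilizer G o, h • q = r := by
      intro o q r ho hoq hor hq hr
      by_contra! hcon
      set s : Set Ω := {w | ∃ h ∈ L ⊓ MulAction.stabilizer G o, h • q = w} with hs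
      have hso : ∀ w ∈ s, o ≠ w := by
        rintro w ⟨h, hh, rfl⟩ e
        exact hoq (MulAction.injective h ((MulAction.mem_stabilizer_iff.1 hh.2).trans e))
      have hstable : ∀ T : Subgroup G, T ≤ L → T ≤ MulAction.stabilizer G o →
          ∀ t ∈ T, ∀ w ∈ s, t • w ∈ s := by
        rintro T hTL hTo t ht w ⟨h, hh, rfl⟩
        exact ⟨t * h, mul_mem ⟨hTL ht, hTo ht⟩ hh, mul_smul _ _ _⟩
      obtain ⟨T, hTp, hRT, hTL, hTo, hTq⟩ := hpair o q hoq ho hq
      obtain ⟨T', hT'p, hRT', hT'L, hT'o, hT'r⟩ := hpair o r hor ho hr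
      have e1 := card_modEq_fixed hTp s (hstable T hTL hTo)
      have e2 := card_modEq_fixed hT'p s (hstable T' hT'L hT'o)
      have c1 : Nat.card {w : Ω // w ∈ s ∧ T ≤ MulAction.stabilizer G w} = 1 := by
        rw [Nat.card_eq_one_iff_unique]
        refine ⟨⟨fun u v => Subtype.ext ?_⟩, ⟨⟨q, ⟨1, one_mem _, one_smul _ _⟩, hTq⟩⟩⟩
        have key : ∀ w : Ω, w ∈ s → T ≤ MulAction.stabilizer G w → w = q := fun w hw hTw => by
          by_contra hne
          exact hviol T hTp hRT hTL o w q hTo hTw hTq (hso w hw) hoq hne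
        rw [key u.1 u.2.1 u.2.2, key v.1 v.2.1 v.2.2]
      have c2 : Nat.card {w : Ω // w ∈ s ∧ T' ≤ MulAction.stabilizer G w} = 0 := by
        rw [Nat.card_eq_zero]
        refine Or.inl ⟨fun w => ?_⟩
        have hne : w.1 ≠ r := fun e => by
          obtain ⟨h, hh, hhq⟩ := w.2.1
          exact hcon h hh (hhq.trans e)
        exact hviol T' hT'p hRT' hT'L o w.1 r hT'o w.2.2 hT'r (hso w.1 w.2.1) hor hne
      rw [c1] at e1
      rw [c2] at e2
      exact (Fact.out : p.Prime).ne_one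
        (Nat.dvd_one.1 (Nat.modEq_zero_iff_dvd.1 (e1.symm.trans e2)))
    -- conjugates of `u` exchange any two of them
    have hswap : ∀ q r : Ω, q ≠ r → R ≤ MulAction.stabilizer G q → R ≤ MulAction.stabilizer G r →
        ∃ w ∈ D, w ∈ L ∧ w • q = r := by
      intro q r hqr hq hr
      have hne : q ≠ u • q := fun h => hsat.moved ((P.fixed_iff u hsat.mem q).1 h.symm ▸ hq)
      obtain ⟨h, hh, hh'⟩ := htrans q (u • q) r hq hne hqr (le_stab_smul hsat.norm hq) hr
      refine ⟨h * u * h⁻¹, P.conj_mem h u hsat.mem, mem_normalizer_conj hh.1 hsat.norm, ?_⟩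
      rw [mul_smul, mul_smul, inv_smul_eq_iff.2 (MulAction.mem_stabilizer_iff.1 hh.2).symm, hh']
    obtain ⟨w₁, hw₁, hw₁L, hw₁e⟩ := hswap z x hzx hz hx
    obtain ⟨w₂, hw₂, hw₂L, hw₂e⟩ := hswap z y hzy hz hy
    obtain ⟨w₃, hw₃, hw₃L, hw₃e⟩ := hswap x y hxy hx hy
    exact not_three P (odd_card_of_isPGroup S.odd_prime hR)
      ⟨u, hsat.mem, hsat.norm, hsat.moved⟩ hx hw₁ hw₁L hw₁e hw₂ hw₂L hw₂e hw₃ hw₃L hw₃e

section Fail

variable {a b : Ω} (hab : a ≠ b) {X : Subgroup G} (hX : IsPGroup p X) (hXab : X ≤ twoPt G a b)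
  (hXcard : Nat.card X = pPart p (Nat.card (twoPt G a b))) (hlt : Nat.card X < Nat.card X₀)
  (hcl : ∀ x y : Ω, x ≠ y → pPart p (Nat.card (twoPt G x y)) = Nat.card X₀ ∨
    pPart p (Nat.card (twoPt G x y)) ≤ Nat.card X)
  {u : G} (hu : u ∈ D) (huX : u ∈ Subgroup.normalizer (X : Set G)) (hua : u • a = b)

include hab hX hXab hXcard hlt hcl hu huX hua

/-- The failing subgroup moves the point of its swapper. -/
theorem fail_moved : ¬ X ≤ MulAction.stabilizer G (pt u) := by
  intro hc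
  have P := S.pointClass
  set N := Subgroup.normalizer (X : Set G) with hN
  set c := pt u with hcdef
  have hca : c ≠ a := fun e => hab (by rw [← hua, ← e, hcdef, P.smul_pt hu])
  have hXca : X ≤ twoPt G c a := le_inf hc (hXab.trans inf_le_left)
  have hcardca : Nat.card X = pPart p (Nat.card (twoPt G c a)) := by
    rw [hXcard, pPart, ← card_twoPt_fixed P hab hu hua]
  -- a swapper of `c, a` in the normaliser, and a member of `D` there at `a`
  obtain ⟨w, hw, hwX, hwc⟩ := P.exists_swap_normalizing_twoPt hca S.odd_prime hXca hcardca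
  set v := w * u * w⁻¹ with hv
  have hvD : v ∈ D := P.conj_mem w u hu
  have hvX : v ∈ N := mem_normalizer_conj hwX huX
  have hvpt : pt v = a := by rw [hv, P.pt_conj w hu, ← hcdef, hwc]
  set s : Set G := {f | f ∈ D ∧ f ∈ N ∧ pt f = c} with hs
  have hsu : u ∈ s := ⟨hu, huX, rfl⟩
  have htrans : ∀ f ∈ s, ∃ k ∈ N ⊓ twoPt G c a, k * u * k⁻¹ = f := by
    rintro f ⟨hf, hfX, hfc⟩
    obtain ⟨w₀, hw₀, hw₀X, e₀, e₀'⟩ := exists_mid_in P hu hvD huX hvX (by rw [hvpt]; exact hca)
    obtain ⟨w₁, hw₁, hw₁X, e₁, e₁'⟩ := exists_mid_in P hf hvD hfX hvX (by rw [hvpt, hfc]; exact hca)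
    rw [hvpt] at e₀' e₁'
    rw [hfc] at e₁'
    rw [← hcdef] at e₀'
    have a₀' : w₀ • a = c := by rw [← e₀', P.smul_smul_self hw₀]
    have a₁' : w₁ • a = c := by rw [← e₁', P.smul_smul_self hw₁]
    refine ⟨w₁⁻¹ * w₀, ⟨N.mul_mem (N.inv_mem hw₁X) hw₀X, ?_, ?_⟩, ?_⟩
    · show (w₁⁻¹ * w₀) • c = c
      rw [mul_smul, e₀', inv_smul_eq_iff, e₁']
    · show (w₁⁻¹ * w₀) • a = a
      rw [mul_smul, a₀', inv_smul_eq_iff, a₁']
    · calc w₁⁻¹ * w₀ * u * (w₁⁻¹ * w₀)⁻¹ = w₁⁻¹ * (w₀ * u * w₀⁻¹) * w₁ := by group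
        _ = f := by rw [e₀, ← e₁]; group
  have hclosed : ∀ k ∈ N ⊓ MulAction.stabilizer G c, ∀ f ∈ s, k * f * k⁻¹ ∈ s := by
    rintro k hk f ⟨hf, hfX, hfc⟩
    exact ⟨P.conj_mem k f hf, mem_normalizer_conj hk.1 hfX,
      by rw [P.pt_conj k hf, hfc]; exact MulAction.mem_stabilizer_iff.1 hk.2⟩
  set K₀ := N ⊓ twoPt G c a with hK₀
  set Kc := N ⊓ MulAction.stabilizer G c with hKc
  have hK₀c : K₀ ≤ Kc := inf_le_inf_left _ inf_le_left
  set C := Subgroup.centralizer ({u} : Set G) with hC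
  have n₀ := card_eq_mul_centralizer K₀ s (fun k hk => hclosed k (hK₀c hk)) hsu htrans
  have nc := card_eq_mul_centralizer Kc s hclosed hsu fun f hf => by
    obtain ⟨k, hk, e⟩ := htrans f hf
    exact ⟨k, hK₀c hk, e⟩
  obtain ⟨T, hTp, hXT, hTc, hTn⟩ := S.exists_larger hX hc hlt
  have h0 : pPart p (Nat.card K₀) = Nat.card X := le_antisymm
    ((pPart_le inf_le_right).trans_eq hcardca.symm)
    (Coprime.card_le_of_isPGroup hX (le_inf Subgroup.le_normalizer hXca))
  have h1 : Nat.card X < pPart p (Nat.card Kc) :=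
    (card_lt_of_lt hXT).trans_le (Coprime.card_le_of_isPGroup hTp (le_inf hTn hTc))
  have hs0 : Nat.card s ≠ 0 := (Nat.card_pos_iff.2 ⟨⟨⟨u, hsu⟩⟩, inferInstance⟩).ne'
  rw [← h0, n₀, nc, pPart_mul hs0 Nat.card_pos.ne', pPart_mul hs0 Nat.card_pos.ne'] at h1
  have h2 : pPart p (Nat.card ↥(K₀ ⊓ C)) < pPart p (Nat.card ↥(Kc ⊓ C)) :=
    Nat.lt_of_mul_lt_mul_left h1
  obtain ⟨Y, hYp, hY, hYcard⟩ := exists_pPart (p := p) (Kc ⊓ C)
  have hYN : Y ≤ N := hY.trans (inf_le_left.trans inf_le_left)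
  set R := Y ⊔ X with hR
  have hRp : IsPGroup p R := hYp.to_sup_of_normal_right' hX hYN
  have hXR : X < R := by
    refine lt_of_le_of_ne le_sup_right fun e => ?_
    have hYX : Y ≤ X := le_sup_left.trans e.ge
    have hYK₀ : Y ≤ K₀ ⊓ C :=
      le_inf (hYX.trans (le_inf Subgroup.le_normalizer hXca)) (hY.trans inf_le_right)
    have := Coprime.card_le_of_isPGroup hYp hYK₀
    rw [hYcard] at this
    exact absurd this (not_le.2 h2)
  have huR : u ∈ Subgroup.normalizer (R : Set G) := by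
    refine mem_normalizer_of_forall fun r hr => ?_
    have hle : R ≤ R.comap (MulAut.conj u).toMonoidHom := by
      refine sup_le (fun y hy => ?_) fun x hx => ?_
      · show u * y * u⁻¹ ∈ R
        rw [← (mem_centralizer.1 (hY hy).2).eq, mul_inv_cancel_right]
        exact Subgroup.mem_sup_left hy
      · exact Subgroup.mem_sup_right ((Subgroup.mem_normalizer_iff.1 huX x).1 hx)
    exact hle hr
  have hRc : R ≤ MulAction.stabilizer G c := sup_le (hY.trans (inf_le_left.trans inf_le_right)) hc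
  have hRmove : Moving p D pt R c := (moving_of_sylow P hca hXca hcardca).mono hXR.le
  -- `R` fixes a second point
  obtain ⟨x, hxR, hxc⟩ : ∃ x : Ω, R ≤ MulAction.stabilizer G x ∧ x ≠ c := by
    by_contra! hcon
    have h := S.fix_two hRp hRc
    have h' : Nat.card {x : Ω // R ≤ MulAction.stabilizer G x} = 1 := by
      rw [Nat.card_eq_one_iff_unique]
      exact ⟨⟨fun x y => Subtype.ext ((hcon x.1 x.2).trans (hcon y.1 y.2).symm)⟩, ⟨⟨c, hRc⟩⟩⟩
    rw [h'] at h
    have h2 : p ∣ 1 := (Nat.modEq_iff_dvd' (by norm_num)).1 h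
    exact (Fact.out : p.Prime).ne_one (Nat.dvd_one.1 h2)
  have hne : u • x ≠ x := fun e => hxc ((P.fixed_iff u hu x).1 e)
  obtain ⟨Q, -, hQp, hQK, hQcard, hQc⟩ :=
    P.full_fixes_twoPt S.odd_prime hu hne hRp huR hRmove hRc hxR
  rw [hbig_of S hcl R hRp (card_lt_of_lt hXR) x (u • x) hne.symm hxR (le_stab_smul huR hxR)] at hQcard
  rcases S.full_two hQp hQcard (hQK.trans inf_le_left) (hQK.trans inf_le_right) hne.symm hQc with e | e
  · exact hxc e.symm
  · refine hxc ?_
    have h := P.smul_smul_self hu x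
    have e' : pt u = u • x := e
    rw [← e', P.smul_pt hu] at h
    exact h.symm

theorem fail_false : False := by
  have P := S.pointClass
  have hmoved := S.fail_moved hab hX hXab hXcard hlt hcl hu huX hua
  have hfree : Free D pt X := ⟨u, hu, huX, hmoved⟩
  have hsat := S.satBy_of_sylow hab hXab hXcard hu huX hua hmoved
  obtain ⟨N, hNK, hNodd, hnorm, -, hcoset⟩ :=
    exists_core P (odd_card_of_isPGroup S.odd_prime hX) hfree hu huX
  have hXa : X ≤ MulAction.stabilizer G a := hXab.trans inf_le_left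
  have hXb : X ≤ MulAction.stabilizer G b := hXab.trans inf_le_right
  have huN : ∀ n ∈ N, u * n * u⁻¹ ∈ N := fun n hn => hnorm u huX n hn
  have horb : ∀ n ∈ N, u • a ≠ n • a := orbit_moved P hfree hNK hNodd hu huX huN hXa
  obtain ⟨T, hTp, hXT, hTa, hTn⟩ := S.exists_larger hX hXa hlt
  obtain ⟨t, ht, htb⟩ : ∃ t ∈ T, t • b ≠ b := by
    by_contra! hcon
    have h := Coprime.card_le_of_isPGroup hTp
      (le_inf hTa fun t ht => MulAction.mem_stabilizer_iff.2 (hcon t ht) : T ≤ twoPt G a b)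
    rw [show p ^ (Nat.card (twoPt G a b)).factorization p = Nat.card X from hXcard.symm] at h
    exact absurd h (not_le.2 (card_lt_of_lt hXT))
  set b' := t • b with hb'
  have hta : t • a = a := MulAction.mem_stabilizer_iff.1 (hTa ht)
  have hab' : a ≠ b' := fun e => hab (MulAction.injective t (hta.trans e))
  have hXb' : X ≤ MulAction.stabilizer G b' := le_stab_smul (hTn ht) hXb
  have hcard' : Nat.card (twoPt G a b') = Nat.card (twoPt G a b) := by
    refine Nat.card_congr (Equiv.subtypeEquiv (MulAut.conj t⁻¹).toEquiv fun g => ?_)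
    show g ∈ twoPt G a b' ↔ t⁻¹ * g * t⁻¹⁻¹ ∈ twoPt G a b
    rw [Subgroup.mem_inf, Subgroup.mem_inf]
    simp only [MulAction.mem_stabilizer_iff, inv_inv, mul_smul, inv_smul_eq_iff, hta, hb']
  obtain ⟨u', hu', hu'X, hu'a⟩ := P.exists_swap_normalizing_twoPt hab' S.odd_prime
    (le_inf hXa hXb') (by rw [hcard']; exact hXcard)
  obtain ⟨n, hn, rfl⟩ := hcoset u' hu' hu'X
  rw [mul_smul, hua] at hu'a
  set a' := u • b' with ha'
  have haa' : a ≠ a' := fun e => htb (by
    show b' = b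
    rw [← hua, e, ha', P.smul_smul_self hu])
  have ha'N : (u * n * u⁻¹) • a = a' := by
    rw [ha', ← hu'a, mul_smul, mul_smul, inv_eq (P.inv u hu), hua]
  have hXa' : X ≤ MulAction.stabilizer G a' := le_stab_smul huX hXb'
  -- no member normalising `X` exchanges `a` and `a'`
  have hnoswap : ∀ w ∈ D, w ∈ Subgroup.normalizer (X : Set G) → w • a ≠ a' := by
    intro w hw hwX hwa
    obtain ⟨m, hm, rfl⟩ := hcoset w hw hwX
    refine horb (m⁻¹ * (u * n * u⁻¹)) (N.mul_mem (N.inv_mem hm) (huN n hn)) ?_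
    rw [mul_smul m⁻¹, ha'N, ← hwa, mul_smul, inv_smul_smul]
  -- so the pair is full
  have hfull : pPart p (Nat.card (twoPt G a a')) = Nat.card X₀ := by
    refine (hcl a a' haa').resolve_right fun h => ?_
    obtain ⟨w, hw, hwX, hwa⟩ := P.exists_swap_normalizing_twoPt haa' S.odd_prime (le_inf hXa hXa')
      (le_antisymm (Coprime.card_le_of_isPGroup hX (le_inf hXa hXa')) h)
    exact hnoswap w hw hwX hwa
  obtain ⟨Q, hXQ, hQK, hQp, hQcard⟩ := exists_sylow_twoPt a a' hX (le_inf hXa hXa')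
  rw [hfull] at hQcard
  obtain ⟨R, hXR, hRQ, hRn⟩ := exists_normalizing hQp
    (hXQ.lt_of_ne fun e => hlt.ne (by rw [e, hQcard]))
  have hRp : IsPGroup p R := hQp.to_le hRQ
  have hRa : R ≤ MulAction.stabilizer G a := (hRQ.trans hQK).trans inf_le_left
  have hRa' : R ≤ MulAction.stabilizer G a' := (hRQ.trans hQK).trans inf_le_right
  -- its saturating member gives a third fixed point
  obtain ⟨w, hwX, hsatR⟩ := S.extend hsat hX hRp hXR.le hRn hXa
  have hwa : w • a ≠ a := fun e => hsatR.moved ((P.fixed_iff w hsatR.mem a).1 e ▸ hRa)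
  exact S.no_three (S.hbig_of hcl) hsatR hRp (card_lt_of_lt hXR) hRa hRa'
    (le_stab_smul hsatR.norm hRa) haa' hwa (hnoswap w hsatR.mem hwX)

end Fail

/-- **Every two-point stabiliser has a `p`-part of the largest order.** -/
theorem full {x y : Ω} (hxy : x ≠ y) : pPart p (Nat.card (twoPt G x y)) = Nat.card X₀ := by
  by_contra hne
  obtain ⟨⟨a, b⟩, ⟨hab, hfail⟩, hmax⟩ := Set.Finite.exists_maximalFor
    (fun q : Ω × Ω => pPart p (Nat.card (twoPt G q.1 q.2)))
    {q | q.1 ≠ q.2 ∧ pPart p (Nat.card (twoPt G q.1 q.2)) ≠ Nat.card X₀}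
    (Set.toFinite _) ⟨(x, y), hxy, hne⟩
  obtain ⟨X, hXp, hXab, hXcard⟩ := exists_pPart (p := p) (twoPt G a b)
  have hlt : Nat.card X < Nat.card X₀ :=
    hXcard ▸ lt_of_le_of_ne (S.card_le hab) hfail
  obtain ⟨u, hu, huX, hua⟩ :=
    S.pointClass.exists_swap_normalizing_twoPt hab S.odd_prime hXab hXcard
  refine S.fail_false hab hXp hXab hXcard hlt (fun q r hqr => ?_) hu huX hua
  by_contra! h
  exact absurd (hmax (j := (q, r)) ⟨hqr, h.1⟩ (hXcard.symm.trans_le h.2.le))
    (not_le.2 (lt_of_eq_of_lt hXcard.symm h.2))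

/-- **The stabiliser of a point is transitive on the other points.** -/
theorem transitive {x y y' : Ω} (hy : x ≠ y) (hy' : x ≠ y') :
    ∃ h : G, h • x = x ∧ h • y = y' :=
  S.exists_conj_pair hy hy' (S.full hy) (S.full hy')

end PairSetup

end Cfsg.Agent.Aschbacher
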