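/-
Regular abelian groups of automorphisms of an elementary abelian 2-group (GL of CRITERION.md, generic
part; owner: helper43).

`IsLine C` : the abelian subgroup `C ≤ MulAut E` is regular on the non-trivial elements, so `E` is a
line over the field `C ∪ {0}`.

Main results:
* `IsLine.self_centralizing`, `IsLine.isCyclic`, `IsLine.card`
* `IsLine.pow_mem`, `IsLine.commutator_mem`, `IsLine.mem_of_coprime` : the normaliser is semilinear
* `IsLine.eq_of_le_normalizer` : only one line in a normaliser
* `exists_isLine` : one is normalised with every odd order group transitive on `E#`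
-/
import Cfsg.Agent.Lib.FTUse.Field
import Cfsg.Agent.Lib.Cores.Fitting
import Cfsg.Agent.Lib.OddOrderTheorem.Basic

set_option autoImplicit false
set_option linter.style.haveILetI false
set_option linter.unusedSectionVars false

namespace Cfsg.Agent.Aschbacher

open FTUse.Transitive

universe u

/-- An abelian group of automorphisms regular on the non-trivial elements. -/
structure IsLine {E : Type*} [Group E] (C : Subgroup (MulAut E)) : Prop where
  comm : ∀ a ∈ C, ∀ b ∈ C, a * b = b * a
  regular : ∀ a b : E, a ≠ 1 → b ≠ 1 → ∃! c : MulAut E, c ∈ C ∧ c a = b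

/-- The action of a group of automorphisms on the additive group. -/
@[reducible] def addAction {E : Type*} [CommGroup E] (N : Subgroup (MulAut E)) :
    DistribMulAction N (Additive E) where
  smul n a := Additive.ofMul ((n : MulAut E) a.toMul)
  one_smul _ := rfl
  mul_smul _ _ _ := rfl
  smul_zero n := show Additive.ofMul ((n : MulAut E) 1) = 0 by rw [map_one]; rfl
  smul_add n a b := show Additive.ofMul ((n : MulAut E) (a.toMul * b.toMul)) = _ by rw [map_mul]; rfl

theorem addAction_faithful {E : Type*} [CommGroup E] (N : Subgroup (MulAut E)) :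
    letI := addAction N
    FaithfulSMul N (Additive E) := by
  letI := addAction N
  exact ⟨fun {m n} h => Subtype.ext (MulEquiv.ext fun e => h (Additive.ofMul e))⟩

/-- An automorphism of a finite field of characteristic two has order dividing the degree. -/
theorem ringAut_pow_eq_one {K : Type*} [Field K] [Finite K] {r : ℕ} (hK : Nat.card K = 2 ^ r)
    (σ : K ≃+* K) : σ ^ r = 1 := by
  haveI : Fact (Nat.Prime 2) := ⟨Nat.prime_two⟩
  haveI : Fintype K := Fintype.ofFinite K
  haveI : CharP K 2 := charP_of_card_eq_prime_pow (f := r) (by rw [Nat.card_eq_fintype_card.symm.trans hK])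
  letI := ZMod.algebra K 2
  let g : (K ≃+* K) →* (K ≃ₐ[ZMod 2] K) :=
    { toFun := fun x => AlgEquiv.ofRingEquiv (f := x) fun c => by
        exact RingHom.congr_fun (RingHom.ext_zmod
          ((x : K →+* K).comp (algebraMap (ZMod 2) K)) (algebraMap (ZMod 2) K)) c
      map_one' := AlgEquiv.ext fun y => rfl
      map_mul' := fun x y => AlgEquiv.ext fun z => rfl }
  have hg : Function.Injective g := fun x y h => RingEquiv.ext fun z => DFunLike.congr_fun h z
  have hr : Nat.card (K ≃ₐ[ZMod 2] K) = r := by
    rw [IsGalois.card_aut_eq_finrank]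
    have := (Module.natCard_eq_pow_finrank (K := ZMod 2) (V := K)).symm.trans hK
    rw [Nat.card_zmod] at this
    exact Nat.pow_right_injective le_rfl this
  apply hg
  rw [map_pow, map_one, ← hr, pow_card_eq_one']

namespace IsLine

variable {E : Type u} [CommGroup E] [Finite E] [Nontrivial E] {C : Subgroup (MulAut E)}

theorem self_centralizing (hC : IsLine C) : Subgroup.centralizer (C : Set (MulAut E)) ≤ C := by
  intro z hz
  obtain ⟨v, hv⟩ := exists_ne (1 : E)
  obtain ⟨c, ⟨hc, hcv⟩, -⟩ := hC.regular v (z v) hv (by simpa using hv)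
  have : z = c := by
    refine MulEquiv.ext fun e => ?_
    rcases eq_or_ne e 1 with rfl | he
    · rw [map_one, map_one]
    obtain ⟨d, ⟨hd, rfl⟩, -⟩ := hC.regular v e hv he
    have h1 : (d * z) v = (z * d) v := by rw [Subgroup.mem_centralizer_iff.1 hz d hd]
    have h2 : (c * d) v = (d * c) v := by rw [hC.comm c hc d hd]
    rw [MulAut.mul_apply, MulAut.mul_apply] at h1 h2
    rw [← h1, h2, hcv]
  exact this ▸ hc

theorem eq_one_of_fixed (hC : IsLine C) {c : MulAut E} (hc : c ∈ C) {a : E} (ha : a ≠ 1) (hca : c a = a) :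
    c = 1 :=
  (hC.regular a a ha ha).unique ⟨hc, hca⟩ ⟨one_mem _, rfl⟩

theorem card (hC : IsLine C) : Nat.card C + 1 = Nat.card E := by
  classical
  obtain ⟨v, hv⟩ := exists_ne (1 : E)
  rw [Nat.card_congr (Equiv.ofBijective
    (fun c : C => (⟨(c : MulAut E) v, by simpa using hv⟩ : {e : E // e ≠ 1})) ⟨fun c d h => ?_, fun e => ?_⟩),
    ← Finite.card_option, Nat.card_congr (Equiv.optionSubtypeNe (1 : E))]
  · exact Subtype.ext ((hC.regular v ((c : MulAut E) v) hv (by simpa using hv)).unique ⟨c.2, rfl⟩
      ⟨d.2, (congrArg Subtype.val h).symm⟩)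
  · obtain ⟨c, ⟨hc, hcv⟩, -⟩ := hC.regular v e.1 hv e.2
    exact ⟨⟨c, hc⟩, Subtype.ext hcv⟩

theorem mem_normalizer_self (hC : IsLine C) {c : MulAut E} (hc : c ∈ C) :
    c ∈ Subgroup.normalizer (C : Set (MulAut E)) := Subgroup.le_normalizer hc

/-- The semilinear model: the normaliser maps to the automorphisms of the field, with kernel `C`. -/
theorem exists_field_model (hC : IsLine C) {r : ℕ} (hcard : Nat.card E = 2 ^ r) :
    ∃ (K : Type u) (_ : Field K) (_ : Finite K) (emb : C →* K)
      (f : Subgroup.normalizer (C : Set (MulAut E)) →* (K ≃+* K)),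
      Nat.card K = 2 ^ r ∧ Function.Injective emb ∧
      (∀ (n : Subgroup.normalizer (C : Set (MulAut E))) (c : C)
        (h : (n : MulAut E) * c * (n : MulAut E)⁻¹ ∈ C), f n (emb c) = emb ⟨_, h⟩) ∧
      ∀ n : Subgroup.normalizer (C : Set (MulAut E)), f n = 1 → (n : MulAut E) ∈ C := by
  classical
  set N := Subgroup.normalizer (C : Set (MulAut E)) with hN
  letI := addAction N
  haveI := addAction_faithful N
  set F : Subgroup N := C.subgroupOf N with hF
  haveI : F.Normal := Subgroup.normal_in_normalizer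
  have hFc : ∀ f ∈ F, ∀ g ∈ F, f * g = g * f := fun f hf g hg =>
    Subtype.ext (hC.comm _ (Subgroup.mem_subgroupOf.1 hf) _ (Subgroup.mem_subgroupOf.1 hg))
  have hmem : ∀ c : C, (⟨c, hC.mem_normalizer_self c.2⟩ : N) ∈ F := fun c => Subgroup.mem_subgroupOf.2 c.2
  have hcent : Subgroup.centralizer (F : Set N) ≤ F := fun n hn => Subgroup.mem_subgroupOf.2
    (hC.self_centralizing (Subgroup.mem_centralizer_iff.2 fun c hc =>
      congrArg Subtype.val (Subgroup.mem_centralizer_iff.1 hn _ (hmem ⟨c, hc⟩))))
  have ht : SignTrans N (Additive E) := fun a b ha hb => by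
    obtain ⟨c, ⟨hc, hcv⟩, -⟩ := hC.regular a.toMul b.toMul ha hb
    exact ⟨⟨c, hC.mem_normalizer_self hc⟩, Or.inl (congrArg Additive.ofMul hcv)⟩
  haveI : Nontrivial (Additive E) := inferInstance
  obtain ⟨v, hv⟩ := exists_ne (0 : Additive E)
  have hev := evaluation_bijective hFc ht hcent hv
  haveI : Finite (AddMonoid.End (Additive E)) :=
    Finite.of_injective (fun f : AddMonoid.End (Additive E) => (f : Additive E → Additive E))
      DFunLike.coe_injective
  let emb : C →* ring F (Additive E) :=
    { toFun := fun c => ⟨op (⟨c, hC.mem_normalizer_self c.2⟩ : N), op_mem (hmem c)⟩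
      map_one' := Subtype.ext (AddMonoidHom.ext fun e => rfl)
      map_mul' := fun c d => Subtype.ext (AddMonoidHom.ext fun e => rfl) }
  refine ⟨ring F (Additive E), (isField hFc ht).toField, inferInstance, emb, conjAut,
    (Nat.card_congr (Equiv.ofBijective _ hev)).trans hcard, ?_, ?_, ?_⟩
  · intro c d h
    refine Subtype.ext (MulEquiv.ext fun e => ?_)
    exact congrArg Additive.toMul (DFunLike.congr_fun (congrArg Subtype.val h) (Additive.ofMul e))
  · intro n c h
    apply Subtype.ext
    show op n * op (⟨c, hC.mem_normalizer_self c.2⟩ : N) * op n⁻¹ = op (⟨_, hC.mem_normalizer_self h⟩ : N)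
    rw [← map_mul, ← map_mul]
    rfl
  · intro n hn
    exact Subgroup.mem_subgroupOf.1 (hcent (mem_centralizer_of_conjHom fun x => RingEquiv.congr_fun hn x))

theorem isCyclic (hC : IsLine C) {r : ℕ} (hcard : Nat.card E = 2 ^ r) : IsCyclic C := by
  obtain ⟨K, _, _, emb, -, -, hinj, -, -⟩ := hC.exists_field_model hcard
  exact isCyclic_of_injective_ringHom emb hinj

/-- The normaliser is semilinear: its `r`-th powers are in the line. -/
theorem pow_mem (hC : IsLine C) {r : ℕ} (hcard : Nat.card E = 2 ^ r) {n : MulAut E}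
    (hn : n ∈ Subgroup.normalizer (C : Set (MulAut E))) : n ^ r ∈ C := by
  obtain ⟨K, _, _, -, f, hK, -, -, hker⟩ := hC.exists_field_model hcard
  exact hker (⟨n, hn⟩ ^ r) (by rw [map_pow]; exact ringAut_pow_eq_one hK _)

theorem mem_of_coprime (hC : IsLine C) {r : ℕ} (hcard : Nat.card E = 2 ^ r) {n : MulAut E}
    (hn : n ∈ Subgroup.normalizer (C : Set (MulAut E))) (hcop : (orderOf n).Coprime r) : n ∈ C := by
  have h := hC.pow_mem hcard hn
  obtain ⟨m, hm⟩ := exists_pow_eq_self_of_coprime hcop.symm
  exact hm ▸ C.pow_mem h m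

/-- The automorphisms of the line induced by its normaliser. -/
theorem exists_hom (hC : IsLine C) {r : ℕ} (hcard : Nat.card E = 2 ^ r) :
    ∃ χ : Subgroup.normalizer (C : Set (MulAut E)) →* (ZMod (Nat.card C))ˣ,
      ∀ n, χ n = 1 → (n : MulAut E) ∈ C := by
  haveI := hC.isCyclic hcard
  let c := Subgroup.normalizerMonoidHom C
  refine ⟨(IsCyclic.mulAutMulEquiv C).toMonoidHom.comp c, fun n hn => ?_⟩
  rw [MonoidHom.comp_apply] at hn
  have h1 : c n = 1 := (IsCyclic.mulAutMulEquiv C).injective (hn.trans (map_one _).symm)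
  refine hC.self_centralizing (Subgroup.mem_centralizer_iff.2 fun a ha => ?_)
  have h2 : (n : MulAut E) * a * (n : MulAut E)⁻¹ = a :=
    congrArg Subtype.val (DFunLike.congr_fun h1 (⟨a, ha⟩ : C))
  exact (mul_inv_eq_iff_eq_mul.1 h2).symm

theorem commutator_mem (hC : IsLine C) {r : ℕ} (hcard : Nat.card E = 2 ^ r) {m n : MulAut E}
    (hm : m ∈ Subgroup.normalizer (C : Set (MulAut E)))
    (hn : n ∈ Subgroup.normalizer (C : Set (MulAut E))) : m * n * m⁻¹ * n⁻¹ ∈ C := by
  obtain ⟨χ, hχ⟩ := hC.exists_hom hcard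
  set a : Subgroup.normalizer (C : Set (MulAut E)) := ⟨m, hm⟩
  set b : Subgroup.normalizer (C : Set (MulAut E)) := ⟨n, hn⟩
  exact hχ (a * b * a⁻¹ * b⁻¹) (by
    rw [map_mul, map_mul, map_mul, map_inv, map_inv, mul_right_comm (χ a), mul_inv_cancel, one_mul,
      mul_inv_cancel])

theorem numeric {r s : ℕ} (hs : s * 2 ≤ r) (hr : 2 ≤ r) (h : 2 ^ r - 1 ≤ r * (2 ^ s - 1)) : False := by
  have hpow : 2 ^ s * 2 ^ s ≤ 2 ^ r := by
    rw [← pow_add]; exact Nat.pow_le_pow_right (by norm_num) (by omega)
  by_cases hsmall : r ≤ 7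
  · have : s ≤ 3 := by omega
    interval_cases r <;> interval_cases s <;> simp_all
  · have h1 : r ^ 2 < 2 ^ r := by
      obtain ⟨k, rfl⟩ := Nat.exists_eq_add_of_le (show 5 ≤ r by omega)
      clear h hpow hs hr hsmall
      induction k with
      | zero => norm_num
      | succ k ih =>
        rw [show 5 + (k + 1) = 5 + k + 1 by ring, pow_succ 2]
        generalize 2 ^ (5 + k) = t at ih ⊢
        nlinarith [Nat.zero_le k]
    obtain ⟨a, ha⟩ : ∃ a, 2 ^ s = a + 1 := ⟨2 ^ s - 1, by have := Nat.one_le_two_pow (n := s); omega⟩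
    obtain ⟨b, hb⟩ : ∃ b, 2 ^ r = b + 1 := ⟨2 ^ r - 1, by have := Nat.one_le_two_pow (n := r); omega⟩
    rw [ha] at hpow h
    rw [hb] at hpow h h1
    simp only [Nat.add_sub_cancel] at h
    by_cases hra : r ≤ a
    · nlinarith
    · nlinarith

set_option synthInstance.maxHeartbeats 100000 in
/-- Only one line in the normaliser of a line. -/
theorem eq_of_le_normalizer (hC : IsLine C) {r : ℕ} (hcard : Nat.card E = 2 ^ r)
    {C' : Subgroup (MulAut E)} (hC' : IsLine C')
    (hle : C' ≤ Subgroup.normalizer (C : Set (MulAut E))) : C' = C := by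
  classical
  refine Subgroup.eq_of_le_of_card_ge ?_ (by have := hC.card; have := hC'.card; omega)
  intro g hg
  obtain ⟨K, _, _, emb, f, hK, hinj, hf, hker⟩ := hC.exists_field_model hcard
  refine hker ⟨g, hle hg⟩ ?_
  by_contra hne
  set σ := f ⟨g, hle hg⟩
  -- the fixed field of a non-trivial automorphism is small but contains `C' ⊓ C`
  let L : Subfield K :=
    { carrier := {x | σ x = x}
      zero_mem' := map_zero σ
      one_mem' := map_one σ
      add_mem' := fun ha hb => show σ (_ + _) = _ by rw [map_add, ha, hb]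
      neg_mem' := fun ha => show σ (-_) = _ by rw [map_neg, ha]
      mul_mem' := fun ha hb => show σ (_ * _) = _ by rw [map_mul, ha, hb]
      inv_mem' := fun _ ha => show σ _⁻¹ = _ by rw [map_inv₀, ha] }
  have hA : Nat.card (C' ⊓ C : Subgroup (MulAut E)) + 1 ≤ Nat.card L := by
    rw [← Finite.card_option]
    let ι : Option (C' ⊓ C : Subgroup (MulAut E)) → L := fun o => match o with
      | none => 0
      | some c => ⟨emb ⟨c, c.2.2⟩, by
          have hc : g * c * g⁻¹ = (c : MulAut E) := by
            rw [hC'.comm g hg _ c.2.1, mul_inv_cancel_right]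
          refine (hf ⟨g, hle hg⟩ ⟨c, c.2.2⟩ (by show g * c * g⁻¹ ∈ C; rw [hc]; exact c.2.2)).trans ?_
          exact congrArg emb (Subtype.ext hc)⟩
    have hne0 : ∀ c : C, emb c ≠ 0 := fun c e => by
      have := congrArg (· * emb c⁻¹) e
      simp only [← map_mul, mul_inv_cancel, map_one, zero_mul] at this
      exact one_ne_zero this
    refine Nat.card_le_card_of_injective ι ?_
    rintro (_ | a) (_ | b) h
    · rfl
    · exact absurd (congrArg Subtype.val h).symm (hne0 _)
    · exact absurd (congrArg Subtype.val h) (hne0 _)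
    · exact congrArg some (Subtype.ext (congrArg (fun z : C => (z : MulAut E)) (hinj (congrArg Subtype.val h))))
  haveI : Module.Finite L K := Module.Finite.of_finite
  have hpow : Nat.card K = Nat.card L ^ Module.finrank L K := Module.natCard_eq_pow_finrank
  have hd : 2 ≤ Module.finrank L K := by
    by_contra! hlt
    have hd1 : Module.finrank L K = 1 := by have := Module.finrank_pos (R := L) (M := K); omega
    rw [hd1, pow_one] at hpow
    refine hne (RingEquiv.ext fun x => ?_)
    exact (((Nat.bijective_iff_injective_and_card _).2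
      ⟨Subtype.val_injective, hpow.symm⟩).2 x).elim fun y hy => hy ▸ y.2
  rw [hK] at hpow
  have hdvd : Nat.card L ∣ 2 ^ r := hpow ▸ dvd_pow_self _ (by omega)
  obtain ⟨s, -, hs⟩ := (Nat.dvd_prime_pow Nat.prime_two).1 hdvd
  rw [hs, ← pow_mul] at hpow
  have hr := Nat.pow_right_injective le_rfl hpow
  -- the index of `C' ⊓ C` in `C'` is at most `r`
  haveI := hC'.isCyclic hcard
  obtain ⟨γ, hγ⟩ := IsCyclic.exists_generator (α := C')
  have hγr : (γ : MulAut E) ^ r ∈ C' ⊓ C :=
    ⟨C'.pow_mem γ.2 r, hC.pow_mem hcard (hle γ.2)⟩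
  have hord : orderOf (γ : MulAut E) = Nat.card C' := by
    rw [Subgroup.orderOf_coe]; exact orderOf_eq_card_of_forall_mem_zpowers hγ
  have h1 : Nat.card C' ≤ r * Nat.card (C' ⊓ C : Subgroup (MulAut E)) := by
    refine Nat.le_of_dvd (Nat.mul_pos ?_ Nat.card_pos) ?_
    · rcases Nat.eq_zero_or_pos r with h0 | h0
      · rw [h0, pow_zero] at hcard
        exact absurd hcard Finite.one_lt_card.ne'
      · exact h0
    · rw [← hord]
      refine orderOf_dvd_of_pow_eq_one ?_
      rw [pow_mul]
      exact orderOf_dvd_iff_pow_eq_one.1 (Subgroup.orderOf_dvd_natCard _ hγr)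
  have hr2 : 2 ≤ r := by
    by_contra! h
    interval_cases r
    · exact absurd hcard Finite.one_lt_card.ne'
    · have := hC'.card
      have hb : (⊤ : Subgroup C') = ⊥ := by
        refine Subgroup.eq_bot_of_card_eq _ ?_
        rw [Subgroup.card_top]; omega
      exact hne (by
        have : (⟨g, hg⟩ : C') = 1 := Subgroup.mem_bot.1 (hb ▸ Subgroup.mem_top _)
        have hg1 : g = 1 := congrArg Subtype.val this
        show f ⟨g, hle hg⟩ = 1
        rw [show (⟨g, hle hg⟩ : Subgroup.normalizer (C : Set (MulAut E))) = 1 from Subtype.ext hg1, map_one])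
  refine numeric (r := r) (s := s) (by nlinarith) hr2 ?_
  have h2 := hC'.card
  rw [hcard] at h2
  rw [hs] at hA
  refine le_trans (le_of_eq (by omega)) (h1.trans (Nat.mul_le_mul_left r (by omega)))

end IsLine

/-- A group of odd order transitive on the non-trivial elements lies, with its normaliser, in the
normaliser of a line. -/
theorem exists_isLine {E : Type*} [CommGroup E] [Finite E] [Nontrivial E] (hsq : ∀ e : E, e * e = 1)
    (D : Subgroup (MulAut E)) (hodd : Odd (Nat.card D))
    (htr : ∀ a b : E, a ≠ 1 → b ≠ 1 → ∃ d ∈ D, d a = b) :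
    ∃ C : Subgroup (MulAut E), IsLine C ∧
      Subgroup.normalizer (D : Set (MulAut E)) ≤ Subgroup.normalizer (C : Set (MulAut E)) := by
  classical
  letI := addAction D
  haveI := addAction_faithful D
  haveI : Group.IsSolvable D := OddOrderTheorem.solvable hodd
  have ht : SignTrans D (Additive E) := fun a b ha hb => by
    obtain ⟨d, hd, hda⟩ := htr a.toMul b.toMul ha hb
    exact ⟨⟨d, hd⟩, Or.inl (congrArg Additive.ofMul hda)⟩
  have hE : ∀ e : Additive E, 2 • e = 0 := fun e => by rw [two_nsmul]; exact hsq e.toMul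
  set F := Cfsg.fittingSubgroup D with hFdef
  haveI := fitting_isCyclic hodd Nat.prime_two hE ht
  haveI hFn : F.Normal := Subgroup.sSup_normal _ fun _ h => h.1
  have hFc : ∀ f ∈ F, ∀ g ∈ F, f * g = g * f := fun f hf g hg => by
    letI := IsCyclic.commGroup (α := F)
    exact congrArg Subtype.val (mul_comm (⟨f, hf⟩ : F) ⟨g, hg⟩)
  have hev := fun {v : Additive E} (hv : v ≠ 0) =>
    evaluation_bijective hFc ht (Solvable.centralizer_fitting_le D) hv
  set F' : Subgroup (MulAut E) := F.map D.subtype with hF'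
  set C := Subgroup.centralizer (F' : Set (MulAut E)) with hCdef
  -- the centraliser of `F` commutes with the field
  have hcomm : ∀ z ∈ C, ∀ x ∈ ring F (Additive E), ∀ e : E,
      z ((x : AddMonoid.End (Additive E)) (Additive.ofMul e)).toMul =
        ((x : AddMonoid.End (Additive E)) (Additive.ofMul (z e))).toMul := by
    intro z hz x hx
    induction hx using Subring.closure_induction with
    | mem y hy =>
      obtain ⟨f, hf, rfl⟩ := hy
      intro e
      exact (DFunLike.congr_fun (Subgroup.mem_centralizer_iff.1 hz (f : MulAut E) ⟨f, hf, rfl⟩) e).symm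
    | zero => intro e; exact map_one z
    | one => intro e; rfl
    | add a b _ _ ha hb =>
      intro e
      show z (((a : AddMonoid.End (Additive E)) (Additive.ofMul e)).toMul *
        ((b : AddMonoid.End (Additive E)) (Additive.ofMul e)).toMul) = _
      rw [map_mul, ha, hb]
      rfl
    | neg a _ ha =>
      intro e
      show z (((a : AddMonoid.End (Additive E)) (Additive.ofMul e)).toMul)⁻¹ = _
      rw [map_inv, ha]
      rfl
    | mul a b _ _ ha hb =>
      intro e
      show z (((a : AddMonoid.End (Additive E))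
        ((b : AddMonoid.End (Additive E)) (Additive.ofMul e))).toMul) = _
      exact (ha _).trans (congrArg (fun t => ((a : AddMonoid.End (Additive E))
        (Additive.ofMul t)).toMul) (hb e))
  -- so it is determined by one value
  have huniq : ∀ z ∈ C, ∀ z' ∈ C, ∀ v : E, v ≠ 1 → z v = z' v → z = z' := by
    intro z hz z' hz' v hv h
    refine MulEquiv.ext fun e => ?_
    obtain ⟨⟨x, hx⟩, hxe⟩ := (hev (v := Additive.ofMul v) hv).2 (Additive.ofMul e)
    have hxe' : ((x : AddMonoid.End (Additive E)) (Additive.ofMul v)).toMul = e :=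
      congrArg Additive.toMul hxe
    rw [← hxe', hcomm z hz x hx, hcomm z' hz' x hx, h]
  -- and the units of the field are in it
  have hexists : ∀ a b : E, a ≠ 1 → b ≠ 1 → ∃ c ∈ C, c a = b := by
    intro a b ha hb
    obtain ⟨⟨x, hx⟩, hxab⟩ := (hev (v := Additive.ofMul a) ha).2 (Additive.ofMul b)
    have hinj : Function.Injective x := by
      refine (injective_iff_map_eq_zero x).2 fun w hw => ?_
      by_contra hw0
      have hx0 := eq_zero_of_apply hFc ht hx hw0 hw
      subst hx0
      exact hb (congrArg Additive.toMul hxab).symm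
    let eA : E ≃* E := MulEquiv.ofBijective
      ({ toFun := fun e => (x (Additive.ofMul e)).toMul
         map_one' := congrArg Additive.toMul (map_zero x)
         map_mul' := fun p q => congrArg Additive.toMul (map_add x (Additive.ofMul p) (Additive.ofMul q)) } :
        E →* E)
      ⟨fun p q h => hinj h, Finite.injective_iff_surjective.1 (fun p q h => hinj h)⟩
    refine ⟨eA, Subgroup.mem_centralizer_iff.2 ?_, congrArg Additive.toMul hxab⟩
    rintro _ ⟨f, hf, rfl⟩
    refine MulEquiv.ext fun e => ?_
    have h1 := DFunLike.congr_fun (ring_commute hFc (op_mem (E := Additive E) hf) hx).eq (Additive.ofMul e)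
    exact congrArg Additive.toMul h1
  have hline : IsLine C := by
    refine ⟨fun a ha b hb => ?_, fun a b ha hb => ?_⟩
    · obtain ⟨v, hv⟩ := exists_ne (1 : E)
      refine huniq _ (mul_mem ha hb) _ (mul_mem hb ha) v hv ?_
      obtain ⟨⟨x, hx⟩, hxv⟩ := (hev (v := Additive.ofMul v) hv).2 (Additive.ofMul (b v))
      have hxv' : (x (Additive.ofMul v)).toMul = b v := congrArg Additive.toMul hxv
      rw [MulAut.mul_apply, MulAut.mul_apply, ← hxv', hcomm a ha x hx v]
      -- both are `x (a v)`
      obtain ⟨⟨y, hy⟩, hyv⟩ := (hev (v := Additive.ofMul v) hv).2 (Additive.ofMul (a v))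
      have hyv' : (y (Additive.ofMul v)).toMul = a v := congrArg Additive.toMul hyv
      rw [← hyv', hcomm b hb y hy v, ← hxv']
      exact congrArg Additive.toMul (DFunLike.congr_fun (ring_commute hFc hx hy).eq (Additive.ofMul v))
    · obtain ⟨c, hc, hca⟩ := hexists a b ha hb
      exact ⟨c, ⟨hc, hca⟩, fun d ⟨hd, hda⟩ => huniq d hd c hc a ha (hda.trans hca.symm)⟩
  refine ⟨C, hline, fun n hn => ?_⟩
  -- `F` is characteristic in `D`
  have hFchar : ∀ n ∈ Subgroup.normalizer (D : Set (MulAut E)), ∀ f ∈ F', n * f * n⁻¹ ∈ F' := by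
    rintro n hn _ ⟨f, hf, rfl⟩
    let φ : MulAut D := Subgroup.normalizerMonoidHom D ⟨n, hn⟩
    have : φ f ∈ F := by
      have hmap : F.map φ.toMonoidHom = F := Cores.fittingSubgroup_map_mulEquiv φ
      exact hmap ▸ Subgroup.mem_map_of_mem φ.toMonoidHom hf
    exact ⟨φ f, this, rfl⟩
  have key : ∀ n ∈ Subgroup.normalizer (D : Set (MulAut E)), ∀ z ∈ C, n * z * n⁻¹ ∈ C := by
    intro n hn z hz
    refine Subgroup.mem_centralizer_iff.2 fun f hf => ?_
    have h1 := hFchar n⁻¹ (inv_mem hn) f hf
    rw [inv_inv] at h1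
    have h2 := Subgroup.mem_centralizer_iff.1 hz _ h1
    calc f * (n * z * n⁻¹) = n * (n⁻¹ * f * n * z) * n⁻¹ := by group
      _ = n * z * n⁻¹ * f := by rw [h2]; group
  refine Subgroup.mem_normalizer_iff.2 fun z => ⟨key n hn z, fun h => ?_⟩
  have := key n⁻¹ (inv_mem hn) _ h
  simpa [mul_assoc] using this

end Cfsg.Agent.Aschbacher
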