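/-
Two-point stabilisers in the finish of the core-free criterion (P2 and GL of CRITERION.md §0; owner:
helper43).

`h : FinishHyp G Ω D pt`, `ι` : the number of members at a point.

Main results (namespace `Cfsg.Agent.Aschbacher.FinishHyp`):
* `exists_pairSetup` : for a prime `p ∣ ι` a `p`-subgroup of largest order fixing two points is free
* `sylow_twoPt_fix`, `sylow_twoPt_max` : a Sylow `p`-subgroup of `G_xy` fixes exactly `x, y` and is
  Sylow in `G_x`
* `card_modEq_two` : the number of points is two mod `p`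
* `autE` : the action of `G_x` on `E_x`
* `exists_line` : on `E_x` the stabiliser `G_xy` normalises a line
* `commute_of_fix_member`, `exists_hom_of_moving` : consequences
-/
import Cfsg.Agent.Lib.Aschbacher.CriterionCtx
import Cfsg.Agent.Lib.Aschbacher.PairFull
import Cfsg.Agent.Lib.Aschbacher.PairLine

set_option autoImplicit false
set_option linter.style.haveILetI false
set_option linter.unusedSectionVars false

namespace Cfsg.Agent.Aschbacher.FinishHyp

open Cfsg Involution Bender MulAction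

universe u

variable {G : Type u} {Ω : Type u} [Group G] [MulAction G Ω] [Finite G] [Finite Ω]
  [FaithfulSMul G Ω] {D : Set G} {pt : G → Ω} (h : FinishHyp G Ω D pt)
include h

/-- A prime dividing the number of members at a point is odd. -/
theorem prime_ne_two {p : ℕ} {z : Ω} (hp : p ∣ Nat.card {f : G // f ∈ D ∧ pt f = z}) : p ≠ 2 := by
  rintro rfl
  exact Nat.not_even_iff_odd.2 (h.pc.odd_card z) (even_iff_two_dvd.2 hp)

/-- **P2.** A `p`-subgroup of largest order fixing two points is free. -/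
theorem exists_pairSetup {p : ℕ} [Fact p.Prime] {x y : Ω} (hxy : x ≠ y) {z : Ω}
    (hp : p ∣ Nat.card {f : G // f ∈ D ∧ pt f = z}) :
    ∃ (X₀ : Subgroup G) (a b : Ω), PairSetup D pt p X₀ a b := by
  have hp2 := h.prime_ne_two hp
  obtain ⟨⟨a, b⟩, hab, hmax⟩ := Set.Finite.exists_maximalFor
    (fun q : Ω × Ω => pPart p (Nat.card (twoPt G q.1 q.2))) {q | q.1 ≠ q.2}
    (Set.toFinite _) ⟨(x, y), hxy⟩
  obtain ⟨X, hXp, hXab, hXcard⟩ := exists_pPart (p := p) (twoPt G a b)
  obtain ⟨u, hu, huX, hua⟩ := h.pc.exists_swap_normalizing_twoPt hab hp2 hXab hXcard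
  obtain ⟨g, hg, hg1, hginv⟩ := h.pc.exists_inverted_twoPt hab hp2 hXab hXcard
    (by rwa [card_point_eq h.pc b z]) hu hua huX
  refine ⟨X, a, b, h.pc, hXp, hab, hXab.trans inf_le_left, hXab.trans inf_le_right,
    ⟨u, hu, huX, fun hfix => hg1 ?_⟩, fun Q hQ q r hqr hq hr => ?_, hp2⟩
  · have hodd := odd_card_of_isPGroup hp2 hXp
    have hc := mem_centralizer.1 (h.pc.centralizes_of_fixing h.comm hu hodd huX hfix hg)
    have h2 : g ^ 2 = 1 := by
      rw [hc.symm.eq, mul_inv_cancel_right] at hginv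
      rw [pow_two]
      nth_rw 1 [hginv]
      exact inv_mul_cancel g
    exact orderOf_eq_one_iff.1 (Nat.eq_one_of_dvd_coprimes (Nat.coprime_two_right.2
      (hodd.of_dvd_nat (Subgroup.orderOf_dvd_natCard X hg))) dvd_rfl (orderOf_dvd_of_pow_eq_one h2))
  · refine (Coprime.card_le_of_isPGroup hQ (le_inf hq hr)).trans ?_
    rw [hXcard]
    rcases le_total (pPart p (Nat.card (twoPt G q r))) (pPart p (Nat.card (twoPt G a b))) with h' | h'
    · exact h'
    · exact hmax (j := (q, r)) hqr h'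

/-- A Sylow subgroup of a two-point stabiliser fixes no other point. -/
theorem sylow_twoPt_fix {p : ℕ} [Fact p.Prime] {z : Ω}
    (hp : p ∣ Nat.card {f : G // f ∈ D ∧ pt f = z}) {x y : Ω} (hxy : x ≠ y) {Q : Subgroup G}
    (hQ : IsPGroup p Q) (hQxy : Q ≤ twoPt G x y)
    (hcard : Nat.card Q = pPart p (Nat.card (twoPt G x y))) {w : Ω}
    (hw : Q ≤ stabilizer G w) : w = x ∨ w = y := by
  obtain ⟨X₀, a, b, S⟩ := h.exists_pairSetup hxy hp
  exact S.full_two hQ (hcard.trans (S.full hxy)) (hQxy.trans inf_le_left) (hQxy.trans inf_le_right)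
    hxy hw

/-- A Sylow subgroup of a two-point stabiliser is a Sylow subgroup of the point stabiliser. -/
theorem sylow_twoPt_max {p : ℕ} [Fact p.Prime] {z : Ω}
    (hp : p ∣ Nat.card {f : G // f ∈ D ∧ pt f = z}) {x y : Ω} (hxy : x ≠ y) {Q : Subgroup G}
    (hcard : Nat.card Q = pPart p (Nat.card (twoPt G x y))) {T : Subgroup G} (hT : IsPGroup p T)
    (hQT : Q ≤ T) (hTx : T ≤ stabilizer G x) : T = Q := by
  obtain ⟨X₀, a, b, S⟩ := h.exists_pairSetup hxy hp
  obtain ⟨g, -, hg⟩ := S.exists_conj_le hT hTx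
  refine (Subgroup.eq_of_le_of_card_ge hQT ?_).symm
  rw [hcard, S.full hxy, ← Coprime.card_conj g T]
  exact Nat.le_of_dvd Nat.card_pos (Subgroup.card_dvd_of_le hg)

/-- The number of points is two mod `p`. -/
theorem card_modEq_two {p : ℕ} [Fact p.Prime] {z : Ω}
    (hp : p ∣ Nat.card {f : G // f ∈ D ∧ pt f = z}) : Nat.card Ω ≡ 2 [MOD p] := by
  obtain ⟨y, hy⟩ := h.exists_ne z
  obtain ⟨X₀, a, b, S⟩ := h.exists_pairSetup hy hp
  have := S.fix_two (Q := ⊥) IsPGroup.of_bot (z := z) bot_le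
  rwa [Nat.card_congr (Equiv.subtypeUnivEquiv fun x => (bot_le : (⊥ : Subgroup G) ≤ stabilizer G x))]
    at this

/-- The action of the stabiliser of `x` on `E_x`. -/
def autE (x : Ω) : stabilizer G x →* MulAut (atPoint D pt x) :=
  (Subgroup.normalizerMonoidHom (atPoint D pt x)).comp
    (Subgroup.inclusion (h.stabilizer_le_normalizer x))

theorem autE_apply {x : Ω} (k : stabilizer G x) (e : atPoint D pt x) :
    ((h.autE x k e : atPoint D pt x) : G) = (k : G) * e * (k : G)⁻¹ := rfl

theorem autE_eq_one {x : Ω} (k : stabilizer G x) :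
    h.autE x k = 1 ↔ (k : G) ∈ Subgroup.centralizer (atPoint D pt x : Set G) := by
  refine ⟨fun e => Subgroup.mem_centralizer_iff.2 fun a ha => ?_, fun hk => MulEquiv.ext fun a => ?_⟩
  · have h1 := congrArg Subtype.val (DFunLike.congr_fun e (⟨a, ha⟩ : atPoint D pt x))
    rw [h.autE_apply] at h1
    exact (mul_inv_eq_iff_eq_mul.1 h1).symm
  · refine Subtype.ext ?_
    rw [h.autE_apply, ← Subgroup.mem_centralizer_iff.1 hk _ a.2, mul_inv_cancel_right]
    rfl

theorem nontrivial_E (x : Ω) : Nontrivial (atPoint D pt x) := by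
  obtain ⟨r, hr, hcard⟩ := h.exists_card_E x
  exact Finite.one_lt_card_iff_nontrivial.1 (hcard ▸ Nat.one_lt_two_pow (by omega))

/-- **GL.** On the members at `x` the stabiliser of `x, y` normalises a line. -/
theorem exists_line {x y : Ω} (hxy : x ≠ y) :
    ∃ C : Subgroup (MulAut (atPoint D pt x)), IsLine C ∧
      ∀ k : stabilizer G x, (k : G) • y = y → h.autE x k ∈ Subgroup.normalizer (C : Set _) := by
  classical
  letI : CommGroup (atPoint D pt x) :=
    { (inferInstance : Group (atPoint D pt x)) with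
      mul_comm := fun a b => Subtype.ext (h.commute_E a.2 b.2).eq }
  haveI := h.nontrivial_E x
  set M := core 2 (twoPt G x y) with hM
  set M' : Subgroup (stabilizer G x) := M.subgroupOf (stabilizer G x) with hM'
  have hMx : M ≤ stabilizer G x := (core_le 2 _).trans inf_le_left
  have hodd : Odd (Nat.card (M'.map (h.autE x))) := by
    refine Odd.of_dvd_nat ?_ (Subgroup.card_map_dvd M' (h.autE x))
    rw [Nat.card_congr (Subgroup.subgroupOfEquivOfLe hMx).toEquiv]
    exact odd_card_core_two _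
  have hmem : ∀ e : atPoint D pt x, e ≠ 1 → (e : G) ∈ D ∧ pt (e : G) = x := fun e he =>
    (h.mem_E.1 e.2).resolve_left fun e' => he (Subtype.ext e')
  obtain ⟨C, hC, hN⟩ := exists_isLine (fun e => Subtype.ext (h.sq_E e.2)) (M'.map (h.autE x)) hodd
    (fun a b ha hb => by
      obtain ⟨haD, hax⟩ := hmem a ha
      obtain ⟨hbD, hbx⟩ := hmem b hb
      obtain ⟨k, hk, hkb⟩ := h.pc.exists_core_conj_point hxy haD hax hbD hbx
      exact ⟨_, Subgroup.mem_map_of_mem _ (show (⟨k, hMx hk⟩ : stabilizer G x) ∈ M' from hk),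
        Subtype.ext hkb⟩)
  refine ⟨C, hC, fun k hk => hN ?_⟩
  have hkx : (k : G) • x = x := k.2
  have key : ∀ k : stabilizer G x, (k : G) • x = x → (k : G) • y = y →
      ∀ z ∈ M'.map (h.autE x), h.autE x k * z * (h.autE x k)⁻¹ ∈ M'.map (h.autE x) := by
    rintro k hkx hky _ ⟨m, hm, rfl⟩
    rw [← map_inv, ← map_mul, ← map_mul]
    refine Subgroup.mem_map_of_mem _ (Subgroup.mem_subgroupOf.2 ?_)
    have := conj_mem_core_twoPt (g := (k : G)) (Subgroup.mem_subgroupOf.1 hm)
    rwa [hkx, hky] at this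
  refine Subgroup.mem_normalizer_iff.2 fun z => ⟨key k hkx hk z, fun hz => ?_⟩
  have := key k⁻¹ (stabilizer G x |>.inv_mem k.2) (inv_smul_eq_iff.2 hk.symm) _ hz
  rw [map_inv] at this
  simpa [mul_assoc] using this

/-- An element of `G_xy` of order prime to `r` centralising one member at `x` centralises all. -/
theorem commute_of_fix_member {x y : Ω} (hxy : x ≠ y) {r : ℕ}
    (hr : Nat.card (atPoint D pt x) = 2 ^ r) {k : G} (hkx : k • x = x) (hky : k • y = y)
    (hcop : (orderOf k).Coprime r) {d : G} (hd : d ∈ D) (hdx : pt d = x) (hkd : Commute k d) :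
    k ∈ Subgroup.centralizer (atPoint D pt x : Set G) := by
  obtain ⟨C, hC, hN⟩ := h.exists_line hxy
  letI : CommGroup (atPoint D pt x) :=
    { (inferInstance : Group (atPoint D pt x)) with
      mul_comm := fun a b => Subtype.ext (h.commute_E a.2 b.2).eq }
  haveI := h.nontrivial_E x
  let k' : stabilizer G x := ⟨k, hkx⟩
  have h1 : h.autE x k' ∈ C := hC.mem_of_coprime hr (hN k' hky)
    (hcop.coprime_dvd_left ((orderOf_map_dvd (h.autE x) k').trans (Subgroup.orderOf_mk _ _).dvd))
  refine (h.autE_eq_one k').1 (hC.eq_one_of_fixed h1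
    (a := ⟨d, h.mem_E.2 (Or.inr ⟨hd, hdx⟩)⟩) (fun e => ne_one (h.pc.inv d hd) (congrArg Subtype.val e))
    (Subtype.ext ?_))
  rw [h.autE_apply]
  exact mul_inv_eq_iff_eq_mul.2 hkd.eq

/-- An involution of `G_xy` not centralising `E_x` is seen by an abelian quotient of `G_xy`. -/
theorem exists_hom_of_moving {x y : Ω} (hxy : x ≠ y) {u : G} (hu : orderOf u = 2) (hux : u • x = x)
    (huy : u • y = y) (humove : u ∉ Subgroup.centralizer (atPoint D pt x : Set G)) :
    ∃ (n : ℕ) (χ : twoPt G x y →* (ZMod n)ˣ), χ ⟨u, hux, huy⟩ ≠ 1 := by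
  obtain ⟨C, hC, hN⟩ := h.exists_line hxy
  letI : CommGroup (atPoint D pt x) :=
    { (inferInstance : Group (atPoint D pt x)) with
      mul_comm := fun a b => Subtype.ext (h.commute_E a.2 b.2).eq }
  haveI := h.nontrivial_E x
  obtain ⟨r, hr2, hr⟩ := h.exists_card_E x
  obtain ⟨χ, hχ⟩ := hC.exists_hom hr
  let ψ : twoPt G x y →* Subgroup.normalizer (C : Set (MulAut (atPoint D pt x))) :=
    ((h.autE x).comp (Subgroup.inclusion inf_le_left)).codRestrict _ fun k =>
      hN ⟨k, k.2.1⟩ (mem_stabilizer_iff.1 k.2.2)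
  refine ⟨Nat.card C, χ.comp ψ, fun he => humove ((h.autE_eq_one ⟨u, hux⟩).1 ?_)⟩
  have h1 : h.autE x ⟨u, hux⟩ ∈ C := hχ _ he
  refine orderOf_eq_one_iff.1 (Nat.eq_one_of_dvd_coprimes (a := 2) (b := Nat.card C) ?_ ?_
    (Subgroup.orderOf_dvd_natCard C h1))
  · have := hC.card
    rw [hr, show r = (r - 1) + 1 by omega, pow_succ] at this
    refine Nat.coprime_two_left.2 ⟨2 ^ (r - 1) - 1, ?_⟩
    omega
  · exact (orderOf_map_dvd (h.autE x) ⟨u, hux⟩).trans ((Subgroup.orderOf_mk _ _).trans hu).dvd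

end Cfsg.Agent.Aschbacher.FinishHyp
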