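/-
Elements of prime power order that act on `E_a` as the torus fix exactly two points (lemma G of
CRITERION.md §5.1; owner: helper43).

`C : ChordHyp G Ω D pt`, `hF` : no involution fixes `q ^ 3 + 1` points (so the chord is its fixed set).

* `false_of_fix_pair` : a group of odd order has no element of odd prime order fixing exactly two
  points of an orbit
* `ChordHyp.torus_line` : the torus of a pair acts as the line normalised by the pair stabiliser
* `ChordHyp.exists_torus_prime` : its element of order `p`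
* `ChordHyp.commute_torus_prime` : commuting with the elements of `p`-power order of the pair
* `ChordHyp.fix_eq_of_line` : **lemma G**
-/
import Cfsg.Agent.Lib.Aschbacher.CriterionTorus
import Cfsg.Agent.Lib.Aschbacher.CriterionPair

set_option autoImplicit false
set_option linter.style.haveILetI false
set_option linter.unusedSectionVars false

namespace Cfsg.Agent.Aschbacher

open Cfsg Involution MulAction

universe u

/-- A group of odd order has no element of odd prime order fixing exactly two points of an orbit. -/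
theorem false_of_fix_pair {K α : Type*} [Group K] [Finite K] [MulAction K α] [Finite α]
    (hodd : Odd (Nat.card K)) {p : ℕ} [hp : Fact p.Prime] {j : K} (hj : orderOf j = p)
    {x y : α} (hxy : x ≠ y) (hjx : j • x = x) (hjy : j • y = y) (hy : y ∈ orbit K x)
    (hfix : ∀ z ∈ orbit K x, j • z = z → z = x ∨ z = y) : False := by
  classical
  obtain ⟨h, rfl⟩ := hy
  simp only at hjy hfix hxy
  set Kx := stabilizer K x with hKx
  set w := h⁻¹ • x with hw
  have hno : h • x ∉ orbit Kx w := by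
    rintro ⟨⟨k, hk⟩, e⟩
    have e' : (k * h⁻¹) • x = h • x := by rw [mul_smul]; exact e
    set s := k * h⁻¹ with hs
    have hs2 : s • s • x = x := by
      rw [e', hs, mul_smul, inv_smul_smul, mem_stabilizer_iff.1 hk]
    have heven : ∀ n : ℕ, s ^ (2 * n) • x = x := by
      intro n
      induction n with
      | zero => rw [mul_zero, pow_zero, one_smul]
      | succ n ih => rw [show 2 * (n + 1) = 2 + 2 * n by ring, pow_add, mul_smul, ih, sq, mul_smul, hs2]
    obtain ⟨n, hn⟩ := hodd.of_dvd_nat (orderOf_dvd_natCard s)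
    have h1 : s ^ orderOf s • x = h • x := by rw [hn, pow_succ', mul_smul, heven, e']
    rw [pow_orderOf_eq_one, one_smul] at h1
    exact hxy h1
  -- the two suborbits have the same length
  have hlen : Nat.card (orbit Kx (h • x)) = Nat.card (orbit Kx w) := by
    have hc : ∀ z : α, Nat.card (orbit Kx z) * Nat.card {k : K // k • x = x ∧ k • z = z} = Nat.card Kx := by
      intro z
      have h1 : Nat.card {k : K // k • x = x ∧ k • z = z} = Nat.card (stabilizer Kx z) := Nat.card_congr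
        { toFun := fun k => ⟨⟨k.1, k.2.1⟩, k.2.2⟩
          invFun := fun k => ⟨k.1.1, k.1.2, k.2⟩
          left_inv := fun _ => rfl
          right_inv := fun _ => rfl }
      rw [h1, ← Nat.card_prod]
      exact Nat.card_congr (orbitProdStabilizerEquivGroup Kx z)
    have h2 : Nat.card {k : K // k • x = x ∧ k • w = w} =
        Nat.card {k : K // k • x = x ∧ k • (h • x) = h • x} := by
      refine Nat.card_congr (Equiv.subtypeEquiv (MulAut.conj h).toEquiv fun k => ?_)
      show _ ↔ (h * k * h⁻¹) • x = x ∧ (h * k * h⁻¹) • h • x = h • x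
      simp only [mul_smul, inv_smul_smul, smul_left_cancel_iff, hw]
      constructor
      · rintro ⟨h3, h4⟩
        exact ⟨by rw [h4, smul_inv_smul], h3⟩
      · rintro ⟨h3, h4⟩
        exact ⟨h4, eq_inv_smul_iff.2 h3⟩
    exact Nat.eq_of_mul_eq_mul_right (Nat.card_pos_iff.2 ⟨⟨⟨1, one_smul _ _, one_smul _ _⟩⟩, inferInstance⟩)
      ((hc _).trans ((hc w).symm.trans (by rw [h2])))
  set P : Subgroup Kx := Subgroup.zpowers ⟨j, hjx⟩ with hPdef
  have hP : IsPGroup p P := IsPGroup.of_card (n := 1) (by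
    rw [Nat.card_zpowers, pow_one]; exact (Subgroup.orderOf_mk _ _).trans hj)
  have hjP : (⟨⟨j, hjx⟩, Subgroup.mem_zpowers _⟩ : P) ∈ (⊤ : Subgroup P) := trivial
  have hsub : ∀ {z : α}, z ∈ orbit K x → ∀ v : α, v ∈ orbit Kx z → v ∈ orbit K x := by
    rintro z ⟨g, rfl⟩ _ ⟨k, rfl⟩
    exact ⟨(k : K) * g, mul_smul _ _ _⟩
  have hfix' : ∀ {z : α} (v : orbit Kx z), v ∈ fixedPoints P (orbit Kx z) → j • v.1 = v.1 := fun v hv =>
    congrArg Subtype.val (hv ⟨⟨j, hjx⟩, Subgroup.mem_zpowers _⟩)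
  have h1 : Nat.card (fixedPoints P (orbit Kx (h • x))) = 1 := by
    rw [Nat.card_eq_one_iff_unique]
    refine ⟨⟨fun v v' => ?_⟩, ⟨⟨⟨h • x, mem_orbit_self _⟩, ?_⟩⟩⟩
    · have key : ∀ v : fixedPoints P (orbit Kx (h • x)), v.1.1 = h • x := fun v => by
        refine (hfix v.1.1 (hsub ⟨h, rfl⟩ _ v.1.2) (hfix' v.1 v.2)).resolve_left fun e => hxy ?_
        obtain ⟨k, hk⟩ := v.1.2
        rw [e] at hk
        exact (smul_left_cancel (k : K)
          ((show (k : K) • h • x = x from hk).trans (show (k : K) • x = x from k.2).symm)).symm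
      exact Subtype.ext (Subtype.ext ((key v).trans (key v').symm))
    · rintro ⟨k, hk⟩
      obtain ⟨i, rfl⟩ := Subgroup.mem_zpowers_iff.1 hk
      refine Subtype.ext ?_
      show ((⟨j, hjx⟩ : Kx) ^ i : Kx) • (h • x) = h • x
      exact mem_stabilizer_iff.1 ((stabilizer Kx (h • x)).zpow_mem
        (show (⟨j, hjx⟩ : Kx) ∈ stabilizer Kx (h • x) from hjy) i)
  have h2 : Nat.card (fixedPoints P (orbit Kx w)) = 0 := by
    haveI : IsEmpty (fixedPoints P (orbit Kx w)) := ⟨fun v => by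
      rcases hfix v.1.1 (hsub ⟨h⁻¹, rfl⟩ _ v.1.2) (hfix' v.1 v.2) with e | e
      · obtain ⟨k, hk⟩ := v.1.2
        rw [e] at hk
        have h5 : (k : K) • w = (k : K) • x := (show (k : K) • w = x from hk).trans
          (show (k : K) • x = x from k.2).symm
        exact hxy (inv_smul_eq_iff.1 (smul_left_cancel (k : K) h5))
      · exact hno (e ▸ v.1.2)⟩
    exact Nat.card_of_isEmpty
  have hm1 := hP.card_modEq_card_fixedPoints (orbit Kx (h • x))
  have hm2 := hP.card_modEq_card_fixedPoints (orbit Kx w)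
  rw [h1, hlen] at hm1
  rw [h2] at hm2
  exact hp.out.one_lt.ne' (Nat.dvd_one.1 ((Nat.modEq_zero_iff_dvd).1 (hm1.symm.trans hm2)))

theorem IsLine.of_comm_transitive {E : Type*} [Group E] {C : Subgroup (MulAut E)}
    (hc : ∀ a ∈ C, ∀ b ∈ C, a * b = b * a)
    (ht : ∀ a b : E, a ≠ 1 → b ≠ 1 → ∃ c ∈ C, c a = b) : IsLine C := by
  refine ⟨hc, fun a b ha hb => ?_⟩
  obtain ⟨c, hcC, hca⟩ := ht a b ha hb
  refine ⟨c, ⟨hcC, hca⟩, fun d ⟨hd, hda⟩ => MulEquiv.ext fun e => ?_⟩
  rcases eq_or_ne e 1 with rfl | he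
  · rw [map_one, map_one]
  obtain ⟨k, hk, rfl⟩ := ht a e ha he
  have h1 : d (k a) = k (d a) := DFunLike.congr_fun (hc d hd k hk) a
  have h2 : c (k a) = k (c a) := DFunLike.congr_fun (hc c hcC k hk) a
  rw [h1, h2, hda, hca]

variable {G : Type u} {Ω : Type u} [Group G] [MulAction G Ω] [Finite G] [Finite Ω]
  [FaithfulSMul G Ω] {D : Set G} {pt : G → Ω}

namespace ChordHyp

variable (C : ChordHyp G Ω D pt)
include C

theorem mem_centPair_of_autE {a b : Ω} {k : G} (hka : k • a = a) (hkb : k • b = b)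
    (hk : C.fin.autE a ⟨k, hka⟩ = 1) : k ∈ centPair D pt a b :=
  mem_centPair.2 ⟨hka, hkb, fun d hd hda =>
    (Subgroup.mem_centralizer_iff.1 ((C.fin.autE_eq_one ⟨k, hka⟩).1 hk) d
      (C.fin.mem_E.2 (Or.inr ⟨hd, hda⟩))).symm⟩

theorem autE_eq_one_of_centPair {a b : Ω} {k : G} (hk : k ∈ centPair D pt a b) :
    C.fin.autE a ⟨k, (mem_centPair.1 hk).1⟩ = 1 := by
  refine (C.fin.autE_eq_one _).2 (Subgroup.mem_centralizer_iff.2 fun e he => ?_)
  rcases C.fin.mem_E.1 he with rfl | ⟨heD, hea⟩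
  · simp
  · exact ((mem_centPair.1 hk).2.2 e heD hea).symm.eq

/-- The torus of a pair acts on `E_a` as a line, the one normalised by the stabiliser of the pair. -/
theorem torus_line {a b : Ω} (hab : a ≠ b) {j : G} (hja : j • a = a) (hjb : j • b = b)
    (htr : ∀ d ∈ D, pt d = a → ∀ e ∈ D, pt e = a → ∃ m : ℕ, j ^ m * d * (j ^ m)⁻¹ = e)
    {L : Subgroup (MulAut (atPoint D pt a))} (hL : IsLine L)
    (hN : ∀ k : stabilizer G a, (k : G) • b = b → C.fin.autE a k ∈ Subgroup.normalizer (L : Set _)) :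
    L = Subgroup.zpowers (C.fin.autE a ⟨j, hja⟩) := by
  letI : CommGroup (atPoint D pt a) :=
    { (inferInstance : Group (atPoint D pt a)) with
      mul_comm := fun s t => Subtype.ext (C.fin.commute_E s.2 t.2).eq }
  haveI := C.fin.nontrivial_E a
  obtain ⟨r, -, hr⟩ := C.fin.exists_card_E a
  refine (hL.eq_of_le_normalizer hr (C' := Subgroup.zpowers (C.fin.autE a ⟨j, hja⟩))
    (IsLine.of_comm_transitive (fun s hs t ht => ?_) fun s t hs ht => ?_)
    (Subgroup.zpowers_le.2 (hN _ hjb))).symm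
  · obtain ⟨i, rfl⟩ := Subgroup.mem_zpowers_iff.1 hs
    obtain ⟨k, rfl⟩ := Subgroup.mem_zpowers_iff.1 ht
    exact (Commute.zpow_zpow_self _ i k).eq
  · obtain ⟨hsD, hsa⟩ := (C.fin.mem_E.1 s.2).resolve_left fun e => hs (Subtype.ext e)
    obtain ⟨htD, hta⟩ := (C.fin.mem_E.1 t.2).resolve_left fun e => ht (Subtype.ext e)
    obtain ⟨m, hm⟩ := htr _ hsD hsa _ htD hta
    refine ⟨C.fin.autE a ⟨j, hja⟩ ^ m, Subgroup.pow_mem _ (Subgroup.mem_zpowers _) m, Subtype.ext ?_⟩
    rw [← map_pow, C.fin.autE_apply]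
    exact hm

variable (hF : ∀ (a : Ω) (u : G), IsFixInv Ω u →
  Nat.card (FixSet Ω u) ≠ Nat.card (atPoint D pt a) ^ 3 + 1)
include hF

/-- The element of order `p` of the torus of a pair. -/
theorem exists_torus_prime {p : ℕ} [Fact p.Prime] {z a b : Ω} (hab : a ≠ b)
    (hp : p ∣ Nat.card {d : G // d ∈ D ∧ pt d = z}) :
    ∃ t ∈ chord D pt a b, orderOf t = p ∧ t • a = a ∧ t • b = b ∧
      (∀ k : Ω, t • k = k → k = a ∨ k = b) ∧
      ∀ g : G, g • a = a → g • b = b → (∃ m : ℕ, g ^ p ^ m = 1) → Commute g t := by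
  have hpp : p.Prime := Fact.out
  obtain ⟨u, hu, hua, hub⟩ := C.exists_fixInv_at hab
  obtain ⟨j, hj, hja, hjb, hord, htr, -, hfix⟩ := C.exists_torus_regular hu hab hua hub (hF a u hu)
  have hι : Nat.card {d : G // d ∈ D ∧ pt d = z} = orderOf j := by
    rw [hord, C.fin.pc.card_atPoint C.fin.comm hab, Nat.add_sub_cancel,
      Bender.card_point_eq C.fin.pc z a]
  set t := j ^ (orderOf j / p) with ht
  have htord : orderOf t = p := orderOf_pow_orderOf_div (orderOf_pos j).ne' (hι ▸ hp)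
  have hta : t • a = a := mem_stabilizer_iff.1 (pow_mem (mem_stabilizer_iff.2 hja) _)
  have htb : t • b = b := mem_stabilizer_iff.1 (pow_mem (mem_stabilizer_iff.2 hjb) _)
  have htM : t ∈ chord D pt a b := pow_mem hj _
  have ht1 : t ≠ 1 := fun e => hpp.ne_one (by rw [← htord, e, orderOf_one])
  refine ⟨t, htM, htord, hta, htb, fun k hk =>
    hfix t (Subgroup.pow_mem _ (Subgroup.mem_zpowers j) _) ht1 k hk, ?_⟩
  rintro g hga hgb ⟨m, hm⟩
  obtain ⟨L, hL, hN⟩ := C.fin.exists_line hab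
  have hLj := C.torus_line hab hja hjb htr hL hN
  set φ := C.fin.autE a with hφ
  set gg : stabilizer G a := ⟨g, hga⟩
  set τ : stabilizer G a := ⟨t, hta⟩
  have hτ : φ τ = φ ⟨j, hja⟩ ^ (orderOf j / p) := by rw [← map_pow]; rfl
  obtain ⟨e, he⟩ : ∃ e : ℕ, φ gg * φ τ * (φ gg)⁻¹ = φ τ ^ e := by
    have h1 : φ gg * φ ⟨j, hja⟩ * (φ gg)⁻¹ ∈ L :=
      (Subgroup.mem_normalizer_iff.1 (hN gg hgb) _).1 (hLj ▸ Subgroup.mem_zpowers _)
    rw [hLj, ← mem_powers_iff_mem_zpowers] at h1
    obtain ⟨e, he⟩ := h1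
    refine ⟨e, ?_⟩
    rw [hτ, ← conj_pow, ← he, ← pow_mul, ← pow_mul, mul_comm]
  have hiter : ∀ n : ℕ, φ gg ^ n * φ τ * (φ gg ^ n)⁻¹ = φ τ ^ e ^ n := by
    intro n
    induction n with
    | zero => simp
    | succ n ih =>
      rw [pow_succ (φ gg), pow_succ' e, pow_mul, mul_inv_rev,
        show φ gg ^ n * φ gg * φ τ * ((φ gg)⁻¹ * (φ gg ^ n)⁻¹) =
          φ gg ^ n * (φ gg * φ τ * (φ gg)⁻¹) * (φ gg ^ n)⁻¹ by group, he, ← conj_pow, ih,
        ← pow_mul, ← pow_mul, mul_comm]
  have hfe : φ τ ^ e = φ τ := by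
    have hg1 : gg ^ p ^ m = 1 := Subtype.ext (by simpa using hm)
    have h2 := hiter (p ^ m)
    rw [← map_pow, hg1, map_one, one_mul, inv_one, mul_one] at h2
    by_cases h3 : φ τ = 1
    · rw [h3, one_pow]
    have h4 : orderOf (φ τ) = p := orderOf_eq_prime (by
      rw [← map_pow, show τ ^ p = 1 from Subtype.ext (by
        show t ^ p = 1
        rw [← htord, pow_orderOf_eq_one]), map_one]) h3
    have h5 : e ^ p ^ m ≡ 1 [MOD p] := by
      have h6 : φ τ ^ e ^ p ^ m = φ τ ^ 1 := h2.symm.trans (pow_one _).symm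
      rwa [pow_eq_pow_iff_modEq, h4] at h6
    nth_rw 2 [← pow_one (φ τ)]
    rw [pow_eq_pow_iff_modEq, h4]
    rw [← ZMod.natCast_eq_natCast_iff] at h5 ⊢
    rwa [Nat.cast_pow, ZMod.pow_card_pow] at h5
  -- the commutator lies in `R(a,b)` and the chord
  set z₀ := g * t * g⁻¹ * t⁻¹ with hz₀
  have hz₀R : z₀ ∈ centPair D pt a b := by
    have hx : ∀ {x : Ω}, g • x = x → t • x = x → z₀ • x = x := fun {x} h1 h2 => by
      simp only [hz₀, mul_smul, inv_smul_eq_iff.2 h2.symm, inv_smul_eq_iff.2 h1.symm, h2, h1]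
    refine C.mem_centPair_of_autE (hx hga hta) (hx hgb htb) ?_
    show φ (gg * τ * gg⁻¹ * τ⁻¹) = 1
    rw [map_mul, map_mul, map_mul, map_inv, map_inv, he, hfe, mul_inv_cancel]
  have hz₀M : z₀ ∈ chord D pt a b :=
    mul_mem ((Subgroup.mem_normalizer_iff.1 (C.fin.pc.mem_normalizer_chord hga hgb) t).1 htM)
      (inv_mem htM)
  have hzt : Commute t z₀ := C.commute_chord hab hz₀R htM
  have hzp : z₀ ^ p = 1 := by
    have htp : t ^ p = 1 := by rw [← htord, pow_orderOf_eq_one]
    have h1 : (z₀ * t) ^ p = 1 := by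
      rw [hz₀, inv_mul_cancel_right, conj_pow, htp, mul_one, mul_inv_cancel]
    rwa [hzt.symm.mul_pow, htp, mul_one] at h1
  have hz₀1 : z₀ = 1 := C.eq_one_of_centPair_odd hu hab hua hub (hF a u hu) hz₀R
    (C.commute_of_mem_chord hu hua hub hz₀M)
    (((hpp.odd_of_ne_two (C.fin.prime_ne_two hp))).of_dvd_nat (orderOf_dvd_of_pow_eq_one hzp))
  rw [hz₀, mul_inv_eq_one, mul_inv_eq_iff_eq_mul] at hz₀1
  exact hz₀1

/-- An element of the torus' action centralising a member at `a` or `b` is none. -/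
theorem not_commute_of_line {a b : Ω} (hab : a ≠ b) {g : G} (hga : g • a = a) (hgb : g • b = b)
    {L : Subgroup (MulAut (atPoint D pt a))} (hL : IsLine L)
    (hN : ∀ k : stabilizer G a, (k : G) • b = b → C.fin.autE a k ∈ Subgroup.normalizer (L : Set _))
    (hgL : C.fin.autE a ⟨g, hga⟩ ∈ L) (hg1 : C.fin.autE a ⟨g, hga⟩ ≠ 1) {d : G} (hd : d ∈ D)
    (hdpt : pt d = a ∨ pt d = b) : ¬ Commute g d := by
  intro hgd
  rcases hdpt with hda | hdb
  · refine hg1 (hL.regular ⟨d, C.fin.mem_E.2 (Or.inr ⟨hd, hda⟩)⟩ _ (fun e => ?_) (fun e => ?_) |>.unique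
      ⟨hgL, rfl⟩ ⟨one_mem _, ?_⟩)
    · exact ne_one (C.fin.pc.inv d hd) (congrArg Subtype.val e)
    · exact ne_one (C.fin.pc.inv d hd)
        (congrArg Subtype.val ((C.fin.autE a ⟨g, hga⟩).injective (e.trans (map_one _).symm)))
    · refine Subtype.ext ?_
      rw [C.fin.autE_apply]
      exact (mul_inv_eq_iff_eq_mul.2 hgd.eq).symm
  · obtain ⟨u, hu, hua, hub⟩ := C.exists_fixInv_at hab
    obtain ⟨j, -, hja, hjb, -, htr, -, hfix⟩ := C.exists_torus_regular hu hab hua hub (hF a u hu)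
    rw [C.torus_line hab hja hjb htr hL hN, ← mem_powers_iff_mem_zpowers] at hgL
    obtain ⟨k, hk⟩ := hgL
    change C.fin.autE a ⟨j, hja⟩ ^ k = _ at hk
    have hjka : j ^ k • a = a := mem_stabilizer_iff.1 (pow_mem (mem_stabilizer_iff.2 hja) k)
    have hjkb : j ^ k • b = b := mem_stabilizer_iff.1 (pow_mem (mem_stabilizer_iff.2 hjb) k)
    have hρa : ((j ^ k)⁻¹ * g) • a = a := by rw [mul_smul, hga, inv_smul_eq_iff, hjka]
    have hρ : (j ^ k)⁻¹ * g ∈ centPair D pt a b := by
      refine C.mem_centPair_of_autE hρa (by rw [mul_smul, hgb, inv_smul_eq_iff, hjkb]) ?_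
      have he : (⟨(j ^ k)⁻¹ * g, hρa⟩ : stabilizer G a) =
          ((⟨j, hja⟩ : stabilizer G a) ^ k)⁻¹ * ⟨g, hga⟩ := Subtype.ext rfl
      rw [he, map_mul, map_inv, map_pow, hk, inv_mul_cancel]
    have hρd : Commute ((j ^ k)⁻¹ * g) d := (mem_centPair.1 (C.centPair_le hab hρ)).2.2 d hd hdb
    have hjd : Commute (j ^ k) d := by
      have := hgd.mul_left hρd.inv_left
      rwa [mul_inv_rev, inv_inv, mul_inv_cancel_left] at this
    have hne : j ^ k ≠ 1 := fun e => hg1 (by
      rw [← hk, ← map_pow, show (⟨j, hja⟩ : stabilizer G a) ^ k = 1 from Subtype.ext e, map_one])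
    have hfd : j ^ k • (d • a) = d • a := by rw [← mul_smul, hjd.eq, mul_smul, hjka]
    have hdb' : d • b = b := hdb ▸ C.fin.pc.smul_pt hd
    rcases hfix _ (Subgroup.pow_mem _ (Subgroup.mem_zpowers j) k) hne _ hfd with e | e
    · exact hab (((C.fin.pc.fixed_iff d hd a).1 e).trans hdb)
    · exact hab (smul_left_cancel d (e.trans hdb'.symm))

/-- **Lemma G.** An element of prime power order acting on `E_a` as a non-trivial element of the
line of `a, b` fixes no other point. -/
theorem fix_eq_of_line {p : ℕ} [Fact p.Prime] {a b : Ω} (hab : a ≠ b) {g : G} (hga : g • a = a)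
    (hgb : g • b = b) {m : ℕ} (hg : g ^ p ^ m = 1) {L : Subgroup (MulAut (atPoint D pt a))}
    (hL : IsLine L)
    (hN : ∀ k : stabilizer G a, (k : G) • b = b → C.fin.autE a k ∈ Subgroup.normalizer (L : Set _))
    (hgL : C.fin.autE a ⟨g, hga⟩ ∈ L) (hg1 : C.fin.autE a ⟨g, hga⟩ ≠ 1) {z : Ω} (hz : g • z = z) :
    z = a ∨ z = b := by
  classical
  by_contra! hcon
  obtain ⟨hza, hzb⟩ := hcon
  have P := C.fin.pc
  have hpp : p.Prime := Fact.out
  have hg0 : g ≠ 1 := fun e => hg1 (by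
    rw [show (⟨g, hga⟩ : stabilizer G a) = 1 from Subtype.ext e, map_one])
  have hnone : ∀ d ∈ D, pt d = a ∨ pt d = b → ¬ Commute g d := fun d hd hdpt =>
    C.not_commute_of_line hF hab hga hgb hL hN hgL hg1 hd hdpt
  have hdvd : p ∣ Nat.card {d : G // d ∈ D ∧ pt d = a} := by
    letI : CommGroup (atPoint D pt a) :=
      { (inferInstance : Group (atPoint D pt a)) with
        mul_comm := fun s t => Subtype.ext (C.fin.commute_E s.2 t.2).eq }
    haveI := C.fin.nontrivial_E a
    have h1 : C.fin.autE a ⟨g, hga⟩ ^ p ^ m = 1 := by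
      rw [← map_pow, show (⟨g, hga⟩ : stabilizer G a) ^ p ^ m = 1 from Subtype.ext (by simpa using hg),
        map_one]
    obtain ⟨k, -, hk⟩ := (Nat.dvd_prime_pow hpp).1 (orderOf_dvd_of_pow_eq_one h1)
    have h2 := Subgroup.orderOf_dvd_natCard L hgL
    have h3 : Nat.card L + 1 = Nat.card {d : G // d ∈ D ∧ pt d = a} + 1 :=
      hL.card.trans (P.card_atPoint C.fin.comm hab)
    rw [hk, show Nat.card L = Nat.card {d : G // d ∈ D ∧ pt d = a} by omega] at h2
    have hk0 : k ≠ 0 := fun e => hg1 (orderOf_eq_one_iff.1 (by rw [hk, e, pow_zero]))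
    exact (dvd_pow_self p hk0).trans h2
  have hp2 := C.fin.prime_ne_two hdvd
  have hgodd : Odd (orderOf g) := (hpp.odd_of_ne_two hp2).pow.of_dvd_nat (orderOf_dvd_of_pow_eq_one hg)
  set M := centMembers D g with hMdef
  have hM : M ≠ ⊤ := C.fin.ne_top_of_le_centralizer hga hg0 fun k hk => commute_of_mem_centMembers hk
  -- no member centralises `g`
  have hmem : ∀ d ∈ D, ¬ Commute g d := by
    intro d hd hgd
    obtain ⟨t, -, htord, hta, htb, htfix, htc⟩ := C.exists_torus_prime hF hab hdvd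
    have hgt := htc g hga hgb ⟨m, hg⟩
    have hmaps : ∀ x : Ω, (∃ f ∈ D, f ∈ M ∧ pt f = x) ↔ ∃ f ∈ D, f ∈ M ∧ pt f = t • x := by
      have key : ∀ s : G, Commute g s → ∀ x : Ω, (∃ f ∈ D, f ∈ M ∧ pt f = x) →
          ∃ f ∈ D, f ∈ M ∧ pt f = s • x := by
        rintro s hs x ⟨f, hf, hfM, rfl⟩
        exact ⟨s * f * s⁻¹, P.conj_mem s f hf,
          mem_centMembers (P.conj_mem s f hf)
            (((hs.symm.mul_left (commute_of_mem_centMembers hfM)).mul_left hs.symm.inv_left)),
          P.pt_conj s hf⟩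
      refine fun x => ⟨key t hgt x, fun hx => ?_⟩
      have := key t⁻¹ hgt.inv_right _ hx
      rwa [inv_smul_smul] at this
    let σ : Equiv.Perm (PtSet D pt M) := (MulAction.toPerm t).subtypePerm fun x => (hmaps x).symm
    have hσ : σ ^ p ^ 1 = 1 := by
      have h1 : ∀ (n : ℕ) (x : PtSet D pt M), ((σ ^ n) x).1 = t ^ n • x.1 := by
        intro n
        induction n with
        | zero => intro x; simp
        | succ n ih =>
          intro x
          rw [pow_succ', pow_succ', Equiv.Perm.mul_apply, mul_smul, ← ih]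
          rfl
      refine Equiv.ext fun x => Subtype.ext ?_
      rw [h1, pow_one, ← htord, pow_orderOf_eq_one, one_smul]
      rfl
    have hdiv : p ∣ Nat.card (PtSet D pt M) := by
      by_contra hnd
      haveI := Fintype.ofFinite (PtSet D pt M)
      rw [Nat.card_eq_fintype_card] at hnd
      obtain ⟨x, hx⟩ := Equiv.Perm.exists_fixed_point_of_prime hnd hσ
      obtain ⟨f, hf, hfM, hfx⟩ := x.2
      have htx : t • x.1 = x.1 := congrArg Subtype.val hx
      exact hnone f hf ((htfix _ htx).imp (fun e => hfx.trans e) (fun e => hfx.trans e))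
        (commute_of_mem_centMembers hfM).symm
    set y := pt d
    have hdM : d ∈ M := mem_centMembers hd hgd.symm
    obtain ⟨w, hw, hwM, hwy⟩ : ∃ w ∈ D, w ∈ M ∧ pt w ≠ y := by
      by_contra! hall
      have : Nat.card (PtSet D pt M) = 1 := by
        rw [Nat.card_eq_one_iff_unique]
        refine ⟨⟨fun x x' => ?_⟩, ⟨⟨y, d, hd, hdM, rfl⟩⟩⟩
        obtain ⟨f, hf, hfM, hfx⟩ := x.2
        obtain ⟨f', hf', hfM', hfx'⟩ := x'.2
        exact Subtype.ext (by rw [← hfx, ← hfx', hall f hf hfM, hall f' hf' hfM'])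
      exact hpp.ne_one (Nat.dvd_one.1 (this ▸ hdiv))
    have hgy : g • y = y := P.commute_fix hd hgd
    -- the members at `y` centralising `g`
    have hgp : g ^ p ^ m = 1 := hg
    have hcount : Nat.card {f : G // f ∈ D ∧ pt f = y ∧ f ∈ M} ≡ 0 [MOD p] := by
      haveI : Finite (Subgroup.zpowers g) := inferInstance
      have hG : IsPGroup p (Subgroup.zpowers g) := by
        obtain ⟨k, -, hk⟩ := (Nat.dvd_prime_pow hpp).1 (orderOf_dvd_of_pow_eq_one hgp)
        exact IsPGroup.of_card (n := k) (by rw [Nat.card_zpowers, hk])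
      have hst : ∀ k ∈ Subgroup.zpowers g, k • y = y := fun k hk =>
        mem_stabilizer_iff.1 (Subgroup.zpowers_le.2 (mem_stabilizer_iff.2 hgy) hk)
      letI : MulAction (Subgroup.zpowers g) {f : G // f ∈ D ∧ pt f = y} :=
        { smul := fun k f => ⟨(k : G) * f.1 * (k : G)⁻¹, P.conj_mem _ _ f.2.1,
            by rw [P.pt_conj _ f.2.1, f.2.2, hst k k.2]⟩
          one_smul := fun f => Subtype.ext (by show (1 : G) * f.1 * (1 : G)⁻¹ = f.1; simp)
          mul_smul := fun k l f => Subtype.ext (by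
            show ((k * l : Subgroup.zpowers g) : G) * f.1 * ((k * l : Subgroup.zpowers g) : G)⁻¹ =
              (k : G) * ((l : G) * f.1 * (l : G)⁻¹) * (k : G)⁻¹
            simp [mul_assoc]) }
      have h1 := hG.card_modEq_card_fixedPoints {f : G // f ∈ D ∧ pt f = y}
      have h2 : Nat.card (fixedPoints (Subgroup.zpowers g) {f : G // f ∈ D ∧ pt f = y}) =
          Nat.card {f : G // f ∈ D ∧ pt f = y ∧ f ∈ M} := by
        refine Nat.card_congr
          { toFun := fun f => ⟨f.1.1, f.1.2.1, f.1.2.2, mem_centMembers f.1.2.1 ?_⟩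
            invFun := fun f => ⟨⟨f.1, f.2.1, f.2.2.1⟩, fun k => Subtype.ext ?_⟩
            left_inv := fun f => rfl
            right_inv := fun f => rfl }
        · exact (mul_inv_eq_iff_eq_mul.1 (congrArg Subtype.val (f.2 ⟨g, Subgroup.mem_zpowers g⟩))).symm
        · show (k : G) * f.1 * (k : G)⁻¹ = f.1
          obtain ⟨i, hi⟩ := Subgroup.mem_zpowers_iff.1 k.2
          exact mul_inv_eq_iff_eq_mul.2
            (hi ▸ ((commute_of_mem_centMembers f.2.2.2).symm.zpow_left i).eq)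
      rw [← h2]
      refine h1.symm.trans ?_
      rw [Nat.modEq_zero_iff_dvd, Bender.card_point_eq P y a]
      exact hdvd
    obtain ⟨e, he, heM, hey, hne⟩ : ∃ e ∈ D, e ∈ M ∧ pt e = y ∧ d ≠ e := by
      by_contra! hall
      have : Nat.card {f : G // f ∈ D ∧ pt f = y ∧ f ∈ M} = 1 := by
        rw [Nat.card_eq_one_iff_unique]
        exact ⟨⟨fun f f' => Subtype.ext ((hall f.1 f.2.1 f.2.2.2 f.2.2.1).symm.trans
          (hall f'.1 f'.2.1 f'.2.2.2 f'.2.2.1))⟩, ⟨⟨d, hd, rfl, hdM⟩⟩⟩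
      rw [this] at hcount
      exact hpp.ne_one (Nat.dvd_one.1 ((Nat.modEq_zero_iff_dvd).1 hcount))
    obtain ⟨n, i, -, hn, -, -, hi⟩ :=
      P.exists_card_ptSet C.fin.comm C.fin.ih hM hd hdM rfl he heM hey hne hw hwM hwy
    have hq1 : 2 ^ n ≡ 1 [MOD p] := by
      rw [← hn]
      exact (hcount.add_right 1).trans (by rw [zero_add])
    have h1 : Nat.card (PtSet D pt M) ≡ 2 [MOD p] := by
      rw [hi]
      simpa using (hq1.pow i).add_right 1
    exact hp2 ((Nat.prime_dvd_prime_iff_eq hpp Nat.prime_two).1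
      (Nat.modEq_zero_iff_dvd.1 (h1.symm.trans (Nat.modEq_zero_iff_dvd.2 hdiv))))
  -- no involution fixing two points centralises `g`
  have hinv : ∀ v : G, IsFixInv Ω v → ¬ Commute g v := by
    intro v hv hgv
    obtain ⟨hv2, c₀, -, -, hc₀, -⟩ := id hv
    obtain ⟨i, -, -, hi⟩ := C.exists_card_fix hv hc₀
    have hmaps : ∀ x : Ω, v • x = x ↔ v • (g • x) = g • x := fun x => by
      rw [show v • g • x = g • v • x by rw [← mul_smul, ← hgv.eq, mul_smul], smul_left_cancel_iff]
    let σ : Equiv.Perm (FixSet Ω v) := (MulAction.toPerm g).subtypePerm fun x => (hmaps x).symm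
    have h1 : ∀ (n : ℕ) (x : FixSet Ω v), ((σ ^ n) x).1 = g ^ n • x.1 := by
      intro n
      induction n with
      | zero => intro x; simp
      | succ n ih =>
        intro x
        rw [pow_succ', pow_succ', Equiv.Perm.mul_apply, mul_smul, ← ih]
        rfl
    have hσ : σ ^ p ^ m = 1 := Equiv.ext fun x => Subtype.ext (by rw [h1, hg, one_smul]; rfl)
    have hP : IsPGroup p (Subgroup.zpowers σ) := by
      obtain ⟨k, -, hk⟩ := (Nat.dvd_prime_pow hpp).1 (orderOf_dvd_of_pow_eq_one hσ)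
      exact IsPGroup.of_card (n := k) (by rw [Nat.card_zpowers, hk])
    have h2 := hP.card_modEq_card_fixedPoints (FixSet Ω v)
    have hq1 : Nat.card (atPoint D pt c₀) ≡ 1 [MOD p] := by
      rw [P.card_atPoint C.fin.comm (C.fin.exists_ne c₀).choose_spec]
      refine ((Nat.modEq_zero_iff_dvd.2 ?_).add_right 1).trans (by rw [zero_add])
      rwa [Bender.card_point_eq P c₀ a]
    have h3 : Nat.card (fixedPoints (Subgroup.zpowers σ) (FixSet Ω v)) ≡ 2 [MOD p] := by
      refine h2.symm.trans ?_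
      rw [hi]
      simpa using (hq1.pow i).add_right 1
    have h4 : 2 ≤ Nat.card (fixedPoints (Subgroup.zpowers σ) (FixSet Ω v)) := by
      by_contra! hlt
      have hp3 : 3 ≤ p := by have := hpp.two_le; omega
      rw [Nat.ModEq, Nat.mod_eq_of_lt (by omega : 2 < p)] at h3
      rw [Nat.mod_eq_of_lt (by omega)] at h3
      omega
    obtain ⟨c, d, hcd⟩ := (Finite.one_lt_card_iff_nontrivial.1 (show 1 < Nat.card (fixedPoints (Subgroup.zpowers σ) (FixSet Ω v)) by omega)).exists_pair_ne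
    have hfx : ∀ x : fixedPoints (Subgroup.zpowers σ) (FixSet Ω v), g • x.1.1 = x.1.1 := fun x =>
      congrArg Subtype.val (x.2 ⟨σ, Subgroup.mem_zpowers σ⟩)
    have hne : c.1.1 ≠ d.1.1 := fun e => hcd (Subtype.ext (Subtype.ext e))
    have key : ∀ x : Ω, g • x = x → x = c.1.1 ∨ x = d.1.1 := fun x hx =>
      C.fix_eq_pair hv hne c.1.2 d.1.2 hgv (hfx c) (hfx d) (fun f hf _ => hmem f hf) hx
    rcases key a hga with e1 | e1 <;> rcases key b hgb with e2 | e2 <;> rcases key z hz with e3 | e3 <;>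
      first
        | exact hab (e1.trans e2.symm)
        | exact hza (e3.trans e1.symm)
        | exact hzb (e3.trans e2.symm)
  -- so its centraliser is odd
  set K := Subgroup.centralizer ({g} : Set G) with hK
  have hKodd : Odd (Nat.card K) := by
    rw [← Nat.not_even_iff_odd, even_iff_two_dvd]
    intro h2
    obtain ⟨v, hv⟩ := exists_prime_orderOf_dvd_card' 2 h2
    rw [← Subgroup.orderOf_coe] at hv
    have hgv : Commute g (v : G) := (Bender.mem_centralizer.1 v.2).symm
    rcases P.mem_or_two_fixed hab hv with hD | hfx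
    · exact hmem _ hD hgv
    · exact hinv _ ⟨hv, hfx⟩ hgv
  obtain ⟨t, -, htord, hta, htb, htfix, htc⟩ := C.exists_torus_prime hF hab hdvd
  have hgt := htc g hga hgb ⟨m, hg⟩
  have htz : t • z ≠ z := fun e => (htfix z e).elim hza hzb
  obtain ⟨s, -, hsord, hsz, hstz, hsfix, hsc⟩ := C.exists_torus_prime hF htz.symm hdvd
  have hgs := hsc g hz (by rw [← mul_smul, hgt.eq, mul_smul, hz]) ⟨m, hg⟩
  exact false_of_fix_pair (K := K) hKodd (p := p) (j := ⟨s, Bender.mem_centralizer.2 hgs.symm⟩)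
    ((Subgroup.orderOf_mk _ _).trans hsord) (x := z) (y := t • z) htz.symm hsz hstz
    ⟨⟨t, Bender.mem_centralizer.2 hgt.symm⟩, rfl⟩ fun w _ hw => hsfix w hw

end ChordHyp

end Cfsg.Agent.Aschbacher
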