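/-
The rank one group of a proper subgroup with two commuting members at a point (finish of the
core-free criterion, CRITERION.md B3; owner: helper2).

`P : PointClass G Ω D pt`, members at a point commute, `M` a proper subgroup with distinct members
`v, e` at `x` and a member off `x`.  The group induced by the members in `M` on their points is a
rank one set-up whose parameter is one more than the number of members in `M` at `x`.

Main results (namespace `Cfsg.Agent.Aschbacher`):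
* `rankOneSetup_transport` : a set-up moves along an equivariant bijection
* `card_kernel_cases` : `|Q|` is `q`, `q²` or `q³`, `q` the parameter
* `PointClass.exists_rankOne_sub` : the set-up
* `PointClass.exists_card_ptSet` : the number of points is `q^j + 1`, `j = 1, 2, 3`, `q = 2^n ≥ 4`
-/
import Cfsg.Agent.Lib.Aschbacher.PointImage
import Cfsg.Agent.Lib.SuzukiRankOne.Main
import Cfsg.Agent.Lib.SuzukiRankOne.Kernel.Main
import Cfsg.Agent.Lib.Bender.RankOneHalf

set_option autoImplicit false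
set_option linter.style.haveILetI false
set_option linter.unusedSectionVars false

namespace Cfsg.Agent.Aschbacher

open Cfsg Involution Bender Cfsg.Agent.SuzukiRankOne
open scoped Pointwise

universe u v w

theorem stabilizer_equiv {G : Type u} {Ω : Type v} {Ω' : Type w} [Group G] [MulAction G Ω]
    [MulAction G Ω'] (e : Ω ≃ Ω') (he : ∀ (g : G) (x : Ω), e (g • x) = g • e x) (x : Ω) :
    MulAction.stabilizer G (e x) = MulAction.stabilizer G x := by
  ext g
  rw [MulAction.mem_stabilizer_iff, MulAction.mem_stabilizer_iff, ← he, e.injective.eq_iff]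

theorem rankOneSetup_transport {G : Type u} {Ω : Type v} {Ω' : Type w} [Group G] [MulAction G Ω]
    [MulAction G Ω'] (e : Ω ≃ Ω') (he : ∀ (g : G) (x : Ω), e (g • x) = g • e x) {a : Ω} {t : G}
    {Q : Subgroup G} (h : Cfsg.IsRankOneSetup G Ω a t Q) :
    Cfsg.IsRankOneSetup G Ω' (e a) t Q := by
  have h1 := stabilizer_equiv e he a
  have h2 : MulAction.stabilizer G (t • e a) = MulAction.stabilizer G (t • a) := by
    rw [← he]; exact stabilizer_equiv e he _
  refine ⟨MulAction.is_two_pretransitive_iff.2 fun {a₁ b₁ c₁ d₁} hab hcd => ?_, h.mul_self, h.ne_one,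
    by rw [h1]; exact h.not_mem, by rw [h1]; exact h.le, by rw [h1]; exact h.conj_mem,
    by rw [h2]; exact h.inf_eq_bot, by rw [h1, h2]; exact h.sup_eq, h.even_card,
    by rw [h1, h2]; exact h.odd_card⟩
  obtain ⟨g, hg1, hg2⟩ := (MulAction.is_two_pretransitive_iff.1 h.two_transitive)
    (e.symm.injective.ne hab) (e.symm.injective.ne hcd)
  exact ⟨g, by rw [← e.apply_symm_apply a₁, ← he, hg1, e.apply_symm_apply],
    by rw [← e.apply_symm_apply b₁, ← he, hg2, e.apply_symm_apply]⟩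

/-- The order of the kernel in terms of the parameter. -/
theorem card_kernel_cases {G : Type u} {Ω : Type v} [Group G] [Finite G] [MulAction G Ω]
    [FaithfulSMul G Ω] {a : Ω} {t : G} {Q : Subgroup G} (h : Cfsg.IsRankOneSetup G Ω a t Q)
    (h2 : TwoInvolutions G) :
    ∃ n, 2 ≤ n ∧ param G a = 2 ^ n ∧
      ∃ j, 1 ≤ j ∧ j ≤ 3 ∧ Nat.card Q = param G a ^ j := by
  obtain ⟨hQ2, hel⟩ := kernelShape G Ω a t Q h h2
  obtain ⟨n, hn, hq, ⟨C⟩⟩ := exists_coords h h2
  refine ⟨n, hn, hq, ?_⟩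
  have hcard : Nat.card (GaloisField 2 n) = param G a := by rw [hq, GaloisField.card 2 n (by omega)]
  by_cases hc : IsMulCommutative Q
  · refine ⟨1, le_rfl, by norm_num, ?_⟩
    rw [pow_one, ← hcard]
    refine (Nat.card_congr (Equiv.ofBijective (fun x => (⟨C.z x, C.z_mem_Q h x⟩ : Q))
      ⟨fun x y e => C.z_inj (congrArg Subtype.val e), fun g => ?_⟩)).symm
    obtain ⟨x, hx⟩ := C.z_surj (g : G) (h.le g.2) (hel hc g g.2)
    exact ⟨x, Subtype.ext hx⟩
  · rcases C.card_cases h h2 hQ2 hc with e | e <;> rw [hcard] at e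
    · exact ⟨2, by norm_num, by norm_num, e⟩
    · exact ⟨3, by norm_num, le_rfl, e⟩

variable {G : Type u} {Ω : Type u} [Group G] [MulAction G Ω] [Finite G] [Finite Ω]
  [FaithfulSMul G Ω] {D : Set G} {pt : G → Ω}

namespace PointClass

variable (P : PointClass G Ω D pt) (hcomm : ∀ s ∈ D, ∀ t ∈ D, pt s = pt t → Commute s t)
include P hcomm

/-- **The rank one set-up of a proper subgroup.** -/
theorem exists_rankOne_sub (hIH : PointCriterionBelow.{u} (Nat.card G)) {M : Subgroup G}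
    (hM : M ≠ ⊤) {x : Ω} {v e w : G} (hv : v ∈ D) (hvM : v ∈ M) (hvx : pt v = x) (he : e ∈ D)
    (heM : e ∈ M) (hex : pt e = x) (hve : v ≠ e) (hw : w ∈ D) (hwM : w ∈ M) (hwx : pt w ≠ x) :
    ∃ (R : Subgroup (Equiv.Perm (PtSet D pt M))) (f : memSub D M →* R), Function.Surjective f ∧
      (∀ (g : memSub D M) (p : PtSet D pt M), ((f g • p : PtSet D pt M) : Ω) = (g : G) • p.1) ∧
      (∀ g : memSub D M, (g : G) ∈ D → orderOf (f g) = 2) ∧
      (∀ σ : R, orderOf σ = 2 → ∃ g : memSub D M, (g : G) ∈ D ∧ f g = σ) ∧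
      (∀ g h : memSub D M, (g : G) ∈ D → (h : G) ∈ D → f g = f h → g = h) ∧
      ∃ (t : R) (Q : Subgroup R),
        Cfsg.IsRankOneSetup R (PtSet D pt M) (⟨x, v, hv, hvM, hvx⟩ : PtSet D pt M) t Q ∧
        TwoInvolutions R ∧ IsPGroup 2 Q ∧
        param R (⟨x, v, hv, hvM, hvx⟩ : PtSet D pt M) =
          Nat.card {d : G // d ∈ D ∧ pt d = x ∧ d ∈ M} + 1 := by
  classical
  obtain ⟨R, f, hfs, hsmul, hf2, hf3, htrans, hSE, hcore⟩ := P.exists_image hIH hM hv hvM hvx hw hwM hwx
  set x' : PtSet D pt M := ⟨x, v, hv, hvM, hvx⟩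
  set y' : PtSet D pt M := ⟨pt w, w, hw, hwM, rfl⟩
  set Hb := MulAction.stabilizer R x' with hHb
  have hxy : x ≠ pt w := hwx.symm
  have hinj : ∀ g h : memSub D M, (g : G) ∈ D → (h : G) ∈ D → f g = f h → g = h := by
    intro g h hg hh heq
    have hfix : ∀ p : PtSet D pt M, (g : G) • p.1 = (h : G) • p.1 := fun p => by
      rw [← hsmul, ← hsmul, heq]
    have hpt : pt (g : G) = pt (h : G) := by
      have hp : ∃ d ∈ D, d ∈ M ∧ pt d = pt (g : G) := ⟨g, hg, memSub_le D M g.2, rfl⟩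
      refine (P.fixed_iff _ hh _).1 ?_
      rw [← hfix ⟨_, hp⟩]
      exact P.smul_pt hg
    have hc := hcomm _ hg _ hh hpt
    by_contra hne
    have hD := P.mul_mem_of_commute hg hh hc (fun e => hne (Subtype.ext e)) hxy
    have key : ∀ p : PtSet D pt M, pt ((g : G) * (h : G)) = p.1 := fun p => by
      refine ((P.fixed_iff _ hD p.1).1 ?_).symm
      rw [mul_smul, ← hfix p, P.smul_smul_self hg]
    exact hxy ((key x').symm.trans (key y'))
  have hmem : ∀ {d : G}, d ∈ D → d ∈ M → d ∈ memSub D M := fun hd hdM =>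
    Subgroup.subset_closure ⟨hd, hdM⟩
  have h2 : TwoInvolutions R := by
    refine ⟨f ⟨v, hmem hv hvM⟩, f ⟨e, hmem he heM⟩, ne_one (hf2 _ hv), ne_one (hf2 _ he),
      fun h => hve (congrArg Subtype.val (hinj _ _ hv he h)), mul_self (hf2 _ hv),
      mul_self (hf2 _ he), ?_⟩
    rw [← map_mul, ← map_mul]
    exact congrArg f (Subtype.ext (hcomm v hv e he (hvx.trans hex.symm)).eq)
  obtain ⟨t, Q, h⟩ := rankOneHalf R Hb hSE hcore h2
  let eq : R ⧸ Hb ≃ PtSet D pt M := Equiv.ofBijective (MulAction.ofQuotientStabilizer R x')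
    ⟨MulAction.injective_ofQuotientStabilizer R x', fun p => by
      obtain ⟨g, hg⟩ := htrans x' p
      exact ⟨(g : R ⧸ Hb), hg⟩⟩
  have heq : ∀ (g : R) (q : R ⧸ Hb), eq (g • q) = g • eq q := fun g q =>
    MulAction.ofQuotientStabilizer_smul R x' g q
  have h' := rankOneSetup_transport eq heq h
  have hone : eq ((1 : R) : R ⧸ Hb) = x' := one_smul R x'
  rw [hone] at h'
  refine ⟨R, f, hfs, hsmul, hf2, hf3, hinj, t, Q, h', h2,
    (kernelShape R (PtSet D pt M) x' t Q h' h2).1, ?_⟩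
  unfold param
  congr 1
  symm
  refine Nat.card_congr (Equiv.ofBijective
    (fun d : {d : G // d ∈ D ∧ pt d = x ∧ d ∈ M} =>
      (⟨f ⟨d.1, hmem d.2.1 d.2.2.2⟩,
        MulAction.mem_stabilizer_iff.2 (Subtype.ext (by
          rw [hsmul]; exact (P.fixed_iff _ d.2.1 x).2 d.2.2.1.symm)),
        ne_one (hf2 _ d.2.1), mul_self (hf2 _ d.2.1)⟩ :
        Cfsg.involutionsIn (MulAction.stabilizer R x' : Set R))) ⟨fun d d' e => ?_, fun σ => ?_⟩)
  · exact Subtype.ext (congrArg (fun z : memSub D M => (z : G))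
      (hinj _ _ d.2.1 d'.2.1 (congrArg Subtype.val e)))
  · obtain ⟨hσa, hσ1, hσ2⟩ := σ.2
    obtain ⟨g, hg, hgσ⟩ := hf3 σ.1 (orderOf_of_sq hσ2 hσ1)
    refine ⟨⟨g, hg, ?_, memSub_le D M g.2⟩, Subtype.ext hgσ⟩
    refine ((P.fixed_iff _ hg x).1 ?_).symm
    have := congrArg Subtype.val (MulAction.mem_stabilizer_iff.1 hσa)
    rwa [← hgσ, hsmul] at this

/-- The number of points of the members in a proper subgroup. -/
theorem exists_card_ptSet (hIH : PointCriterionBelow.{u} (Nat.card G)) {M : Subgroup G}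
    (hM : M ≠ ⊤) {x : Ω} {v e w : G} (hv : v ∈ D) (hvM : v ∈ M) (hvx : pt v = x) (he : e ∈ D)
    (heM : e ∈ M) (hex : pt e = x) (hve : v ≠ e) (hw : w ∈ D) (hwM : w ∈ M) (hwx : pt w ≠ x) :
    ∃ n j : ℕ, 2 ≤ n ∧ Nat.card {d : G // d ∈ D ∧ pt d = x ∧ d ∈ M} + 1 = 2 ^ n ∧
      1 ≤ j ∧ j ≤ 3 ∧ Nat.card (PtSet D pt M) = (2 ^ n) ^ j + 1 := by
  obtain ⟨R, f, -, -, -, -, -, t, Q, h, h2, -, hq⟩ :=
    P.exists_rankOne_sub hcomm hIH hM hv hvM hvx he heM hex hve hw hwM hwx
  obtain ⟨n, hn, hn', j, hj1, hj3, hj⟩ := card_kernel_cases h h2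
  refine ⟨n, j, hn, hq.symm.trans hn', hj1, hj3, ?_⟩
  rw [RankOne.Setup.card_omega h, hj, hn']

end PointClass

end Cfsg.Agent.Aschbacher
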