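/-
A rank one set-up with `|Q| = q²` has no sub-set-up with `q + 1` points (owner: helper40;
CRITERION.md 5.0).

* `sq_ne_one_of_card_sq` : `|Q| = q²`, `t s t = r⁻¹ t r` with `s` an involution at `a` and `r ∈ Q`:
  then `r` is no involution
* `not_commutative_of_card_sq` : and `Q` is not abelian
-/
import Cfsg.Agent.Lib.SuzukiRankOne.Main
import Cfsg.Agent.Lib.SuzukiRankOne.Kernel.Main

set_option autoImplicit false

namespace Cfsg.Agent.Aschbacher.SetupSz

open MulAction Cfsg.Agent.RankOne Cfsg.Agent.RankOne.Setup Cfsg.Agent.SuzukiRankOne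
open scoped MatrixGroups

universe u v

variable {G : Type u} {Ω : Type v} [Group G] [Finite G] [MulAction G Ω] [FaithfulSMul G Ω]
  {a : Ω} {t : G} {Q : Subgroup G}

local notation "II" => Cfsg.involutionsIn (stabilizer G a : Set G)

variable (h : Cfsg.IsRankOneSetup G Ω a t Q) (h2 : TwoInvolutions G)
  (hQ : Nat.card Q = param G a ^ 2)
include h h2 hQ

/-- The part `r` is no involution: the block of `a` is not everything. -/
theorem sq_ne_one_of_card_sq {s r : G} (hs : s ∈ II) (hr : r ∈ Q)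
    (he : t * s * t = r⁻¹ * t * r) : r * r ≠ 1 := by
  classical
  intro hr2
  obtain ⟨n, hn, hq, ⟨C⟩⟩ := exists_coords h h2
  obtain ⟨r', hr', he'⟩ := C.dist
  obtain ⟨-, e2⟩ := Prod.ext_iff.1 ((existsUnique_pair h).unique (y₁ := (s, r)) (y₂ := (C.z 1, r'))
    ⟨hs, hr, he⟩ ⟨C.z_mem_ii one_ne_zero, hr', he'⟩)
  simp only at e2
  obtain ⟨P, -⟩ := C.exists_frame h h2 hr' he' (e2 ▸ hr2)
  haveI := finite_omega h
  set q := Nat.card (GaloisField 2 n) with hqdef
  have hqn : q = 2 ^ n := GaloisField.card 2 n (by omega)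
  have hΩ : Nat.card Ω = q ^ 2 + 1 := by rw [card_omega h, hQ, hq, hqn]
  have hblk : Nat.card P.Blk = q + 1 := by rw [P.blk_card, Finite.card_option]
  have hq2 : 4 ≤ q := hqn ▸ Nat.pow_le_pow_right (by norm_num : 1 ≤ 2) hn
  obtain ⟨x, hx⟩ : ∃ x, x ∉ P.Blk := by
    by_contra! hall
    have hle : Nat.card Ω ≤ Nat.card P.Blk :=
      Nat.card_le_card_of_injective (fun x => (⟨x, hall x⟩ : P.Blk)) fun x y e =>
        congrArg Subtype.val e
    rw [hΩ, hblk] at hle
    nlinarith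
  have hle : Nat.card SL(2, GaloisField 2 n) ≤ Nat.card Ω :=
    Nat.card_le_card_of_injective (fun g => P.hom g • x) fun g g' e => P.hom_smul_inj hx e
  letI := Fintype.ofFinite (GaloisField 2 n)
  rw [GLOrder.card_SL_two, hΩ, ← hqdef] at hle
  obtain ⟨m, hm⟩ : ∃ m, q ^ 2 = m + 1 := ⟨q ^ 2 - 1, (Nat.sub_add_cancel (by nlinarith)).symm⟩
  rw [hm, Nat.add_sub_cancel] at hle
  nlinarith

/-- The kernel is not abelian. -/
theorem not_commutative_of_card_sq : IsPGroup 2 Q ∧ ¬ IsMulCommutative Q := by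
  obtain ⟨hQ2, hel⟩ := kernelShape G Ω a t Q h h2
  refine ⟨hQ2, fun hc => ?_⟩
  obtain ⟨n, hn, hq, ⟨C⟩⟩ := exists_coords h h2
  have hle : Nat.card Q ≤ Nat.card (GaloisField 2 n) := by
    refine Nat.card_le_card_of_surjective (fun x => (⟨C.z x, C.z_mem_Q h x⟩ : ↥Q)) fun u => ?_
    obtain ⟨x, hx⟩ := C.z_surj (u : G) (h.le u.2) (hel hc u u.2)
    exact ⟨x, Subtype.ext hx⟩
  rw [hQ, GaloisField.card 2 n (by omega), hq] at hle
  have h4 : 4 ≤ 2 ^ n := Nat.pow_le_pow_right (by norm_num : 1 ≤ 2) hn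
  nlinarith

end Cfsg.Agent.Aschbacher.SetupSz
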