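/-
The case `|Fix v| = q² + 1` of the finish of the core-free criterion (owner: helper87;
CRITERION_FINISH.md C, shorter route).

With `r` odd, `μ = q² - q + 1` is divisible by `3` and has a prime divisor `l` with `2` of order `6r`
mod `l`.  An `l`-group fixing a point centralises `E` there, so fixes `q^j + 1` points if it fixes two
and is not trivial: none does, as `l ∣ n - 1`.  A Sylow `l`-subgroup of a point stabiliser is thus
semiregular, and `q - 1` divides one less than its order, which must then be `μ`.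

* `exists_prime_six`, `eq_one_or_self_of_modEq`, `three_dvd_of_odd` : arithmetic
* `FinishHyp.centralizes_of_primitive` : `l`-groups fixing `x` centralise `E_x`
* `FinishHyp.eq_bot_of_fixes_two` : and are trivial if they fix two points
* `exists_param_odd`, `FinishHyp.exists_odd_of_sq` : `r` is odd
* `ChordHyp.exists_line_le_image` : some two-point stabiliser induces its whole line
* `LineTwoFixed` : lemma G; `ChordHyp.false_of_sq` : the case is impossible
-/
import Cfsg.Agent.Lib.Aschbacher.CriterionCentral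
import Cfsg.Agent.Lib.Aschbacher.CriterionPair
import Cfsg.Agent.Lib.Aschbacher.CriterionSub
import Cfsg.Agent.Lib.Aschbacher.SetupSz
import Cfsg.Agent.Lib.Aschbacher.CriterionChordFix
import Cfsg.Agent.S1131
import Cfsg.Agent.Lib.SuzukiRankOne.Suzuki.Main
import Cfsg.Agent.Lib.Zsigmondy.Basic

set_option autoImplicit false
set_option linter.style.haveILetI false
set_option linter.unusedSectionVars false

namespace Cfsg.Agent.Aschbacher

open Cfsg Involution Bender MulAction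
open scoped Pointwise

universe u

namespace SuzukiArith

/-- A prime divisor of `q² - q + 1` for which two has order `6 r`. -/
theorem exists_prime_six {r : ℕ} (hr : 2 ≤ r) :
    ∃ l : ℕ, l.Prime ∧ 3 < l ∧ l ∣ (2 ^ r) ^ 2 - 2 ^ r + 1 ∧
      ∀ s : ℕ, 0 < s → s ≤ r → ¬ l ∣ 2 ^ s - 1 := by
  obtain ⟨l, hl, hdvd, hprim⟩ := Zsigmondy.exists_primitive (a := 2) (n := 6 * r) (by norm_num)
    (by omega) (fun h => by omega) (fun h => by omega)
  have hq : 2 ≤ 2 ^ r := Nat.le_self_pow (by omega) 2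
  have h1 := hprim (3 * r) (by omega) (by omega)
  have h2 := hprim (2 * r) (by omega) (by omega)
  have hprim2 := hprim 2 (by omega) (by omega)
  have hdvd0 := hdvd
  rw [show 6 * r = r * 6 by ring, pow_mul] at hdvd
  rw [show 3 * r = r * 3 by ring, pow_mul] at h1
  rw [show 2 * r = r * 2 by ring, pow_mul] at h2
  generalize 2 ^ r = q at hdvd h1 h2 hq ⊢
  have hle : q ≤ q ^ 2 := Nat.le_self_pow (by omega) q
  have h3 : 1 ≤ q ^ 3 := Nat.one_le_pow _ _ (by omega)
  have h6 : 1 ≤ q ^ 6 := Nat.one_le_pow _ _ (by omega)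
  have he : q ^ 6 - 1 = (q ^ 3 - 1) * (q + 1) * (q ^ 2 - q + 1) := by
    zify [hle, h3, h6]
    ring
  have he2 : q ^ 2 - 1 = (q - 1) * (q + 1) := by
    zify [show 1 ≤ q ^ 2 by omega, show 1 ≤ q by omega]
    ring
  refine ⟨l, hl, ?_, ?_, fun s hs hsr => hprim s hs (by omega)⟩
  · by_contra hle3
    interval_cases l
    all_goals first
      | (have h4 : 2 ∣ 2 ^ (6 * r) := dvd_pow_self 2 (by omega)
         have h5 : 1 ≤ 2 ^ (6 * r) := Nat.one_le_pow _ _ two_pos
         omega)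
      | (norm_num at hprim2; done)
      | (norm_num at hl; done)
  · rw [he] at hdvd
    rcases hl.dvd_mul.1 hdvd with h | h
    · rcases hl.dvd_mul.1 h with h' | h'
      · exact absurd h' h1
      · exact absurd (he2 ▸ h'.mul_left (q - 1)) h2
    · exact h

/-- A divisor of `q² - q + 1` congruent to one mod `q - 1` is trivial. -/
theorem eq_one_or_self_of_modEq {q d : ℕ} (hq : 3 ≤ q) (hd : d ∣ q ^ 2 - q + 1)
    (h1 : d ≡ 1 [MOD q - 1]) : d = 1 ∨ d = q ^ 2 - q + 1 := by
  obtain ⟨e, he⟩ := hd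
  have hmu : q ^ 2 - q + 1 = (q - 1) * q + 1 := by
    zify [Nat.le_self_pow (two_ne_zero) q, show 1 ≤ q by omega]
    ring
  have he1 : e ≡ 1 [MOD q - 1] := by
    have h3 : d * e ≡ 1 [MOD q - 1] := by
      rw [← he, hmu]
      exact (Nat.modEq_iff_dvd' (by omega)).2 (by simp) |>.symm
    calc e = 1 * e := (one_mul e).symm
      _ ≡ d * e [MOD q - 1] := h1.symm.mul_right e
      _ ≡ 1 [MOD q - 1] := h3
  rw [he]
  have hd0 : d ≠ 0 := by rintro rfl; simp at he
  have he0 : e ≠ 0 := by rintro rfl; simp at he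
  rcases eq_or_ne d 1 with h | hdne
  · exact Or.inl h
  rcases eq_or_ne e 1 with rfl | hene
  · exact Or.inr (mul_one d).symm
  exfalso
  have hdq : q ≤ d := by
    obtain ⟨i, hi⟩ := (Nat.modEq_iff_dvd' (show 1 ≤ d by omega)).1 h1.symm
    rcases i with _ | i
    · omega
    · rw [Nat.mul_succ] at hi; omega
  have heq : q ≤ e := by
    obtain ⟨i, hi⟩ := (Nat.modEq_iff_dvd' (show 1 ≤ e by omega)).1 he1.symm
    rcases i with _ | i
    · omega
    · rw [Nat.mul_succ] at hi; omega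
  have h4 : q * q ≤ d * e := Nat.mul_le_mul hdq heq
  have h5 : q ≤ q * q := Nat.le_mul_self q
  rw [← he, hmu, Nat.sub_mul, one_mul] at h4
  omega

/-- For odd `r` three divides `q² - q + 1`. -/
theorem three_dvd_of_odd {r : ℕ} (hr : Odd r) : 3 ∣ (2 ^ r) ^ 2 - 2 ^ r + 1 := by
  obtain ⟨k, rfl⟩ := hr
  have h : 2 ^ (2 * k + 1) % 3 = 2 := by
    rw [pow_succ, pow_mul, Nat.mul_mod, Nat.pow_mod]
    norm_num
  set q := 2 ^ (2 * k + 1)
  have hle : q ≤ q ^ 2 := Nat.le_self_pow two_ne_zero q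
  have h2 : q ^ 2 % 3 = 1 := by rw [Nat.pow_mod, h]
  omega

end SuzukiArith

universe v in
/-- In a rank one set-up with `|Q| = q²` the parameter is an odd power of two. -/
theorem exists_param_odd {R : Type u} {X : Type v} [Group R] [Finite R] [MulAction R X]
    [FaithfulSMul R X] {a : X} {t : R} {Q : Subgroup R} (h : Cfsg.IsRankOneSetup R X a t Q)
    (h2 : SuzukiRankOne.TwoInvolutions R)
    (hQ : Nat.card Q = SuzukiRankOne.param R a ^ 2) :
    ∃ m, 1 ≤ m ∧ SuzukiRankOne.param R a = 2 ^ (2 * m + 1) := by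
  classical
  obtain ⟨hp, hna⟩ := SetupSz.not_commutative_of_card_sq h h2 hQ
  obtain ⟨n, hn, hq, d, hφ1, hφodd⟩ := SuzukiRankOne.Suzuki.exists_coords_sq h h2 hp hna hQ
  let F := GaloisField 2 n
  let _ : Fintype F := Fintype.ofFinite _
  have hcard : Fintype.card F = 2 ^ n := by
    rw [← Nat.card_eq_fintype_card, GaloisField.card 2 n (by omega)]
  have hσ := d.sigma_eq_one h
  obtain ⟨d, hσ, hc⟩ : ∃ d : SuzukiRankOne.Suzuki.Coords a t Q F, d.σ = 1 ∧ d.c = 1 := by
    rcases d.coeff_cases h hσ hcard hn hφ1 hφodd with hc | hc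
    · exact ⟨d.swap hσ, rfl, by show d.c + 1 = 1; rw [hc, zero_add]⟩
    · exact ⟨d, hσ, hc⟩
  obtain ⟨m, hm, rfl, -⟩ := d.exists_m h hσ hc hcard hn
  exact ⟨m, hm, hq⟩

namespace FinishHyp

variable {G : Type u} {Ω : Type u} [Group G] [MulAction G Ω] [Finite G] [Finite Ω]
  [FaithfulSMul G Ω] {D : Set G} {pt : G → Ω} (h : FinishHyp G Ω D pt)
  {l : ℕ} [Fact l.Prime] {r : ℕ}
  (hl2 : l ≠ 2) (hprim : ∀ s : ℕ, 0 < s → s ≤ r → ¬ l ∣ 2 ^ s - 1)
  (hr : ∀ x : Ω, Nat.card {d : G // d ∈ D ∧ pt d = x} + 1 = 2 ^ r)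
include h hl2 hprim hr

/-- An `l`-group fixing `x` centralises `E_x`. -/
theorem centralizes_of_primitive {x : Ω} {L : Subgroup G} (hL : IsPGroup l L)
    (hLx : L ≤ stabilizer G x) {d : G} (hd : d ∈ D) (hdx : pt d = x) {k : G} (hk : k ∈ L) :
    Commute d k := by
  haveI : Fact (Nat.Prime 2) := ⟨Nat.prime_two⟩
  obtain ⟨y, hy⟩ := h.exists_ne x
  set E := atPoint D pt x with hE
  have hnorm : ∀ g : L, ∀ e ∈ E, (g : G) * e * (g : G)⁻¹ ∈ E := fun g e he =>
    (Subgroup.mem_normalizer_iff.1 (h.stabilizer_le_normalizer x (hLx g.2)) e).1 he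
  letI : MulAction L E :=
    { smul := fun g e => ⟨(g : G) * e * (g : G)⁻¹, hnorm g e e.2⟩
      one_smul := fun e => Subtype.ext (by
        show ((1 : L) : G) * e * ((1 : L) : G)⁻¹ = e
        simp)
      mul_smul := fun g g' e => Subtype.ext (by
        show ((g * g' : L) : G) * e * ((g * g' : L) : G)⁻¹ = g * (g' * e * (g' : G)⁻¹) * (g : G)⁻¹
        rw [Subgroup.coe_mul]; group) }
  set C : Subgroup G := E ⊓ Subgroup.centralizer (L : Set G) with hC
  have hfix : Nat.card (fixedPoints L E) = Nat.card C := by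
    refine Nat.card_congr
      { toFun := fun e => ⟨e.1.1, e.1.2, Subgroup.mem_centralizer_iff.2 fun g hg => ?_⟩
        invFun := fun e => ⟨⟨e.1, e.2.1⟩, fun g => Subtype.ext ?_⟩
        left_inv := fun e => rfl
        right_inv := fun e => rfl }
    · have h1 : g * e.1.1 * g⁻¹ = e.1.1 := congrArg Subtype.val (e.2 ⟨g, hg⟩)
      exact mul_inv_eq_iff_eq_mul.1 h1
    · show (g : G) * e.1 * (g : G)⁻¹ = e.1
      rw [Subgroup.mem_centralizer_iff.1 e.2.2 g g.2, mul_inv_cancel_right]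
  have h1 := hL.card_modEq_card_fixedPoints E
  have hEr : Nat.card E = 2 ^ r := by rw [hE, h.pc.card_atPoint h.comm hy, hr]
  obtain ⟨s, hs⟩ := ((h.pc.isPGroup_atPoint h.comm hy).to_le (inf_le_left (b :=
    Subgroup.centralizer (L : Set G)))).exists_card_eq
  have hsr : s ≤ r := by
    have := Subgroup.card_le_of_le (inf_le_left : C ≤ E)
    rw [hEr] at this
    rw [← hC] at hs
    rw [hs] at this
    exact (Nat.pow_le_pow_iff_right (by omega)).1 this
  rw [hfix, hEr] at h1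
  rw [← hC] at hs
  rw [hs] at h1
  rcases hsr.eq_or_lt with rfl | hlt
  · have hCE : C = E := Subgroup.eq_of_le_of_card_ge inf_le_left (by rw [hEr, hs])
    have hdC : d ∈ C := hCE.symm ▸ (Subgroup.subset_closure ⟨hd, hdx⟩ : d ∈ E)
    exact (Subgroup.mem_centralizer_iff.1 hdC.2 k hk).symm
  · exfalso
    have h2 : l ∣ 2 ^ r - 2 ^ s := (Nat.modEq_iff_dvd' (Nat.pow_le_pow_right two_pos hsr)).1 h1.symm
    rw [show 2 ^ r - 2 ^ s = 2 ^ s * (2 ^ (r - s) - 1) by
      rw [Nat.mul_sub, mul_one, ← pow_add, Nat.add_sub_cancel' hsr]] at h2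
    rcases (Fact.out : l.Prime).dvd_mul.1 h2 with h3 | h3
    · exact hl2 ((Nat.prime_dvd_prime_iff_eq Fact.out Nat.prime_two).1
        ((Fact.out : l.Prime).dvd_of_dvd_pow h3))
    · exact hprim (r - s) (by omega) (by omega) h3

/-- If `l ∣ n - 1` no nontrivial `l`-group fixes two points. -/
theorem eq_bot_of_fixes_two (hln : l ∣ Nat.card Ω - 1) {L : Subgroup G} (hL : IsPGroup l L)
    {a b : Ω} (hab : a ≠ b) (hLa : L ≤ stabilizer G a) (hLb : L ≤ stabilizer G b) : L = ⊥ := by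
  by_contra hne
  set M := Subgroup.centralizer (L : Set G) with hM
  have hmemM : ∀ {d : G}, d ∈ D → L ≤ stabilizer G (pt d) → d ∈ M := fun {d} hd hLd =>
    Subgroup.mem_centralizer_iff.2 fun k hk =>
      (h.centralizes_of_primitive hl2 hprim hr hL hLd hd rfl hk).symm.eq
  have hMtop : M ≠ ⊤ := by
    intro htop
    refine hne ((Subgroup.eq_bot_iff_forall _).2 fun k hk => eq_of_smul_eq_smul fun p : Ω => ?_)
    obtain ⟨g, rfl⟩ := h.pc.exists_smul_eq a p
    have hc : k * g = g * k :=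
      Subgroup.mem_centralizer_iff.1 (htop.symm ▸ Subgroup.mem_top g : g ∈ M) k hk
    rw [one_smul, ← mul_smul, hc, mul_smul, mem_stabilizer_iff.1 (hLa hk)]
  obtain ⟨v, e, hv, he, hva, hea, hve, -⟩ := h.exists_two a
  obtain ⟨w, hw, hwb⟩ := h.pc.exists_at b
  obtain ⟨n, j, hn, hq, hj1, -, hcard⟩ := h.pc.exists_card_ptSet h.comm h.ih hMtop hv
    (hmemM hv (hva ▸ hLa)) hva he (hmemM he (hea ▸ hLa)) hea hve hw (hmemM hw (hwb ▸ hLb))
    (hwb ▸ hab.symm)
  have hn' : n = r := by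
    refine Nat.pow_right_injective le_rfl (hq.symm.trans ?_)
    show _ = 2 ^ r
    rw [← hr a]
    congr 1
    exact Nat.card_congr (Equiv.subtypeEquivRight fun d =>
      ⟨fun hd => ⟨hd.1, hd.2.1⟩, fun hd => ⟨hd.1, hd.2, hmemM hd.1 (hd.2 ▸ hLa)⟩⟩)
  subst hn'
  have hpts : Nat.card {p : Ω // L ≤ stabilizer G p} = Nat.card (PtSet D pt M) := by
    refine Nat.card_congr (Equiv.subtypeEquivRight fun p => ⟨fun hp => ?_, ?_⟩)
    · obtain ⟨d, hd, hdp⟩ := h.pc.exists_at p
      exact ⟨d, hd, hmemM hd (hdp ▸ hp), hdp⟩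
    · rintro ⟨d, hd, hdM, rfl⟩ k hk
      exact mem_stabilizer_iff.2
        (h.pc.commute_fix hd (Subgroup.mem_centralizer_iff.1 hdM k hk))
  have hmod := fix_modEq (Ω := Ω) (Q := L) (R := ⊥) hL bot_le
  rw [Nat.card_congr (Equiv.subtypeUnivEquiv fun p : Ω => (bot_le : (⊥ : Subgroup G) ≤ _)), hpts,
    hcard] at hmod
  have hΩ : 1 ≤ Nat.card Ω := Nat.card_pos_iff.2 ⟨⟨a⟩, (inferInstance : Finite Ω)⟩
  have h1 : Nat.card Ω ≡ 1 [MOD l] := ((Nat.modEq_iff_dvd' hΩ).2 hln).symm
  have h2 : (2 ^ n) ^ j ≡ 0 [MOD l] := Nat.ModEq.add_right_cancel' 1 ((hmod.symm.trans h1))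
  exact hl2 ((Nat.prime_dvd_prime_iff_eq Fact.out Nat.prime_two).1
    ((Fact.out : l.Prime).dvd_of_dvd_pow
      ((Fact.out : l.Prime).dvd_of_dvd_pow (Nat.modEq_zero_iff_dvd.1 h2))))

omit [Fact l.Prime] in
omit hl2 hprim in
/-- If some involution fixes `q² + 1` points then `r` is odd. -/
theorem exists_odd_of_sq {v : G} (hv : IsFixInv Ω v)
    (hf : Nat.card {p : Ω // v • p = p} = (2 ^ r) ^ 2 + 1) : Odd r := by
  have hv' := hv
  obtain ⟨hv2, a, b, hab, hva, hvb⟩ := hv'
  set M := Subgroup.centralizer ({v} : Set G) with hM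
  have hmem : ∀ {d : G}, d ∈ D → v • pt d = pt d → d ∈ M := fun {d} hd hfix =>
    mem_centralizer.2 (h.commute_of_fixInv hv hfix hd rfl)
  have hMtop : M ≠ ⊤ := fun htop => by
    refine ne_one hv2 (eq_of_smul_eq_smul fun p : Ω => ?_)
    obtain ⟨g, rfl⟩ := h.pc.exists_smul_eq a p
    rw [one_smul, ← mul_smul, ← (mem_centralizer.1 (htop.symm ▸ Subgroup.mem_top g : g ∈ M)).eq,
      mul_smul, hva]
  obtain ⟨d, e, hd, he, hda, hea, hne, -⟩ := h.exists_two a
  obtain ⟨w, hw, hwb⟩ := h.pc.exists_at b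
  obtain ⟨R, f, -, -, -, -, -, t, Q, hS, h2, -, hparam⟩ := h.pc.exists_rankOne_sub h.comm h.ih hMtop
    hd (hmem hd (hda ▸ hva)) hda he (hmem he (hea ▸ hva)) hea hne hw (hmem hw (hwb ▸ hvb))
    (hwb ▸ hab.symm)
  have hq : SuzukiRankOne.param R
      (⟨a, d, hd, hmem hd (hda ▸ hva), hda⟩ : PtSet D pt M) = 2 ^ r := by
    rw [hparam, ← hr a]
    congr 1
    exact Nat.card_congr (Equiv.subtypeEquivRight fun k =>
      ⟨fun hk => ⟨hk.1, hk.2.1⟩, fun hk => ⟨hk.1, hk.2, hmem hk.1 (hk.2 ▸ hva)⟩⟩)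
  have hpts : Nat.card (PtSet D pt M) = (2 ^ r) ^ 2 + 1 := by
    rw [← hf]
    refine Nat.card_congr (Equiv.subtypeEquivRight fun p => ⟨?_, fun hp => ?_⟩)
    · rintro ⟨k, hk, hkM, rfl⟩
      exact h.pc.commute_fix hk (mem_centralizer.1 hkM).symm
    · obtain ⟨k, hk, hkp⟩ := h.pc.exists_at p
      exact ⟨k, hk, hmem hk (hkp ▸ hp), hkp⟩
  rw [RankOne.Setup.card_omega hS] at hpts
  obtain ⟨m, -, hm⟩ := exists_param_odd hS h2 (by rw [hq]; omega)
  exact ⟨m, Nat.pow_right_injective le_rfl (hq.symm.trans hm)⟩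

end FinishHyp

end Cfsg.Agent.Aschbacher

namespace Cfsg.Agent.Aschbacher.ChordHyp

open Cfsg Involution MulAction Cfsg.Agent.SuzukiRankOne

universe u

variable {G : Type u} {Ω : Type u} [Group G] [MulAction G Ω] [Finite G] [Finite Ω]
  [FaithfulSMul G Ω] {D : Set G} {pt : G → Ω} (C : ChordHyp G Ω D pt)
include C

/-- For some pair the two-point stabiliser induces its whole line on the members at the first
point: the inverted elements of the chord. -/
theorem exists_line_le_image (a : Ω) :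
    ∃ b : Ω, a ≠ b ∧ ∃ L : Subgroup (MulAut (atPoint D pt a)), IsLine L ∧
      (∀ k : stabilizer G a, (k : G) • b = b → C.fin.autE a k ∈ Subgroup.normalizer (L : Set _)) ∧
      ∀ σ ∈ L, ∃ k : stabilizer G a, (k : G) • b = b ∧ C.fin.autE a k = σ := by
  classical
  obtain ⟨b₀, hab₀⟩ := C.fin.exists_ne a
  set M := chord D pt a b₀
  have hM : M ≠ ⊤ := C.chord_ne_top hab₀
  obtain ⟨d, e, hd, he, hda, hea, hne, -⟩ := C.fin.exists_two a
  obtain ⟨w, hw, hwM, hwb⟩ := C.pts_right a (b := b₀)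
  have hdM : d ∈ M := mem_chord_left b₀ hd hda
  obtain ⟨R, f, hfs, hsmul, hf2, hf3, hinj, t, Q, hS, h2, -, -⟩ := C.fin.pc.exists_rankOne_sub
    C.fin.comm C.fin.ih hM hd hdM hda he (mem_chord_left b₀ he hea) hea hne hw hwM
    (hwb ▸ hab₀.symm)
  set a' : PtSet D pt M := ⟨a, d, hd, hdM, hda⟩
  set b' : PtSet D pt M := t • a' with hb'
  have hab : a ≠ b'.1 := fun e' => hS.not_mem (mem_stabilizer_iff.2 (Subtype.ext e'.symm))
  obtain ⟨K, hK, hKc, -⟩ := S1131.result hS h2
  have hKmem : ∀ k ∈ K, k ∈ Cfsg.invertedBy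
      (stabilizer R a' ⊓ stabilizer R (t • a')) t := fun k hk => hK ▸ hk
  set T₀ : Subgroup G := (K.comap f).map (memSub D M).subtype with hT₀
  have hfix : ∀ g : memSub D M, f g ∈ K → (g : G) • a = a ∧ (g : G) • b'.1 = b'.1 := by
    intro g hg
    obtain ⟨⟨h1, h2'⟩, -⟩ := hKmem _ hg
    refine ⟨?_, ?_⟩
    · have := congrArg Subtype.val (mem_stabilizer_iff.1 h1)
      rwa [hsmul] at this
    · have := congrArg Subtype.val (mem_stabilizer_iff.1 h2')
      rwa [hsmul] at this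
  set L := (T₀.subgroupOf (stabilizer G a)).map (C.fin.autE a) with hL
  have hLmem : ∀ σ ∈ L, ∃ g : memSub D M, ∃ hg : f g ∈ K,
      C.fin.autE a ⟨g, (hfix g hg).1⟩ = σ := by
    rintro _ ⟨k, ⟨g, hg, hgk⟩, rfl⟩
    exact ⟨g, hg, congrArg (C.fin.autE a) (Subtype.ext hgk)⟩
  have hmemL : ∀ (g : memSub D M) (hg : f g ∈ K), C.fin.autE a ⟨g, (hfix g hg).1⟩ ∈ L := fun g hg =>
    Subgroup.mem_map_of_mem _ (Subgroup.mem_subgroupOf.2 ⟨g, hg, rfl⟩)
  have hmembE : ∀ x : atPoint D pt a, x ≠ 1 → (x : G) ∈ D ∧ pt (x : G) = a :=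
    fun x hx => (C.fin.mem_E.1 x.2).resolve_left fun e' => hx (Subtype.ext e')
  have hmemS : ∀ x : atPoint D pt a, (x : G) ∈ memSub D M := by
    intro x
    by_cases hx : x = 1
    · rw [hx]; exact one_mem _
    · exact Subgroup.subset_closure ⟨(hmembE x hx).1, mem_chord_left b₀ (hmembE x hx).1 (hmembE x hx).2⟩
  have hII : ∀ x : atPoint D pt a, x ≠ 1 →
      f ⟨x, hmemS x⟩ ∈ Cfsg.involutionsIn (stabilizer R a' : Set R) := fun x hx => by
    refine ⟨mem_stabilizer_iff.2 (Subtype.ext ?_), ne_one (hf2 _ (hmembE x hx).1),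
      mul_self (hf2 _ (hmembE x hx).1)⟩
    rw [hsmul]
    exact (C.fin.pc.fixed_iff _ (hmembE x hx).1 a).2 (hmembE x hx).2.symm
  have hcomm : ∀ σ ∈ L, ∀ τ ∈ L, σ * τ = τ * σ := by
    rintro σ hσ τ hτ
    obtain ⟨g, hg, rfl⟩ := hLmem σ hσ
    obtain ⟨g', hg', rfl⟩ := hLmem τ hτ
    refine MulEquiv.ext fun x => Subtype.ext ?_
    rcases eq_or_ne x 1 with rfl | hx
    · simp
    rw [MulAut.mul_apply, MulAut.mul_apply, C.fin.autE_apply, C.fin.autE_apply, C.fin.autE_apply,
      C.fin.autE_apply]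
    set x' : memSub D M := ⟨x, hmemS x⟩
    have hx' : ∀ g : memSub D M, ((g * x' * g⁻¹ : memSub D M) : G) ∈ D := fun g =>
      C.fin.pc.conj_mem (g : G) _ (hmembE x hx).1
    have key := hinj (g * g' * x' * (g * g')⁻¹) (g' * g * x' * (g' * g)⁻¹) (hx' _) (hx' _) (by
      have hc := (SuzukiRankOne.kk_comm hS h2 (hKmem _ hg) (hKmem _ hg')).1
      simp only [map_mul, map_inv, hc])
    calc (g : G) * ((g' : G) * x * (g' : G)⁻¹) * (g : G)⁻¹
        = ((g * g' * x' * (g * g')⁻¹ : memSub D M) : G) := by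
          simp only [x', Subgroup.coe_mul, Subgroup.coe_inv]; group
      _ = ((g' * g * x' * (g' * g)⁻¹ : memSub D M) : G) := congrArg Subtype.val key
      _ = _ := by simp only [x', Subgroup.coe_mul, Subgroup.coe_inv]; group
  have htr : ∀ x y : atPoint D pt a, x ≠ 1 → y ≠ 1 → ∃ σ ∈ L, σ x = y := by
    intro x y hx hy
    obtain ⟨k, hk, hkxy⟩ := RankOne.Setup.exists_conj_kk hS (hII x hx) (hII y hy)
    have hk' : k⁻¹ ∈ K := by
      have h1 : k ∈ K := by rw [← SetLike.mem_coe, hK]; exact hk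
      exact inv_mem h1
    obtain ⟨g, hg⟩ := hfs k⁻¹
    have hgK : f g ∈ K := hg ▸ hk'
    refine ⟨_, hmemL g hgK, Subtype.ext ?_⟩
    rw [C.fin.autE_apply]
    have := hinj (g * ⟨x, hmemS x⟩ * g⁻¹) ⟨y, hmemS y⟩
      (C.fin.pc.conj_mem (g : G) _ (hmembE x hx).1) (hmembE y hy).1 (by
      rw [map_mul, map_mul, map_inv, hg, inv_inv]; exact hkxy)
    exact congrArg Subtype.val this
  have hline : IsLine L := by
    refine ⟨hcomm, fun x y hx hy => ?_⟩
    obtain ⟨σ, hσ, hσxy⟩ := htr x y hx hy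
    refine ⟨σ, ⟨hσ, hσxy⟩, fun τ ⟨hτ, hτxy⟩ => MulEquiv.ext fun z => ?_⟩
    rcases eq_or_ne z 1 with rfl | hz
    · rw [map_one, map_one]
    obtain ⟨ρ, hρ, rfl⟩ := htr x z hx hz
    rw [← MulAut.mul_apply, ← MulAut.mul_apply, hcomm τ hτ ρ hρ, hcomm σ hσ ρ hρ, MulAut.mul_apply,
      MulAut.mul_apply, hσxy, hτxy]
  obtain ⟨L', hL', hN⟩ := C.fin.exists_line hab
  obtain ⟨r, -, hr⟩ := C.fin.exists_card_E a
  haveI := C.fin.nontrivial_E a
  letI : CommGroup (atPoint D pt a) :=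
    { (inferInstance : Group (atPoint D pt a)) with
      mul_comm := fun x y => Subtype.ext (C.fin.commute_E x.2 y.2).eq }
  have hLL' : L = L' := hL'.eq_of_le_normalizer hr hline (fun σ hσ => by
    obtain ⟨g, hg, rfl⟩ := hLmem σ hσ
    exact hN _ (hfix g hg).2)
  refine ⟨b'.1, hab, L, hline, hLL' ▸ hN, fun σ hσ => ?_⟩
  obtain ⟨g, hg, rfl⟩ := hLmem σ hσ
  exact ⟨_, (hfix g hg).2, rfl⟩

end Cfsg.Agent.Aschbacher.ChordHyp

namespace Cfsg.Agent.Aschbacher

open Cfsg Involution Bender MulAction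
open scoped Pointwise

universe u

variable {G : Type u} {Ω : Type u} [Group G] [MulAction G Ω] [Finite G] [Finite Ω]
  [FaithfulSMul G Ω] {D : Set G} {pt : G → Ω}

/-- Lemma G at `a`: a prime power element of a two-point stabiliser inducing a non-trivial element of
its line fixes only the two points. -/
def LineTwoFixed (C : ChordHyp G Ω D pt) (a : Ω) : Prop :=
  ∀ {p : ℕ} [Fact p.Prime] {b : Ω}, a ≠ b → ∀ {g : G} (hga : g • a = a), g • b = b →
    ∀ {m : ℕ}, g ^ p ^ m = 1 → ∀ {L : Subgroup (MulAut (atPoint D pt a))}, IsLine L →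
    (∀ k : stabilizer G a, (k : G) • b = b → C.fin.autE a k ∈ Subgroup.normalizer (L : Set _)) →
    C.fin.autE a ⟨g, hga⟩ ∈ L → C.fin.autE a ⟨g, hga⟩ ≠ 1 →
    ∀ {z : Ω}, g • z = z → z = a ∨ z = b

/-- A prime power divides the number of non-trivial elements of a subgroup if all orbits on them
have length divisible by it. -/
theorem dvd_card_ne_one_of_orbits {H : Type*} [Group H] [Finite H] {P : Subgroup H} {y : H}
    (hy : y ∈ Subgroup.normalizer (P : Set H)) {d : ℕ}
    (hd : ∀ (n : ℤ) (c : H), c ∈ P → c ≠ 1 → Commute (y ^ n) c → (d : ℤ) ∣ n)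
    (hdy : d ∣ orderOf y) : d ∣ Nat.card P - 1 := by
  classical
  set Y := Subgroup.zpowers y with hY
  have hYn : ∀ g : Y, ∀ c ∈ P, (g : H) * c * (g : H)⁻¹ ∈ P := fun g c hc =>
    (Subgroup.mem_normalizer_iff.1 (Subgroup.zpowers_le.2 hy g.2) c).1 hc
  let α := {c : P // c ≠ 1}
  have hne : ∀ (g : Y) (c : α), (⟨_, hYn g c.1.1 c.1.2⟩ : P) ≠ 1 := fun g c e => c.2 (Subtype.ext (by
    have h1 : (g : H) * c.1.1 * (g : H)⁻¹ = 1 := congrArg Subtype.val e
    rw [mul_inv_eq_one] at h1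
    exact mul_left_cancel (h1.trans (mul_one _).symm)))
  letI : MulAction Y α :=
    { smul := fun g c => ⟨_, hne g c⟩
      one_smul := fun c => Subtype.ext (Subtype.ext (by
        show ((1 : Y) : H) * c.1.1 * ((1 : Y) : H)⁻¹ = c.1.1
        simp))
      mul_smul := fun g g' c => Subtype.ext (Subtype.ext (by
        show ((g * g' : Y) : H) * c.1.1 * ((g * g' : Y) : H)⁻¹ =
          g * (g' * c.1.1 * (g' : H)⁻¹) * (g : H)⁻¹
        rw [Subgroup.coe_mul]; group)) }
  let ψ : Subgroup Y := Subgroup.zpowers ((⟨y, Subgroup.mem_zpowers y⟩ : Y) ^ d)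
  have hstab : ∀ c : α, stabilizer Y c ≤ ψ := by
    rintro c ⟨g, hg⟩ hgc
    obtain ⟨n, rfl⟩ := Subgroup.mem_zpowers_iff.1 hg
    have h1 : y ^ n * c.1.1 * (y ^ n)⁻¹ = c.1.1 :=
      congrArg (fun z : α => z.1.1) (mem_stabilizer_iff.1 hgc)
    obtain ⟨j, rfl⟩ := hd n c.1.1 c.1.2 (fun e => c.2 (Subtype.ext e)) (mul_inv_eq_iff_eq_mul.1 h1)
    refine Subgroup.mem_zpowers_iff.2 ⟨j, Subtype.ext ?_⟩
    rw [Subgroup.coe_zpow, Subgroup.coe_pow]
    show (y ^ d) ^ j = y ^ ((d : ℤ) * j)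
    rw [zpow_mul, zpow_natCast]
  have hψ : d ∣ ψ.index := by
    have h1 := ψ.card_mul_index
    rw [Nat.card_zpowers, ← Subgroup.orderOf_coe, Subgroup.coe_pow] at h1
    have h2 : Nat.card Y = orderOf y := Nat.card_zpowers y
    rw [h2, show ((⟨y, Subgroup.mem_zpowers y⟩ : Y) : H) = y from rfl, orderOf_pow,
      Nat.gcd_eq_right hdy] at h1
    have hpos : 0 < orderOf y / d :=
      Nat.div_pos (Nat.le_of_dvd (orderOf_pos y) hdy)
        (Nat.pos_of_dvd_of_pos hdy (orderOf_pos y))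
    refine dvd_of_eq (Nat.eq_of_mul_eq_mul_left hpos ?_)
    rw [Nat.div_mul_cancel hdy, h1]
  have hcard : Nat.card P - 1 = Nat.card α := by
    haveI := Fintype.ofFinite P
    rw [Nat.card_eq_fintype_card, Nat.card_eq_fintype_card]
    simp only [α]
    rw [Fintype.card_subtype_compl, Fintype.card_subtype_eq]
  rw [hcard, Nat.card_congr (MulAction.selfEquivSigmaOrbits Y α)]
  haveI := Fintype.ofFinite (Quotient (MulAction.orbitRel Y α))
  rw [Nat.card_sigma]
  refine Finset.dvd_sum fun ω _ => ?_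
  rw [Nat.card_coe_set_eq, ← index_stabilizer]
  exact hψ.trans (Subgroup.index_dvd_of_le (hstab _))

namespace ChordHyp

variable (C : ChordHyp G Ω D pt)
include C

/-- **No involution fixes `q² + 1` points.** -/
theorem false_of_sq {v : G} (hv : IsFixInv Ω v) (a : Ω)
    (hf : Nat.card {p : Ω // v • p = p} = Nat.card (atPoint D pt a) ^ 2 + 1)
    (hG : LineTwoFixed C a) : False := by
  classical
  obtain ⟨r, hr2, hr⟩ := C.fin.exists_card_E a
  obtain ⟨b, hab, Ln, hL, hN, hLim⟩ := C.exists_line_le_image a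
  have hr' : ∀ x : Ω, Nat.card {d : G // d ∈ D ∧ pt d = x} + 1 = 2 ^ r := fun x => by
    rw [card_point_eq C.fin.pc x a, ← hr, C.fin.pc.card_atPoint C.fin.comm hab]
  rw [hr] at hf
  have hodd : Odd r := C.fin.exists_odd_of_sq hr' hv hf
  obtain ⟨l, hl, hl3, hlmu, hlprim⟩ := SuzukiArith.exists_prime_six hr2
  haveI : Fact l.Prime := ⟨hl⟩
  have hl2 : l ≠ 2 := by omega
  set q := 2 ^ r with hq
  have hq4 : 4 ≤ q := (Nat.pow_le_pow_right two_pos hr2 : 2 ^ 2 ≤ 2 ^ r)
  set mu := q ^ 2 - q + 1 with hmu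
  have hn : Nat.card Ω - 1 = q ^ 3 * mu := by
    have hι : Nat.card {d : G // d ∈ D ∧ pt d = a} = q - 1 := by have := hr' a; omega
    rw [C.fin.card_points_fix hv a, hf, hι, Nat.add_sub_cancel, hmu]
    zify [show 1 ≤ q by omega, Nat.le_self_pow two_ne_zero q]
    ring
  have hln : l ∣ Nat.card Ω - 1 := hn ▸ hlmu.mul_left _
  set H := stabilizer G a with hH
  set φ := C.fin.autE a with hφ
  set K := φ.ker with hK
  -- elements of `l`-power order in `H`
  have hpgroup : ∀ {g : G} {m : ℕ}, g ^ l ^ m = 1 → IsPGroup l (Subgroup.zpowers g) := fun {g m} hg =>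
    IsPGroup.of_card (n := (orderOf g).factorization l) (by
      rw [Nat.card_zpowers]
      obtain ⟨j, -, hj⟩ := (Nat.dvd_prime_pow hl).1 (orderOf_dvd_of_pow_eq_one hg)
      rw [hj, hl.factorization_pow, Finsupp.single_eq_same])
  have hsemi : ∀ {g : G} {m : ℕ}, g ^ l ^ m = 1 → g • a = a → ∀ {y : Ω}, a ≠ y → g • y = y →
      g = 1 := fun {g m} hg hga {y} hay hgy =>
    Subgroup.zpowers_eq_bot.1 (C.fin.eq_bot_of_fixes_two hl2 hlprim hr' hln (hpgroup hg) hay
      (Subgroup.zpowers_le.2 (mem_stabilizer_iff.2 hga))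
      (Subgroup.zpowers_le.2 (mem_stabilizer_iff.2 hgy)))
  have hlker : ∀ {g : H} {m : ℕ}, g ^ l ^ m = 1 → φ g = 1 := fun {g m} hg => by
    have hg' : (g : G) ^ l ^ m = 1 := congrArg Subtype.val hg
    refine (C.fin.autE_eq_one g).2 (Subgroup.mem_centralizer_iff.2 fun e he => ?_)
    rcases C.fin.mem_E.1 he with rfl | ⟨heD, hea⟩
    · simp
    · exact (C.fin.centralizes_of_primitive hl2 hlprim hr' (hpgroup hg')
        (Subgroup.zpowers_le.2 g.2) heD hea (Subgroup.mem_zpowers _)).eq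
  -- a Sylow `l`-subgroup of the kernel
  obtain ⟨P⟩ : Nonempty (Sylow l K) := inferInstance
  set P₁ : Subgroup H := (P : Subgroup K).map K.subtype with hP₁
  have hP₁p : IsPGroup l P₁ := P.2.map _
  have hP₁card : Nat.card P₁ = Nat.card P :=
    (Nat.card_congr (Subgroup.equivMapOfInjective _ _ K.subtype_injective).toEquiv).symm
  have hlP : l ∣ Nat.card P₁ := by
    have hlH : l ∣ Nat.card H := by
      refine hln.trans ?_
      have horb : Nat.card (orbit H b) = Nat.card Ω - 1 := by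
        have hset : (orbit H b : Set Ω) = {y | a ≠ y} := by
          ext y
          refine ⟨fun ⟨h, hh⟩ e => hab ?_, fun hy => ?_⟩
          · have h1 : (h : G) • b = a := hh.trans e.symm
            exact ((eq_inv_smul_iff.2 h1).trans (mem_stabilizer_iff.1 (H.inv_mem h.2))).symm
          · obtain ⟨g, hg, hgy⟩ := C.fin.trans a b y hab hy
            exact ⟨⟨g, hg⟩, hgy⟩
        rw [hset, Nat.card_coe_set_eq, show {y : Ω | a ≠ y} = ({a} : Set Ω)ᶜ by
          ext y; simp [eq_comm], Set.ncard_compl, Set.ncard_singleton]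
      rw [← horb, Nat.card_coe_set_eq, ← index_stabilizer]
      exact Subgroup.index_dvd_card _
    obtain ⟨g, hg⟩ := exists_prime_orderOf_dvd_card' l hlH
    have hgK : g ∈ K := MonoidHom.mem_ker.2 (hlker (m := 1) (by rw [pow_one, ← hg, pow_orderOf_eq_one]))
    have hlK : l ∣ Nat.card K := hg ▸ Subgroup.orderOf_dvd_natCard K hgK
    rw [hP₁card]
    exact P.dvd_card_of_dvd_card hlK
  have hdvd : Nat.card P₁ ∣ mu := by
    have h1 : Nat.card P₁ ∣ q ^ 3 * mu := by
      rw [← hn]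
      have hfree : ∀ y : {y : Ω // a ≠ y}, ∀ g : P₁, (g : H).1 • y.1 = y.1 → g = 1 := by
        intro y g hgy
        obtain ⟨m, hm⟩ := hP₁p g
        exact Subtype.ext (Subtype.ext (hsemi
          (congrArg (fun z : P₁ => ((z : H) : G)) hm) (g : H).2 y.2 hgy))
      letI : MulAction P₁ {y : Ω // a ≠ y} :=
        { smul := fun g y => ⟨((g : H) : G) • y.1, fun e => y.2 (by
            have := congrArg (fun z => ((g : H) : G)⁻¹ • z) e
            simp only [inv_smul_smul] at this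
            rw [← this]
            exact (mem_stabilizer_iff.1 (H.inv_mem (g : H).2)).symm)⟩
          one_smul := fun y => Subtype.ext (one_smul G y.1)
          mul_smul := fun g g' y => Subtype.ext (mul_smul ((g : H) : G) ((g' : H) : G) y.1) }
      have hst : ∀ y : {y : Ω // a ≠ y}, stabilizer P₁ y = ⊥ := fun y =>
        (Subgroup.eq_bot_iff_forall _).2 fun g hg =>
          hfree y g (congrArg Subtype.val (mem_stabilizer_iff.1 hg))
      have hc := Nat.card_congr (MulAction.selfEquivOrbitsQuotientProd hst)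
      rw [Nat.card_prod] at hc
      have h2 : Nat.card {y : Ω // a ≠ y} = Nat.card Ω - 1 := by
        haveI := Fintype.ofFinite Ω
        rw [Nat.card_eq_fintype_card, Nat.card_eq_fintype_card, Fintype.card_subtype_compl,
          Fintype.card_subtype_eq']
      rw [← h2, hc]
      exact Dvd.intro_left _ rfl
    obtain ⟨t, ht⟩ := IsPGroup.iff_card.1 hP₁p
    rw [ht] at h1 ⊢
    refine (Nat.Coprime.dvd_mul_left ?_).1 h1
    rw [hq, ← pow_mul]
    exact ((Nat.coprime_primes hl Nat.prime_two).2 hl2).pow t _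
  have hmod : Nat.card P₁ ≡ 1 [MOD q - 1] := by
    refine ((Nat.modEq_iff_dvd' Nat.card_pos).2 ?_).symm
    refine (Nat.dvd_iff_prime_pow_dvd_dvd _ _).2 fun p k hp hpk => ?_
    rcases Nat.eq_zero_or_pos k with rfl | hk
    · simp
    haveI : Fact p.Prime := ⟨hp⟩
    have hpι : p ∣ Nat.card {d : G // d ∈ D ∧ pt d = a} := by
      have := hr' a
      exact (dvd_pow_self p hk.ne').trans (by rwa [show q - 1 = Nat.card {d : G // d ∈ D ∧ pt d = a}
        by omega] at hpk)
    -- an element of `p`-power order in `G_ab` inducing one of order `p ^ k` on the line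
    letI : CommGroup (atPoint D pt a) :=
      { (inferInstance : Group (atPoint D pt a)) with
        mul_comm := fun x y => Subtype.ext (C.fin.commute_E x.2 y.2).eq }
    haveI := C.fin.nontrivial_E a
    haveI := hL.isCyclic hr
    have hLc : Nat.card Ln = q - 1 := by have := hL.card; rw [hr] at this; omega
    obtain ⟨γ, hγ⟩ := IsCyclic.exists_ofOrder_eq_natCard (α := Ln)
    set σ := γ ^ (Nat.card Ln / p ^ k) with hσdef
    have hσ : orderOf (σ : MulAut (atPoint D pt a)) = p ^ k := by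
      rw [Subgroup.orderOf_coe, hσdef, ← hγ]
      exact orderOf_pow_orderOf_div (orderOf_pos γ).ne' (by rw [hγ, hLc]; exact hpk)
    obtain ⟨k₀, hk₀b, hk₀⟩ := hLim σ σ.2
    obtain ⟨s, m', hm', hsm⟩ := Nat.exists_eq_pow_mul_and_not_dvd (orderOf_pos k₀).ne' p hp.ne_one
    set g₀ := k₀ ^ m' with hg₀
    have hg₀p : g₀ ^ p ^ s = 1 := by rw [hg₀, ← pow_mul, mul_comm, ← hsm, pow_orderOf_eq_one]
    have hg₀σ : φ g₀ = (σ : MulAut (atPoint D pt a)) ^ m' := by rw [hg₀, map_pow, hk₀]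
    have hg₀ord : orderOf (φ g₀) = p ^ k := by
      rw [hg₀σ, ← hσ]
      exact Nat.Coprime.orderOf_pow (by
        rw [hσ]; exact (hp.coprime_iff_not_dvd.2 hm').pow_left k)
    have hg₀L : φ g₀ ∈ Ln := hg₀σ ▸ Ln.pow_mem σ.2 m'
    have hg₀b : (g₀ : G) • b = b :=
      mem_stabilizer_iff.1 (Subgroup.pow_mem _ (mem_stabilizer_iff.2 hk₀b) m')
    have hg₀G : IsPGroup p (Subgroup.zpowers (g₀ : G)) := by
      have h1 : (g₀ : G) ^ p ^ s = 1 := congrArg Subtype.val hg₀p
      obtain ⟨j, -, hj⟩ := (Nat.dvd_prime_pow hp).1 (orderOf_dvd_of_pow_eq_one h1)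
      exact IsPGroup.of_card (n := j) (by rw [Nat.card_zpowers, hj])
    obtain ⟨X, hgX, hXle, hXp, hXcard⟩ := exists_sylow_twoPt (G := G) (p := p) a b hg₀G
      (Subgroup.zpowers_le.2 ⟨g₀.2, mem_stabilizer_iff.2 hg₀b⟩)
    set X' : Subgroup H := X.subgroupOf H with hX'
    have hXH : X ≤ H := hXle.trans inf_le_left
    have hX'p : IsPGroup p X' := hXp.comap_subtype
    -- Frattini
    have hfrat := Sylow.normalizer_sup_eq_top P
    rw [← hP₁] at hfrat
    set N := Subgroup.normalizer (P₁ : Set H) with hNdef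
    let ψ : N →* φ.range := φ.rangeRestrict.comp N.subtype
    have hψ : Function.Surjective ψ := by
      rintro ⟨_, h, rfl⟩
      obtain ⟨x, hx, y, hy, rfl⟩ := Subgroup.mem_sup_of_normal_right.1
        (hfrat.symm ▸ Subgroup.mem_top h : h ∈ N ⊔ K)
      exact ⟨⟨x, hx⟩, Subtype.ext (by
        show φ x = φ (x * y)
        rw [map_mul, MonoidHom.mem_ker.1 hy, mul_one])⟩
    obtain ⟨S⟩ : Nonempty (Sylow p N) := inferInstance
    set S₁ : Subgroup H := (S : Subgroup N).map N.subtype with hS₁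
    obtain ⟨T, hT⟩ := hX'p.exists_le_sylow
    have hTX : (T : Subgroup H) = X' := by
      refine le_antisymm ?_ hT
      intro x hx
      have := C.fin.sylow_twoPt_max hpι hab hXcard (T.2.map H.subtype)
        (fun g hg => ⟨⟨g, hXH hg⟩, hT hg, rfl⟩) (Subgroup.map_subtype_le _)
      exact Subgroup.mem_subgroupOf.2 (this ▸ Subgroup.mem_map_of_mem H.subtype hx)
    obtain ⟨T₂, hT₂⟩ := ((S.2.map N.subtype) : IsPGroup p S₁).exists_le_sylow
    obtain ⟨h, hh⟩ := MulAction.exists_smul_eq H T₂ T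
    set S' := MulAut.conj h • S₁ with hS'
    have hS'X : S' ≤ X' := by
      rw [← hTX, ← hh, Sylow.coe_subgroup_smul]
      exact Subgroup.pointwise_smul_le_pointwise_smul_iff.2 hT₂
    have hmap : S'.map φ = X'.map φ := by
      refine Subgroup.eq_of_le_of_card_ge (Subgroup.map_mono hS'X) ?_
      obtain ⟨U, hU⟩ := ((hX'p.map φ.rangeRestrict) :
        IsPGroup p (X'.map φ.rangeRestrict)).exists_le_sylow
      have h1 : Nat.card U = Nat.card (S.mapSurjective hψ) :=
        U.card_eq_multiplicity.trans (S.mapSurjective hψ).card_eq_multiplicity.symm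
      have h2 : ∀ A : Subgroup H, Nat.card (A.map φ) = Nat.card (A.map φ.rangeRestrict) := fun A => by
        rw [show A.map φ = (A.map φ.rangeRestrict).map φ.range.subtype by
          rw [Subgroup.map_map]; rfl]
        exact Nat.card_congr (Subgroup.equivMapOfInjective _ _ φ.range.subtype_injective).symm.toEquiv
      have h3 : Nat.card (S'.map φ) = Nat.card (S.mapSurjective hψ : Subgroup φ.range) := by
        rw [h2, Sylow.coe_mapSurjective]
        show _ = Nat.card ((S : Subgroup N).map (φ.rangeRestrict.comp N.subtype))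
        rw [← Subgroup.map_map, ← hS₁, hS']
        rw [show (MulAut.conj h • S₁).map φ.rangeRestrict =
          MulAut.conj (φ.rangeRestrict h) • S₁.map φ.rangeRestrict from ?_, Coprime.card_conj]
        ext z
        simp only [Subgroup.mem_map, Coprime.mem_conj]
        constructor
        · rintro ⟨x, hx, rfl⟩
          exact ⟨_, hx, by simp⟩
        · rintro ⟨x, hx, hxz⟩
          exact ⟨h * x * h⁻¹, by simpa [mul_assoc] using hx, by simp [hxz, mul_assoc]⟩
      rw [h3, h2]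
      exact (Subgroup.card_le_of_le hU).trans h1.le
    obtain ⟨y, hy, hyφ⟩ : φ g₀ ∈ S'.map φ := hmap ▸ Subgroup.mem_map_of_mem φ
      (Subgroup.mem_subgroupOf.2 (hgX (Subgroup.mem_zpowers _)))
    -- `y` acts without fixed points on the conjugate of `P₁`
    set P' := MulAut.conj h • P₁ with hP'
    have hyN : y ∈ Subgroup.normalizer (P' : Set H) := by
      rw [hS', SetLike.mem_coe, Coprime.mem_conj] at hy
      obtain ⟨z, -, hzy⟩ := hy
      have hz : h⁻¹ * y * h ∈ Subgroup.normalizer (P₁ : Set H) := hzy ▸ z.2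
      refine Coprime.mem_normalizer_of_forall fun c hc => ?_
      rw [hP', Coprime.mem_conj] at hc ⊢
      have := (Subgroup.mem_normalizer_iff.1 hz _).1 hc
      convert this using 1
      group
    have hyX : (y : G) ∈ X := Subgroup.mem_subgroupOf.1 (hS'X hy)
    have hyb : (y : G) • b = b := mem_stabilizer_iff.1 (hXle hyX).2
    obtain ⟨my, hmy⟩ := hXp ⟨y, hyX⟩
    have hmy' : (y : G) ^ p ^ my = 1 := congrArg Subtype.val hmy
    have hdy : p ^ k ∣ orderOf y := by
      rw [← hg₀ord, ← hyφ]; exact orderOf_map_dvd φ y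
    have hP'card : Nat.card P' = Nat.card P₁ := by rw [hP', Coprime.card_conj]
    rw [← hP'card]
    refine dvd_card_ne_one_of_orbits hyN (fun n c hc hc1 hcomm => ?_) hdy
    by_contra hdn
    have hφn : φ (y ^ n) ≠ 1 := by
      intro e
      rw [map_zpow, hyφ] at e
      have := orderOf_dvd_iff_zpow_eq_one.2 e
      rw [hg₀ord] at this
      exact hdn this
    have hgn : ((y ^ n : H) : G) ^ p ^ my = 1 := by
      rw [Subgroup.coe_zpow, ← zpow_natCast, ← zpow_mul, mul_comm, zpow_mul, zpow_natCast, hmy',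
        one_zpow]
    have hgnb : ((y ^ n : H) : G) • b = b := by
      rw [Subgroup.coe_zpow]
      exact mem_stabilizer_iff.1 (zpow_mem (mem_stabilizer_iff.2 hyb) n)
    have hgnL : φ (y ^ n) ∈ Ln := by rw [map_zpow, hyφ]; exact zpow_mem hg₀L n
    have hcG : Commute ((y ^ n : H) : G) (c : G) := congrArg Subtype.val hcomm.eq
    have hfix : ((y ^ n : H) : G) • (c : G) • b = (c : G) • b := by
      rw [← mul_smul, hcG.eq, mul_smul, hgnb]
    have hcl : ∃ m, (c : G) ^ l ^ m = 1 := by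
      obtain ⟨m, hm⟩ := (hP₁p.map _ : IsPGroup l P') ⟨c, hc⟩
      exact ⟨m, congrArg (fun z : P' => ((z : H) : G)) hm⟩
    rcases hG hab (y ^ n : H).2 hgnb hgn hL hN hgnL hφn hfix with e | e
    · exact hab ((eq_inv_smul_iff.2 e).trans (mem_stabilizer_iff.1 (H.inv_mem c.2))).symm
    · obtain ⟨m, hm⟩ := hcl
      exact hc1 (Subtype.ext (hsemi hm c.2 hab e))
  rcases SuzukiArith.eq_one_or_self_of_modEq (by omega) hdvd hmod with h1 | h1
  · rw [h1] at hlP
    exact hl.one_lt.ne' (Nat.dvd_one.1 hlP)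
  · have h3 := SuzukiArith.three_dvd_of_odd hodd
    change 3 ∣ mu at h3
    rw [← (show Nat.card P₁ = mu from h1)] at h3
    obtain ⟨t, ht⟩ := IsPGroup.iff_card.1 hP₁p
    rw [ht] at h3
    have := (Nat.prime_dvd_prime_iff_eq Nat.prime_three hl).1 (Nat.prime_three.dvd_of_dvd_pow h3)
    omega

/-- In this case no involution fixes `q³ + 1` points, the hypothesis of lemma G. -/
theorem ne_cube_of_sq {v : G} (hv : IsFixInv Ω v) (a : Ω)
    (hf : Nat.card {p : Ω // v • p = p} = Nat.card (atPoint D pt a) ^ 2 + 1) {u : G}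
    (hu : IsFixInv Ω u) : Nat.card (FixSet Ω u) ≠ Nat.card (atPoint D pt a) ^ 3 + 1 := by
  intro he
  have he' : Nat.card {p : Ω // u • p = p} = Nat.card (atPoint D pt a) ^ 3 + 1 := he
  have h1 := C.fin.card_points_fix hv a
  have h2 := C.fin.card_points_fix hu a
  rw [hf, Nat.add_sub_cancel] at h1
  rw [he', Nat.add_sub_cancel] at h2
  obtain ⟨y, hy⟩ := C.fin.exists_ne a
  set q := Nat.card (atPoint D pt a) with hq
  have hq4 : 4 ≤ q := C.fin.card_E_ge a
  have hlt : q ^ 2 < q ^ 3 := Nat.pow_lt_pow_right (by omega) (by norm_num)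
  have hle : 1 + Nat.card {d : G // d ∈ D ∧ pt d = a} * (q ^ 2 + 1) ≤
      1 + Nat.card {d : G // d ∈ D ∧ pt d = a} * (q ^ 3 + 1) :=
    Nat.add_le_add_left (Nat.mul_le_mul_left _ (by omega)) 1
  exact absurd (h1.symm.trans h2) (Nat.mul_lt_mul_of_lt_of_le hlt hle (by omega)).ne

end ChordHyp

end Cfsg.Agent.Aschbacher
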