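/-
No involution fixes `q² + 1` points (owner: helper87): `CriterionSuzuki` with lemma G plugged in.
-/
import Cfsg.Agent.Lib.Aschbacher.CriterionSuzuki
import Cfsg.Agent.Lib.Aschbacher.CriterionFixPair
import Cfsg.Agent.Lib.Aschbacher.CriterionChordExport

set_option autoImplicit false
set_option linter.style.haveILetI false
set_option linter.unusedSectionVars false

namespace Cfsg.Agent.Aschbacher

open Cfsg Involution MulAction

universe u

variable {G : Type u} {Ω : Type u} [Group G] [MulAction G Ω] [Finite G] [Finite Ω]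
  [FaithfulSMul G Ω] {D : Set G} {pt : G → Ω}

/-- **The case `|Fix v| = q² + 1` is impossible.** -/
theorem ChordHyp.not_sq_case (C : ChordHyp G Ω D pt) {v : G} (hv : IsFixInv Ω v) (a : Ω) :
    Nat.card {p : Ω // v • p = p} ≠ Nat.card (atPoint D pt a) ^ 2 + 1 := fun hf =>
  C.false_of_sq hv a hf fun {p} _ {b} hab {g} hga hgb {m} hg {L} hL hN hgL hg1 {z} hz =>
    C.fix_eq_of_line (fun x u hu => C.fin.card_E_eq a x ▸ C.ne_cube_of_sq hv a hf hu) hab hga hgb hg
      hL hN hgL hg1 hz

/-- The same from the hypotheses of the finish. -/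
theorem FinishHyp.not_sq_case (h : FinishHyp G Ω D pt) {v : G} (hv : IsFixInv Ω v) (a : Ω) :
    Nat.card {p : Ω // v • p = p} ≠ Nat.card (atPoint D pt a) ^ 2 + 1 :=
  (h.chordHyp hv).not_sq_case hv a

end Cfsg.Agent.Aschbacher
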