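/-
From commuting modulo the odd core to commuting: stage 2a of Bender's theorem for point classes
(bridge from piece A of the core-free criterion; owner: helper43).

With the point stabiliser transitive on the other points (`PairSetup.transitive`), the members at a
point centralise the odd core `K` of the group they generate: a `p`-subgroup `A ≤ K` normalised by
the stabiliser is conjugate into a free maximal two-point subgroup, so fixes everything, or its
commutators with the members lie in a centred one, so are trivial.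

Main results (namespace `Cfsg.Agent.Aschbacher.PointClass`):
* `commute_coreAt` : a member at `a` centralises the odd core of `atPoint D pt a`
* `commute_at_of_coreTwoAt` : the members at `a` commute
-/
import Cfsg.Agent.Lib.Aschbacher.PairFull
import Cfsg.Agent.Lib.Aschbacher.PointCrit
import Cfsg.Agent.Lib.Bender.HalfCore
import Cfsg.Agent.S1131

set_option autoImplicit false
set_option linter.style.haveILetI false
set_option linter.unusedSectionVars false

namespace Cfsg.Agent.Aschbacher.PointClass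

open Cfsg Involution Bender
open scoped Pointwise

universe u

variable {G : Type u} {Ω : Type u} [Group G] [MulAction G Ω] [Finite G] [Finite Ω]
  [FaithfulSMul G Ω] {D : Set G} {pt : G → Ω} (P : PointClass G Ω D pt)
  {a : Ω} (htrans : ∀ y y' : Ω, a ≠ y → a ≠ y' → ∃ h : G, h • a = a ∧ h • y = y')
include P

theorem atPoint_le_stabilizer : atPoint D pt a ≤ MulAction.stabilizer G a :=
  (Subgroup.closure_le _).2 fun d hd => MulAction.mem_stabilizer_iff.2 (hd.2 ▸ P.smul_pt hd.1)

theorem stabilizer_le_normalizer_pointGroup :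
    MulAction.stabilizer G a ≤ Subgroup.normalizer (atPoint D pt a : Set G) := by
  refine fun h hh => Coprime.mem_normalizer_of_forall fun g hg => ?_
  induction hg using Subgroup.closure_induction with
  | mem d hd =>
    exact Subgroup.subset_closure
      ⟨P.conj_mem h d hd.1, by rw [P.pt_conj h hd.1, hd.2]; exact MulAction.mem_stabilizer_iff.1 hh⟩
  | one => simp
  | mul x y _ _ hx hy =>
    have := mul_mem hx hy
    rwa [conj_mul] at this
  | inv x _ hx =>
    have := inv_mem hx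
    rwa [conj_inv] at this

theorem conj_mem_coreAt {h k : G} (hh : h ∈ MulAction.stabilizer G a) (hk : k ∈ (core 2 (atPoint D pt a))) :
    h * k * h⁻¹ ∈ (core 2 (atPoint D pt a)) :=
  conj_mem_core_two (P.stabilizer_le_normalizer_pointGroup hh) hk

/-- The commutator of a member at `a` with an element fixing `a` lies in the core, if its order is
odd. -/
theorem commutator_mem_coreAt (hS : CoreTwoAt D pt a) {v r : G} (hv : v ∈ D) (hva : pt v = a)
    (hra : r • a = a) (hodd : Odd (orderOf (v * r * v⁻¹ * r⁻¹))) :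
    v * r * v⁻¹ * r⁻¹ ∈ (core 2 (atPoint D pt a)) := by
  set s : atPoint D pt a := ⟨v, Subgroup.subset_closure ⟨hv, hva⟩⟩
  set t : atPoint D pt a := ⟨r * v * r⁻¹, Subgroup.subset_closure
    ⟨P.conj_mem r v hv, by rw [P.pt_conj r hv, hva, hra]⟩⟩
  have h1 : v * (r * v * r⁻¹) * v⁻¹ * (r * v * r⁻¹)⁻¹ ∈ (core 2 (atPoint D pt a)) := ⟨_, hS s t, rfl⟩
  have hvi : v⁻¹ = v := inv_eq (P.inv v hv)
  set c := v * r * v⁻¹ * r⁻¹ with hc
  have hcc : c * c ∈ (core 2 (atPoint D pt a)) := by
    convert h1 using 1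
    rw [hc]
    simp only [hvi, mul_inv_rev, inv_inv]
    group
  obtain ⟨l, hl⟩ := hodd
  have e : (c * c) ^ (l + 1) = c := by
    rw [← pow_two, ← pow_mul, show 2 * (l + 1) = orderOf c + 1 by omega, pow_succ,
      pow_orderOf_eq_one, one_mul]
  exact e ▸ Subgroup.pow_mem _ hcc _

include htrans

/-- A subgroup normalised by the stabiliser of `a` fixing `a` and another point is trivial. -/
theorem eq_bot_of_fixes {A : Subgroup G} (hAa : A ≤ MulAction.stabilizer G a)
    (hn : ∀ h ∈ MulAction.stabilizer G a, ∀ g ∈ A, h * g * h⁻¹ ∈ A) {z : Ω} (hz : a ≠ z)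
    (hfix : A ≤ MulAction.stabilizer G z) : A = ⊥ := by
  refine (Subgroup.eq_bot_iff_forall _).2 fun g hg => eq_of_smul_eq_smul fun y : Ω => ?_
  rw [one_smul]
  by_cases e : a = y
  · rw [← e]; exact MulAction.mem_stabilizer_iff.1 (hAa hg)
  obtain ⟨h, hha, hhz⟩ := htrans z y hz e
  have hh : h⁻¹ ∈ MulAction.stabilizer G a :=
    inv_mem (MulAction.mem_stabilizer_iff.2 hha)
  have h1 := MulAction.mem_stabilizer_iff.1 (hfix (hn _ hh g hg))
  rw [inv_inv, mul_smul, mul_smul, inv_smul_eq_iff, hhz] at h1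
  exact h1

/-- All two-point stabilisers have the same order. -/
theorem card_twoPt_eq {z x y : Ω} (hz : a ≠ z) (hxy : x ≠ y) :
    Nat.card (twoPt G x y) = Nat.card (twoPt G a z) := by
  obtain ⟨g, hg⟩ := P.exists_smul_eq x a
  have hne : a ≠ g • y := fun e => hxy (MulAction.injective g (hg.trans e))
  obtain ⟨h, hha, hhy⟩ := htrans (g • y) z hne hz
  refine Nat.card_congr (Equiv.subtypeEquiv (MulAut.conj (h * g)).toEquiv fun k => ?_)
  show k ∈ twoPt G x y ↔ h * g * k * (h * g)⁻¹ ∈ twoPt G a z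
  have ha : (h * g) • x = a := by rw [mul_smul, hg, hha]
  have hy : (h * g) • y = z := by rw [mul_smul, hhy]
  simp only [Subgroup.mem_inf, MulAction.mem_stabilizer_iff, ← ha, ← hy]
  simp only [← mul_smul, inv_mul_cancel_right]
  simp only [mul_smul, smul_left_cancel_iff]

/-- A member at `a` centralises a `p`-subgroup of the core normalised by the stabiliser of `a`. -/
theorem commute_of_normal_pSubgroup (hS : CoreTwoAt D pt a) {z : Ω} (hoz : a ≠ z)
    {p : ℕ} [Fact p.Prime] {A : Subgroup G} (hA : IsPGroup p A) (hAO : A ≤ (core 2 (atPoint D pt a)))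
    (hn : ∀ h ∈ MulAction.stabilizer G a, ∀ g ∈ A, h * g * h⁻¹ ∈ A)
    {w : G} (hw : w ∈ D) (hwa : pt w = a) : ∀ g ∈ A, Commute w g := by
  set H := MulAction.stabilizer G a with hH
  set K := core 2 (atPoint D pt a) with hK
  have hKH : K ≤ H := (core_le 2 _).trans P.atPoint_le_stabilizer
  have hKodd : Odd (Nat.card K) := odd_card_core_two _
  by_cases hA1 : A = ⊥
  · intro g hg
    rw [hA1, Subgroup.mem_bot] at hg
    rw [hg]; exact Commute.one_right w
  have hp2 : p ≠ 2 := by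
    rintro rfl
    obtain ⟨k, hk⟩ := hA.exists_card_eq
    have hd := Subgroup.card_dvd_of_le hAO
    rw [hk] at hd
    rcases k with _ | k
    · exact hA1 (Subgroup.card_eq_one.1 hk)
    · exact Nat.two_dvd_ne_zero.2 (Nat.odd_iff.1 hKodd) ((dvd_pow_self 2 k.succ_ne_zero).trans hd)
  obtain ⟨X, -, hXK, hXp, hXcard⟩ := exists_sylow_twoPt (G := G) (p := p) a z (X := ⊥)
    IsPGroup.of_bot bot_le
  have hmax : ∀ Q : Subgroup G, IsPGroup p Q → ∀ x y : Ω, x ≠ y →
      Q ≤ MulAction.stabilizer G x → Q ≤ MulAction.stabilizer G y → Nat.card Q ≤ Nat.card X := by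
    intro Q hQ x y hxy hx hy
    rw [hXcard, ← P.card_twoPt_eq htrans hoz hxy]
    exact Coprime.card_le_of_isPGroup hQ (le_inf hx hy)
  have hsyl : ∀ x y : Ω, x ≠ y → X ≤ twoPt G x y →
      Nat.card X = p ^ (Nat.card (twoPt G x y)).factorization p := fun x y hxy _ => by
    rw [hXcard, P.card_twoPt_eq htrans hoz hxy]
  have hAo : A ≤ H := hAO.trans hKH
  by_cases hfree : Free D pt X
  · -- then `A` fixes a second point
    have S : PairSetup D pt p X a z :=
      ⟨P, hXp, hoz, hXK.trans inf_le_left, hXK.trans inf_le_right, hfree, hmax, hp2⟩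
    obtain ⟨g, hg, hgA⟩ := S.exists_conj_le hA hAo
    refine absurd (P.eq_bot_of_fixes htrans hAo hn hoz fun b hb => ?_) hA1
    refine (hXK (hgA (Coprime.mem_conj.2 ?_))).2
    have := hn g⁻¹ (inv_mem (MulAction.mem_stabilizer_iff.2 hg)) b hb
    rwa [inv_inv] at this
  -- a member at `a` normalising the centred `X`
  obtain ⟨v, hv, hvX, hvo⟩ : ∃ v ∈ D, v ∈ Subgroup.normalizer (X : Set G) ∧ pt v = a := by
    obtain ⟨u, hu, huX, huz⟩ :=
      P.exists_swap_normalizing_twoPt hoz hp2 hXK (hsyl a z hoz hXK)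
    have hc : X ≤ MulAction.stabilizer G (pt u) := not_not.1 fun h => hfree ⟨u, hu, huX, h⟩
    have hcz : pt u ≠ a := fun e => hoz (by rw [← huz, ← e, P.smul_pt hu])
    have hcK : X ≤ twoPt G (pt u) a := le_inf hc (hXK.trans inf_le_left)
    obtain ⟨w', hw', hwX, hwc⟩ := P.exists_swap_normalizing_twoPt hcz hp2 hcK (hsyl _ _ hcz hcK)
    exact ⟨w' * u * w'⁻¹, P.conj_mem w' u hu, mem_normalizer_conj hwX huX,
      by rw [P.pt_conj w' hu, hwc]⟩
  have hv2 := P.inv v hv
  have hvH : v ∈ H := MulAction.mem_stabilizer_iff.2 (hvo ▸ P.smul_pt hv)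
  have hXH : X ≤ H := hXK.trans inf_le_left
  have hnA : ∀ h ∈ H, h ∈ Subgroup.normalizer (A : Set G) := fun h hh =>
    Coprime.mem_normalizer_of_forall fun g hg => hn h hh g hg
  set R := A ⊔ X with hR
  have hRH : R ≤ H := sup_le hAo hXH
  have hRp : IsPGroup p R := by
    rw [hR, sup_comm]
    exact hXp.to_sup_of_normal_right' hA fun x hx => hnA x (hXH hx)
  have hRodd : Odd (Nat.card R) := Bender.odd_card_of_isPGroup hp2 hRp
  have hvR : ∀ r ∈ R, v * r * v⁻¹ ∈ R := by
    intro r hr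
    have hle : R ≤ R.comap (MulAut.conj v).toMonoidHom :=
      sup_le (fun g hg => Subgroup.mem_sup_left (hn v hvH g hg))
        fun x hx => Subgroup.mem_sup_right ((Subgroup.mem_normalizer_iff.1 hvX x).1 hx)
    exact hle hr
  have hKn : ∀ h ∈ H, ∀ k ∈ K, h * k * h⁻¹ ∈ K := fun h hh k hk => P.conj_mem_coreAt hh hk
  -- the `R`-orbit of `v` is that of `R ⊓ K`
  have horb : orbConj v R ⊆ orbConj v (R ⊓ K) := by
    rintro _ ⟨r, hr, rfl⟩
    set c := v * r * v⁻¹ * r⁻¹ with hc
    have hcR : c ∈ R := mul_mem (hvR r hr) (inv_mem hr)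
    have hcodd : Odd (orderOf c) := hRodd.of_dvd_nat (Subgroup.orderOf_dvd_natCard _ hcR)
    have hcK : c ∈ K := P.commutator_mem_coreAt hS hv hvo (MulAction.mem_stabilizer_iff.1 (hRH hr)) hcodd
    obtain ⟨l, hl⟩ := hcodd
    refine ⟨c ^ l, ⟨pow_mem hcR l, pow_mem hcK l⟩, ?_⟩
    have hvi : v⁻¹ = v := inv_eq hv2
    have hinv : v * c * v⁻¹ = c⁻¹ := by
      rw [hc]
      simp only [mul_inv_rev, inv_inv, hvi]
      rw [show v * (v * r * v * r⁻¹) * v = (v * v) * r * v * r⁻¹ * v by group, mul_self hv2, one_mul]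
      group
    have hcl : c ^ l * v = v * (c⁻¹) ^ l := by
      have h1 := (SemiconjBy.pow_right (a := v) (x := c⁻¹) (y := c) (by
        show v * c⁻¹ = c * v
        calc v * c⁻¹ = (v * c * v⁻¹)⁻¹ * v := by group
          _ = c * v := by rw [hinv, inv_inv]) l).eq
      exact h1.symm
    show c ^ l * v * (c ^ l)⁻¹ = r * v * r⁻¹
    have hcc : (c⁻¹) ^ l * (c ^ l)⁻¹ = c := by
      rw [inv_pow, ← mul_inv_rev, ← pow_add, inv_eq_iff_mul_eq_one, ← pow_succ, ← two_mul, ← hl,
        pow_orderOf_eq_one]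
    rw [hcl, mul_assoc, hcc, hc, hvi]
    rw [show v * (v * r * v * r⁻¹) = (v * v) * r * v * r⁻¹ by group, mul_self hv2, one_mul]
  -- a `v`-invariant Sylow subgroup of `K` over `R ⊓ K`
  have hvK : v ∈ Subgroup.normalizer (K : Set G) :=
    Coprime.mem_normalizer_of_forall fun k hk => hKn v hvH k hk
  have hvRK : v ∈ Subgroup.normalizer (↑(R ⊓ K) : Set G) :=
    Coprime.mem_normalizer_of_forall fun k hk => ⟨hvR k hk.1, hKn v hvH k hk.2⟩
  obtain ⟨Q, hRQ, hQK, hvQ, hQp, hQcard⟩ :=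
    exists_sylow_invariant hv2 hvK hKodd (inf_le_right : R ⊓ K ≤ K) (hRp.to_le inf_le_left) hvRK
  set C := Subgroup.centralizer ({v} : Set G) with hC
  have hQC : Nat.card ↥(Q ⊓ C) = p ^ (Nat.card ↥(K ⊓ C)).factorization p :=
    Coprime.card_inf_centralizer_eq (A := Subgroup.zpowers v) (Subgroup.zpowers_le.2 hvK)
      (by rw [Nat.card_zpowers, hv2]; exact Nat.coprime_two_left.2 hKodd) hQK
      (Subgroup.zpowers_le.2 hvQ) hQcard (Subgroup.mem_zpowers v)
  -- counting
  set I : Set G := {t | t ∈ D ∧ pt t = a} with hI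
  have hIne : Nat.card I ≠ 0 :=
    (Nat.card_pos_iff.2 ⟨⟨⟨v, hv, hvo⟩⟩, inferInstance⟩).ne'
  have hDH : twoPt G a z ≤ H := inf_le_left
  have hIclosed : ∀ k ∈ H, ∀ t ∈ I, k * t * k⁻¹ ∈ I := fun k hk t ht =>
    ⟨P.conj_mem k t ht.1, by rw [P.pt_conj k ht.1, ht.2]; exact MulAction.mem_stabilizer_iff.1 hk⟩
  have hItrans : ∀ t ∈ I, ∃ k ∈ twoPt G a z, k * v * k⁻¹ = t := fun t ht => by
    obtain ⟨k, hk, e⟩ := P.exists_core_conj_point hoz hv hvo ht.1 ht.2
    exact ⟨k, core_le 2 _ hk, e⟩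
  have nD := card_eq_mul_centralizer (twoPt G a z) I (fun k hk => hIclosed k (hDH hk)) ⟨hv, hvo⟩
    hItrans
  have nH := card_eq_mul_centralizer H I hIclosed ⟨hv, hvo⟩ fun t ht => by
    obtain ⟨k, hk, e⟩ := hItrans t ht
    exact ⟨k, hDH hk, e⟩
  have hKdvd : Nat.card K ∣ Nat.card I * Nat.card ↥(K ⊓ C) := by
    set N := K.subgroupOf H
    haveI : N.Normal := ⟨fun n hn g => Subgroup.mem_subgroupOf.2 (hKn g g.2 n hn)⟩
    set C' := C.subgroupOf H
    have h1 : C'.relIndex N * Nat.card ↥(C' ⊓ N) = Nat.card N := by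
      have := Subgroup.card_mul_index (C'.subgroupOf N)
      rw [← Subgroup.relIndex, mul_comm, Nat.card_congr (β := ↥(C' ⊓ N))
        { toFun := fun x => ⟨x.1.1, x.2, x.1.2⟩
          invFun := fun x => ⟨⟨x.1, x.2.2⟩, x.2.1⟩
          left_inv := fun x => rfl
          right_inv := fun x => rfl }] at this
      exact this
    have h3 : C'.relIndex N = C'.relIndex (C' ⊔ N) := by
      have e1 := Subgroup.relIndex_mul_relIndex (C' ⊓ N) N (C' ⊔ N) inf_le_right le_sup_right
      have e2 := Subgroup.relIndex_mul_relIndex (C' ⊓ N) C' (C' ⊔ N) inf_le_left le_sup_left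
      rw [Subgroup.inf_relIndex_right, Subgroup.relIndex_sup_right] at e1
      rw [Subgroup.inf_relIndex_left, mul_comm] at e2
      exact mul_right_cancel₀ Nat.card_pos.ne' (e1.trans e2.symm)
    have h4 : C'.relIndex N ∣ C'.index := by
      rw [h3]
      exact Subgroup.relIndex_dvd_index_of_le le_sup_left
    have h5 : C'.index = Nat.card I := by
      have := Subgroup.card_mul_index C'
      rw [show Nat.card C' = Nat.card ↥(H ⊓ C) from Nat.card_congr
        { toFun := fun x => ⟨x.1.1, x.1.2, x.2⟩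
          invFun := fun x => ⟨⟨x.1, x.2.1⟩, x.2.2⟩
          left_inv := fun x => rfl
          right_inv := fun x => rfl }, nH, mul_comm] at this
      exact mul_right_cancel₀ Nat.card_pos.ne' this
    have hcN : Nat.card K = Nat.card N := (Cores.card_subgroupOf hKH).symm
    have hcC : Nat.card ↥(C' ⊓ N) = Nat.card ↥(K ⊓ C) := Nat.card_congr
      { toFun := fun x => ⟨x.1.1, x.2.2, x.2.1⟩
        invFun := fun x => ⟨⟨x.1, hKH x.2.1⟩, x.2.2, x.2.1⟩
        left_inv := fun x => rfl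
        right_inv := fun x => rfl }
    rw [hcN, ← h1, hcC]
    exact mul_dvd_mul_right (h5 ▸ h4) _
  -- the three orbit lengths
  have hpow : ∀ n, 0 < pPart p n := fun n => pow_pos (Fact.out : p.Prime).pos _
  have hXle : pPart p (Nat.card I) ≤ Nat.card (orbConj v X) := by
    have h1 := card_orbConj v X
    have h2' : Nat.card ↥(X ⊓ C) ≤ pPart p (Nat.card ↥(twoPt G a z ⊓ C)) :=
      Coprime.card_le_of_isPGroup (hXp.to_le inf_le_left) (inf_le_inf_right _ hXK)
    rw [hXcard, nD, pPart_mul hIne Nat.card_pos.ne'] at h1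
    have h3 := Nat.mul_le_mul_left (Nat.card (orbConj v X)) h2'
    rw [← h1] at h3
    exact Nat.le_of_mul_le_mul_right h3 (hpow _)
  have hQle : Nat.card (orbConj v Q) ≤ pPart p (Nat.card I) := by
    have h1 := card_orbConj v Q
    rw [hQcard, hQC] at h1
    have h3 : pPart p (Nat.card K) ≤ pPart p (Nat.card I * Nat.card ↥(K ⊓ C)) :=
      Nat.pow_le_pow_right (Fact.out : p.Prime).pos
        (((Fact.out : p.Prime).pow_dvd_iff_le_factorization (mul_ne_zero hIne Nat.card_pos.ne')).1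
          ((Nat.ordProj_dvd _ p).trans hKdvd))
    rw [pPart_mul hIne Nat.card_pos.ne'] at h3
    exact Nat.le_of_mul_le_mul_right (h1.symm.trans_le h3) (hpow _)
  have heq : orbConj v X = orbConj v R := by
    refine Set.eq_of_subset_of_ncard_le (Set.image_mono (le_sup_right : X ≤ R)) ?_
    rw [← Nat.card_coe_set_eq, ← Nat.card_coe_set_eq]
    refine le_trans (le_trans ?_ hQle) hXle
    rw [Nat.card_coe_set_eq, Nat.card_coe_set_eq]
    exact Set.ncard_le_ncard (horb.trans (Set.image_mono (show R ⊓ K ≤ Q from hRQ))) (Set.toFinite _)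
  have hcomm : ∀ g ∈ A, v * g * v⁻¹ * g⁻¹ ∈ X := by
    intro g hg
    obtain ⟨x, hx, e⟩ : g * v * g⁻¹ ∈ orbConj v X := heq ▸ ⟨g, Subgroup.mem_sup_left hg, rfl⟩
    have e' : x * v * x⁻¹ = g * v * g⁻¹ := e
    have hvi : v⁻¹ = v := inv_eq hv2
    rw [show v * g * v⁻¹ * g⁻¹ = v * (g * v⁻¹ * g⁻¹) by group, hvi, ← e',
      show v * (x * v * x⁻¹) = (v * x * v) * x⁻¹ by group]
    exact X.mul_mem (by have := (Subgroup.mem_normalizer_iff.1 hvX x).1 hx; rwa [hvi] at this) (inv_mem hx)
  -- so `[A, I]` fixes `z`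
  set B := Subgroup.closure {g : G | ∃ t ∈ I, ∃ b ∈ A, g = t * b * t⁻¹ * b⁻¹} with hB
  have hBle : B ≤ twoPt G a z := by
    refine (Subgroup.closure_le _).2 ?_
    rintro _ ⟨t, ht, b, hb, rfl⟩
    obtain ⟨d, hd, rfl⟩ := hItrans t ht
    have h1 : d⁻¹ * b * d ∈ A := by simpa using hn d⁻¹ (inv_mem (hDH hd)) b hb
    rw [SetLike.mem_coe, show d * v * d⁻¹ * b * (d * v * d⁻¹)⁻¹ * b⁻¹ =
      d * (v * (d⁻¹ * b * d) * v⁻¹ * (d⁻¹ * b * d)⁻¹) * d⁻¹ by group]
    exact mul_mem (mul_mem hd (hXK (hcomm _ h1))) (inv_mem hd)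
  have hBbot : B = ⊥ := by
    refine P.eq_bot_of_fixes htrans (hBle.trans hDH) (fun h hh g hg => ?_) hoz
      (hBle.trans inf_le_right)
    have hle : B ≤ B.comap (MulAut.conj h).toMonoidHom := by
      refine (Subgroup.closure_le _).2 ?_
      rintro _ ⟨t, ht, b, hb, rfl⟩
      refine Subgroup.subset_closure ⟨h * t * h⁻¹, hIclosed h hh t ht, h * b * h⁻¹, hn h hh b hb, ?_⟩
      show h * (t * b * t⁻¹ * b⁻¹) * h⁻¹ = _
      group
    exact hle hg
  intro g hg
  have h1 : w * g * w⁻¹ * g⁻¹ ∈ B := Subgroup.subset_closure ⟨w, ⟨hw, hwa⟩, g, hg, rfl⟩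
  rw [hBbot, Subgroup.mem_bot] at h1
  show w * g = g * w
  calc w * g = w * g * w⁻¹ * g⁻¹ * (g * w) := by group
    _ = g * w := by rw [h1, one_mul]

/-- **A member at `a` centralises the odd core.** -/
theorem commute_coreAt (hS : CoreTwoAt D pt a) {z : Ω} (hoz : a ≠ z) {v : G} (hv : v ∈ D)
    (hva : pt v = a) {k : G} (hkK : k ∈ (core 2 (atPoint D pt a))) : Commute v k := by
  set H := MulAction.stabilizer G a with hH
  have hKH : (core 2 (atPoint D pt a)) ≤ H := (core_le 2 _).trans P.atPoint_le_stabilizer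
  set N := (core 2 (atPoint D pt a)).subgroupOf H with hN
  haveI : N.Normal := ⟨fun n hn g => Subgroup.mem_subgroupOf.2 (P.conj_mem_coreAt g.2 hn)⟩
  have hNodd : Odd (Nat.card N) := by rw [hN, Cores.card_subgroupOf hKH]; exact odd_card_core_two _
  haveI : Group.IsSolvable N := S1131.oddSolvable N hNodd
  have hNK : N.map H.subtype ≤ (core 2 (atPoint D pt a)) := (Subgroup.map_subgroupOf_eq_of_le hKH).le
  set vv : H := ⟨v, MulAction.mem_stabilizer_iff.2 (hva ▸ P.smul_pt hv)⟩
  have hF : ∀ f ∈ fittingSubgroup N, Commute v ((f : H) : G) := by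
    have hle : fittingSubgroup N ≤
        (Subgroup.centralizer ({v} : Set G)).comap (H.subtype.comp N.subtype) := by
      rw [Cores.fittingSubgroup_eq_iSup_pCore]
      refine iSup_le fun p => ?_
      haveI : Fact (p : ℕ).Prime := ⟨p.2⟩
      intro f hf
      set A := ((pCore (p : ℕ) N).map N.subtype).map H.subtype with hA
      have hn : ∀ h ∈ H, ∀ g ∈ A, h * g * h⁻¹ ∈ A := by
        rintro h hh _ ⟨g, hg, rfl⟩
        exact ⟨⟨h, hh⟩ * g * ⟨h, hh⟩⁻¹, Subgroup.Normal.conj_mem inferInstance g hg _, rfl⟩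
      exact mem_centralizer.2 (P.commute_of_normal_pSubgroup htrans hS hoz (p := p) (A := A)
        (((Cores.isPGroup_pCore (p : ℕ) N).map _).map _)
        ((Subgroup.map_mono (Subgroup.map_subtype_le _)).trans hNK) hn hv hva _
        ⟨_, ⟨f, hf, rfl⟩, rfl⟩).symm
    exact fun f hf => (mem_centralizer.1 (hle hf)).symm
  obtain ⟨kk, hkk⟩ : ∃ kk : N, ((kk : H) : G) = k := ⟨⟨⟨k, hKH hkK⟩, hkK⟩, rfl⟩
  subst hkk
  have hvi : vv⁻¹ = vv := Subtype.ext (inv_eq (P.inv v hv))
  have hvv : vv * vv = 1 := Subtype.ext (mul_self (P.inv v hv))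
  set c : H := vv * kk * vv⁻¹ * (kk : H)⁻¹ with hc
  have hcN : c ∈ N := mul_mem (Subgroup.Normal.conj_mem inferInstance _ kk.2 vv) (inv_mem kk.2)
  have hcC : (⟨c, hcN⟩ : N) ∈ Subgroup.centralizer (fittingSubgroup N : Set N) := by
    refine Subgroup.mem_centralizer_iff.2 fun f hf => Subtype.ext ?_
    show (f : H) * c = c * f
    have h1 : Commute vv (f : H) := Subtype.ext (hF f hf)
    haveI : (fittingSubgroup N).Normal := Cores.fittingSubgroup_normal _
    have h2' : Commute vv ((kk : H)⁻¹ * f * kk) := by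
      have h3 : kk⁻¹ * f * kk⁻¹⁻¹ ∈ fittingSubgroup N := Subgroup.Normal.conj_mem inferInstance f hf _
      rw [inv_inv] at h3
      exact Subtype.ext (hF _ h3)
    have e1 : (f : H) * (kk * vv * (kk : H)⁻¹) = (kk * vv * (kk : H)⁻¹) * f := by
      calc (f : H) * (kk * vv * (kk : H)⁻¹) = kk * (((kk : H)⁻¹ * f * kk) * vv) * (kk : H)⁻¹ := by group
        _ = kk * (vv * ((kk : H)⁻¹ * f * kk)) * (kk : H)⁻¹ := by rw [h2'.eq]
        _ = _ := by group
    rw [hc, hvi, show vv * kk * vv * (kk : H)⁻¹ = vv * (kk * vv * (kk : H)⁻¹) by group, ← mul_assoc,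
      ← h1.eq, mul_assoc, e1, ← mul_assoc]
  have hcF := Solvable.centralizer_fitting_le N hcC
  have h1 : Commute vv c := Subtype.ext (hF _ hcF)
  have hinv : vv * c * vv = c⁻¹ := by
    rw [hc]
    simp only [mul_inv_rev, inv_inv, hvi]
    rw [show vv * (vv * kk * vv * (kk : H)⁻¹) * vv = (vv * vv) * kk * vv * (kk : H)⁻¹ * vv by group, hvv,
      one_mul]
    group
  have hsq : c * c = 1 := by
    rw [h1.eq, mul_assoc, hvv, mul_one] at hinv
    nth_rw 2 [hinv]
    exact mul_inv_cancel c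
  have hc1 : c = 1 := by
    by_contra hne
    have h2o : orderOf c = 2 := orderOf_eq_prime (by rw [pow_two, hsq]) hne
    exact Nat.two_dvd_ne_zero.2 (Nat.odd_iff.1 hNodd) (h2o ▸ Subgroup.orderOf_dvd_natCard N hcN)
  rw [hc, mul_inv_eq_one, mul_inv_eq_iff_eq_mul] at hc1
  exact congrArg Subtype.val hc1


/-- **The members at `a` commute.** -/
theorem commute_at_of_coreTwoAt (hS : CoreTwoAt D pt a) {z : Ω} (hoz : a ≠ z) {s t : G}
    (hs : s ∈ D) (hsa : pt s = a) (ht : t ∈ D) (hta : pt t = a) : Commute s t := by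
  have hmem : s * t * s⁻¹ * t⁻¹ ∈ (core 2 (atPoint D pt a)) :=
    ⟨_, hS ⟨s, Subgroup.subset_closure ⟨hs, hsa⟩⟩ ⟨t, Subgroup.subset_closure ⟨ht, hta⟩⟩, rfl⟩
  have hs2 := P.inv s hs
  have ht2 := P.inv t ht
  have hc : Commute s (s * t * s⁻¹ * t⁻¹) := P.commute_coreAt htrans hS hoz hs hsa hmem
  set c := s * t * s⁻¹ * t⁻¹ with hcdef
  have h1 : c * c = 1 := by
    have e : s * c * s = c⁻¹ := by
      rw [hcdef, inv_eq hs2, inv_eq ht2]
      simp only [mul_inv_rev, inv_eq hs2, inv_eq ht2]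
      rw [show s * (s * t * s * t) * s = (s * s) * t * s * t * s by group, mul_self hs2, one_mul]
      group
    rw [hc.eq, mul_assoc, mul_self hs2, mul_one] at e
    nth_rw 2 [e]
    exact mul_inv_cancel c
  have hc1 : c = 1 := by
    by_contra hne
    have h := Subgroup.orderOf_dvd_natCard _ hmem
    rw [orderOf_of_sq h1 hne] at h
    exact Nat.two_dvd_ne_zero.2 (Nat.odd_iff.1 (odd_card_core_two (atPoint D pt a))) h
  rw [hcdef, mul_inv_eq_one, mul_inv_eq_iff_eq_mul] at hc1
  exact hc1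

end Cfsg.Agent.Aschbacher.PointClass
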