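/-
Commuting members of a point class at a point, two-point stabilisers of any order (piece A of the
core-free criterion; owner: helper43).  This is `Bender/Reflection` with the odd core `O_ab` of the
two-point stabiliser in place of the stabiliser: `u₀` exchanges `a, b`, `v₀` is a member at `a`, and
`O_ab ∩ C(v₀)` centralises `u₀`.

Main results (namespace `Cfsg.Agent.Aschbacher.PointClass`):
* `exists_core_inverted_conj` : an element of `O_ab` inverted by a swapper conjugates any member at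
  `a` to any other
* `odd_card_common` : two members with a common commuting member have an odd number of them
* `commute_trans_of_reflection` : commuting is transitive on the members at `a`
-/
import Cfsg.Agent.Lib.Aschbacher.PairOdd
import Cfsg.Agent.Lib.Bender.Reflection

set_option autoImplicit false
set_option linter.style.haveILetI false
set_option linter.unusedSectionVars false

namespace Cfsg.Agent.Aschbacher.PointClass

open Cfsg Involution Bender
open scoped Pointwise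

universe u v

variable {G : Type u} {Ω : Type v} [Group G] [MulAction G Ω] [Finite G] [Finite Ω]
variable {D : Set G} {pt : G → Ω} (P : PointClass G Ω D pt)
include P

/-- An element of `O_ab` inverted by a swapper `u` conjugates `v` to `w`, members at `a`. -/
theorem exists_core_inverted_conj {a b : Ω} (hab : a ≠ b) {u v w : G} (hu : u ∈ D)
    (hua : u • a = b) (hv : v ∈ D) (hva : pt v = a) (hw : w ∈ D) (hwa : pt w = a) :
    ∃ k ∈ core 2 (twoPt G a b), u * k * u⁻¹ = k⁻¹ ∧ k * v * k⁻¹ = w := by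
  have hy : u * w * u⁻¹ ∈ D := P.conj_mem u w hw
  have hpy : pt (u * w * u⁻¹) = b := by rw [P.pt_conj u hw, hwa, hua]
  obtain ⟨t, ht, htv, htp⟩ := P.exists_mid hv hy (by rw [hva, hpy]; exact hab)
  rw [hva, hpy] at htp
  obtain ⟨o, ho, rfl⟩ := P.exists_core_conj_swap hab hu hua ht htp
  have hui := inv_eq (P.inv u hu)
  refine ⟨u * (o * u * o⁻¹), ?_, ?_, ?_⟩
  · rw [show u * (o * u * o⁻¹) = (u * o * u) * o⁻¹ by group]
    refine mul_mem ?_ (inv_mem ho)
    have := (Subgroup.mem_normalizer_iff.1 (P.swap_mem_normalizer_core hu hua) o).1 ho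
    rwa [hui] at this
  · rw [mul_inv_rev, inv_eq (P.inv _ ht), hui, ← mul_assoc u u, mul_self (P.inv u hu), one_mul]
  · calc u * (o * u * o⁻¹) * v * (u * (o * u * o⁻¹))⁻¹
        = u * ((o * u * o⁻¹) * v * (o * u * o⁻¹)⁻¹) * u⁻¹ := by group
      _ = (u * u) * w * (u * u)⁻¹ := by rw [htv]; group
      _ = w := by rw [mul_self (P.inv u hu)]; group

/-- The members commuting with two members are odd in number, if there is one. -/
theorem odd_card_common [FaithfulSMul G Ω] {x y : Ω} (hxy : x ≠ y) {v w t : G} (ht : t ∈ D)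
    (htv : Commute v t) (htw : Commute w t) :
    Odd {z : G | z ∈ D ∧ Commute v z ∧ Commute w z}.ncard := by
  classical
  set S : Set G := {z : G | z ∈ D ∧ Commute v z ∧ Commute w z} with hS
  have htS : t ∈ S := ⟨ht, htv, htw⟩
  -- the involution pairing the others
  let f : G → G := fun z => if Commute t z then z * t else t * z * t⁻¹
  have hti := inv_eq (P.inv t ht)
  have hmaps : ∀ z ∈ S \ {t}, f z ∈ S \ {t} ∧ f z ≠ z ∧ f (f z) = z := by
    rintro z ⟨⟨hz, hzv, hzw⟩, hzt⟩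
    have hzt' : z ≠ t := hzt
    by_cases hc : Commute t z
    · have hfz : f z = z * t := if_pos hc
      have hne : z * t ≠ t := fun e => ne_one (P.inv z hz) (mul_eq_right.1 e)
      have hcc : Commute t (z * t) := hc.mul_right (Commute.refl t)
      refine ⟨⟨⟨?_, ?_, ?_⟩, ?_⟩, ?_, ?_⟩
      · rw [hfz]; exact P.mul_mem_of_commute hz ht hc.symm hzt' hxy
      · rw [hfz]; exact hzv.mul_right htv
      · rw [hfz]; exact hzw.mul_right htw
      · rw [hfz]; exact hne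
      · rw [hfz]; exact fun e => ne_one (P.inv t ht) (mul_eq_left.1 e)
      · rw [hfz, show f (z * t) = z * t * t from if_pos hcc, mul_assoc, mul_self (P.inv t ht), mul_one]
    · have hfz : f z = t * z * t⁻¹ := if_neg hc
      have hnc : ¬ Commute t (t * z * t⁻¹) := fun h => hc (by
        have h2 := (commute_conj_iff (g := t⁻¹)).2 h
        rwa [show t⁻¹ * t * t⁻¹⁻¹ = t by group, show t⁻¹ * (t * z * t⁻¹) * t⁻¹⁻¹ = z by group] at h2)
      refine ⟨⟨⟨?_, ?_, ?_⟩, ?_⟩, ?_, ?_⟩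
      · rw [hfz]; exact P.conj_mem t z hz
      · rw [hfz]; exact (htv.mul_right hzv).mul_right htv.inv_right
      · rw [hfz]; exact (htw.mul_right hzw).mul_right htw.inv_right
      · rw [hfz]; exact fun e => hzt' (by
          rw [Set.mem_singleton_iff, mul_inv_eq_iff_eq_mul] at e
          exact mul_left_cancel e)
      · rw [hfz]; exact fun e => hc (mul_inv_eq_iff_eq_mul.1 e)
      · rw [hfz, show f (t * z * t⁻¹) = t * (t * z * t⁻¹) * t⁻¹ from if_neg hnc,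
          show t * (t * z * t⁻¹) * t⁻¹ = (t * t) * z * (t * t)⁻¹ by group, mul_self (P.inv t ht)]
        group
  have heven : ¬ Odd (S \ {t}).ncard := by
    intro hodd
    rw [← Nat.card_coe_set_eq] at hodd
    obtain ⟨⟨z, hz⟩, e⟩ := exists_fixed_of_odd hodd
      (fun z : ↥(S \ {t}) => ⟨f z.1, (hmaps z.1 z.2).1⟩)
      (fun z => Subtype.ext (hmaps z.1 z.2).2.2)
    exact (hmaps z hz).2.1 (congrArg Subtype.val e)
  rw [← Set.ncard_sdiff_singleton_add_one htS]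
  exact (Nat.not_odd_iff_even.1 heven).add_one

variable [FaithfulSMul G Ω] {a b : Ω} (hab : a ≠ b) {v₀ u₀ : G} (hv₀ : v₀ ∈ D) (hva : pt v₀ = a)
  (hu₀ : u₀ ∈ D) (hua : u₀ • a = b)
  (hcent : core 2 (twoPt G a b) ⊓ Subgroup.centralizer ({v₀} : Set G) ≤
    Subgroup.centralizer ({u₀} : Set G))
include hab hv₀ hva hu₀ hua hcent

theorem swap_core {h : G} (hh : h ∈ core 2 (twoPt G a b)) :
    u₀ * h * u₀⁻¹ ∈ core 2 (twoPt G a b) :=
  (Subgroup.mem_normalizer_iff.1 (P.swap_mem_normalizer_core hu₀ hua) h).1 hh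

theorem commute_swap_iff {h : G} (hh : h ∈ core 2 (twoPt G a b)) : Commute h v₀ ↔ Commute h u₀ := by
  have heq : core 2 (twoPt G a b) ⊓ Subgroup.centralizer ({v₀} : Set G) =
      core 2 (twoPt G a b) ⊓ Subgroup.centralizer ({u₀} : Set G) := by
    refine Subgroup.eq_of_le_of_card_ge (le_inf inf_le_left hcent) (le_of_eq ?_)
    have h1 := P.card_core_point hab hv₀ hva
    rw [P.card_core_swap hab hu₀ hua, card_point_eq P b a] at h1
    exact Nat.eq_of_mul_eq_mul_left (P.odd_card a).pos h1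
  constructor <;> intro hc
  · exact mem_centralizer.1 (heq.le ⟨hh, mem_centralizer.2 hc⟩).2
  · exact mem_centralizer.1 (heq.ge ⟨hh, mem_centralizer.2 hc⟩).2

/-- The reflection in `u₀` is well defined on the involutions at `a`. -/
theorem twist_eq {g h : G} (hg : g ∈ core 2 (twoPt G a b)) (hh : h ∈ core 2 (twoPt G a b))
    (e : g * v₀ * g⁻¹ = h * v₀ * h⁻¹) :
    (u₀ * g * u₀⁻¹) * v₀ * (u₀ * g * u₀⁻¹)⁻¹ = (u₀ * h * u₀⁻¹) * v₀ * (u₀ * h * u₀⁻¹)⁻¹ := by
  have hc := commute_inv_mul_of_conj_eq e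
  have hc' := (commute_swap_iff P hab hv₀ hva hu₀ hua hcent
    (mul_mem (inv_mem hg) hh)).1 hc
  rw [show u₀ * h * u₀⁻¹ = u₀ * g * u₀⁻¹ * (g⁻¹ * h) by
    calc u₀ * h * u₀⁻¹ = u₀ * g * ((g⁻¹ * h) * u₀⁻¹) := by group
      _ = _ := by rw [hc'.inv_right.eq]; group]
  rw [conj_conj (u₀ * g * u₀⁻¹) (g⁻¹ * h) v₀, hc.eq, mul_inv_cancel_right]

/-- The reflection preserves commuting with `v₀`. -/
theorem commute_twist {h : G} (hh : h ∈ core 2 (twoPt G a b)) (hc : Commute v₀ (h * v₀ * h⁻¹)) :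
    Commute v₀ ((u₀ * h * u₀⁻¹) * v₀ * (u₀ * h * u₀⁻¹)⁻¹) := by
  obtain ⟨j, hj, hinv, hjv⟩ := P.exists_core_inverted_conj hab hu₀ hua hv₀ hva (P.conj_mem h v₀ hv₀)
    (by rw [P.pt_conj h hv₀, hva]; exact MulAction.mem_stabilizer_iff.1 (core_le 2 _ hh).1)
  rw [twist_eq P hab hv₀ hva hu₀ hua hcent hh hj hjv.symm, hinv]
  rw [← hjv] at hc
  have := (commute_conj_iff (g := j⁻¹)).2 hc
  rw [show j⁻¹ * (j * v₀ * j⁻¹) * j⁻¹⁻¹ = v₀ by group] at this
  exact this.symm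

/-- If some involution commutes with `v₀` and `w`, the midpoint commutes with both. -/
theorem exists_mid_common {w k : G} (hk : k ∈ core 2 (twoPt G a b)) (hinv : u₀ * k * u₀⁻¹ = k⁻¹)
    (hw : k * v₀ * k⁻¹ = w) (hne : w ≠ v₀)
    (hnbr : ∃ t, t ∈ D ∧ Commute v₀ t ∧ Commute w t) :
    ∃ x h : G, x ∈ D ∧ Commute v₀ x ∧ Commute w x ∧ x ≠ v₀ ∧ h ∈ core 2 (twoPt G a b) ∧
      h * v₀ * h⁻¹ = x ∧ h * u₀ * h⁻¹ = k * u₀ := by
  classical
  set K := core 2 (twoPt G a b)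
  let N := {x : G // x ∈ D ∧ Commute v₀ x ∧ Commute w x ∧ x ≠ v₀ ∧ x ≠ w}
  have hrep : ∀ x : N, ∃ h ∈ K, h * v₀ * h⁻¹ = x.1 := fun x =>
    P.exists_core_conj_point hab hv₀ hva x.2.1
      ((P.pt_eq_of_commute hv₀ x.2.1 x.2.2.1).symm.trans hva)
  choose h hh hx using hrep
  have hh' : ∀ x : N, k * (u₀ * h x * u₀⁻¹) ∈ K := fun x =>
    mul_mem hk (swap_core P hab hv₀ hva hu₀ hua hcent (hh x))
  have hu2 : u₀ * u₀ = 1 := mul_self (P.inv u₀ hu₀)
  have hui : u₀⁻¹ = u₀ := inv_eq (P.inv u₀ hu₀)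
  have hback : ∀ x : N, u₀ * (k * (u₀ * h x * u₀⁻¹)) * u₀⁻¹ = k⁻¹ * h x := fun x => by
    calc u₀ * (k * (u₀ * h x * u₀⁻¹)) * u₀⁻¹
        = (u₀ * k * u₀⁻¹) * ((u₀ * u₀) * h x * (u₀ * u₀)⁻¹) := by group
      _ = k⁻¹ * h x := by rw [hinv, hu2]; group
  have hswap := fun {g : G} (hg : g ∈ K) =>
    commute_swap_iff P hab hv₀ hva hu₀ hua hcent hg
  let σ : N → N := fun x => ⟨k * (u₀ * h x * u₀⁻¹) * v₀ * (k * (u₀ * h x * u₀⁻¹))⁻¹, by
    refine ⟨P.conj_mem _ v₀ hv₀, ?_, ?_, ?_, ?_⟩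
    · have h1 : Commute v₀ (k⁻¹ * h x * v₀ * (k⁻¹ * h x)⁻¹) := by
        rw [conj_conj, hx]
        have := (commute_conj_iff (g := k⁻¹)).2 x.2.2.2.1
        rwa [show k⁻¹ * w * k⁻¹⁻¹ = v₀ by rw [← hw]; group] at this
      have h2 := commute_twist P hab hv₀ hva hu₀ hua hcent
        (mul_mem (inv_mem hk) (hh x)) h1
      rwa [show u₀ * (k⁻¹ * h x) * u₀⁻¹ = k * (u₀ * h x * u₀⁻¹) by
        rw [← hinv]
        calc u₀ * (u₀ * k * u₀⁻¹ * h x) * u₀⁻¹ = (u₀ * u₀) * k * (u₀⁻¹ * h x * u₀⁻¹) := by group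
          _ = _ := by rw [hu2, hui]; group] at h2
    · rw [conj_conj, ← hw, commute_conj_iff]
      exact commute_twist P hab hv₀ hva hu₀ hua hcent (hh x) (by rw [hx]; exact x.2.2.1)
    · intro e
      have h1 : Commute (k * (u₀ * h x * u₀⁻¹)) v₀ := mul_inv_eq_iff_eq_mul.1 e
      have h2 := (hswap (hh' x)).1 h1
      have h3 : k⁻¹ * h x = k * (u₀ * h x * u₀⁻¹) := by
        rw [← hback x, ← h2.eq, mul_inv_cancel_right]
      rw [← h3] at h1
      refine x.2.2.2.2.2 ?_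
      calc x.1 = k * ((k⁻¹ * h x) * v₀ * (k⁻¹ * h x)⁻¹) * k⁻¹ := by rw [← hx x]; group
        _ = w := by rw [h1.eq, mul_inv_cancel_right, hw]
    · intro e
      rw [conj_conj, ← hw] at e
      have e' : (u₀ * h x * u₀⁻¹) * v₀ * (u₀ * h x * u₀⁻¹)⁻¹ = v₀ :=
        mul_left_cancel (mul_right_cancel e)
      have h2 := (hswap (swap_core P hab hv₀ hva hu₀ hua hcent (hh x))).1
        (mul_inv_eq_iff_eq_mul.1 e')
      have h3 : h x = u₀ * h x * u₀⁻¹ := by
        calc h x = u₀ * (u₀ * h x * u₀⁻¹) * u₀⁻¹ := by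
              rw [hui]
              calc h x = (u₀ * u₀) * h x * (u₀ * u₀) := by rw [hu2, one_mul, mul_one]
                _ = _ := by group
          _ = u₀ * h x * u₀⁻¹ := by rw [← h2.eq, mul_inv_cancel_right]
      exact x.2.2.2.2.1 (by rw [← hx x, h3, e'])⟩
  have hσ : ∀ x, σ (σ x) = x := by
    intro x
    apply Subtype.ext
    show k * (u₀ * h (σ x) * u₀⁻¹) * v₀ * (k * (u₀ * h (σ x) * u₀⁻¹))⁻¹ = x.1
    rw [conj_conj, twist_eq P hab hv₀ hva hu₀ hua hcent (hh _) (hh' x) (hx (σ x)),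
      hback x, ← conj_conj, mul_inv_cancel_left, hx]
  have hNodd : Odd (Nat.card N) := by
    let S : Set G := {t | t ∈ D ∧ Commute v₀ t ∧ Commute w t}
    obtain ⟨t, ht, htv, htw⟩ := hnbr
    have hS : Odd S.ncard := P.odd_card_common hab ht htv htw
    have hwD : w ∈ D := hw ▸ P.conj_mem k v₀ hv₀
    have hN : Nat.card N = (S \ {v₀, w}).ncard := by
      rw [← Nat.card_coe_set_eq]
      refine Nat.card_congr (Equiv.subtypeEquivRight fun t => ?_)
      simp only [S, Set.mem_sdiff, Set.mem_setOf_eq, Set.mem_insert_iff, Set.mem_singleton_iff,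
        not_or]
      tauto
    by_cases hcw : Commute v₀ w
    · have hsub : ({v₀, w} : Set G) ⊆ S := by
        rintro t (rfl | rfl)
        · exact ⟨hv₀, Commute.refl _, hcw.symm⟩
        · exact ⟨hwD, hcw, Commute.refl _⟩
      have h2 : ({v₀, w} : Set G).ncard = 2 := Set.ncard_pair hne.symm
      have h3 := Set.ncard_sdiff_add_ncard_of_subset hsub
      rw [hN, Nat.odd_iff]
      rw [Nat.odd_iff] at hS
      omega
    · have hd : S \ {v₀, w} = S := by
        refine sdiff_eq_left.2 (Set.disjoint_left.2 ?_)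
        rintro t ht (rfl | rfl)
        · exact hcw ht.2.2.symm
        · exact hcw ht.2.1
      rwa [hN, hd]
  obtain ⟨x, hfix⟩ := exists_fixed_of_odd hNodd σ hσ
  have e : k * (u₀ * h x * u₀⁻¹) * v₀ * (k * (u₀ * h x * u₀⁻¹))⁻¹ = h x * v₀ * (h x)⁻¹ :=
    (congrArg Subtype.val hfix).trans (hx x).symm
  have hcK : (h x)⁻¹ * (k * (u₀ * h x * u₀⁻¹)) ∈ K := mul_mem (inv_mem (hh x)) (hh' x)
  set c := (h x)⁻¹ * (k * (u₀ * h x * u₀⁻¹)) with hc
  have hcu : Commute c u₀ := (hswap hcK).1 (commute_inv_mul_of_conj_eq e.symm)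
  have hku : k * u₀ * (k * u₀) = 1 := by
    calc k * u₀ * (k * u₀) = k * ((u₀ * k * u₀⁻¹) * (u₀ * u₀)) := by group
      _ = 1 := by rw [hinv, hu2, mul_one, mul_inv_cancel]
  have hcu2 : (c * u₀) * (c * u₀) = 1 := by
    have e1 : c * u₀ = (h x)⁻¹ * (k * u₀) * h x := by rw [hc]; group
    rw [e1]
    calc (h x)⁻¹ * (k * u₀) * h x * ((h x)⁻¹ * (k * u₀) * h x)
        = (h x)⁻¹ * (k * u₀ * (k * u₀)) * h x := by group
      _ = 1 := by rw [hku, mul_one, inv_mul_cancel]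
  have hc2 : c * c = 1 := by
    calc c * c = c * u₀ * (c * u₀) * (u₀ * u₀)⁻¹ := by
          rw [show c * u₀ * (c * u₀) = c * (u₀ * c) * u₀ by group, ← hcu.eq]; group
      _ = 1 := by rw [hcu2, hu2, inv_one, one_mul]
  have hc1 : c = 1 := by
    by_contra hc1
    have h1 := Subgroup.orderOf_dvd_natCard _ hcK
    rw [orderOf_of_sq hc2 hc1] at h1
    exact Nat.not_even_iff_odd.2 (odd_card_core_two _) (even_iff_two_dvd.2 h1)
  refine ⟨x.1, h x, x.2.1, x.2.2.1, x.2.2.2.1, x.2.2.2.2.1, hh x, hx x, ?_⟩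
  rw [hc, inv_mul_eq_one] at hc1
  calc h x * u₀ * (h x)⁻¹ = (k * (u₀ * h x * u₀⁻¹)) * u₀ * (h x)⁻¹ := by rw [← hc1]
    _ = k * u₀ := by group

/-- An involution commuting with a neighbour of `v₀` commutes with `v₀`. -/
theorem commute_of_common {t w : G} (hw : w ∈ D) (ht : t ∈ D)
    (h1 : Commute v₀ t) (h2 : Commute t w) : Commute v₀ w := by
  classical
  by_contra hcon
  have hta : pt t = a := by rw [← P.pt_eq_of_commute hv₀ ht h1, hva]
  have hwa : pt w = a := by rw [← P.pt_eq_of_commute ht hw h2, hta]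
  have hinvj : ∀ x : G, x ∈ D → pt x = a →
      ∃ k, (k ∈ core 2 (twoPt G a b) ∧ u₀ * k * u₀⁻¹ = k⁻¹) ∧ k * v₀ * k⁻¹ = x := fun x hx hxa =>
    let ⟨k, h1, h2, h3⟩ := P.exists_core_inverted_conj hab hu₀ hua hv₀ hva hx hxa
    ⟨k, ⟨h1, h2⟩, h3⟩
  let A := {x : G // x ∈ D ∧ Commute v₀ x ∧ x ≠ v₀}
  choose k hk hkv using fun x : A => hinvj x.1 x.2.1
    ((P.pt_eq_of_commute hv₀ x.2.1 x.2.2.1).symm.trans hva)
  choose m g hm2 hm hmw hm1 hg hgv hgu using fun x : A =>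
    exists_mid_common P hab hv₀ hva hu₀ hua hcent (hk x).1 (hk x).2 (hkv x) x.2.2.2
      ⟨v₀, hv₀, Commute.refl _, x.2.2.1.symm⟩
  have hinj : ∀ {g₁ g₂ k₁ k₂ : G}, g₁ ∈ core 2 (twoPt G a b) → g₂ ∈ core 2 (twoPt G a b) →
      g₁ * v₀ * g₁⁻¹ = g₂ * v₀ * g₂⁻¹ → g₁ * u₀ * g₁⁻¹ = k₁ * u₀ → g₂ * u₀ * g₂⁻¹ = k₂ * u₀ →
      k₁ = k₂ := by
    intro g₁ g₂ k₁ k₂ h₁ h₂ e e₁ e₂
    have hc := (commute_swap_iff P hab hv₀ hva hu₀ hua hcent
      (mul_mem (inv_mem h₁) h₂)).1 (commute_inv_mul_of_conj_eq e)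
    refine mul_right_cancel (b := u₀) ?_
    rw [← e₁, ← e₂]
    calc g₁ * u₀ * g₁⁻¹ = g₁ * ((g₁⁻¹ * g₂) * u₀ * (g₁⁻¹ * g₂)⁻¹) * g₁⁻¹ := by
          rw [hc.eq, mul_inv_cancel_right]
      _ = g₂ * u₀ * g₂⁻¹ := by group
  let f : A → A := fun x => ⟨m x, hm2 x, hm x, hm1 x⟩
  have hf : Function.Injective f := fun x y e => by
    have e' : m x = m y := congrArg Subtype.val e
    exact Subtype.ext (by
      rw [← hkv x, ← hkv y,
        hinj (hg x) (hg y) ((hgv x).trans (e'.trans (hgv y).symm)) (hgu x) (hgu y)])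
  obtain ⟨k', ⟨hk', hinv'⟩, hkw⟩ := hinvj w hw hwa
  have hne : w ≠ v₀ := fun e => hcon (e ▸ Commute.refl v₀)
  obtain ⟨x, g', hx2, hx, -, hx1, hg', hgv', hgu'⟩ := exists_mid_common P hab hv₀ hva
    hu₀ hua hcent hk' hinv' hkw hne ⟨t, ht, h1, h2.symm⟩
  obtain ⟨y, hy⟩ := Finite.surjective_of_injective hf ⟨x, hx2, hx, hx1⟩
  have e' : m y = x := congrArg Subtype.val hy
  have := hinj (hg y) hg' ((hgv y).trans (e'.trans hgv'.symm)) (hgu y) hgu'
  exact hcon (by rw [← hkw, ← this, hkv y]; exact y.2.2.1)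

/-- **Commuting is transitive on the involutions at `a`.** -/
theorem commute_trans_of_reflection {v t w : G} (hv : v ∈ D) (ht : t ∈ D) (hw : w ∈ D)
    (hpt : pt v = a) (h1 : Commute v t) (h2 : Commute t w) : Commute v w := by
  obtain ⟨d, -, hd⟩ := P.exists_conj_point hab hv₀ hva hv hpt
  have hv' : d⁻¹ * v * d⁻¹⁻¹ = v₀ := by rw [← hd]; group
  have e1 := (commute_conj_iff (g := d⁻¹)).2 h1
  rw [hv'] at e1
  refine (commute_conj_iff (g := d⁻¹)).1 ?_
  rw [hv']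
  exact commute_of_common P hab hv₀ hva hu₀ hua hcent
    (P.conj_mem _ w hw) (P.conj_mem _ t ht) e1
    ((commute_conj_iff (g := d⁻¹)).2 h2)

end Cfsg.Agent.Aschbacher.PointClass
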