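/-
The free case in a point class, two-point stabilisers of any order (port of `Bender/FreeCase`;
piece A of the core-free criterion; owner: helper2).

No member acts non-trivially on an `r`-group fixing its point for `r` dividing the number of
members at a point, and commuting is transitive on the members at `a` (`PairReflection`).  If two
of them commute, all do: otherwise an involution exchanging two classes inverts an element of
prime order `l`, dividing the class size, hence the number of members, and fixing the point.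

Main results (namespace `Cfsg.Agent.Aschbacher.PointClass`):
* `commute_at_of_trans` : the members at `a` commute pairwise
* `coreTwoAt_of_free` : with a pair `a, b` whose odd core centralising a member centralises a
  swapper, the members at `a` commute modulo an odd core
-/
import Cfsg.Agent.Lib.Aschbacher.PairReflection
import Cfsg.Agent.Lib.Aschbacher.PointCrit
import Cfsg.Agent.Lib.Bender.SwapCentral

set_option autoImplicit false
set_option linter.style.haveILetI false
set_option linter.unusedSectionVars false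

namespace Cfsg.Agent.Aschbacher.PointClass

open Cfsg Involution Bender
open scoped Pointwise

universe u

variable {G : Type u} {Ω : Type u} [Group G] [MulAction G Ω] [Finite G] [Finite Ω]
  [FaithfulSMul G Ω] {D : Set G} {pt : G → Ω} (P : PointClass G Ω D pt)
include P

/-- The central involution of the group generated by two members is a member. -/
theorem half_pow_mem {x y : Ω} (hxy : x ≠ y) {d e : G} (hd : d ∈ D) (he : e ∈ D)
    (hev : Even (orderOf (d * e))) : (d * e) ^ (orderOf (d * e) / 2) ∈ D := by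
  obtain ⟨hm, hc, hne⟩ := P.exists_partner hd he hev
  have := P.mul_mem_of_commute hd hm hc hne.symm hxy
  rwa [← mul_assoc, mul_self (P.inv d hd), one_mul] at this

variable {a b : Ω} (hab : a ≠ b)
  (htr : ∀ {x y z : G}, x ∈ D → pt x = a → y ∈ D → z ∈ D → Commute x y → Commute y z → Commute x z)
include hab htr

/-- Two members at `a` that do not commute are exchanged by a third. -/
theorem exists_reflection {x y : G} (hx : x ∈ D) (hxa : pt x = a) (hy : y ∈ D) (hya : pt y = a)
    (hxy : ¬ Commute x y) : ∃ z ∈ D, pt z = a ∧ z * x * z⁻¹ = y ∧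
      ∀ g : G, Commute g x → Commute g y → Commute g z := by
  have hx2 := P.inv x hx
  have hy2 := P.inv y hy
  obtain ⟨l, hl⟩ : Odd (orderOf (x * y)) := by
    rw [← Nat.not_even_iff_odd]
    intro he
    obtain ⟨-, h1, h2⟩ := half_pow_commute hx2 hy2 he
    exact hxy (htr hx hxa (P.half_pow_mem hab hx hy he) hy h1.symm h2)
  have hpow : (x * y) ^ (2 * ((l + 1) * (l + 1))) = (x * y) ^ (l + 1) := by
    rw [show 2 * ((l + 1) * (l + 1)) = (2 * l + 1) * (l + 1) + (l + 1) by ring, pow_add, pow_mul,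
      ← hl, pow_orderOf_eq_one, one_pow, one_mul]
  have hD : x * (x * y) ^ ((l + 1 : ℕ) : ℤ) ∈ D := by
    have h := P.conj_pow_mem hx (x * y) (-(((l + 1) * (l + 1) : ℕ) : ℤ))
    rw [conj_left_zpow hx2 hy2, mul_neg, neg_neg,
      show (2 : ℤ) * (((l + 1) * (l + 1) : ℕ) : ℤ) = ((2 * ((l + 1) * (l + 1)) : ℕ) : ℤ) by
        push_cast; ring,
      zpow_natCast, hpow] at h
    rwa [zpow_natCast]
  have hfix : x * (x * y) ^ ((l + 1 : ℕ) : ℤ) ∈ MulAction.stabilizer G a :=
    mul_mem (MulAction.mem_stabilizer_iff.2 (hxa ▸ P.smul_pt hx)) (zpow_mem (mul_mem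
      (MulAction.mem_stabilizer_iff.2 (hxa ▸ P.smul_pt hx))
      (MulAction.mem_stabilizer_iff.2 (hya ▸ P.smul_pt hy))) _)
  refine ⟨_, hD, ((P.fixed_iff _ hD a).1 (MulAction.mem_stabilizer_iff.1 hfix)).symm, ?_,
    fun g h1 h2 => h1.mul_right ((h1.mul_right h2).zpow_right _)⟩
  rw [conj_left_mul_zpow hx2 hy2,
    show (2 * ((l + 1 : ℕ) : ℤ)) = (orderOf (x * y) : ℤ) + 1 by rw [hl]; push_cast; ring,
    zpow_add_one, zpow_natCast, pow_orderOf_eq_one, one_mul, left_mul_mul_left hx2 hy2]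

/-- **The members at a point commute**, if two of them do. -/
theorem commute_at_of_trans
    (hNC : ∀ (r : ℕ) [Fact r.Prime], r ∣ Nat.card {f : G // f ∈ D ∧ pt f = a} →
      ∀ t ∈ D, ∀ X : Subgroup G, IsPGroup r X → t ∈ Subgroup.normalizer (X : Set G) →
      X ≤ MulAction.stabilizer G (pt t) → X ≤ Subgroup.centralizer ({t} : Set G))
    (hpair : ∃ d ∈ D, ∃ e ∈ D, pt d = a ∧ Commute d e ∧ d ≠ e) :
    ∀ s ∈ D, ∀ t ∈ D, pt s = a → pt t = a → Commute s t := by
  classical
  obtain ⟨v, hv, v₁, hv₁, hva, hvv₁, hne₁⟩ := hpair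
  have hv₁a : pt v₁ = a := (P.pt_eq_of_commute hv hv₁ hvv₁).symm.trans hva
  by_contra hfail
  push Not at hfail
  obtain ⟨y, hy, hya, hvy⟩ : ∃ y ∈ D, pt y = a ∧ ¬ Commute v y := by
    by_contra! hcon
    obtain ⟨s, hs, t, ht, hsa, hta, hst⟩ := hfail
    exact hst (htr hs hsa hv ht (hcon s hs hsa).symm (hcon t ht hta))
  have hv₁y : ¬ Commute v₁ y := fun h => hvy (htr hv hva hv₁ hy hvv₁ h)
  obtain ⟨z, hz, hza, hzv, -⟩ := P.exists_reflection hab htr hv hva hy hya hvy
  obtain ⟨z', hz', hz'a, hz'v, -⟩ := P.exists_reflection hab htr hv₁ hv₁a hy hya hv₁y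
  have hz2 := P.inv z hz
  have hz'2 := P.inv z' hz'
  have hzy : z * y * z⁻¹ = v := by
    rw [← hzv, inv_eq hz2]
    calc z * (z * v * z) * z = (z * z) * v * (z * z) := by group
      _ = v := by rw [mul_self hz2, one_mul, mul_one]
  have hz'y : z' * y * z'⁻¹ = v₁ := by
    rw [← hz'v, inv_eq hz'2]
    calc z' * (z' * v₁ * z') * z' = (z' * z') * v₁ * (z' * z') := by group
      _ = v₁ := by rw [mul_self hz'2, one_mul, mul_one]
  have hzz' : z ≠ z' := fun e => hne₁ (by rw [← hzy, e, hz'y])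
  set k := z * z' with hk
  have hk1 : k ≠ 1 := fun e => hzz' (by rw [← inv_eq hz'2]; exact eq_inv_of_mul_eq_one_left e)
  have hkv₁ : k * v₁ * k⁻¹ = v := by rw [hk, conj_conj, hz'v, hzy]
  have hky : k * y * k⁻¹ = z * v₁ * z⁻¹ := by rw [hk, conj_conj, hz'y]
  have hfixa : ∀ {x : G}, x ∈ D → pt x = a → x • a = a := fun {x} hx hxa => hxa ▸ P.smul_pt hx
  have hka : k • a = a := by rw [hk, mul_smul, hfixa hz' hz'a, hfixa hz hza]
  have hinvk : z * k * z⁻¹ = k⁻¹ := inverts_mul_left hz2 hz'2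
  have hconja : ∀ {g x : G}, g • a = a → x ∈ D → pt x = a → pt (g * x * g⁻¹) = a :=
    fun {g x} hg hx hxa => by rw [P.pt_conj g hx, hxa, hg]
  -- the two classes
  let c : Set G := {x | x ∈ D ∧ pt x = a ∧ Commute x v}
  let c' : Set G := {x | x ∈ D ∧ pt x = a ∧ Commute x y}
  have hck : ∀ x ∈ c, k * x * k⁻¹ ∈ c := by
    rintro x ⟨hx, hxa, hxc⟩
    refine ⟨P.conj_mem k x hx, hconja hka hx hxa, ?_⟩
    have h1 : Commute (k * v₁ * k⁻¹) (k * x * k⁻¹) :=
      commute_conj_iff.2 (htr hv₁ hv₁a hv hx hvv₁.symm hxc.symm)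
    rw [hkv₁] at h1
    exact h1.symm
  have hck' : ∀ x ∈ c', k * x * k⁻¹ ∈ c' := by
    rintro x ⟨hx, hxa, hxc⟩
    refine ⟨P.conj_mem k x hx, hconja hka hx hxa, ?_⟩
    have h1 : Commute (z * v₁ * z⁻¹) (k * x * k⁻¹) := hky ▸ commute_conj_iff.2 hxc.symm
    have h2 : Commute y (z * v₁ * z⁻¹) := hzv ▸ commute_conj_iff.2 hvv₁
    exact (htr hy hya (P.conj_mem z v₁ hv₁) (P.conj_mem k x hx) h2 h1).symm
  have hpow : ∀ (s : Set G), (∀ x ∈ s, k * x * k⁻¹ ∈ s) →
      ∀ j : ℕ, ∀ x ∈ s, k ^ j * x * (k ^ j)⁻¹ ∈ s := by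
    intro s hs j
    induction j with
    | zero => intro x hx; simpa using hx
    | succ j hj => intro x hx; rw [pow_succ', conj_conj]; exact hs _ (hj x hx)
  have hkodd : Odd (orderOf k) := by
    rw [← Nat.not_even_iff_odd]
    intro he
    obtain ⟨-, h1, h2⟩ := half_pow_commute hz2 hz'2 he
    have hcz : Commute z z' := htr hz hza (P.half_pow_mem hab hz hz' he) hz' h1.symm h2
    have hkD : k ∈ D := P.mul_mem_of_commute hz hz' hcz hzz' hab
    have hfix : ∀ x₀ ∈ D, pt x₀ = a →
        (∀ x ∈ {x : G | x ∈ D ∧ pt x = a ∧ Commute x x₀},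
          k * x * k⁻¹ ∈ {x : G | x ∈ D ∧ pt x = a ∧ Commute x x₀}) → Commute x₀ k := by
      intro x₀ hx₀ hx₀a hs
      obtain ⟨⟨x, hx, hxa, hxc⟩, e⟩ := exists_fixed_of_odd
        (P.odd_card_centralizing (mul_self (P.inv x₀ hx₀)) (hfixa hx₀ hx₀a))
        (fun x => (⟨k * x.1 * k⁻¹, hs x.1 x.2⟩ : {d : G // d ∈ D ∧ pt d = a ∧ Commute d x₀}))
        (fun x => Subtype.ext (by
          show k * (k * x.1 * k⁻¹) * k⁻¹ = x.1
          rw [← conj_conj, mul_self (P.inv k hkD)]; simp))
      exact htr hx₀ hx₀a hx hkD hxc.symm (mul_inv_eq_iff_eq_mul.1 (congrArg Subtype.val e)).symm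
    exact hvy (htr hv hva hkD hy (hfix v hv hva hck) (hfix y hy hya hck').symm)
  -- a power of prime order
  obtain ⟨l, hl, hlk⟩ := Nat.exists_prime_and_dvd (mt orderOf_eq_one_iff.1 hk1)
  haveI : Fact l.Prime := ⟨hl⟩
  have hl2 : l ≠ 2 := fun e => Nat.not_even_iff_odd.2 hkodd (even_iff_two_dvd.2 (e ▸ hlk))
  set g := k ^ (orderOf k / l) with hg
  have hgl : orderOf g = l := orderOf_pow_orderOf_div (orderOf_pos k).ne' hlk
  have hginv : z * g * z⁻¹ = g⁻¹ := inverts_pow hinvk _
  have hga : g • a = a := MulAction.mem_stabilizer_iff.1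
    ((MulAction.stabilizer G a).pow_mem (MulAction.mem_stabilizer_iff.2 hka) _)
  have hg_ne : g * g ≠ 1 := fun e => by
    have h1 := orderOf_dvd_of_pow_eq_one (n := 2) (x := g) (by rw [sq, e])
    rw [hgl] at h1
    exact hl2 ((Nat.prime_dvd_prime_iff_eq hl Nat.prime_two).1 h1)
  -- it fixes no member of the class of `v`
  have hfree : ∀ x ∈ c, ¬ Commute g x := by
    rintro x ⟨hx, hxa, hxc⟩ hgx
    have hx2 := P.inv x hx
    set x' := z * x * z⁻¹ with hx'
    have hx'D : x' ∈ D := P.conj_mem z x hx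
    have hx'a : pt x' = a := hconja (hfixa hz hza) hx hxa
    have hyx' : Commute y x' := hzv ▸ commute_conj_iff.2 hxc.symm
    have hxx' : ¬ Commute x x' := fun h =>
      hvy (htr hv hva hx'D hy (htr hv hva hx hx'D hxc.symm h) hyx'.symm)
    have hgx' : Commute g x' := by
      have h1 : Commute (z * g * z⁻¹) (z * x * z⁻¹) := commute_conj_iff.2 hgx
      rw [hginv] at h1
      exact Commute.inv_left_iff.1 h1
    obtain ⟨z₀, hz₀, hz₀a, hz₀x, hz₀c⟩ := P.exists_reflection hab htr hx hxa hx'D hx'a hxx'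
    have hz₀2 := P.inv z₀ hz₀
    have hgz₀ : Commute g z₀ := hz₀c g hgx hgx'
    set cc := z₀ * z with hcc
    have hback : ∀ w : G, orderOf w = 2 → w * x * w⁻¹ = x' → w * x' * w⁻¹ = x := by
      intro w hw e
      rw [← e, inv_eq hw]
      calc w * (w * x * w) * w = (w * w) * x * (w * w) := by group
        _ = x := by rw [mul_self hw, one_mul, mul_one]
    have hccx : Commute cc x := mul_inv_eq_iff_eq_mul.1 (by
      rw [hcc, conj_conj, ← hx', hback z₀ hz₀2 hz₀x])
    have hccx' : Commute cc x' := mul_inv_eq_iff_eq_mul.1 (by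
      rw [hcc, conj_conj, hback z hz2 hx'.symm, hz₀x])
    have hccodd : Odd (orderOf cc) := by
      rw [← Nat.not_even_iff_odd]
      intro he
      exact hxx' (htr hx hxa (P.half_pow_mem hab hz₀ hz he) hx'D
        (hccx.pow_left _).symm (hccx'.pow_left _))
    have hcg : cc * g * cc⁻¹ = g⁻¹ := by
      rw [hcc, conj_conj, hginv, hgz₀.inv_left.symm.eq, mul_inv_cancel_right]
    have hc2 : Commute (cc * cc) g := mul_inv_eq_iff_eq_mul.1 (by
      rw [conj_conj, hcg]
      calc cc * g⁻¹ * cc⁻¹ = (cc * g * cc⁻¹)⁻¹ := by group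
        _ = g := by rw [hcg, inv_inv])
    obtain ⟨j, hj⟩ := hccodd
    have hccg : Commute cc g := by
      have h3 : cc = (cc * cc) ^ (j + 1) := by
        rw [← sq, ← pow_mul, show 2 * (j + 1) = (2 * j + 1) + 1 by ring, pow_succ, ← hj,
          pow_orderOf_eq_one, one_mul]
      rw [h3]
      exact hc2.pow_left _
    rw [hccg.eq, mul_inv_cancel_right] at hcg
    exact hg_ne (by nth_rewrite 1 [hcg]; exact inv_mul_cancel g)
  -- so `l` divides the size of the class, hence the number of members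
  have hlc : l ∣ Nat.card c := by
    refine dvd_card_of_conj_free (R := Subgroup.zpowers g)
      (IsPGroup.of_card (n := 1) (by rw [Nat.card_zpowers, hgl, pow_one])) (s := c) ?_
      fun x hx hle => hfree x hx (mem_centralizer.1 (hle (Subgroup.mem_zpowers g)))
    intro r hr x hx
    obtain ⟨j, rfl⟩ : ∃ j : ℕ, k ^ j = r := by
      obtain ⟨i, rfl⟩ := (mem_powers_iff_mem_zpowers.2 hr : r ∈ Submonoid.powers g)
      exact ⟨orderOf k / l * i, by rw [pow_mul]⟩
    exact hpow c hck j x hx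
  have hcm : Nat.card c ∣ Nat.card {f : G // f ∈ D ∧ pt f = a} := by
    set I : Set G := {x | x ∈ D ∧ pt x = a}
    set H := MulAction.stabilizer G a
    have hIstab : ∀ h ∈ H, ∀ s ∈ I, h * s * h⁻¹ ∈ I := fun h hh s hs =>
      ⟨P.conj_mem h s hs.1, hconja (MulAction.mem_stabilizer_iff.1 hh) hs.1 hs.2⟩
    have hIsub : ∀ s : G, s ∈ D → pt s = a → ∃ h ∈ H, h * v * h⁻¹ = s := by
      intro s hs hsa
      obtain ⟨d, hd, e⟩ := P.exists_conj_point hab hv hva hs hsa
      exact ⟨d, hd.1, e⟩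
    let M : Subgroup G :=
      { carrier := {h | h ∈ H ∧ Commute v (h * v * h⁻¹)}
        one_mem' := ⟨H.one_mem, by simp⟩
        mul_mem' := by
          rintro p q ⟨hp, hpc⟩ ⟨hq, hqc⟩
          refine ⟨H.mul_mem hp hq, htr hv hva (P.conj_mem p v hv)
            (P.conj_mem (p * q) v hv) hpc ?_⟩
          rw [conj_conj]
          exact commute_conj_iff.2 hqc
        inv_mem' := by
          rintro p ⟨hp, hpc⟩
          refine ⟨H.inv_mem hp, ?_⟩
          have h1 := (commute_conj_iff (g := p⁻¹)).2 hpc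
          rw [show p⁻¹ * (p * v * p⁻¹) * p⁻¹⁻¹ = v by group] at h1
          exact h1.symm }
    have hcv : v ∈ c := ⟨hv, hva, Commute.refl v⟩
    have e1 := card_eq_mul_centralizer M c (fun h hh s hs => ⟨P.conj_mem h s hs.1,
        hconja (MulAction.mem_stabilizer_iff.1 hh.1) hs.1 hs.2.1,
        (htr hv hva (P.conj_mem h v hv) (P.conj_mem h s hs.1) hh.2
          (commute_conj_iff.2 hs.2.2.symm)).symm⟩) hcv
      (fun s hs => by
        obtain ⟨h, hh, e⟩ := hIsub s hs.1 hs.2.1
        exact ⟨h, ⟨hh, e.symm ▸ hs.2.2.symm⟩, e⟩)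
    have e2 := card_eq_mul_centralizer H I hIstab ⟨hv, hva⟩ fun s hs => hIsub s hs.1 hs.2
    have hM : M ⊓ Subgroup.centralizer ({v} : Set G) = H ⊓ Subgroup.centralizer ({v} : Set G) := by
      refine le_antisymm (fun h hh => ⟨hh.1.1, hh.2⟩) fun h hh => ⟨⟨hh.1, ?_⟩, hh.2⟩
      rw [(mem_centralizer.1 hh.2).eq, mul_inv_cancel_right]
    rw [hM] at e1
    have e3 := Subgroup.card_dvd_of_le (show M ≤ H from fun h hh => hh.1)
    rw [e1, e2] at e3
    exact (Nat.mul_dvd_mul_iff_right Nat.card_pos).1 e3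
  -- so the exchanging member centralises it
  have hc := hNC l (hlc.trans hcm) z hz (Subgroup.zpowers g)
    (IsPGroup.of_card (n := 1) (by rw [Nat.card_zpowers, hgl, pow_one]))
    (Coprime.mem_normalizer_of_forall fun r hr => by
      obtain ⟨i, rfl⟩ := Subgroup.mem_zpowers_iff.1 hr
      rw [inverts_zpow hginv]
      exact inv_mem (zpow_mem (Subgroup.mem_zpowers g) i))
    (Subgroup.zpowers_le.2 (MulAction.mem_stabilizer_iff.2 (hza.symm ▸ hga)))
    (Subgroup.mem_zpowers g)
  have hgz := mem_centralizer.1 hc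
  rw [hgz.symm.eq, mul_inv_cancel_right] at hginv
  exact hg_ne (by nth_rewrite 1 [hginv]; exact inv_mul_cancel g)

omit hab htr

/-- If the class has two commuting members, every point has two. -/
theorem exists_pair_at (hpair : ∃ d ∈ D, ∃ e ∈ D, Commute d e ∧ d ≠ e)
    (a : Ω) : ∃ d ∈ D, ∃ e ∈ D, pt d = a ∧ Commute d e ∧ d ≠ e := by
  obtain ⟨d, hd, e, he, hde, hne⟩ := hpair
  obtain ⟨g, hg⟩ := P.exists_smul_eq (pt d) a
  exact ⟨_, P.conj_mem g d hd, _, P.conj_mem g e he, by rw [P.pt_conj g hd, hg],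
    hde.map (MulAut.conj g).toMonoidHom, fun h => hne (mul_left_cancel (mul_right_cancel h))⟩

/-- **The free case**: the members at `a` commute modulo an odd core. -/
theorem coreTwoAt_of_free
    (hNC : ∀ (r : ℕ) [Fact r.Prime], r ∣ Nat.card {f : G // f ∈ D ∧ pt f = a} →
      ∀ t ∈ D, ∀ X : Subgroup G, IsPGroup r X → t ∈ Subgroup.normalizer (X : Set G) →
      X ≤ MulAction.stabilizer G (pt t) → X ≤ Subgroup.centralizer ({t} : Set G))
    {v₀ u₀ : G} (hab : a ≠ b) (hv₀ : v₀ ∈ D) (hva : pt v₀ = a) (hu₀ : u₀ ∈ D) (hua : u₀ • a = b)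
    (hcent : core 2 (twoPt G a b) ⊓ Subgroup.centralizer ({v₀} : Set G) ≤
      Subgroup.centralizer ({u₀} : Set G))
    (hpair : ∃ d ∈ D, ∃ e ∈ D, Commute d e ∧ d ≠ e) : CoreTwoAt D pt a := by
  have hall := P.commute_at_of_trans hab
    (fun {x y z} hx hxa hy hz => P.commute_trans_of_reflection hab hv₀ hva hu₀ hua hcent hx hy hz hxa)
    hNC (P.exists_pair_at hpair a)
  intro s t
  have hst : Commute (s : G) (t : G) := Subgroup.mem_centralizer_iff.1
    ((Subgroup.closure_le _).2 (fun d hd => Subgroup.mem_centralizer_iff.2 fun e he =>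
      Subgroup.mem_centralizer_iff.1 ((Subgroup.closure_le _).2 (fun d' hd' =>
        mem_centralizer.2 (hall d' hd'.1 d hd.1 hd'.2 hd.2)) he) d rfl |>.symm) t.2) s s.2
  have : s * t * s⁻¹ * t⁻¹ = 1 := Subtype.ext (by
    show (s : G) * t * (s : G)⁻¹ * (t : G)⁻¹ = 1
    rw [hst.eq]; group)
  rw [this]
  exact one_mem _

end Cfsg.Agent.Aschbacher.PointClass
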