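/-
Members centralise the `p`-subgroups they normalise, free case, two-point stabilisers of any order
(port of `Bender/FreeNC`; piece A of the core-free criterion; owner: helper90).

`P : PointClass G Ω D pt` with a `PairSetup` for `p`.  A *bad pair* is a member `v` and a
`p`-subgroup `X` fixing the point of `v`, normalised but not centralised by it, of largest order.

* `CommMod` : the members at a point in `M` commute modulo the odd core of the stabiliser in `M`
* `PointClass.commMod_of_proper` : it holds for proper subgroups moving the point, by induction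
* `PairBad.exists_pair_sylow` : a Sylow subgroup of the pair exchanged by `v` moves the point of `v`
* `PairBad.normalizer_not_le` : (A) the normaliser of `X` moves the point of `v`
* `PairBad.exists_even` : (B) an inverted element of `X` with centraliser fixing the point of `v`
* `PairBad.pairCore_le` : (C) `O_p'(O_xy)` of the pair exchanged by `v` fixes the point of `v`
-/
import Cfsg.Agent.Lib.Aschbacher.PairSetup
import Cfsg.Agent.Lib.Aschbacher.PointCrit
import Cfsg.Agent.Lib.Bender.FreeNormal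

set_option autoImplicit false
set_option linter.style.haveILetI false
set_option linter.unusedSectionVars false

namespace Cfsg.Agent.Aschbacher

open Cfsg Involution Bender
open scoped Pointwise

universe u v

/-- The members at `o` in `M` commute modulo the odd core of the stabiliser of `o` in `M`. -/
def CommMod {G : Type u} {Ω : Type v} [Group G] [MulAction G Ω] (D : Set G) (pt : G → Ω)
    (M : Subgroup G) (o : Ω) : Prop :=
  ∀ s ∈ D, ∀ t ∈ D, s ∈ M → t ∈ M → pt s = o → pt t = o →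
    s * t * s⁻¹ * t⁻¹ ∈ core 2 (MulAction.stabilizer G o ⊓ M)

namespace PointClass

variable {G : Type u} {Ω : Type u} [Group G] [MulAction G Ω] [Finite G] [Finite Ω]
  [FaithfulSMul G Ω] {D : Set G} {pt : G → Ω} (P : PointClass G Ω D pt)
include P

/-- A proper subgroup with a member at `o` moving `o` has `CommMod` at `o`. -/
theorem commMod_of_proper (hIH : PointCriterionBelow.{u} (Nat.card G)) {M : Subgroup G}
    (hM : M ≠ ⊤) {o : Ω} {v : G} (hv : v ∈ D) (hvM : v ∈ M) (hvo : pt v = o) {g : G} (hg : g ∈ M)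
    (hgo : g • o ≠ o) : CommMod D pt M o := by
  intro s hs t ht hsM htM hso hto
  have hwo : pt (g * v * g⁻¹) = g • o := by rw [P.pt_conj g hv, hvo]
  have hwD := P.conj_mem g v hv
  obtain ⟨w, hw, hwM, -, hwp⟩ := exists_mid_in P hv hwD hvM
    (M.mul_mem (M.mul_mem hg hvM) (M.inv_mem hg)) (by rw [hwo, hvo]; exact hgo.symm)
  rw [hwo, hvo] at hwp
  have h := P.commute_mod_in hIH hM hv hvM hvo hw hwM (by rw [hwp]; exact hgo)
    ⟨s, Subgroup.subset_closure ⟨hs, hso, hsM⟩⟩ ⟨t, Subgroup.subset_closure ⟨ht, hto, htM⟩⟩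
  set L := atPointIn D pt M o with hL
  set Ma := MulAction.stabilizer G o ⊓ M with hMa
  have hLle : L ≤ Ma := (Subgroup.closure_le _).2 fun d hd =>
    ⟨MulAction.mem_stabilizer_iff.2 (hd.2.1 ▸ P.smul_pt hd.1), hd.2.2⟩
  have hMaL : Ma ≤ Subgroup.normalizer (L : Set G) := fun k hk => by
    refine Coprime.mem_normalizer_of_forall fun x hx => ?_
    induction hx using Subgroup.closure_induction with
    | mem d hd =>
      exact Subgroup.subset_closure ⟨P.conj_mem k d hd.1,
        by rw [P.pt_conj k hd.1, hd.2.1]; exact MulAction.mem_stabilizer_iff.1 hk.1,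
        M.mul_mem (M.mul_mem hk.2 hd.2.2) (M.inv_mem hk.2)⟩
    | one => simp
    | mul x y _ _ hx hy =>
      have := L.mul_mem hx hy
      rwa [conj_mul] at this
    | inv x _ hx =>
      have := L.inv_mem hx
      rwa [conj_inv] at this
  refine le_core_two_of_supplement (K := Ma) (R := Ma) (X := core 2 L)
    (fun k hk => ⟨1, one_mem _, by simpa using hk⟩) ((core_le 2 L).trans hLle)
    (odd_card_core_two L) (hMaL.trans (normalizer_le_core 2 L)) ?_
  exact ⟨_, h, rfl⟩

end PointClass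

variable {G Ω : Type u} [Group G] [MulAction G Ω] [Finite G] [Finite Ω]
variable {D : Set G} {pt : G → Ω} {p : ℕ} [Fact p.Prime]

/-- A member `v` and a `p`-subgroup fixing its point, normalised, not centralised by it, of largest
order for `v`. -/
structure PairBad (D : Set G) (pt : G → Ω) (p : ℕ) (v : G) (X : Subgroup G) : Prop where
  mem : v ∈ D
  le : X ≤ MulAction.stabilizer G (pt v)
  pgroup : IsPGroup p X
  norm : v ∈ Subgroup.normalizer (X : Set G)
  noncentral : ∃ x ∈ X, v * x ≠ x * v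
  max : ∀ Y : Subgroup G, IsPGroup p Y → Y ≤ MulAction.stabilizer G (pt v) →
    v ∈ Subgroup.normalizer (Y : Set G) → (∃ y ∈ Y, v * y ≠ y * v) → Nat.card Y ≤ Nat.card X

/-- A `p'`-part of the core of a subgroup lies in the core of a smaller one. -/
theorem core_inf_le_core {K O : Subgroup G} (hOK : O ≤ K) : core p K ⊓ O ≤ core p O := by
  set N := core p K ⊓ O with hN
  haveI : (N.subgroupOf O).Normal := by
    refine Cores.subgroupOf_normal_of_le_normalizer fun g hg => ?_
    refine Coprime.mem_normalizer_of_forall fun c hc => ⟨?_, ?_⟩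
    · exact (Subgroup.mem_normalizer_iff.1 (le_normalizer_core p K (hOK hg)) c).1 hc.1
    · exact O.mul_mem (O.mul_mem hg hc.2) (O.inv_mem hg)
  have h : (Nat.card (N.subgroupOf O)).Coprime p := by
    rw [Cores.card_subgroupOf inf_le_right]
    refine ((Fact.out : p.Prime).coprime_iff_not_dvd.2 fun h => ?_).symm
    exact not_dvd_card_core (p := p) (K := K) (h.trans (Subgroup.card_dvd_of_le inf_le_left))
  intro g hg
  exact ⟨⟨g, hg.2⟩, Cores.le_pPrimeCore inferInstance h (Subgroup.mem_subgroupOf.2 hg), rfl⟩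

namespace PairBad

variable {X₀ : Subgroup G} {a₀ b₀ : Ω} {v : G} {X : Subgroup G}
  (S : PairSetup D pt p X₀ a₀ b₀) (B : PairBad D pt p v X)

omit [Fact p.Prime] [Finite G] [Finite Ω] in
include B in
theorem ne_bot : X ≠ ⊥ := by
  rintro rfl
  obtain ⟨x, hx, hne⟩ := B.noncentral
  rw [Subgroup.mem_bot.1 hx] at hne
  exact hne (by simp)

include S B in
theorem smul_pt_self : v • pt v = pt v := S.pointClass.smul_pt B.mem

include S in
/-- A `p`-subgroup fixing a point fixes a further point. -/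
theorem exists_second {Y : Subgroup G} (hY : IsPGroup p Y) {o : Ω}
    (hYo : Y ≤ MulAction.stabilizer G o) :
    ∃ b : Ω, o ≠ b ∧ Y ≤ MulAction.stabilizer G b := by
  by_contra! hcon
  have h2 := S.fix_two hY hYo
  have h1 : Nat.card {x : Ω // Y ≤ MulAction.stabilizer G x} = 1 := by
    rw [Nat.card_eq_one_iff_unique]
    refine ⟨⟨fun x y => Subtype.ext ?_⟩, ⟨⟨_, hYo⟩⟩⟩
    rcases eq_or_ne o x.1 with e | e
    · rcases eq_or_ne o y.1 with e' | e'
      · exact e.symm.trans e'
      · exact absurd y.2 (hcon y.1 e')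
    · exact absurd x.2 (hcon x.1 e)
  rw [h1] at h2
  have hdvd : p ∣ 2 - 1 := (Nat.modEq_iff_dvd' (by omega)).1 h2
  exact (Fact.out : p.Prime).not_dvd_one hdvd

include S B in
theorem smul_ne {b : Ω} (hb : pt v ≠ b) : v • b ≠ b := fun e =>
  hb ((S.pointClass.fixed_iff v B.mem b).1 e).symm

include S B in
/-- `X` is not a Sylow subgroup of the pair exchanged by `v` at a fixed point. -/
theorem card_lt_pair {b : Ω} (hb : pt v ≠ b) (hXb : X ≤ MulAction.stabilizer G b) :
    Nat.card X < pPart p (Nat.card (twoPt G b (v • b))) := by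
  have P := S.pointClass
  have hne := B.smul_ne S hb
  have hXK : X ≤ twoPt G b (v • b) := le_inf hXb (le_stab_smul B.norm hXb)
  refine lt_of_le_of_ne (Coprime.card_le_of_isPGroup B.pgroup hXK) fun hcard => ?_
  set o := pt v with hodef
  have hXob : X ≤ twoPt G o b := le_inf B.le hXb
  have hcardob : Nat.card X = pPart p (Nat.card (twoPt G o b)) := by
    rw [hcard, hodef, card_twoPt_fixed P hne.symm B.mem rfl]
  have hlt : Nat.card X < Nat.card X₀ := by
    refine lt_of_le_of_ne (S.max X B.pgroup o b hb B.le hXb) fun e => ?_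
    rcases S.full_two B.pgroup e hXb (hXK.trans inf_le_right) hne.symm B.le with e' | e'
    · exact hb e'
    · exact hb (by rw [← P.smul_smul_self B.mem b, ← e', hodef, P.smul_pt B.mem])
  set N := Subgroup.normalizer (X : Set G) with hN
  obtain ⟨w, hw, hwX, hwo⟩ := P.exists_swap_normalizing_twoPt hb S.odd_prime hXob hcardob
  set f := w * v * w⁻¹ with hf
  have hfD : f ∈ D := P.conj_mem w v B.mem
  have hfX : f ∈ N := mem_normalizer_conj hwX B.norm
  have hfpt : pt f = b := by rw [hf, P.pt_conj w B.mem, ← hodef, hwo]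
  set s : Set G := {d | d ∈ D ∧ d ∈ N ∧ pt d = o} with hs
  have hsv : v ∈ s := ⟨B.mem, B.norm, rfl⟩
  have htrans : ∀ d ∈ s, ∃ k ∈ N ⊓ twoPt G o b, k * v * k⁻¹ = d := by
    rintro d ⟨hd, hdX, hdo⟩
    obtain ⟨w₀, hw₀, hw₀X, e₀, e₀'⟩ :=
      exists_mid_in P B.mem hfD B.norm hfX (by rw [hfpt]; exact hb)
    obtain ⟨w₁, hw₁, hw₁X, e₁, e₁'⟩ :=
      exists_mid_in P hd hfD hdX hfX (by rw [hfpt, hdo]; exact hb)
    rw [hfpt] at e₀' e₁'
    rw [hdo] at e₁'
    rw [← hodef] at e₀'
    have a₀' : w₀ • b = o := by rw [← e₀', P.smul_smul_self hw₀]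
    have a₁' : w₁ • b = o := by rw [← e₁', P.smul_smul_self hw₁]
    refine ⟨w₁⁻¹ * w₀, ⟨N.mul_mem (N.inv_mem hw₁X) hw₀X, ?_, ?_⟩, ?_⟩
    · show (w₁⁻¹ * w₀) • o = o
      rw [mul_smul, e₀', inv_smul_eq_iff, e₁']
    · show (w₁⁻¹ * w₀) • b = b
      rw [mul_smul, a₀', inv_smul_eq_iff, a₁']
    · calc w₁⁻¹ * w₀ * v * (w₁⁻¹ * w₀)⁻¹ = w₁⁻¹ * (w₀ * v * w₀⁻¹) * w₁ := by group
        _ = d := by rw [e₀, ← e₁]; group
  have hclosed : ∀ k ∈ N ⊓ MulAction.stabilizer G o, ∀ d ∈ s, k * d * k⁻¹ ∈ s := by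
    rintro k hk d ⟨hd, hdX, hdo⟩
    exact ⟨P.conj_mem k d hd, mem_normalizer_conj hk.1 hdX,
      by rw [P.pt_conj k hd, hdo]; exact MulAction.mem_stabilizer_iff.1 hk.2⟩
  set K₀ := N ⊓ twoPt G o b with hK₀
  set Ko := N ⊓ MulAction.stabilizer G o with hKo
  have hK₀o : K₀ ≤ Ko := inf_le_inf_left _ inf_le_left
  set C := Subgroup.centralizer ({v} : Set G) with hC
  have n₀ := card_eq_mul_centralizer K₀ s (fun k hk => hclosed k (hK₀o hk)) hsv htrans
  have no := card_eq_mul_centralizer Ko s hclosed hsv fun d hd => by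
    obtain ⟨k, hk, e⟩ := htrans d hd
    exact ⟨k, hK₀o hk, e⟩
  obtain ⟨T, hTp, hXT, hTo, hTn⟩ := S.exists_larger B.pgroup B.le hlt
  have h0 : pPart p (Nat.card K₀) = Nat.card X := le_antisymm
    ((pPart_le inf_le_right).trans_eq hcardob.symm)
    (Coprime.card_le_of_isPGroup B.pgroup (le_inf Subgroup.le_normalizer hXob))
  have h1 : Nat.card X < pPart p (Nat.card Ko) :=
    (Bender.card_lt_of_lt hXT).trans_le (Coprime.card_le_of_isPGroup hTp (le_inf hTn hTo))
  have hs0 : Nat.card s ≠ 0 := (Nat.card_pos_iff.2 ⟨⟨⟨v, hsv⟩⟩, inferInstance⟩).ne'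
  rw [← h0, n₀, no, pPart_mul hs0 Nat.card_pos.ne', pPart_mul hs0 Nat.card_pos.ne'] at h1
  have h2 : pPart p (Nat.card ↥(K₀ ⊓ C)) < pPart p (Nat.card ↥(Ko ⊓ C)) :=
    Nat.lt_of_mul_lt_mul_left h1
  obtain ⟨Y, hYp, hY, hYcard⟩ := exists_pPart (p := p) (Ko ⊓ C)
  have hYN : Y ≤ N := hY.trans (inf_le_left.trans inf_le_left)
  set R := Y ⊔ X with hR
  have hRp : IsPGroup p R := hYp.to_sup_of_normal_right' B.pgroup hYN
  have hXR : X < R := by
    refine lt_of_le_of_ne le_sup_right fun e => ?_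
    have hYX : Y ≤ X := le_sup_left.trans e.ge
    have hYK₀ : Y ≤ K₀ ⊓ C :=
      le_inf (hYX.trans (le_inf Subgroup.le_normalizer hXob)) (hY.trans inf_le_right)
    have := Coprime.card_le_of_isPGroup hYp hYK₀
    rw [hYcard] at this
    exact absurd this (not_le.2 h2)
  have hvR : v ∈ Subgroup.normalizer (R : Set G) := by
    have hle : R ≤ R.comap (MulAut.conj v).toMonoidHom := by
      refine sup_le (fun y hy => ?_) fun x hx => ?_
      · show v * y * v⁻¹ ∈ R
        rw [← (mem_centralizer.1 (hY hy).2).eq, mul_inv_cancel_right]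
        exact Subgroup.mem_sup_left hy
      · exact Subgroup.mem_sup_right ((Subgroup.mem_normalizer_iff.1 B.norm x).1 hx)
    exact Coprime.mem_normalizer_of_forall fun r hr => hle hr
  have hRo : R ≤ MulAction.stabilizer G o :=
    sup_le (hY.trans (inf_le_left.trans inf_le_right)) B.le
  obtain ⟨x, hx, hxv⟩ := B.noncentral
  exact absurd (B.max R hRp hRo hvR ⟨x, hXR.le hx, hxv⟩) (not_le.2 (Bender.card_lt_of_lt hXR))

include S B in
/-- An invariant Sylow subgroup of the pair exchanged by `v` at a fixed point of `X`. -/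
theorem exists_pair_sylow {b : Ω} (hb : pt v ≠ b) (hXb : X ≤ MulAction.stabilizer G b) :
    v • b ≠ b ∧ X ≤ twoPt G b (v • b) ∧
    ∃ Q : Subgroup G, X < Q ∧ Q ≤ twoPt G b (v • b) ∧ v ∈ Subgroup.normalizer (Q : Set G) ∧
      IsPGroup p Q ∧ Nat.card Q ≤ Nat.card X₀ ∧ ¬ Q ≤ MulAction.stabilizer G (pt v) := by
  have P := S.pointClass
  have hne := B.smul_ne S hb
  have hXK : X ≤ twoPt G b (v • b) := le_inf hXb (le_stab_smul B.norm hXb)
  obtain ⟨Q, hXQ, hQK, hvQ, hQp, hQcard⟩ :=
    P.exists_sylow_invariant_twoPt hne.symm S.odd_prime B.mem rfl hXK B.pgroup B.norm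
  have hlt : Nat.card X < Nat.card Q := hQcard ▸ B.card_lt_pair S hb hXb
  refine ⟨hne, hXK, Q, hXQ.lt_of_ne (fun e => hlt.ne (by rw [e])), hQK, hvQ, hQp,
    S.max Q hQp b (v • b) hne.symm (hQK.trans inf_le_left) (hQK.trans inf_le_right), fun hQo => ?_⟩
  obtain ⟨x, hx, hxv⟩ := B.noncentral
  exact absurd (B.max Q hQp hQo hvQ ⟨x, hXQ hx, hxv⟩) (not_le.2 hlt)

include S B in
/-- **(A)** The normaliser of `X` moves the point of `v`. -/
theorem normalizer_not_le :
    ¬ Subgroup.normalizer (X : Set G) ≤ MulAction.stabilizer G (pt v) := by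
  intro hM
  obtain ⟨b, hb, hXb⟩ := exists_second S B.pgroup B.le
  obtain ⟨-, -, Q, hXQ, -, hvQ, hQp, -, -⟩ := B.exists_pair_sylow S hb hXb
  obtain ⟨T, hXT, hTQ, hTn⟩ := exists_normalizing hQp hXQ
  set N := Q ⊓ Subgroup.normalizer (X : Set G) with hN
  have hTN : T ≤ N := le_inf hTQ hTn
  have hXN : X < N := hXT.trans_le hTN
  have hvN : v ∈ Subgroup.normalizer (N : Set G) := Coprime.mem_normalizer_of_forall fun g hg =>
    ⟨(Subgroup.mem_normalizer_iff.1 hvQ g).1 hg.1,
      mem_normalizer_conj B.norm hg.2⟩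
  obtain ⟨x, hx, hne⟩ := B.noncentral
  exact absurd (B.max N (hQp.to_le inf_le_left) (inf_le_right.trans hM) hvN
    ⟨x, hXN.le hx, hne⟩) (not_le.2 (Bender.card_lt_of_lt hXN))

include S B in
/-- A `p`-subgroup over `X` centralising `v` modulo the core is not larger than `X`. -/
theorem enlarge {M R : Subgroup G} (hvM' : v ∈ M) (hR : IsPGroup p R) (hXR : X ≤ R)
    (hRM : R ≤ MulAction.stabilizer G (pt v) ⊓ M)
    (hcomm : ∀ r ∈ R, r⁻¹ * (v * r * v⁻¹) ∈ core 2 (MulAction.stabilizer G (pt v) ⊓ M)) :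
    Nat.card R ≤ Nat.card X := by
  set Ma := MulAction.stabilizer G (pt v) ⊓ M with hMa
  set O := core 2 Ma with hO
  set K := R ⊔ O with hK
  have hRN : R ≤ Subgroup.normalizer (O : Set G) := hRM.trans (le_normalizer_core 2 Ma)
  have hKodd : Odd (Nat.card K) :=
    odd_card_sup_of_normalizes hRN (odd_card_core_two Ma) (odd_card_of_isPGroup S.odd_prime hR)
  have hvM : v ∈ Ma := ⟨MulAction.mem_stabilizer_iff.2 (B.smul_pt_self S), hvM'⟩
  have hvK : v ∈ Subgroup.normalizer (K : Set G) := by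
    have hle : K ≤ K.comap (MulAut.conj v).toMonoidHom := by
      refine sup_le (fun g hg => ?_) (fun g hg => ?_)
      · have h1 := mul_mem (Subgroup.mem_sup_left hg : g ∈ K)
          (Subgroup.mem_sup_right (hcomm g hg))
        rwa [mul_inv_cancel_left] at h1
      · exact Subgroup.mem_sup_right (conj_mem_core_two (Subgroup.le_normalizer hvM) hg)
    exact Coprime.mem_normalizer_of_forall fun g hg => hle hg
  have hKo : K ≤ MulAction.stabilizer G (pt v) :=
    sup_le (hRM.trans inf_le_left) ((core_le 2 Ma).trans inf_le_left)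
  obtain ⟨Q, hXQ, hQK, hvQ, hQp, hQcard⟩ := exists_sylow_invariant (p := p)
    (S.pointClass.inv v B.mem) hvK hKodd (hXR.trans le_sup_left) B.pgroup B.norm
  obtain ⟨x, hx, hne⟩ := B.noncentral
  calc Nat.card R ≤ p ^ (Nat.card K).factorization p :=
        Coprime.card_le_of_isPGroup hR le_sup_left
    _ = Nat.card Q := hQcard.symm
    _ ≤ Nat.card X := B.max Q hQp (hQK.trans hKo) hvQ ⟨x, hXQ hx, hne⟩

include S B in
/-- No member at the point of `v` centralises `X`. -/
theorem no_member_centralizes {s : G} (hs : s ∈ D) (hso : pt s = pt v) :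
    s ∉ Subgroup.centralizer (X : Set G) := by
  intro hsC
  have P := S.pointClass
  set M := Subgroup.normalizer (X : Set G) with hM
  have hsM : s ∈ M := Subgroup.centralizer_le_normalizer _ hsC
  obtain ⟨g, hgM, hgo⟩ := SetLike.not_le_iff_exists.1 (B.normalizer_not_le S)
  set v' := g * v * g⁻¹ with hv'
  have hv'D : v' ∈ D := P.conj_mem g v B.mem
  have hv'M : v' ∈ M := mem_normalizer_conj hgM B.norm
  have hne : pt v' ≠ pt v := by
    rw [hv', P.pt_conj g B.mem]
    exact fun e => hgo (MulAction.mem_stabilizer_iff.2 e)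
  obtain ⟨k, hk, hks⟩ := exists_conj_in P (K := M) hs hv'D hsM hv'M (by rw [hso]; exact hne.symm)
  have hsc : ∀ x ∈ X, s * x = x * s := fun x hx =>
    (Subgroup.mem_centralizer_iff.1 hsC x hx).symm
  obtain ⟨x, hx, hxv⟩ := B.noncentral
  apply hxv
  set c := g⁻¹ * k with hc
  have hcM : c ∈ M := mul_mem (inv_mem hgM) hk
  have hcs : c * s * c⁻¹ = v := by
    rw [hc, ← mul_left_inj (g⁻¹ * k), inv_mul_cancel_right]
    calc g⁻¹ * k * s = g⁻¹ * (k * s * k⁻¹) * k := by group
      _ = v * (g⁻¹ * k) := by rw [hks, hv']; group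
  have h1 : c⁻¹ * x * c ∈ X := (Subgroup.mem_normalizer_iff''.1 hcM x).1 hx
  calc v * x = c * (s * (c⁻¹ * x * c)) * c⁻¹ := by rw [← hcs]; group
    _ = x * v := by rw [hsc _ h1, ← hcs]; group

include S B in
/-- The action of `v` on `X` is trivial modulo the core. -/
theorem commutator_mem {M : Subgroup G} (hXM : X ≤ M) (hvM : v ∈ M)
    (hT : CommMod D pt M (pt v)) {x : G} (hx : x ∈ X) :
    x⁻¹ * (v * x * v⁻¹) ∈ core 2 (MulAction.stabilizer G (pt v) ⊓ M) := by
  haveI : Fact (Nat.Prime 2) := ⟨Nat.prime_two⟩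
  have P := S.pointClass
  set Ma := MulAction.stabilizer G (pt v) ⊓ M with hMa
  have hv2 := P.inv v B.mem
  have hxM : x ∈ Ma := ⟨B.le hx, hXM hx⟩
  have hvMa : v ∈ Ma := ⟨MulAction.mem_stabilizer_iff.2 (P.smul_pt B.mem), hvM⟩
  have hsD : x⁻¹ * v * x ∈ D := by
    have := P.conj_mem x⁻¹ v B.mem
    rwa [inv_inv] at this
  have hsM : x⁻¹ * v * x ∈ Ma := mul_mem (mul_mem (inv_mem hxM) hvMa) hxM
  have hso : pt (x⁻¹ * v * x) = pt v := by
    have h := P.pt_conj x⁻¹ B.mem
    rw [inv_inv] at h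
    rw [h, inv_smul_eq_iff, MulAction.mem_stabilizer_iff.1 hxM.1]
  set d : G := x⁻¹ * (v * x * v⁻¹) with hd
  have hdX : d ∈ X := mul_mem (inv_mem hx) ((Subgroup.mem_normalizer_iff.1 B.norm x).1 hx)
  have hdd : d * d ∈ core 2 Ma := by
    have h := hT _ hsD v B.mem hsM.2 hvM hso rfl
    have e : x⁻¹ * v * x * v * (x⁻¹ * v * x)⁻¹ * v⁻¹ = d * d := by
      rw [hd, inv_eq hv2, inv_eq (P.inv _ hsD)]; group
    rwa [e] at h
  obtain ⟨l, hl⟩ := (odd_card_of_isPGroup S.odd_prime B.pgroup).of_dvd_nat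
    (Subgroup.orderOf_dvd_natCard _ hdX)
  have e : d = (d * d) ^ (l + 1) := by
    rw [← sq, ← pow_mul, show 2 * (l + 1) = orderOf d + 1 by omega, pow_succ, pow_orderOf_eq_one,
      one_mul]
  rw [e]
  exact pow_mem hdd _

include S B in
/-- `X` contains the `p`-subgroups fixing the point of `v` and centralising it. -/
theorem le_of_centralizes [FaithfulSMul G Ω]
    (hT : CommMod D pt (Subgroup.normalizer (X : Set G)) (pt v)) {Y : Subgroup G}
    (hY : IsPGroup p Y) (hYo : Y ≤ MulAction.stabilizer G (pt v))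
    (hYX : Y ≤ Subgroup.centralizer (X : Set G)) : Y ≤ X := by
  have P := S.pointClass
  set Ma := MulAction.stabilizer G (pt v) ⊓ Subgroup.normalizer (X : Set G) with hMa
  set C := Subgroup.centralizer (X : Set G) ⊓ MulAction.stabilizer G (pt v) with hC
  have hCle : C ≤ Ma :=
    le_inf inf_le_right (inf_le_left.trans (Subgroup.centralizer_le_normalizer _))
  have hMC : Ma ≤ Subgroup.normalizer (C : Set G) := fun g hg => by
    refine Coprime.mem_normalizer_of_forall fun c hc => ⟨?_, ?_⟩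
    · refine Subgroup.mem_centralizer_iff.2 fun x hx => ?_
      have h1 : g⁻¹ * x * g ∈ X := (Subgroup.mem_normalizer_iff''.1 hg.2 x).1 hx
      have h2 := Subgroup.mem_centralizer_iff.1 hc.1 _ h1
      calc x * (g * c * g⁻¹) = g * (g⁻¹ * x * g * c) * g⁻¹ := by group
        _ = g * c * g⁻¹ * x := by rw [h2]; group
    · exact (MulAction.stabilizer G (pt v)).mul_mem
        ((MulAction.stabilizer G (pt v)).mul_mem hg.1 hc.2)
        ((MulAction.stabilizer G (pt v)).inv_mem hg.1)
  have hvMa : v ∈ Ma := ⟨MulAction.mem_stabilizer_iff.2 (P.smul_pt B.mem), B.norm⟩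
  have hCD : ∀ z ∈ D, z ∉ C := fun z hz hzC => B.no_member_centralizes S hz
    ((P.fixed_iff z hz (pt v)).1 (MulAction.mem_stabilizer_iff.1 hzC.2)).symm hzC.1
  set O := core 2 Ma with hO
  have hCO : core 2 C ≤ O := le_core_two_of_supplement (K := Ma) (R := Ma)
    (fun k hk => ⟨1, one_mem _, by simpa using hk⟩) ((core_le 2 C).trans hCle)
    (odd_card_core_two C) (hMC.trans (normalizer_le_core 2 C))
  obtain ⟨b, hb, -⟩ := exists_second S B.pgroup B.le
  have hYN : Y ≤ Subgroup.normalizer (X : Set G) :=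
    hYX.trans (Subgroup.centralizer_le_normalizer _)
  have hXYp : IsPGroup p ↥(X ⊔ Y) := B.pgroup.to_sup_of_normal_left' hY hYN
  have hle := B.enlarge S B.norm hXYp le_sup_left
    (sup_le (le_inf B.le Subgroup.le_normalizer) (le_inf hYo hYN)) fun r hr => ?_
  · exact (Subgroup.eq_of_le_of_card_ge le_sup_left hle).symm ▸ le_sup_right
  rw [← SetLike.mem_coe, Subgroup.coe_mul_of_right_le_normalizer_left X Y hYN] at hr
  obtain ⟨x, hx, y, hy, rfl⟩ := hr
  have hxM : x ∈ Ma := ⟨B.le hx, Subgroup.le_normalizer hx⟩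
  have hyM : y ∈ Ma := ⟨hYo hy, hYN hy⟩
  have hON : Ma ≤ Subgroup.normalizer (O : Set G) := le_normalizer_core 2 Ma
  have hcx : x⁻¹ * (v * x * v⁻¹) ∈ O := B.commutator_mem S Subgroup.le_normalizer B.norm hT hx
  have hcy : y⁻¹ * (v * y * v⁻¹) ∈ O := by
    obtain ⟨a, ha, hc⟩ := P.exists_core_mul_centralizing hb B.mem (hMC hvMa) hCD
      (show y ∈ C from ⟨hYX hy, hYo hy⟩)
    have haM : a ∈ Ma := hCle (core_le 2 C ha)
    have e : y⁻¹ * (v * y * v⁻¹) =
        (a⁻¹ * y)⁻¹ * (a⁻¹ * (v * a * v⁻¹)) * (a⁻¹ * y) := by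
      have h1 : v * y * v⁻¹ = v * a * v⁻¹ * (a⁻¹ * y) := by
        calc v * y * v⁻¹ = v * a * ((a⁻¹ * y) * v⁻¹) := by group
          _ = v * a * v⁻¹ * (a⁻¹ * y) := by rw [(hc.inv_right).eq]; group
      rw [h1]; group
    have hyaM : a⁻¹ * y ∈ Ma := mul_mem (inv_mem haM) hyM
    rw [e]
    refine (Subgroup.mem_normalizer_iff''.1 (hON hyaM) _).1 ?_
    exact mul_mem (inv_mem (hCO ha)) ((Subgroup.mem_normalizer_iff.1 (hON hvMa) a).1 (hCO ha))
  have h2 : y⁻¹ * (x⁻¹ * (v * x * v⁻¹)) * y ∈ O :=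
    (Subgroup.mem_normalizer_iff''.1 (hON hyM) _).1 hcx
  show (x * y)⁻¹ * (v * (x * y) * v⁻¹) ∈ O
  rw [show (x * y)⁻¹ * (v * (x * y) * v⁻¹) =
    (y⁻¹ * (x⁻¹ * (v * x * v⁻¹)) * y) * (y⁻¹ * (v * y * v⁻¹)) by group]
  exact mul_mem h2 hcy

include S B in
/-- Not all members of `N(X)` at the point of `v` are congruent to it; so one commuting with it
differs. -/
theorem exists_commuting [FaithfulSMul G Ω]
    (hT : CommMod D pt (Subgroup.normalizer (X : Set G)) (pt v)) :
    ∃ w ∈ D, w ∈ Subgroup.normalizer (X : Set G) ∧ w ≠ v ∧ Commute w v := by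
  have P := S.pointClass
  set M := Subgroup.normalizer (X : Set G) with hM
  set Ma := MulAction.stabilizer G (pt v) ⊓ M with hMa
  set O := core 2 Ma with hO
  have hv2 := P.inv v B.mem
  have hvi : v⁻¹ = v := inv_eq hv2
  have hvM : v ∈ Ma := ⟨MulAction.mem_stabilizer_iff.2 (P.smul_pt B.mem), B.norm⟩
  obtain ⟨s, hsD, hsM, hso, hsO⟩ : ∃ s ∈ D, s ∈ M ∧ pt s = pt v ∧ s * v⁻¹ ∉ O := by
    by_contra! hcon
    obtain ⟨b, hb, hXb⟩ := exists_second S B.pgroup B.le
    obtain ⟨-, -, Q, hXQ, -, -, -, hQcard, -⟩ := B.exists_pair_sylow S hb hXb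
    have hlt : Nat.card X < Nat.card X₀ := (Bender.card_lt_of_lt hXQ).trans_le hQcard
    obtain ⟨T, hTp, hXT, hTo, hTn⟩ := S.exists_larger B.pgroup B.le hlt
    have hTM : T ≤ Ma := le_inf hTo hTn
    refine absurd (B.enlarge S B.norm hTp hXT.le hTM fun r hr => ?_)
      (not_le.2 (Bender.card_lt_of_lt hXT))
    have hD : r⁻¹ * v * r ∈ D := by
      have := P.conj_mem r⁻¹ v B.mem
      rwa [inv_inv] at this
    have h := hcon (r⁻¹ * v * r) hD (mul_mem (mul_mem (inv_mem (hTn hr)) B.norm) (hTn hr)) (by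
      have h := P.pt_conj r⁻¹ B.mem
      rw [inv_inv] at h
      rw [h, inv_smul_eq_iff, MulAction.mem_stabilizer_iff.1 (hTo hr)])
    convert h using 1
    group
  have hs2 := P.inv s hsD
  have hev : Even (orderOf (v * s)) := by
    by_contra hodd
    obtain ⟨k, hk⟩ := Nat.not_even_iff_odd.1 hodd
    apply hsO
    have hc2 : (v * s) * (v * s) ∈ O := by
      have h := hT v B.mem s hsD B.norm hsM rfl hso
      rw [hvi, inv_eq hs2] at h
      simpa [mul_assoc] using h
    have h1 : v * s = ((v * s) * (v * s)) ^ (k + 1) := by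
      rw [← sq, ← pow_mul, show 2 * (k + 1) = orderOf (v * s) + 1 by omega, pow_succ,
        pow_orderOf_eq_one, one_mul]
    have h2 : (v * s)⁻¹ ∈ O := O.inv_mem (h1 ▸ pow_mem hc2 _)
    rwa [mul_inv_rev, inv_eq hs2] at h2
  obtain ⟨hwD, hcomm, hne⟩ := P.exists_partner B.mem hsD hev
  exact ⟨_, hwD, M.mul_mem B.norm (pow_mem (M.mul_mem B.norm hsM) _), hne, hcomm.symm⟩

include S B in
/-- **(B)** An inverted element of `X` commuting with another member; so its centraliser fixes the
point of `v`. -/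
theorem exists_even [FaithfulSMul G Ω]
    (hT : CommMod D pt (Subgroup.normalizer (X : Set G)) (pt v)) :
    ∃ e ∈ X, e ≠ 1 ∧ v * e * v⁻¹ = e⁻¹ ∧
      Subgroup.centralizer ({e} : Set G) ≤ MulAction.stabilizer G (pt v) := by
  have P := S.pointClass
  obtain ⟨w, hwD, hwM, hwv, hcomm⟩ := B.exists_commuting S hT
  obtain ⟨b, hb, -⟩ := exists_second S B.pgroup B.le
  have hv2 := P.inv v B.mem
  have hw2 := P.inv w hwD
  have hvv := mul_self hv2
  have hww := mul_self hw2
  set A := fourOf hvv hww hcomm.symm with hA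
  haveI := isMulCommutative_fourOf hvv hww hcomm.symm
  have hAX : A ≤ Subgroup.normalizer (X : Set G) := by
    intro a ha
    rcases (ha : a = 1 ∨ a = v ∨ a = w ∨ a = v * w) with rfl | rfl | rfl | rfl
    exacts [one_mem _, B.norm, hwM, mul_mem B.norm hwM]
  have hcop : (Nat.card A).Coprime (Nat.card X) := by
    obtain ⟨n, hn⟩ := IsPGroup.iff_card.1 (card_fourOf_dvd hvv hww hcomm.symm)
    rw [hn]
    exact (Nat.coprime_two_left.2 (odd_card_of_isPGroup S.odd_prime B.pgroup)).pow_left n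
  obtain ⟨f, hfA, hf1, x, hx, hfx, hvx⟩ :
      ∃ f ∈ A, f ≠ 1 ∧ ∃ x ∈ X, Commute f x ∧ v * x ≠ x * v := by
    by_contra! hcon
    obtain ⟨x, hx, hne⟩ := B.noncentral
    have hle : X ≤ Subgroup.centralizer ({v} : Set G) :=
      Coprime.le_of_noncyclic (not_isCyclic_fourOf hvv hww hcomm.symm (ne_one hv2) (ne_one hw2)
        hwv.symm) hAX hcop fun a ha ha1 y hy => mem_centralizer.2
          (hcon a ha ha1 y hy.1 (mem_centralizer.1 hy.2).symm).symm
    exact hne (mem_centralizer.1 (hle hx)).symm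
  have hfv : Commute f v :=
    congrArg Subtype.val (mul_comm' (⟨f, hfA⟩ : A) ⟨v, Or.inr (Or.inl rfl)⟩)
  have hfD : f ∈ D := by
    rcases (hfA : f = 1 ∨ f = v ∨ f = w ∨ f = v * w) with rfl | rfl | rfl | rfl
    exacts [absurd rfl hf1, B.mem, hwD, P.mul_mem_of_commute B.mem hwD hcomm.symm hwv.symm hb]
  set e := x⁻¹ * (v * x * v⁻¹) with he
  have heX : e ∈ X := mul_mem (inv_mem hx) ((Subgroup.mem_normalizer_iff.1 B.norm x).1 hx)
  have he1 : e ≠ 1 := fun h => hvx (by
    rw [he, inv_mul_eq_one] at h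
    exact mul_inv_eq_iff_eq_mul.1 h.symm)
  have hinv : v * e * v⁻¹ = e⁻¹ := by
    calc v * e * v⁻¹ = (v * x * v⁻¹)⁻¹ * ((v * v) * x * (v⁻¹ * v⁻¹)) := by rw [he]; group
      _ = e⁻¹ := by rw [hvv, inv_eq hv2, hvv, he, inv_eq hv2]; group
  have hfe : Commute f e := (hfx.inv_right).mul_right ((hfv.mul_right hfx).mul_right hfv.inv_right)
  refine ⟨e, heX, he1, hinv, fun g hg => MulAction.mem_stabilizer_iff.2 ?_⟩
  by_contra hgo
  exact P.not_commute_inverted_moved B.mem he1
    ((odd_card_of_isPGroup S.odd_prime B.pgroup).of_dvd_nat (Subgroup.orderOf_dvd_natCard _ heX))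
    hinv (mem_centralizer.1 hg : Commute g e) hgo hfD hfe.symm

include S B in
/-- **(C)** `O_p'(O_xy)` of a pair of fixed points exchanged by `v` fixes the point of `v`. -/
theorem pairCore_le [FaithfulSMul G Ω] {b : Ω} (hXK : X ≤ twoPt G b (v • b))
    (hT : CommMod D pt (Subgroup.normalizer (X : Set G)) (pt v)) :
    core p (core 2 (twoPt G b (v • b))) ≤ MulAction.stabilizer G (pt v) := by
  have P := S.pointClass
  set W := core 2 (twoPt G b (v • b)) with hW
  set U := core p W with hU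
  set o := pt v with ho
  obtain ⟨e, he, he1, hinv, hce⟩ := B.exists_even S hT
  have hv2 := P.inv v B.mem
  have hvv := mul_self hv2
  have hvU : v ∈ Subgroup.normalizer (U : Set G) :=
    normalizer_le_core p _ (P.swap_mem_normalizer_core B.mem rfl)
  have heU : e ∈ Subgroup.normalizer (U : Set G) :=
    normalizer_le_core p _ (le_normalizer_core 2 _ (hXK he))
  have hvo : v • o = o := P.smul_pt B.mem
  have heo : e • o = o := MulAction.mem_stabilizer_iff.1 (B.le he)
  set v' := v * e with hv'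
  have hv'D : v' ∈ D := P.mul_inverted_mem B.mem
    ((odd_card_of_isPGroup S.odd_prime B.pgroup).of_dvd_nat (Subgroup.orderOf_dvd_natCard _ he)) hinv
  have hv'2 : v' * v' = 1 := mul_self (P.inv v' hv'D)
  obtain ⟨k, hk⟩ := B.pgroup ⟨e, he⟩
  have hke : e ^ p ^ k = 1 := by simpa using congrArg Subtype.val hk
  have hv'o : v' • o = o := by rw [hv', mul_smul, heo, hvo]
  have hoC : ∀ d ∈ D, d • o = o → ∀ g : G, Commute d g → g • o = o := by
    intro d hd hdo g hg
    have hpt : pt d = o := ((P.fixed_iff d hd o).1 hdo).symm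
    have := P.commute_fix hd hg.symm
    rwa [hpt] at this
  have hfix := orbit_fixed (p := p) (odd_card_core (odd_card_core_two _)) not_dvd_card_core
    hvv hv'2 hvo hv'o hvU (mul_mem hvU heU)
    (fun g _ hg => hoC v B.mem hvo g hg)
    (fun g _ hg => hoC v' hv'D hv'o g hg)
    (k := k) (by rw [hv', ← mul_assoc, hvv, one_mul, hke])
  intro g hg
  set R := U ⊓ MulAction.stabilizer G o with hR
  have hege : ∀ y ∈ U, e • y • o = y • o := fun y hy => by
    have := hfix y hy
    rwa [hv', ← mul_assoc, hvv, one_mul] at this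
  have heo' : e⁻¹ • o = o := inv_smul_eq_iff.2 heo.symm
  obtain ⟨z, hzR, hzf⟩ := exists_fixed_coset (R := R) (p := p)
    (fun h => not_dvd_card_core (h.trans (Subgroup.card_dvd_of_le inf_le_left)))
    g (fun t => e * t * e⁻¹) (fun t ht => by
      obtain ⟨htU, hto⟩ := ht
      have h1 : t ∈ U := by simpa using U.mul_mem hg htU
      have h2 : e * t * e⁻¹ ∈ U := (Subgroup.mem_normalizer_iff.1 heU t).1 h1
      refine ⟨U.mul_mem (U.inv_mem hg) h2, MulAction.mem_stabilizer_iff.2 ?_⟩
      have h3 : t • o = g • o := by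
        have := MulAction.mem_stabilizer_iff.1 hto
        rwa [mul_smul, inv_smul_eq_iff] at this
      rw [mul_smul, inv_smul_eq_iff, mul_smul, mul_smul, heo', h3, hege g hg])
    (k := k) (fun t => by
      have : ∀ j : ℕ, (fun t => e * t * e⁻¹)^[j] t = e ^ j * t * (e ^ j)⁻¹ := by
        intro j
        induction j with
        | zero => simp
        | succ j ih => rw [Function.iterate_succ_apply', ih, pow_succ']; group
      rw [this, hke]; simp)
  have hzo : z • o = g • o := by
    have := MulAction.mem_stabilizer_iff.1 hzR.2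
    rwa [mul_smul, inv_smul_eq_iff] at this
  have hzH : z • o = o :=
    MulAction.mem_stabilizer_iff.1 (hce (mem_centralizer.2 (mul_inv_eq_iff_eq_mul.1 hzf).symm))
  exact MulAction.mem_stabilizer_iff.2 (hzo.symm.trans hzH)

include S B in
/-- **(C)** The core of a full pair containing a bad pair is normalised by the member. -/
theorem pairCore_normalised [FaithfulSMul G Ω]
    (hT : CommMod D pt (Subgroup.normalizer (X : Set G)) (pt v)) {b : Ω} (hb : pt v ≠ b)
    (hXb : X ≤ MulAction.stabilizer G b)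
    (hfull : pPart p (Nat.card (twoPt G (pt v) b)) = Nat.card X₀) :
    v ∈ Subgroup.normalizer (core p (core 2 (twoPt G (pt v) b)) : Set G) := by
  have P := S.pointClass
  set o := pt v with ho
  obtain ⟨hne, hXK, -⟩ := B.exists_pair_sylow S hb hXb
  set W' := core 2 (twoPt G b (v • b))
  set W := core 2 (twoPt G o b)
  have hU := B.pairCore_le S hXK hT
  have hUW : core p W' ≤ W :=
    (le_inf (core_le p W') hU).trans (P.core_inf_stab_le hne.symm B.mem rfl)
  have hXob : X ≤ twoPt G o b := le_inf B.le hXb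
  have hXW : X ≤ Subgroup.normalizer (W : Set G) := hXob.trans (le_normalizer_core 2 _)
  have hKodd : Odd (Nat.card ↥(X ⊔ W)) := odd_card_sup_of_normalizes hXW (odd_card_core_two _)
    (odd_card_of_isPGroup S.odd_prime B.pgroup)
  have hKo : X ⊔ W ≤ MulAction.stabilizer G o := sup_le B.le ((core_le 2 _).trans inf_le_left)
  have h1 : core p W' ≤ core p (X ⊔ W) :=
    le_core_of_centric S.odd_prime hKodd le_sup_left B.pgroup (hUW.trans le_sup_right)
      not_dvd_card_core (((hXK.trans (le_normalizer_core 2 _)).trans (normalizer_le_core p W')))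
      fun R hR hRK hRX => B.le_of_centralizes S hT hR (hRK.trans hKo) hRX
  have hle : core p W' ≤ core p W := (le_inf h1 hUW).trans (core_inf_le_core le_sup_right)
  -- both pairs are conjugate
  have hfull' : pPart p (Nat.card (twoPt G b (v • b))) = Nat.card X₀ := by
    rw [← hfull, ho, card_twoPt_fixed P hne.symm B.mem rfl]
  obtain ⟨g, hgb, hgv⟩ := S.exists_conj_pair hne.symm hb hfull' hfull
  have hK : (twoPt G b (v • b)).map (MulAut.conj g).toMonoidHom = twoPt G o b := by
    ext k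
    rw [Subgroup.mem_map_equiv, MulAut.conj_symm_apply]
    simp only [Subgroup.mem_inf, MulAction.mem_stabilizer_iff, mul_smul, inv_smul_eq_iff, hgb, hgv]
  have hcard : Nat.card (core p W) = Nat.card (core p W') := by
    have h := card_core_core_map (MulAut.conj g) p (twoPt G b (v • b))
    rwa [hK] at h
  have heq : core p W' = core p W := Subgroup.eq_of_le_of_card_ge hle hcard.le
  rw [← heq]
  exact normalizer_le_core p _ (P.swap_mem_normalizer_core B.mem rfl)

end PairBad

end Cfsg.Agent.Aschbacher
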