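/-
Members centralise the `r`-subgroups they normalise at their point, two-point stabilisers of any
order (port of `Bender/FreeNormal`; piece A of the core-free criterion; owner: helper90).

* `PointClass.exists_member_congruent` : an involution of `L` in the span of the members modulo
  `O(L)` is a member
* `PairBad.pair_full` : the pair stabiliser in `M` has the full `p`-part of the stabiliser in `M`
* `PairConfig.false_of_max` : a configuration of largest `p`-part contradicts the criterion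
* `PointClass.centralizes_of_pairSetup` : members centralise, for a prime with a set-up
* `PointClass.centralizes_of_dvd`, `PointClass.centralizes_of_fail` : NC for all primes dividing
  the number of members at a point
-/
import Cfsg.Agent.Lib.Aschbacher.PairFreeNC

set_option autoImplicit false
set_option linter.style.haveILetI false
set_option linter.unusedSectionVars false

namespace Cfsg.Agent.Aschbacher

open Cfsg Involution Bender
open scoped Pointwise

universe u

variable {G Ω : Type u} [Group G] [MulAction G Ω] [Finite G] [Finite Ω]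
variable {D : Set G} {pt : G → Ω} {p : ℕ} [Fact p.Prime]

namespace PointClass

variable (P : PointClass G Ω D pt)
include P

/-- A member in the stabiliser of `o` is at `o`. -/
theorem pt_eq_of_mem_stab {d : G} (hd : d ∈ D) {o : Ω} (h : d ∈ MulAction.stabilizer G o) :
    pt d = o :=
  ((P.fixed_iff d hd o).1 (MulAction.mem_stabilizer_iff.1 h)).symm

/-- A subgroup fixing a point and normalised by everything is trivial. -/
theorem eq_bot_of_normal_le_stab [FaithfulSMul G Ω] {N : Subgroup G}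
    (hN : Subgroup.normalizer (N : Set G) = ⊤) {x : Ω} (hx : N ≤ MulAction.stabilizer G x) :
    N = ⊥ := by
  haveI : N.Normal := Subgroup.normalizer_eq_top_iff.1 hN
  refine (Subgroup.eq_bot_iff_forall _).2 fun n hn => eq_of_smul_eq_smul fun q : Ω => ?_
  obtain ⟨g, rfl⟩ := P.exists_smul_eq x q
  have h := MulAction.mem_stabilizer_iff.1 (hx (Subgroup.Normal.conj_mem inferInstance n hn g⁻¹))
  rw [inv_inv, mul_smul, mul_smul, inv_smul_eq_iff] at h
  rw [one_smul]
  exact h

/-- With a point moved by a member at `o` in `M`, the members at `o` in `M` are conjugate under the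
stabiliser of the pair. -/
theorem exists_conj_in_pairStab {M : Subgroup G} {o : Ω} {g : G} (hgM : g ∈ M) (hgo : g • o ≠ o)
    {v s : G} (hv : v ∈ D) (hvM : v ∈ M) (hvo : pt v = o) (hs : s ∈ D) (hsM : s ∈ M)
    (hso : pt s = o) : ∃ k ∈ M ⊓ twoPt G o (g • o), k * s * k⁻¹ = v := by
  set f := g * v * g⁻¹
  have hf : f ∈ D := P.conj_mem g v hv
  have hfp : pt f = g • o := by rw [P.pt_conj g hv, hvo]
  have hfM : f ∈ M := mul_mem (mul_mem hgM hvM) (inv_mem hgM)
  obtain ⟨w, hw, hwM, hwe, hwp⟩ := exists_mid_in P (K := M) hv hf hvM hfM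
    (by rw [hvo, hfp]; exact hgo.symm)
  obtain ⟨w', hw', hwM', hwe', hwp'⟩ := exists_mid_in P (K := M) hs hf hsM hfM
    (by rw [hso, hfp]; exact hgo.symm)
  rw [hvo, hfp] at hwp
  rw [hso, hfp] at hwp'
  refine ⟨w⁻¹ * w', ⟨M.mul_mem (M.inv_mem hwM) hwM', MulAction.mem_stabilizer_iff.2 ?_,
    MulAction.mem_stabilizer_iff.2 ?_⟩, ?_⟩
  · rw [mul_smul, hwp', inv_smul_eq_iff, hwp]
  · rw [mul_smul, show w' • (g • o) = o by rw [← hwp', P.smul_smul_self hw'],
      inv_eq (P.inv w hw), hwp]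
  · calc w⁻¹ * w' * s * (w⁻¹ * w')⁻¹ = w⁻¹ * (w' * s * w'⁻¹) * w := by group
      _ = v := by rw [hwe', ← hwe]; group

/-- An involution of `L` lying in the span of the members modulo `O(L)` is conjugate to a member. -/
theorem exists_member_congruent [FaithfulSMul G Ω] {x y : Ω} (hxy : x ≠ y) {L : Subgroup G}
    (hcomm : ∀ s t : L, (s : G) ∈ D → (t : G) ∈ D → s * t * s⁻¹ * t⁻¹ ∈ oddCore L) {t : L}
    (ht : orderOf t = 2) (htS : t ∈ Subgroup.closure {s : L | (s : G) ∈ D} ⊔ oddCore L) :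
    ∃ d : L, (d : G) ∈ D ∧ IsConj d t := by
  haveI : Fact (Nat.Prime 2) := ⟨Nat.prime_two⟩
  set O := oddCore L with hO
  haveI : O.Normal := Cores.pPrimeCore_normal 2 L
  have hOodd : Odd (Nat.card O) := Nat.coprime_two_right.1 (Cores.coprime_card_pPrimeCore 2)
  set φ := QuotientGroup.mk' O with hφ
  set S : Set L := {s : L | (s : G) ∈ D}
  have hS2 : ∀ s ∈ S, orderOf s = 2 := fun s hs => by
    rw [← Subgroup.orderOf_coe]; exact P.inv _ hs
  have hφ1 : ∀ s ∈ S, φ s ≠ 1 := by
    intro s hs h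
    have h2 := hOodd.of_dvd_nat
      (Subgroup.orderOf_dvd_natCard _ ((QuotientGroup.eq_one_iff s).1 h))
    rw [hS2 s hs] at h2
    exact absurd h2 (by decide)
  have key : ∀ q ∈ Subgroup.closure (φ '' S), q = 1 ∨ q ∈ φ '' S := by
    intro q hq
    induction hq using Subgroup.closure_induction with
    | mem x hx => exact Or.inr hx
    | one => exact Or.inl rfl
    | inv a _ ha =>
      rcases ha with rfl | ⟨d, hd, rfl⟩
      · exact Or.inl inv_one
      · right
        exact ⟨d, hd, by rw [← map_inv, inv_eq (hS2 d hd)]⟩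
    | mul a b _ _ ha hb =>
      rcases ha with rfl | ⟨d, hd, rfl⟩
      · rwa [one_mul]
      rcases hb with rfl | ⟨e, he, rfl⟩
      · rw [mul_one]; exact Or.inr ⟨d, hd, rfl⟩
      by_cases hde : φ d = φ e
      · left
        rw [hde, ← map_mul, mul_self (hS2 e he), map_one]
      right
      have hc : φ d * φ e = φ e * φ d := by
        have h := (QuotientGroup.eq_one_iff _).2 (hcomm d e hd he)
        change φ (d * e * d⁻¹ * e⁻¹) = 1 at h
        rwa [map_mul, map_mul, map_mul, map_inv, map_inv, mul_inv_eq_one, mul_inv_eq_iff_eq_mul]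
          at h
      have hsq : φ (d * e) ^ 2 = 1 := by
        rw [sq, map_mul]
        calc φ d * φ e * (φ d * φ e) = φ d * (φ e * φ d) * φ e := by group
          _ = (φ d * φ d) * (φ e * φ e) := by rw [← hc]; group
          _ = 1 := by
            rw [← map_mul, ← map_mul, mul_self (hS2 d hd), mul_self (hS2 e he), map_one, one_mul]
      have hne : φ (d * e) ≠ 1 := fun h => hde (by
        rw [map_mul, mul_eq_one_iff_eq_inv] at h
        rw [h, ← map_inv, inv_eq (hS2 e he)])
      have hord : orderOf (φ (d * e)) = 2 := orderOf_eq_prime hsq hne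
      have hev : Even (orderOf ((d : G) * e)) := by
        rw [even_iff_two_dvd, ← hord, ← Subgroup.coe_mul, Subgroup.orderOf_coe]
        exact orderOf_map_dvd φ _
      obtain ⟨hpD, hpc, hpne⟩ := P.exists_partner hd he hev
      have hm := P.mul_mem_of_commute hd hpD hpc hpne.symm hxy
      rw [← mul_assoc, mul_self (P.inv _ hd), one_mul] at hm
      set k := orderOf ((d : G) * e) / 2
      have hmS : (d * e) ^ k ∈ S := by
        show (((d * e) ^ k : L) : G) ∈ D
        simpa using hm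
      rcases Nat.even_or_odd k with ⟨j, hj⟩ | ⟨j, hj⟩
      · refine absurd ?_ (hφ1 _ hmS)
        rw [map_pow, hj, ← two_mul, pow_mul, hsq, one_pow]
      · exact ⟨_, hmS, by rw [map_pow, hj, pow_succ, pow_mul, hsq, one_pow, one_mul, map_mul]⟩
  have htW : φ t ∈ Subgroup.closure (φ '' S) := by
    have h := Subgroup.mem_map_of_mem φ htS
    rwa [Subgroup.map_sup, MonoidHom.map_closure,
      (Subgroup.map_eq_bot_iff O).2 (QuotientGroup.ker_mk' O).ge, sup_bot_eq] at h
  rcases key _ htW with h | ⟨d, hd, e⟩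
  · exfalso
    have h2 := hOodd.of_dvd_nat
      (Subgroup.orderOf_dvd_natCard _ ((QuotientGroup.eq_one_iff t).1 h))
    rw [ht] at h2
    exact absurd h2 (by decide)
  · refine ⟨d, hd, isConj_of_odd (hS2 d hd) ht ?_⟩
    refine hOodd.of_dvd_nat (Subgroup.orderOf_dvd_natCard _ ((QuotientGroup.eq_one_iff _).1 ?_))
    show φ (d * t) = 1
    rw [map_mul, e, ← map_mul, mul_self ht, map_one]

end PointClass

/-- A configuration: a subgroup `M` moving the point of `v`, containing a bad pair of the given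
order, with a second point of its orbit fixed by the `p`-subgroup. -/
def PairConfig (D : Set G) (pt : G → Ω) (p N : ℕ) (v : G) (X M : Subgroup G) (g : G) : Prop :=
  PairBad D pt p v X ∧ Nat.card X = N ∧ M ≠ ⊤ ∧ v ∈ M ∧ X ≤ M ∧ g ∈ M ∧ g • pt v ≠ pt v ∧
    X ≤ MulAction.stabilizer G (g • pt v)

variable {X₀ : Subgroup G} {a₀ b₀ : Ω} {v : G} {X : Subgroup G}

/-- The bound: the pair stabiliser in `M` has full `p`-part. -/
theorem PairBad.pair_full (S : PairSetup D pt p X₀ a₀ b₀) (B : PairBad D pt p v X) {M : Subgroup G}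
    (hT : CommMod D pt M (pt v)) {g : G} (hgM : g ∈ M) (hgo : g • pt v ≠ pt v) (hvM : v ∈ M)
    (hXM : X ≤ M) (hXg : X ≤ MulAction.stabilizer G (g • pt v)) :
    pPart p (Nat.card ↥(MulAction.stabilizer G (pt v) ⊓ M)) ≤
      pPart p (Nat.card ↥(M ⊓ twoPt G (pt v) (g • pt v))) := by
  haveI : Fact (Nat.Prime 2) := ⟨Nat.prime_two⟩
  have P := S.pointClass
  set o := pt v with ho
  set Ma := MulAction.stabilizer G o ⊓ M with hMa
  set K := M ⊓ twoPt G o (g • o) with hKdef
  have hKMa : K ≤ Ma := fun k hk => ⟨hk.2.1, hk.1⟩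
  set φ := QuotientGroup.mk' (oddCore ↥Ma) with hφ
  have hvMa : v ∈ Ma := ⟨MulAction.mem_stabilizer_iff.2 (P.smul_pt B.mem), hvM⟩
  set vv : Ma := ⟨v, hvMa⟩ with hvv
  set cls : Set (Ma ⧸ oddCore ↥Ma) := {c | ∃ t : Ma, (t : G) ∈ D ∧ φ t = c} with hcls
  have hS : ∀ k : Ma, ∀ c ∈ cls, φ k * c * (φ k)⁻¹ ∈ cls := by
    rintro k _ ⟨t, ht, rfl⟩
    refine ⟨k * t * k⁻¹, ?_, by rw [map_mul, map_mul, map_inv]⟩
    exact P.conj_mem (k : G) _ ht
  have htr : ∀ c ∈ cls, ∃ k : Ma, (k : G) ∈ K ∧ φ k * φ vv * (φ k)⁻¹ = c := by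
    rintro _ ⟨t, ht, rfl⟩
    obtain ⟨k, hk, e⟩ := P.exists_conj_in_pairStab hgM hgo B.mem hvM rfl ht t.2.2
      (P.pt_eq_of_mem_stab ht t.2.1)
    refine ⟨⟨k, hKMa hk⟩⁻¹, ?_, ?_⟩
    · exact K.inv_mem hk
    · rw [← map_inv, ← map_mul, ← map_mul]
      refine congrArg φ (Subtype.ext ?_)
      show k⁻¹ * v * k⁻¹⁻¹ = (t : G)
      rw [← e]; group
  set C := (Subgroup.centralizer ({φ vv} : Set (Ma ⧸ oddCore ↥Ma))).comap φ
  have e1 := card_eq_mul_comap φ ⊤ cls (fun k _ => hS k) (s₀ := φ vv) ⟨vv, B.mem, rfl⟩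
    fun c hc => (htr c hc).imp fun k hk => ⟨trivial, hk.2⟩
  have e2 := card_eq_mul_comap φ (K.subgroupOf Ma) cls (fun k _ => hS k) (s₀ := φ vv)
    ⟨vv, B.mem, rfl⟩ fun c hc => (htr c hc).imp fun k hk => ⟨hk.1, hk.2⟩
  rw [top_inf_eq, Subgroup.card_top] at e1
  rw [Cores.card_subgroupOf hKMa] at e2
  have hcl0 : Nat.card cls ≠ 0 := by
    haveI : Nonempty cls := ⟨⟨φ vv, vv, B.mem, rfl⟩⟩
    exact Nat.card_pos.ne'
  rw [e1, e2, pPart_mul hcl0 Nat.card_pos.ne', pPart_mul hcl0 Nat.card_pos.ne']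
  refine Nat.mul_le_mul_left _ ?_
  -- the `p`-part of the stabiliser of the class is the order of `X`
  set CG := C.map Ma.subtype with hCG
  have hXC : X ≤ CG := by
    intro x hx
    refine ⟨⟨x, B.le hx, hXM hx⟩, ?_, rfl⟩
    obtain ⟨d, hd, hde⟩ := B.commutator_mem S hXM hvM hT hx
    refine mem_centralizer.2 ?_
    have h1 : φ d = 1 := (QuotientGroup.eq_one_iff d).2 hd
    have h2 : d = ⟨x, B.le hx, hXM hx⟩⁻¹ * (vv * ⟨x, B.le hx, hXM hx⟩ * vv⁻¹) := Subtype.ext hde
    rw [h2, map_mul, map_inv, map_mul, map_mul, map_inv, inv_mul_eq_one, eq_mul_inv_iff_mul_eq]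
      at h1
    exact h1
  obtain ⟨T', hT'⟩ := (B.pgroup.comap_subtype : IsPGroup p (X.subgroupOf CG)).exists_le_sylow
  set T := (T' : Subgroup CG).map CG.subtype with hTdef
  have hTle : Nat.card T ≤ Nat.card X := by
    refine B.enlarge S hvM (T'.isPGroup'.map _)
      (fun x hx => ⟨⟨x, hXC hx⟩, hT' hx, rfl⟩)
      ((Subgroup.map_subtype_le _).trans (Subgroup.map_subtype_le _)) fun r hr => ?_
    obtain ⟨⟨r, k, hk, rfl⟩, -, rfl⟩ := hr
    refine ⟨k⁻¹ * (vv * k * vv⁻¹), (QuotientGroup.eq_one_iff _).1 ?_, rfl⟩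
    show φ (k⁻¹ * (vv * k * vv⁻¹)) = 1
    rw [map_mul, map_inv, map_mul, map_mul, map_inv, ← (mem_centralizer.1 hk : Commute _ _).eq,
      mul_inv_cancel_right, inv_mul_cancel]
  calc pPart p (Nat.card C) = pPart p (Nat.card CG) := by rw [hCG, Cores.card_map_subtype]
    _ = Nat.card T :=
      T'.card_eq_multiplicity.symm.trans (Cores.card_map_subtype _ _).symm
    _ ≤ Nat.card X := hTle
    _ ≤ _ := by
      rw [← Cores.card_subgroupOf (show X ≤ Ma from le_inf B.le hXM)]
      refine Coprime.card_le_of_isPGroup B.pgroup.comap_subtype fun x hx => ⟨?_, ?_⟩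
      · exact Subgroup.mem_subgroupOf.2 ⟨hXM hx, B.le hx, hXg hx⟩
      · obtain ⟨y, hy, hye⟩ := hXC hx
        rwa [show x = y from Subtype.ext hye.symm]

/-- A configuration with the largest `p`-part of the stabiliser in `M` contradicts the criterion. -/
theorem PairConfig.false_of_max [FaithfulSMul G Ω] (hIH : PointCriterionBelow.{u} (Nat.card G))
    (crit : ∀ (N : Subgroup G) (x y : Ω), x ≠ y → N ≠ ⊥ → N ≤ twoPt G x y →
      core 2 (twoPt G x y) ≤ Subgroup.normalizer (N : Set G) →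
      ∀ u ∈ D, pt u = x → u ∈ Subgroup.normalizer (N : Set G) →
      ∀ w ∈ D, w • x = y → w ∈ Subgroup.normalizer (N : Set G) → False)
    (S : PairSetup D pt p X₀ a₀ b₀) {N : ℕ} {M : Subgroup G} {g : G}
    (hN : ∀ (w : G) (Y : Subgroup G), w ∈ D → IsPGroup p Y → Y ≤ MulAction.stabilizer G (pt w) →
      w ∈ Subgroup.normalizer (Y : Set G) → (∃ y ∈ Y, w * y ≠ y * w) → Nat.card Y ≤ N)
    (hc : PairConfig D pt p N v X M g)
    (hmax : ∀ (v' : G) (X' M' : Subgroup G) (g' : G), PairConfig D pt p N v' X' M' g' →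
      pPart p (Nat.card ↥(MulAction.stabilizer G (pt v') ⊓ M')) ≤
        pPart p (Nat.card ↥(MulAction.stabilizer G (pt v) ⊓ M))) : False := by
  haveI : Fact (Nat.Prime 2) := ⟨Nat.prime_two⟩
  obtain ⟨B, hXN, hM, hvM, hXM, hgM, hgo, hXg⟩ := hc
  have P := S.pointClass
  set o := pt v with ho
  set b := g • o with hb
  have hne : o ≠ b := hgo.symm
  have hv2 := P.inv v B.mem
  have hvo : v • o = o := P.smul_pt B.mem
  have hT : CommMod D pt M o := P.commMod_of_proper hIH hM B.mem hvM rfl hgM hgo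
  set L := MulAction.stabilizer G o ⊓ M with hL
  set K := M ⊓ twoPt G o b with hK
  have hKL : K ≤ L := fun k hk => ⟨hk.2.1, hk.1⟩
  have hXK : X ≤ K := le_inf hXM (le_inf B.le hXg)
  -- a swapper in `M` normalising a Sylow subgroup of `K` over `X`
  obtain ⟨w, hw, hwM, -, hwp⟩ := exists_mid_in P (K := M) (e := v) (f := g * v * g⁻¹) B.mem
    (P.conj_mem g v B.mem) hvM (mul_mem (mul_mem hgM hvM) (inv_mem hgM))
    (by rw [P.pt_conj g B.mem]; exact hne)
  rw [P.pt_conj g B.mem] at hwp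
  obtain ⟨T', hT'⟩ := (B.pgroup.comap_subtype : IsPGroup p (X.subgroupOf K)).exists_le_sylow
  set T := (T' : Subgroup K).map K.subtype with hTdef
  have hTp : IsPGroup p T := T'.isPGroup'.map _
  have hTK : T ≤ K := Subgroup.map_subtype_le _
  have hXT : X ≤ T := fun x hx => ⟨⟨x, hXK hx⟩, hT' hx, rfl⟩
  have hTcard : Nat.card T = pPart p (Nat.card K) :=
    (Cores.card_map_subtype _ _).trans T'.card_eq_multiplicity
  set W := core 2 (twoPt G o b) with hW
  set Kc := T ⊔ (M ⊓ W) with hKc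
  have hTW : T ≤ Subgroup.normalizer ((M ⊓ W : Subgroup G) : Set G) := fun t ht =>
    Coprime.mem_normalizer_of_forall fun a ha =>
      ⟨M.mul_mem (M.mul_mem (hTK ht).1 ha.1) (M.inv_mem (hTK ht).1),
        (Subgroup.mem_normalizer_iff.1 (le_normalizer_core 2 _ (hTK ht).2) a).1 ha.2⟩
  have hKcK : Kc ≤ K := sup_le hTK (inf_le_inf_left M (core_le 2 _))
  have hKcodd : Odd (Nat.card Kc) := odd_card_sup_of_normalizes hTW
    ((odd_card_core_two _).of_dvd_nat (Subgroup.card_dvd_of_le inf_le_right))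
    (odd_card_of_isPGroup S.odd_prime hTp)
  have hwKc : w ∈ Subgroup.normalizer (Kc : Set G) := Coprime.mem_normalizer_of_forall fun k hk => by
    have hkK := hKcK hk
    have h1 : w * k * w⁻¹ * k⁻¹ ∈ M ⊓ W :=
      ⟨M.mul_mem (M.mul_mem (M.mul_mem hwM hkK.1) (M.inv_mem hwM)) (M.inv_mem hkK.1),
        P.comm_swap_mem_core hne hw hwp hkK.2⟩
    have := Kc.mul_mem (Subgroup.mem_sup_right h1) hk
    rwa [inv_mul_cancel_right] at this
  obtain ⟨Q, -, hQK, hwQ, -, hQcard⟩ := exists_sylow_invariant (p := p) (P.inv w hw) hwKc hKcodd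
    (R := ⊥) bot_le IsPGroup.of_bot
    (Coprime.mem_normalizer_of_forall fun x hx => by simp [Subgroup.mem_bot.1 hx])
  have hTcard' : Nat.card T = p ^ (Nat.card Kc).factorization p := by
    refine le_antisymm (Coprime.card_le_of_isPGroup hTp le_sup_left) ?_
    rw [hTcard]
    exact pPart_le hKcK
  obtain ⟨h, hh, hhQ⟩ := exists_conj_of_card_eq (p := p) hTp (le_sup_left : T ≤ Kc)
    (fun R hR hRK => (Coprime.card_le_of_isPGroup hR hRK).trans hTcard'.ge) hQK
    (hQcard.trans hTcard'.symm)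
  have hhK := hKcK hh
  set u := h * w * h⁻¹ with hu
  have huD : u ∈ D := P.conj_mem h w hw
  have huM : u ∈ M := mul_mem (mul_mem hhK.1 hwM) (inv_mem hhK.1)
  have huo : u • o = b := by
    rw [hu, mul_smul, mul_smul,
      inv_smul_eq_iff.2 (MulAction.mem_stabilizer_iff.1 hhK.2.1).symm, hwp,
      MulAction.mem_stabilizer_iff.1 hhK.2.2]
  have huT : u ∈ Subgroup.normalizer (T : Set G) := by
    rw [← hhQ]
    refine Coprime.mem_normalizer_of_forall fun x hx => ?_
    rw [Coprime.mem_conj] at hx ⊢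
    convert (Subgroup.mem_normalizer_iff.1 hwQ _).1 hx using 1
    rw [hu]; group
  -- `T` is a Sylow subgroup of the stabiliser in `M`
  have hTL : T ≤ L := hTK.trans hKL
  have hTfull : Nat.card T = pPart p (Nat.card L) :=
    le_antisymm (Coprime.card_le_of_isPGroup hTp hTL)
      ((B.pair_full S hT hgM hgo hvM hXM hXg).trans hTcard.ge)
  have hvL : v ∈ L := ⟨MulAction.mem_stabilizer_iff.2 hvo, hvM⟩
  have hXL : X ≤ L := le_inf B.le hXM
  have hcomm : ∀ s t : L, (s : G) ∈ D → (t : G) ∈ D → s * t * s⁻¹ * t⁻¹ ∈ oddCore L := by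
    intro s t hs ht
    obtain ⟨c, hc, e⟩ := hT _ hs _ ht s.2.2 t.2.2 (P.pt_eq_of_mem_stab hs s.2.1)
      (P.pt_eq_of_mem_stab ht t.2.1)
    rwa [show c = s * t * s⁻¹ * t⁻¹ from Subtype.ext e] at hc
  obtain ⟨⟨v', hv'L⟩, hv'2, hv'Z, hv'O⟩ := exists_involution_normalizing_zj_class S.odd_prime
    (L := ↥L) (S := {s : L | (s : G) ∈ D})
    (fun s hs => by rw [← Subgroup.orderOf_coe]; exact P.inv _ hs)
    (fun k s hs => P.conj_mem (k : G) _ hs) (fun s hs t ht => hcomm s t hs ht)
    (v := ⟨v, hvL⟩) B.mem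
    (fun t ht htS => by
      obtain ⟨d, hd, hdt⟩ := P.exists_member_congruent hne hcomm ht htS
      obtain ⟨k, hk⟩ := isConj_iff.1 hdt
      have htD : (t : G) ∈ D := by rw [← hk]; exact P.conj_mem (k : G) _ hd
      obtain ⟨k', hk', e⟩ := P.exists_conj_in_pairStab hgM hgo B.mem hvM rfl htD t.2.2
        (P.pt_eq_of_mem_stab htD t.2.1)
      exact ⟨⟨k', hKL hk'⟩, Subtype.ext e⟩)
    (X := X.subgroupOf L) B.pgroup.comap_subtype
    (Coprime.mem_normalizer_of_forall fun x hx =>
      Subgroup.mem_subgroupOf.2 ((Subgroup.mem_normalizer_iff.1 B.norm _).1 hx))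
    (by
      obtain ⟨x, hx, hne⟩ := B.noncentral
      exact ⟨⟨x, hXL hx⟩, hx, fun e => hne (congrArg Subtype.val e)⟩)
    (Sylow.ofCard (T.subgroupOf L) (by rw [Cores.card_subgroupOf hTL]; exact hTfull))
  set O := core 2 L with hOdef
  replace hv'2 : orderOf v' = 2 := (Subgroup.orderOf_mk v' hv'L).symm.trans hv'2
  replace hv'O : v' * v⁻¹ ∈ O := ⟨_, hv'O, rfl⟩
  set Z := centerThompsonOf p T with hZ
  replace hv'Z : v' ∈ Subgroup.normalizer (Z : Set G) := by
    have h1 : v' ∈ Subgroup.normalizer ((centerThompsonOf p (T.subgroupOf L)).map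
        L.subtype : Set G) :=
      Subgroup.le_normalizer_map L.subtype ⟨⟨v', hv'L⟩, hv'Z, rfl⟩
    rwa [PLocal.map_centerThompsonOf _ L.subtype_injective.injOn,
      Subgroup.map_subgroupOf_eq_of_le hTL] at h1
  have hTne : T ≠ ⊥ := fun e => B.ne_bot (le_bot_iff.1 (e ▸ hXT))
  have hZne : Z ≠ ⊥ := by
    obtain ⟨z, hz, hz1, hzp⟩ := PLocal.exists_central_of_order_p hTp hTne
    exact fun e => hz1 (Subgroup.mem_bot.1 (e.le (PLocal.central_le_centerThompsonOf hz hzp)))
  have hZT : Z ≤ T := inf_le_left.trans (PLocal.thompsonSubgroupOf_le _)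
  set M' := Subgroup.normalizer (Z : Set G) with hM'
  have hM'top : M' ≠ ⊤ := fun e =>
    hZne (P.eq_bot_of_normal_le_stab e (hZT.trans (hTL.trans inf_le_left)))
  have hTM' : T ≤ M' :=
    Subgroup.le_normalizer.trans (normalizer_le_normalizer_centerThompsonOf T)
  have huM' : u ∈ M' := normalizer_le_normalizer_centerThompsonOf T huT
  -- a bad pair of `v'` inside `M'`
  set K3 := X ⊔ (O ⊓ M') with hK3
  have hXM' : X ≤ M' := hXT.trans hTM'
  have hON : L ≤ Subgroup.normalizer (O : Set G) := le_normalizer_core 2 L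
  have hXN3 : X ≤ Subgroup.normalizer ((O ⊓ M' : Subgroup G) : Set G) := fun x hx =>
    Coprime.mem_normalizer_of_forall fun o ho =>
      ⟨(Subgroup.mem_normalizer_iff.1 (hON (hXL hx)) o).1 ho.1,
        M'.mul_mem (M'.mul_mem (hXM' hx) ho.2) (M'.inv_mem (hXM' hx))⟩
  have hK3L : K3 ≤ L := sup_le hXL (inf_le_left.trans (core_le 2 L))
  have hK3M' : K3 ≤ M' := sup_le hXM' inf_le_right
  have hXodd := odd_card_of_isPGroup S.odd_prime B.pgroup
  have hK3odd : Odd (Nat.card K3) :=
    odd_card_sup_of_normalizes hXN3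
      ((odd_card_core_two L).of_dvd_nat (Subgroup.card_dvd_of_le inf_le_left)) hXodd
  have hv'K3 : v' ∈ Subgroup.normalizer (K3 : Set G) := by
    have hle : K3 ≤ K3.comap (MulAut.conj v').toMonoidHom := by
      refine sup_le (fun x hx => ?_) (fun o ho => ?_)
      · set y := v * x * v⁻¹ with hy
        have hyX : y ∈ X := (Subgroup.mem_normalizer_iff.1 B.norm x).1 hx
        set c := v' * v⁻¹ with hc
        have e : v' * x * v'⁻¹ = y * ((y⁻¹ * c * y) * c⁻¹) := by rw [hy, hc]; group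
        have h1 : (y⁻¹ * c * y) * c⁻¹ ∈ O :=
          mul_mem ((Subgroup.mem_normalizer_iff''.1 (hON (hXL hyX)) c).1 hv'O) (inv_mem hv'O)
        have h2 : (y⁻¹ * c * y) * c⁻¹ ∈ M' := by
          have := mul_mem (inv_mem (hXM' hyX)) (mul_mem (mul_mem hv'Z (hXM' hx)) (inv_mem hv'Z))
          rwa [e, inv_mul_cancel_left] at this
        show v' * x * v'⁻¹ ∈ K3
        rw [e]
        exact mul_mem (Subgroup.mem_sup_left hyX) (Subgroup.mem_sup_right ⟨h1, h2⟩)
      · exact Subgroup.mem_sup_right ⟨(Subgroup.mem_normalizer_iff.1 (hON hv'L) o).1 ho.1,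
          M'.mul_mem (M'.mul_mem hv'Z ho.2) (M'.inv_mem hv'Z)⟩
    exact Coprime.mem_normalizer_of_forall fun a ha => hle ha
  obtain ⟨X'', -, hX''K, hv'X'', hX''p, hX''card⟩ := exists_sylow_invariant (p := p) hv'2 hv'K3
    hK3odd (R := ⊥) bot_le IsPGroup.of_bot
    (Coprime.mem_normalizer_of_forall fun x hx => by simp [Subgroup.mem_bot.1 hx])
  -- `X` is a Sylow subgroup of `X O`
  set K5 := X ⊔ O with hK5
  have hK5L : K5 ≤ L := sup_le hXL (core_le 2 L)
  have hK5odd : Odd (Nat.card K5) :=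
    odd_card_sup_of_normalizes (hXL.trans hON) (odd_card_core_two L) hXodd
  have hvK5 : v ∈ Subgroup.normalizer (K5 : Set G) := by
    have hle : K5 ≤ K5.comap (MulAut.conj v).toMonoidHom :=
      sup_le (fun x hx => Subgroup.mem_sup_left ((Subgroup.mem_normalizer_iff.1 B.norm x).1 hx))
        (fun o ho => Subgroup.mem_sup_right ((Subgroup.mem_normalizer_iff.1 (hON hvL) o).1 ho))
    exact Coprime.mem_normalizer_of_forall fun a ha => hle ha
  have hfull5 : p ^ (Nat.card K5).factorization p = Nat.card X := by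
    obtain ⟨Q5, hXQ5, hQ5K, hvQ5, hQ5p, hQ5card⟩ := exists_sylow_invariant (p := p) hv2 hvK5
      hK5odd le_sup_left B.pgroup B.norm
    obtain ⟨x, hx, hne⟩ := B.noncentral
    exact le_antisymm (hQ5card.symm.trans_le (B.max Q5 hQ5p
      (hQ5K.trans (hK5L.trans inf_le_left)) hvQ5 ⟨x, hXQ5 hx, hne⟩))
      (Coprime.card_le_of_isPGroup B.pgroup le_sup_left)
  have hK35 : K3 ≤ K5 := sup_le le_sup_left (inf_le_left.trans le_sup_right)
  have hX''eq : Nat.card X'' = Nat.card X :=
    le_antisymm ((Coprime.card_le_of_isPGroup hX''p (hX''K.trans hK35)).trans hfull5.le)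
      ((Coprime.card_le_of_isPGroup B.pgroup le_sup_left).trans hX''card.ge)
  -- a conjugating element in the core
  obtain ⟨k, hkmem, hkv⟩ : ∃ k ∈ O, k * v * k⁻¹ = v' := by
    have hvv' : v * v' ∈ O := by
      have h1 : v * (v' * v⁻¹) * v⁻¹ ∈ O := (Subgroup.mem_normalizer_iff.1 (hON hvL) _).1 hv'O
      convert h1 using 1
      rw [inv_eq hv2]
      simp only [mul_assoc, mul_self hv2, mul_one]
    obtain ⟨l, hl⟩ := (odd_card_core_two L).of_dvd_nat (Subgroup.orderOf_dvd_natCard _ hvv')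
    refine ⟨(v * v') ^ (l : ℤ), O.zpow_mem hvv' _, ?_⟩
    rw [conj_left_zpow hv2 hv'2]
    have : (v * v') ^ (-(2 * (l : ℤ))) = v * v' := by
      rw [show -(2 * (l : ℤ)) = -(orderOf (v * v') : ℤ) + 1 by rw [hl]; push_cast; ring,
        zpow_add_one, zpow_neg, zpow_natCast, pow_orderOf_eq_one, inv_one, one_mul]
    rw [this, left_mul_mul_left hv2 hv'2]
  have hv'D : v' ∈ D := hkv ▸ P.conj_mem k v B.mem
  have hv'o : pt v' = o := P.pt_eq_of_mem_stab hv'D hv'L.1
  have hnc : ∃ y ∈ X'', v' * y ≠ y * v' := by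
    by_contra! hcent
    set Y := MulAut.conj k⁻¹ • X'' with hY
    have hYK : Y ≤ K5 ⊓ Subgroup.centralizer ({v} : Set G) := by
      intro y hy
      rw [hY, Coprime.mem_conj, inv_inv] at hy
      refine ⟨?_, mem_centralizer.2 ?_⟩
      · have h1 := mul_mem (mul_mem (inv_mem (Subgroup.mem_sup_right hkmem : k ∈ K5))
          (hK35 (hX''K hy))) (Subgroup.mem_sup_right hkmem : k ∈ K5)
        show y ∈ K5
        rwa [show k⁻¹ * (k * y * k⁻¹) * k = y by group] at h1
      · have h1 := hcent _ hy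
        rw [← hkv] at h1
        calc y * v = k⁻¹ * (k * y * k⁻¹ * (k * v * k⁻¹)) * k := by group
          _ = v * y := by rw [← h1]; group
    have hcop : (Nat.card (Subgroup.zpowers v)).Coprime (Nat.card K5) := by
      rw [Nat.card_zpowers, hv2]; exact Nat.coprime_two_left.2 hK5odd
    have h1 := Coprime.card_inf_centralizer_eq (Subgroup.zpowers_le.2 hvK5) hcop (Q := X)
      le_sup_left (Subgroup.zpowers_le.2 B.norm) hfull5.symm (Subgroup.mem_zpowers v)
    have hYp : IsPGroup p Y := hX''p.map _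
    have h2 := Coprime.card_le_of_isPGroup hYp hYK
    have e1 : Nat.card Y = Nat.card X := (Coprime.card_conj _ _).trans hX''eq
    rw [← h1, e1] at h2
    obtain ⟨x, hx, hne⟩ := B.noncentral
    have h3 := (Subgroup.eq_of_le_of_card_ge inf_le_left h2).ge hx
    exact hne (mem_centralizer.1 h3.2).symm
  have hX''o : X'' ≤ MulAction.stabilizer G (pt v') := by
    rw [hv'o]; exact hX''K.trans (hK3L.trans inf_le_left)
  have B' : PairBad D pt p v' X'' := ⟨hv'D, hX''o, hX''p, hv'X'', hnc,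
    fun Y hY hYo hvY hne => (hN v' Y hv'D hY hYo hvY hne).trans (hX''eq.trans hXN).ge⟩
  obtain ⟨k3, hk3, hk3X⟩ := exists_conj_of_card_eq (p := p) hX''p hX''K
    (fun R hR hRK => (Coprime.card_le_of_isPGroup hR hRK).trans hX''card.ge)
    (le_sup_left : X ≤ K3) hX''eq.symm
  have hk3o : k3 • o = o := MulAction.mem_stabilizer_iff.1 (hK3L hk3).1
  have hcfg : PairConfig D pt p N v' X'' M' (k3 * u) := by
    refine ⟨B', hX''eq.trans hXN, hM'top, hv'Z, hX''K.trans hK3M', mul_mem (hK3M' hk3) huM',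
      fun e => hne ?_, ?_⟩
    · rw [hv'o, mul_smul, huo] at e
      exact MulAction.injective k3 (hk3o.trans e.symm)
    · rw [hv'o, mul_smul, huo, ← hk3X]
      exact (PairSetup.fix_conj S).2 hXg
  -- so `T` is full
  have hTo : T ≤ MulAction.stabilizer G o := hTL.trans inf_le_left
  have hTb : T ≤ MulAction.stabilizer G b := hTK.trans (inf_le_right.trans inf_le_right)
  have hTX₀ : Nat.card T = Nat.card X₀ := by
    refine le_antisymm (S.max T hTp _ _ hne hTo hTb) (le_of_not_gt fun hlt => ?_)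
    obtain ⟨T₁, hT₁p, hlt₁, hT₁o, hT₁n⟩ := S.exists_larger hTp hTo hlt
    refine not_le.2 (Bender.card_lt_of_lt hlt₁) ?_
    have hcfgle := hmax v' X'' M' (k3 * u) hcfg
    rw [hv'o] at hcfgle
    calc Nat.card T₁ ≤ pPart p (Nat.card ↥(MulAction.stabilizer G o ⊓ M')) :=
          Coprime.card_le_of_isPGroup hT₁p
            (le_inf hT₁o (hT₁n.trans (normalizer_le_normalizer_centerThompsonOf T)))
      _ ≤ pPart p (Nat.card L) := hcfgle
      _ = Nat.card T := hTfull.symm
  have hTD : T ≤ twoPt G o b := le_inf hTo hTb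
  have hfull : pPart p (Nat.card (twoPt G o b)) = Nat.card X₀ :=
    le_antisymm (S.card_le hne) (hTX₀.ge.trans (Coprime.card_le_of_isPGroup hTp hTD))
  -- the criterion
  by_cases hU : core p W = ⊥
  · set K' := T ⊔ W with hK'
    have hTWn : T ≤ Subgroup.normalizer (W : Set G) := hTD.trans (le_normalizer_core 2 _)
    have hK'D : K' ≤ twoPt G o b := sup_le hTD (core_le 2 _)
    have hK'odd : Odd (Nat.card K') := odd_card_sup_of_normalizes hTWn (odd_card_core_two _)
      (odd_card_of_isPGroup S.odd_prime hTp)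
    have hTK' : Nat.card T = p ^ (Nat.card K').factorization p := by
      refine le_antisymm (Coprime.card_le_of_isPGroup hTp le_sup_left) ?_
      rw [hTX₀, ← hfull]
      exact pPart_le hK'D
    have hU' : core p K' = ⊥ := by
      rw [eq_bot_iff]
      intro a ha
      have haK : a ∈ K' := core_le p K' ha
      haveI : (W.subgroupOf K').Normal :=
        Cores.subgroupOf_normal_of_le_normalizer (sup_le hTWn Subgroup.le_normalizer)
      set ψ := QuotientGroup.mk' (W.subgroupOf K')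
      rw [← SetLike.mem_coe, hK', Subgroup.coe_mul_of_left_le_normalizer_right T W hTWn] at haK
      obtain ⟨t, ht, c, hc, hat⟩ := haK
      set tt : K' := ⟨t, Subgroup.mem_sup_left ht⟩
      set cc : K' := ⟨c, Subgroup.mem_sup_right hc⟩
      have haa : (⟨a, core_le p K' ha⟩ : K') = tt * cc := Subtype.ext hat.symm
      obtain ⟨n, hn⟩ := hTp ⟨t, ht⟩
      have htn : t ^ p ^ n = 1 := congrArg Subtype.val hn
      have hWmem : a ^ p ^ n ∈ W := by
        have h1 : ψ ((⟨a, core_le p K' ha⟩ : K') ^ p ^ n) = 1 := by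
          rw [haa, map_pow, map_mul,
            show ψ cc = 1 from (QuotientGroup.eq_one_iff cc).2 (Subgroup.mem_subgroupOf.2 hc),
            mul_one, ← map_pow, show tt ^ p ^ n = 1 from Subtype.ext htn, map_one]
        have h3 := Subgroup.mem_subgroupOf.1 ((QuotientGroup.eq_one_iff _).1 h1)
        simpa using h3
      have h2 : a ^ p ^ n ∈ core p W :=
        core_inf_le_core (le_sup_right : W ≤ K') ⟨pow_mem ha _, hWmem⟩
      rw [hU, Subgroup.mem_bot] at h2
      rw [Subgroup.mem_bot, ← orderOf_eq_one_iff]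
      refine Nat.eq_one_of_dvd_coprimes ?_ (orderOf_dvd_of_pow_eq_one h2)
        (Subgroup.orderOf_dvd_natCard (core p K') ha)
      exact ((Fact.out : p.Prime).coprime_iff_not_dvd.2 not_dvd_card_core).pow_left n
    have hWZ : W ≤ M' := fun d hd => by
      obtain ⟨a, ha, n, -, hn, hdn⟩ := exists_core_mul_centerThompson S.odd_prime hK'odd
        (le_sup_left : T ≤ K') hTK' (Subgroup.mem_sup_right hd : d ∈ K')
      rw [hU', Subgroup.mem_bot] at ha
      rwa [hdn, ha, one_mul]
    exact crit Z o b hne hZne (hZT.trans hTD) hWZ v' hv'D hv'o hv'Z u huD huo huM'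
  · obtain ⟨g₀, hg₀M, hg₀o⟩ := SetLike.not_le_iff_exists.1 (B.normalizer_not_le S)
    have hTX : CommMod D pt (Subgroup.normalizer (X : Set G)) o := P.commMod_of_proper hIH
      (fun e => B.ne_bot (P.eq_bot_of_normal_le_stab e B.le)) B.mem B.norm rfl hg₀M
      (fun e => hg₀o (MulAction.mem_stabilizer_iff.2 e))
    exact crit (core p W) o b hne hU ((core_le p W).trans (core_le 2 _)) (le_normalizer_core p W)
      v B.mem rfl (B.pairCore_normalised S hTX hne hXg hfull) u huD huo
      (normalizer_le_core p _ (P.swap_mem_normalizer_core huD huo))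

namespace PointClass

variable [FaithfulSMul G Ω] (P : PointClass G Ω D pt)
include P

/-- **No member acts non-trivially on a `p`-subgroup fixing its point**, for `p` with a set-up. -/
theorem centralizes_of_pairSetup (hIH : PointCriterionBelow.{u} (Nat.card G))
    (crit : ∀ (N : Subgroup G) (x y : Ω), x ≠ y → N ≠ ⊥ → N ≤ twoPt G x y →
      core 2 (twoPt G x y) ≤ Subgroup.normalizer (N : Set G) →
      ∀ u ∈ D, pt u = x → u ∈ Subgroup.normalizer (N : Set G) →
      ∀ w ∈ D, w • x = y → w ∈ Subgroup.normalizer (N : Set G) → False)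
    (S : PairSetup D pt p X₀ a₀ b₀) {w : G} (hw : w ∈ D) {Y : Subgroup G} (hY : IsPGroup p Y)
    (hYo : Y ≤ MulAction.stabilizer G (pt w)) (hwY : w ∈ Subgroup.normalizer (Y : Set G)) :
    ∀ y ∈ Y, Commute w y := by
  by_contra! hcon
  set cand : Set (G × Subgroup G) := {q | q.1 ∈ D ∧ IsPGroup p q.2 ∧
    q.2 ≤ MulAction.stabilizer G (pt q.1) ∧ q.1 ∈ Subgroup.normalizer (q.2 : Set G) ∧
    ∃ y ∈ q.2, q.1 * y ≠ y * q.1}
  obtain ⟨⟨v, X⟩, ⟨hv, hXp, hXo, hvX, hnc⟩, hmax⟩ := Set.exists_max_image cand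
    (fun q => Nat.card q.2) (Set.toFinite _) ⟨(w, Y), hw, hY, hYo, hwY, hcon⟩
  have hN : ∀ (w : G) (Y : Subgroup G), w ∈ D → IsPGroup p Y → Y ≤ MulAction.stabilizer G (pt w) →
      w ∈ Subgroup.normalizer (Y : Set G) → (∃ y ∈ Y, w * y ≠ y * w) → Nat.card Y ≤ Nat.card X :=
    fun w Y h1 h2 h3 h4 h5 => hmax (w, Y) ⟨h1, h2, h3, h4, h5⟩
  have B : PairBad D pt p v X :=
    ⟨hv, hXo, hXp, hvX, hnc, fun Y hY hYo hvY hne => hN v Y hv hY hYo hvY hne⟩
  obtain ⟨g, hgM, hgo⟩ := SetLike.not_le_iff_exists.1 (B.normalizer_not_le S)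
  have hfirst : PairConfig D pt p (Nat.card X) v X (Subgroup.normalizer (X : Set G)) g :=
    ⟨B, rfl, fun e => B.ne_bot (P.eq_bot_of_normal_le_stab e hXo), hvX, Subgroup.le_normalizer,
      hgM, fun e => hgo (MulAction.mem_stabilizer_iff.2 e), le_stab_smul hgM hXo⟩
  obtain ⟨⟨v', X', M', g'⟩, hc, hcmax⟩ := Set.exists_max_image
    {q : G × Subgroup G × Subgroup G × G | PairConfig D pt p (Nat.card X) q.1 q.2.1 q.2.2.1 q.2.2.2}
    (fun q => pPart p (Nat.card ↥(MulAction.stabilizer G (pt q.1) ⊓ q.2.2.1))) (Set.toFinite _)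
    ⟨(v, X, _, g), hfirst⟩
  exact hc.false_of_max hIH crit S hN fun a b c d h => hcmax (a, b, c, d) h

omit [Fact p.Prime] in
/-- **NC**: for a prime dividing the number of members at a point, the members centralise the
subgroups of that prime power order they normalise fixing their point. -/
theorem centralizes_of_dvd (hIH : PointCriterionBelow.{u} (Nat.card G))
    (crit : ∀ (N : Subgroup G) (x y : Ω), x ≠ y → N ≠ ⊥ → N ≤ twoPt G x y →
      core 2 (twoPt G x y) ≤ Subgroup.normalizer (N : Set G) →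
      ∀ u ∈ D, pt u = x → u ∈ Subgroup.normalizer (N : Set G) →
      ∀ w ∈ D, w • x = y → w ∈ Subgroup.normalizer (N : Set G) → False)
    {x y : Ω} (hxy : x ≠ y) {r : ℕ} (hr : r.Prime) {z : Ω}
    (hm : r ∣ Nat.card {f : G // f ∈ D ∧ pt f = z}) {t : G} (ht : t ∈ D) {X : Subgroup G}
    (hX : IsPGroup r X) (htX : t ∈ Subgroup.normalizer (X : Set G))
    (hfix : X ≤ MulAction.stabilizer G (pt t)) : X ≤ Subgroup.centralizer ({t} : Set G) := by
  haveI : Fact r.Prime := ⟨hr⟩
  have hr2 : r ≠ 2 := fun e => by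
    subst e
    exact Nat.not_even_iff_odd.2 (P.odd_card z) (even_iff_two_dvd.2 hm)
  obtain ⟨X₀, a, b, S⟩ := P.exists_pairSetup
    (fun N x y hxy hN hNK => crit N x y hxy hN (hNK.trans (core_le 2 _))) hr2 hxy hm
  intro x hx
  exact mem_centralizer.2 (P.centralizes_of_pairSetup hIH crit S ht hX hfix htX x hx).eq.symm

omit [Fact p.Prime] in
/-- NC in a minimal counterexample. -/
theorem centralizes_of_fail (hgen : Subgroup.closure D = ⊤)
    (hIH : PointCriterionBelow.{u} (Nat.card G)) (hfail : ∀ x : Ω, ¬ CoreTwoAt D pt x)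
    {x y : Ω} (hxy : x ≠ y) {r : ℕ} (hr : r.Prime) {z : Ω}
    (hm : r ∣ Nat.card {f : G // f ∈ D ∧ pt f = z}) {t : G} (ht : t ∈ D) {X : Subgroup G}
    (hX : IsPGroup r X) (htX : t ∈ Subgroup.normalizer (X : Set G))
    (hfix : X ≤ MulAction.stabilizer G (pt t)) : X ≤ Subgroup.centralizer ({t} : Set G) :=
  P.centralizes_of_dvd hIH
    (fun _ x _ hne hN hNK hKN _ hu hux huN _ hw hwx hwN =>
      hfail x (P.coreTwoAt_of_normalized hgen hIH hne hN hNK hKN hu hux huN hw hwx hwN))
    hxy hr hm ht hX htX hfix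

end PointClass

end Cfsg.Agent.Aschbacher
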