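/-
Piece A of the core-free criterion assembled: the members at a point commute modulo an odd core
(owner: helper2).

By contradiction: the critical situation holds at every point (`coreTwoAt_conj`), so the centred
case is void and every prime dividing the number of members at a point has a free set-up; the free
case gives `PointNC`, `exists_swapper_hcent` the pair for the reflection and `coreTwoAt_of_free`
the conclusion.

Main results (namespace `Cfsg.Agent.Aschbacher.PointClass`):
* `coreTwoAt_conj` : `CoreTwoAt` is the same at all points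
* `coreTwoAt` : piece A: in a faithful generating point class with two commuting members, given
  the induction hypothesis, the members at a point commute modulo an odd core
-/
import Cfsg.Agent.Lib.Aschbacher.PairFreeCase
import Cfsg.Agent.Lib.Aschbacher.PairFreeNormal
import Cfsg.Agent.Lib.Aschbacher.PairSwapCentral

set_option autoImplicit false
set_option linter.style.haveILetI false
set_option linter.unusedSectionVars false

namespace Cfsg.Agent.Aschbacher.PointClass

open Cfsg Involution Bender
open scoped Pointwise

universe u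

variable {G : Type u} {Ω : Type u} [Group G] [MulAction G Ω] [Finite G] [Finite Ω]
  [FaithfulSMul G Ω] {D : Set G} {pt : G → Ω} (P : PointClass G Ω D pt)
include P

theorem coreTwoAt_conj {x : Ω} (g : G) (h : CoreTwoAt D pt x) : CoreTwoAt D pt (g • x) := by
  have hmap : (atPoint D pt x).map (MulAut.conj g).toMonoidHom = atPoint D pt (g • x) := by
    unfold atPoint
    rw [MonoidHom.map_closure]
    refine congrArg Subgroup.closure (Set.ext fun d => ⟨?_, fun hd => ?_⟩)
    · rintro ⟨e, ⟨he, rfl⟩, rfl⟩
      exact ⟨P.conj_mem g e he, P.pt_conj g he⟩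
    · refine ⟨g⁻¹ * d * g, ⟨?_, ?_⟩, by simp [mul_assoc]⟩
      · simpa using P.conj_mem g⁻¹ d hd.1
      · have := P.pt_conj g⁻¹ hd.1
        rw [inv_inv, hd.2, inv_smul_smul] at this
        exact this
  set e := ((atPoint D pt x).equivMapOfInjective (MulAut.conj g).toMonoidHom
    (MulAut.conj g).injective).trans (MulEquiv.subgroupCongr hmap)
  intro s t
  have hst := Subgroup.mem_map_of_mem e.toMonoidHom (h (e.symm s) (e.symm t))
  rw [Cores.pPrimeCore_map_mulEquiv e 2] at hst
  simpa using hst

/-- **Piece A**: the members at a point commute modulo an odd core. -/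
theorem coreTwoAt (hgen : Subgroup.closure D = ⊤) (hIH : PointCriterionBelow.{u} (Nat.card G))
    (hpair : ∃ d ∈ D, ∃ e ∈ D, Commute d e ∧ d ≠ e) {x₀ y₀ : Ω} (hxy₀ : x₀ ≠ y₀) (x : Ω) :
    CoreTwoAt D pt x := by
  by_contra hfail
  have hno : ∀ y : Ω, ¬ CoreTwoAt D pt y := fun y hy => by
    obtain ⟨g, rfl⟩ := P.exists_smul_eq y x
    exact hfail (P.coreTwoAt_conj g hy)
  have hNC : PointNC D pt := fun r _ hr t ht X hX htX hfix =>
    P.centralizes_of_fail hgen hIH hno hxy₀ Fact.out (hr x₀) ht hX htX hfix
  obtain ⟨v, hv, rfl⟩ := P.exists_at x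
  obtain ⟨z, hz⟩ : ∃ z, z ≠ pt v := by
    by_cases h : x₀ = pt v
    · exact ⟨y₀, h ▸ hxy₀.symm⟩
    · exact ⟨x₀, h⟩
  obtain ⟨b, u, hb, hu, hub, hcent⟩ := P.exists_swapper_hcent hIH hNC hv hz
  exact hno _ (P.coreTwoAt_of_free
    (fun r _ hr => hNC r fun w => by rwa [card_point_eq P w (pt v)])
    hb.symm hv rfl hu hub hcent hpair)

end Cfsg.Agent.Aschbacher.PointClass
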