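/-
The bridge after piece A of the core-free criterion assembled (owner: helper43).

Main results (namespace `Cfsg.Agent.Aschbacher.PointClass`):
* `transitive_at` : a point stabiliser is transitive on the other points
* `commute_at` : the members at a point commute
* `commuteStep` : `CommuteStep`
-/
import Cfsg.Agent.Lib.Aschbacher.PairCoreTwo
import Cfsg.Agent.Lib.Aschbacher.PairSetupCore
import Cfsg.Agent.Lib.Aschbacher.PairCoreCentral
import Cfsg.Agent.Lib.Aschbacher.PairAssembly

set_option autoImplicit false
set_option linter.style.haveILetI false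
set_option linter.unusedSectionVars false

namespace Cfsg.Agent.Aschbacher.PointClass

open Cfsg Involution Bender

universe u

variable {G : Type u} {Ω : Type u} [Group G] [MulAction G Ω] [Finite G] [Finite Ω]
  [FaithfulSMul G Ω] {D : Set G} {pt : G → Ω} (P : PointClass G Ω D pt)
  (hgen : Subgroup.closure D = ⊤) (hIH : PointCriterionBelow.{u} (Nat.card G))
  (hpair : ∃ d ∈ D, ∃ e ∈ D, Commute d e ∧ d ≠ e)
include P hgen hIH hpair

/-- A point stabiliser is transitive on the other points. -/
theorem transitive_at {x y y' : Ω} (hy : x ≠ y) (hy' : x ≠ y') :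
    ∃ h : G, h • x = x ∧ h • y = y' := by
  obtain ⟨p, hp, X₀, a₀, b₀, S⟩ :=
    P.exists_pairSetup_core (fun z => P.coreTwoAt hgen hIH hpair hy z) hpair hy
  exact S.transitive hy hy'

/-- **The members at a point commute.** -/
theorem commute_at {s t : G} (hs : s ∈ D) (ht : t ∈ D) (hst : pt s = pt t) : Commute s t := by
  by_cases h : ∃ z : Ω, pt s ≠ z
  · obtain ⟨z, hz⟩ := h
    exact P.commute_at_of_coreTwoAt
      (fun y y' hy hy' => P.transitive_at hgen hIH hpair hy hy')
      (P.coreTwoAt hgen hIH hpair hz (pt s)) hz hs rfl ht hst.symm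
  · push Not at h
    have hone : ∀ g : G, g = 1 := fun g => eq_of_smul_eq_smul fun x : Ω =>
      by rw [one_smul, ← h (g • x), h x]
    rw [hone s, hone t]

end Cfsg.Agent.Aschbacher.PointClass

namespace Cfsg.Agent.Aschbacher

universe u

/-- The members at a point commute and point stabilisers are transitive on the other points. -/
theorem commuteStep : CommuteStep.{u} := fun _ _ _ _ _ _ _ _ _ P hgen hIH hpair _ _ _ =>
  ⟨fun _ hs _ ht hst => P.commute_at hgen hIH hpair hs ht hst, fun x y z hy hz => by
    obtain ⟨g, hgx, hgy⟩ := P.transitive_at hgen hIH hpair hy hz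
    exact ⟨g, MulAction.mem_stabilizer_iff.2 hgx, hgy⟩⟩

end Cfsg.Agent.Aschbacher
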