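/-
The finish of the core-free criterion from the cases `|Fix v| = q + 1` and `|Fix v| = q³ + 1`
(CRITERION.md; owner: helper87).

* `NoLinearCase`, `NoUnitaryCase` : the two cases, as propositions
* `finishStep_of_cases`, `coreFreeCriterion_of_cases` : they give the criterion
-/
import Cfsg.Agent.Lib.Aschbacher.CriterionSuzukiFinal
import Cfsg.Agent.Lib.Aschbacher.PairCommute

set_option autoImplicit false
set_option linter.style.haveILetI false
set_option linter.unusedSectionVars false

namespace Cfsg.Agent.Aschbacher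

open Cfsg Involution

universe u

/-- No involution fixes `q + 1` points. -/
def NoLinearCase : Prop :=
  ∀ (G : Type u) [Group G] [Finite G] (Ω : Type u) [MulAction G Ω] [Finite Ω] [FaithfulSMul G Ω]
    (D : Set G) (pt : G → Ω), ChordHyp G Ω D pt → ∀ (v : G), IsFixInv Ω v → ∀ a : Ω,
      v • a = a → Nat.card (FixSet Ω v) ≠ Nat.card (atPoint D pt a) + 1

/-- No involution fixes `q³ + 1` points. -/
def NoUnitaryCase : Prop :=
  ∀ (G : Type u) [Group G] [Finite G] (Ω : Type u) [MulAction G Ω] [Finite Ω] [FaithfulSMul G Ω]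
    (D : Set G) (pt : G → Ω), ChordHyp G Ω D pt → ∀ (v : G), IsFixInv Ω v → ∀ a : Ω,
      v • a = a → Nat.card (FixSet Ω v) ≠ Nat.card (atPoint D pt a) ^ 3 + 1

/-- The finish from the two cases. -/
theorem finishStep_of_cases (h₁ : NoLinearCase.{u}) (h₃ : NoUnitaryCase.{u}) : FinishStep.{u} :=
  finishStep_of fun G _ _ Ω _ _ _ D pt h v hv => by
    obtain ⟨hv2, a, b, hab, hva, hvb⟩ := id hv
    obtain ⟨i, hi, hf⟩ := h.card_fixed_cases hv a
    rw [← h.pc.card_atPoint h.comm hab] at hf
    have C := h.chordHyp hv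
    rcases hi with rfl | rfl | rfl
    · rw [pow_one] at hf
      exact h₁ G Ω D pt C v hv a hva hf
    · exact C.not_sq_case hv a hf
    · exact h₃ G Ω D pt C v hv a hva hf

/-- **The criterion from the two cases.** -/
theorem coreFreeCriterion_of_cases (h₁ : NoLinearCase.{u}) (h₃ : NoUnitaryCase.{u}) :
    CoreFreeCriterion.{u} :=
  coreFreeCriterion_of_steps commuteStep (finishStep_of_cases h₁ h₃)

end Cfsg.Agent.Aschbacher
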