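/-
Blocks and classes of the involutions fixing a point, case `|Fix u| = q + 1` (CRITERION_FINISH.md
section A; owner: helper43).

`S : BlockHyp G Ω D pt` : `ChordHyp` with every involution fixing two points fixing `q + 1` points.
For an involution `v` fixing `a` and another point:

* `fixCent D pt a v` : the group `A` of elements centralising `v`, its fixed points and `E_a`
* `BlockHyp.sq_fixCent`, `fixCent_eq`, `fixCent_sylow`, `card_fixCent_eq` : elementary abelian, the
  same for all its involutions, a Sylow 2-subgroup of `R(a,b)`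
* `classAt D pt a v` : `A E_a`, the class of `v`
* `BlockHyp.mem_classAt_of_commute`, `classAt_eq`, `exists_mul_fix`, `mul_fix_unique` : commuting
  involutions at `a` form classes, the class of `v` covers exactly the blocks `Fix (v e)`
* `transT D pt a v` : the group `T`; `card_transT_cases`, `card_transT_of_mem`, `transT_conj` : its
  order is `|A| q` or `|A| q²` and it is trivial on `A` modulo `E_a`
-/
import Cfsg.Agent.Lib.Aschbacher.CriterionFixPair
import Cfsg.Agent.Lib.Aschbacher.CriterionChordExport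
import Mathlib.GroupTheory.GroupAction.FixingSubgroup

set_option autoImplicit false
set_option linter.style.haveILetI false
set_option linter.unusedSectionVars false

namespace Cfsg.Agent.Aschbacher

open Cfsg Involution MulAction

universe u

/-- `ChordHyp` with `q + 1` fixed points for every involution fixing two. -/
structure BlockHyp (G : Type u) [Group G] [Finite G] (Ω : Type u) [MulAction G Ω] (D : Set G)
    (pt : G → Ω) : Prop where
  chd : ChordHyp G Ω D pt
  card_fix : ∀ (a : Ω) (v : G), IsFixInv Ω v →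
    Nat.card (FixSet Ω v) = Nat.card (atPoint D pt a) + 1

variable {G : Type u} {Ω : Type u} [Group G] [MulAction G Ω]

/-- The elements centralising `v`, its fixed points and the members at `a`. -/
def fixCent (D : Set G) (pt : G → Ω) (a : Ω) (v : G) : Subgroup G :=
  Subgroup.centralizer ({v} : Set G) ⊓ fixingSubgroup G {x : Ω | v • x = x} ⊓
    Subgroup.centralizer (atPoint D pt a : Set G)

/-- The class of an involution fixing `a` and another point. -/
def classAt (D : Set G) (pt : G → Ω) (a : Ω) (v : G) : Subgroup G :=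
  fixCent D pt a v ⊔ atPoint D pt a

/-- The elements at `a` centralising `E_a` and `v` modulo `E_a`. -/
def transT (D : Set G) (pt : G → Ω) (a : Ω) (v : G) : Subgroup G where
  carrier := {g | g ∈ stabilizer G a ∧ g ∈ Subgroup.centralizer (atPoint D pt a : Set G) ∧
    g * v * g⁻¹ * v⁻¹ ∈ atPoint D pt a}
  one_mem' := ⟨one_mem _, one_mem _, by simp⟩
  mul_mem' := by
    rintro g k ⟨h1, h2, h3⟩ ⟨k1, k2, k3⟩
    refine ⟨mul_mem h1 k1, mul_mem h2 k2, ?_⟩
    rw [show g * k * v * (g * k)⁻¹ * v⁻¹ =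
        g * (k * v * k⁻¹ * v⁻¹) * g⁻¹ * (g * v * g⁻¹ * v⁻¹) by group,
      ← Subgroup.mem_centralizer_iff.1 h2 _ k3, mul_inv_cancel_right]
    exact mul_mem k3 h3
  inv_mem' := by
    rintro g ⟨h1, h2, h3⟩
    refine ⟨inv_mem h1, inv_mem h2, ?_⟩
    rw [show g⁻¹ * v * g⁻¹⁻¹ * v⁻¹ = g⁻¹ * (g * v * g⁻¹ * v⁻¹)⁻¹ * g by group, mul_assoc,
      Subgroup.mem_centralizer_iff.1 h2 _ (inv_mem h3), ← mul_assoc, inv_mul_cancel, one_mul]
    exact inv_mem h3

theorem mem_transT {D : Set G} {pt : G → Ω} {a : Ω} {v g : G} :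
    g ∈ transT D pt a v ↔ g • a = a ∧ (∀ e ∈ atPoint D pt a, Commute g e) ∧
      g * v * g⁻¹ * v⁻¹ ∈ atPoint D pt a := by
  refine ⟨fun h => ⟨h.1, fun e he => (Subgroup.mem_centralizer_iff.1 h.2.1 e he).symm, h.2.2⟩,
    fun h => ⟨h.1, Subgroup.mem_centralizer_iff.2 fun e he => (h.2.1 e he).symm, h.2.2⟩⟩

theorem mem_fixCent {D : Set G} {pt : G → Ω} {a : Ω} {v g : G} :
    g ∈ fixCent D pt a v ↔ Commute g v ∧ (∀ x : Ω, v • x = x → g • x = x) ∧
      ∀ e ∈ atPoint D pt a, Commute g e := by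
  simp only [fixCent, Subgroup.mem_inf, mem_centralizer_iff_commute, mem_fixingSubgroup_iff,
    Set.mem_ofPred_eq, and_assoc]
  refine and_congr_right fun _ => and_congr_right fun _ => ?_
  exact ⟨fun h e he => (Subgroup.mem_centralizer_iff.1 h e he).symm,
    fun h => Subgroup.mem_centralizer_iff.2 fun e he => (h e he).symm⟩

variable [Finite G] [Finite Ω] [FaithfulSMul G Ω] {D : Set G} {pt : G → Ω}

/-- One involution with `q + 1` fixed points gives `BlockHyp`. -/
theorem ChordHyp.blockHyp (C : ChordHyp G Ω D pt) {v : G} (hv : IsFixInv Ω v) {a : Ω}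
    (hf : Nat.card (FixSet Ω v) = Nat.card (atPoint D pt a) + 1) : BlockHyp G Ω D pt :=
  ⟨C, fun x w hw => by rw [← C.card_fix_eq hv hw, hf, C.fin.card_E_eq a x]⟩

namespace BlockHyp

variable (S : BlockHyp G Ω D pt)
include S

theorem fix_ne_cube (a : Ω) (v : G) (hv : IsFixInv Ω v) :
    Nat.card (FixSet Ω v) ≠ Nat.card (atPoint D pt a) ^ 3 + 1 :=
  S.chd.card_fix_ne_cube (i := 1) (by norm_num) (by rw [pow_one]; exact S.card_fix a v hv)

variable {a : Ω} {v : G} (hv : IsFixInv Ω v) (hva : v • a = a)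
include hv hva

theorem exists_other : ∃ b : Ω, v • b = b ∧ b ≠ a := by
  obtain ⟨-, c, d, hcd, hc, hd⟩ := hv
  by_cases h : c = a
  · exact ⟨d, hd, fun e => hcd (h.trans e.symm)⟩
  · exact ⟨c, hc, h⟩

theorem commute_E {e : G} (he : e ∈ atPoint D pt a) : Commute e v := by
  rcases S.chd.fin.mem_E.1 he with rfl | ⟨heD, hea⟩
  · exact Commute.one_left v
  · exact (S.chd.cent v hv e heD (by rw [hea, hva])).symm

theorem self_mem_fixCent : v ∈ fixCent D pt a v :=
  mem_fixCent.2 ⟨Commute.refl v, fun _ hx => hx, fun _ he => (S.commute_E hv hva he).symm⟩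

theorem fixCent_smul_self {g : G} (hg : g ∈ fixCent D pt a v) : g • a = a :=
  (mem_fixCent.1 hg).2.1 a hva

theorem fixCent_le_centPair {b : Ω} (hb : v • b = b) : fixCent D pt a v ≤ centPair D pt a b :=
  fun _ hg => mem_centPair.2 ⟨(mem_fixCent.1 hg).2.1 a hva, (mem_fixCent.1 hg).2.1 b hb,
    fun _ hd hda => (mem_fixCent.1 hg).2.2 _ (S.chd.fin.mem_E.2 (Or.inr ⟨hd, hda⟩))⟩

theorem mem_fixCent_of_centPair {b : Ω} (hab : a ≠ b) (hb : v • b = b) {g : G}
    (hg : g ∈ centPair D pt a b) (hgv : Commute g v) : g ∈ fixCent D pt a v :=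
  mem_fixCent.2 ⟨hgv, fun _ hx => S.chd.smul_fix_of_centPair hv hab hva hb (S.fix_ne_cube a v hv) hg hx,
    fun e he => by
      rcases S.chd.fin.mem_E.1 he with rfl | ⟨heD, hea⟩
      · exact Commute.one_right g
      · exact (mem_centPair.1 hg).2.2 e heD hea⟩

/-- The fixed set of an involution in `A` is that of `v`. -/
theorem fix_iff_of_mem_fixCent {w : G} (hw : w ∈ fixCent D pt a v) (hw2 : orderOf w = 2) :
    IsFixInv Ω w ∧ ∀ x : Ω, w • x = x ↔ v • x = x := by
  classical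
  obtain ⟨b, hb, hba⟩ := S.exists_other hv hva
  have hfix := (mem_fixCent.1 hw).2.1
  have hwi : IsFixInv Ω w := ⟨hw2, a, b, hba.symm, hfix a hva, hfix b hb⟩
  let ι : FixSet Ω v → FixSet Ω w := fun x => ⟨x.1, hfix x.1 x.2⟩
  have hι : Function.Bijective ι := (Nat.bijective_iff_injective_and_card ι).2
    ⟨fun x y e => Subtype.ext (congrArg (fun z : FixSet Ω w => z.1) e),
      (S.card_fix a v hv).trans (S.card_fix a w hwi).symm⟩
  refine ⟨hwi, fun x => ⟨fun hx => ?_, hfix x⟩⟩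
  obtain ⟨z, hz⟩ := hι.2 ⟨x, hx⟩
  rw [← show z.1 = x from congrArg (fun z : FixSet Ω w => z.1) hz]
  exact z.2

theorem isPGroup_fixCent : IsPGroup 2 (fixCent D pt a v) := by
  obtain ⟨b, hb, hba⟩ := S.exists_other hv hva
  refine (S.chd.isPGroup_centPair_centralizer hv hba.symm hva hb (S.fix_ne_cube a v hv)).to_le ?_
  exact le_inf (S.fixCent_le_centPair hv hva hb)
    fun g hg => mem_centralizer_iff_commute.2 (mem_fixCent.1 hg).1

/-- An element of `A` centralises the members at the fixed points of `v`. -/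
theorem commute_member_fix {g d : G} (hg : g ∈ fixCent D pt a v) (hd : d ∈ D)
    (hdv : v • pt d = pt d) : Commute g d := by
  obtain ⟨b, hb, hba⟩ := S.exists_other hv hva
  exact S.chd.commute_of_centPair hv hba.symm hva hb (S.fix_ne_cube a v hv)
    (S.fixCent_le_centPair hv hva hb hg) hd hdv

/-- `E_z` is transitive on the other fixed points of an involution fixing `z`. -/
theorem exists_E_smul {z x y : Ω} (hz : v • z = z) (hx : v • x = x) (hxz : x ≠ z) (hy : v • y = y)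
    (hyz : y ≠ z) : ∃ e ∈ atPoint D pt z, e • x = y := by
  classical
  have C := S.chd
  have hmaps : ∀ e ∈ atPoint D pt z, v • (e • x) = e • x ∧ e • x ≠ z := by
    intro e he
    have hez : e • z = z := by
      rcases C.fin.mem_E.1 he with rfl | ⟨heD, hez⟩
      · exact one_smul _ _
      · exact hez ▸ C.fin.pc.smul_pt heD
    have hev : Commute e v := by
      rcases C.fin.mem_E.1 he with rfl | ⟨heD, hez⟩
      · exact Commute.one_left v
      · exact (C.cent v hv e heD (by rw [hez, hz])).symm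
    exact ⟨by rw [← mul_smul, ← hev.eq, mul_smul, hx], fun e' => hxz (smul_left_cancel e (e'.trans hez.symm))⟩
  let φ : atPoint D pt z → {w : Ω // v • w = w ∧ w ≠ z} := fun e => ⟨(e : G) • x, hmaps e e.2⟩
  have hφ : Function.Injective φ := by
    intro e e' h
    have h1 : ((e' : G)⁻¹ * e) • x = x := by
      rw [mul_smul, inv_smul_eq_iff]
      exact congrArg Subtype.val h
    by_contra hne
    exact hxz (C.fin.semiregular (mul_mem (inv_mem e'.2) e.2)
      (fun h2 => hne (Subtype.ext (inv_mul_eq_one.1 h2).symm)) h1)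
  obtain ⟨e, he⟩ := ((Nat.bijective_iff_injective_and_card φ).2 ⟨hφ, by
    rw [ChordHyp.card_fix_ne C hz, S.card_fix z v hv, Nat.add_sub_cancel]⟩).2 ⟨y, hy, hyz⟩
  exact ⟨e, e.2, congrArg Subtype.val he⟩

/-- `A` is elementary abelian. -/
theorem sq_fixCent {g : G} (hg : g ∈ fixCent D pt a v) : g * g = 1 := by
  have C := S.chd
  have P := C.fin.pc
  by_cases hg1 : g = 1
  · rw [hg1, one_mul]
  obtain ⟨k, hk⟩ := S.isPGroup_fixCent hv hva ⟨g, hg⟩
  obtain ⟨k', -, hk'⟩ := (Nat.dvd_prime_pow Nat.prime_two).1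
    (orderOf_dvd_of_pow_eq_one (congrArg Subtype.val hk : g ^ 2 ^ k = 1))
  have hk0 : k' ≠ 0 := fun e => hg1 (orderOf_eq_one_iff.1 (by rw [hk', e, pow_zero]))
  set w := g ^ (orderOf g / 2) with hw
  have hwA : w ∈ fixCent D pt a v := pow_mem hg _
  obtain ⟨hwi, hwfix⟩ := S.fix_iff_of_mem_fixCent hv hva hwA
    (orderOf_pow_orderOf_div (orderOf_pos g).ne' (hk' ▸ dvd_pow_self 2 hk0))
  have hgw : Commute g w := (Commute.refl g).pow_right _
  refine eq_of_smul_eq_smul fun y : Ω => ?_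
  rw [one_smul, mul_smul]
  by_cases hy : w • y = y
  · rw [(mem_fixCent.1 hg).2.1 y ((hwfix y).1 hy), (mem_fixCent.1 hg).2.1 y ((hwfix y).1 hy)]
  obtain ⟨t, ht, htw, hty⟩ := C.exists_swapper hwi hy
  have hwz : w • pt t = pt t := P.commute_fix ht htw.symm
  have hvz : v • pt t = pt t := (hwfix _).1 hwz
  have hgt : Commute g t := S.commute_member_fix hv hva hg ht hvz
  have hgz : g • pt t = pt t := P.commute_fix ht hgt
  obtain ⟨hti, htfix⟩ := C.isFixInv_mul hwi ht htw
  have hfy : (w * t) • y = y := by rw [mul_smul, hty, ← mul_smul, mul_self hwi.1, one_smul]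
  have hfgy : (w * t) • g • y = g • y := by rw [← mul_smul, ← (hgw.mul_right hgt).eq, mul_smul, hfy]
  have hyz : y ≠ pt t := fun e => hy (e ▸ hwz)
  obtain ⟨e, he, hey⟩ := S.exists_E_smul (a := pt t) (v := w * t) hti htfix htfix hfy hyz hfgy
    fun e => hyz (smul_left_cancel g (e.trans hgz.symm))
  have hge : Commute g e := by
    rcases C.fin.mem_E.1 he with rfl | ⟨heD, hez⟩
    · exact Commute.one_right g
    · exact S.commute_member_fix hv hva hg heD (by rw [hez, hvz])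
  rw [← hey, ← mul_smul, hge.eq, mul_smul, ← hey, ← mul_smul, C.fin.sq_E he, one_smul]

theorem commute_fixCent {g k : G} (hg : g ∈ fixCent D pt a v) (hk : k ∈ fixCent D pt a v) :
    Commute g k := by
  have hi : ∀ {x : G}, x ∈ fixCent D pt a v → x⁻¹ = x := fun hx =>
    inv_eq_of_mul_eq_one_right (S.sq_fixCent hv hva hx)
  have h := (hi (mul_mem hg hk)).symm
  rw [mul_inv_rev, hi hg, hi hk] at h
  exact h

/-- `A` is the same for all its involutions. -/
theorem fixCent_eq {w : G} (hw : w ∈ fixCent D pt a v) (hw1 : w ≠ 1) :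
    IsFixInv Ω w ∧ w • a = a ∧ fixCent D pt a w = fixCent D pt a v := by
  have hw2 : orderOf w = 2 := orderOf_of_sq (S.sq_fixCent hv hva hw) hw1
  obtain ⟨hwi, hfix⟩ := S.fix_iff_of_mem_fixCent hv hva hw hw2
  have hwa : w • a = a := S.fixCent_smul_self hv hva hw
  refine ⟨hwi, hwa, le_antisymm (fun g hg => ?_) fun g hg => ?_⟩
  · obtain ⟨-, h2, h3⟩ := mem_fixCent.1 hg
    have hvw : v ∈ fixCent D pt a w := mem_fixCent.2
      ⟨((mem_fixCent.1 hw).1).symm, fun x hx => (hfix x).1 hx, fun e he => (S.commute_E hv hva he).symm⟩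
    exact mem_fixCent.2 ⟨S.commute_fixCent hwi hwa hg hvw, fun x hx => h2 x ((hfix x).2 hx), h3⟩
  · obtain ⟨-, h2, h3⟩ := mem_fixCent.1 hg
    exact mem_fixCent.2 ⟨S.commute_fixCent hv hva hg hw, fun x hx => h2 x ((hfix x).1 hx), h3⟩

/-- `A` is a Sylow `2`-subgroup of `R(a,b)`. -/
theorem fixCent_sylow {b : Ω} (hab : a ≠ b) (hb : v • b = b) {T : Subgroup G} (hT : IsPGroup 2 T)
    (hAT : fixCent D pt a v ≤ T) (hTR : T ≤ centPair D pt a b) : T = fixCent D pt a v := by
  haveI : Fact (Nat.Prime 2) := ⟨Nat.prime_two⟩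
  haveI : Nontrivial T := ⟨⟨⟨v, hAT (S.self_mem_fixCent hv hva)⟩, 1,
    fun e => ne_one hv.1 (congrArg Subtype.val e)⟩⟩
  haveI := hT.center_nontrivial
  obtain ⟨z, hz⟩ := exists_prime_orderOf_dvd_card' (G := Subgroup.center T) 2 (by
    obtain ⟨k, hk0, hk⟩ := (hT.to_subgroup (Subgroup.center T)).nontrivial_iff_card.1 inferInstance
    exact hk ▸ dvd_pow_self 2 (by omega))
  set w : G := ((z : T) : G) with hw
  have hw2 : orderOf w = 2 := by rw [hw, Subgroup.orderOf_coe, Subgroup.orderOf_coe, hz]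
  have hcw : ∀ g ∈ T, Commute g w := fun g hg =>
    congrArg Subtype.val (Subgroup.mem_center_iff.1 z.2 ⟨g, hg⟩)
  have hwA : w ∈ fixCent D pt a v := S.mem_fixCent_of_centPair hv hva hab hb (hTR (z : T).2)
    (hcw v (hAT (S.self_mem_fixCent hv hva))).symm
  obtain ⟨hwi, hwa, heq⟩ := S.fixCent_eq hv hva hwA (ne_one hw2)
  refine le_antisymm (fun g hg => heq ▸ ?_) hAT
  exact S.mem_fixCent_of_centPair hwi hwa hab ((mem_fixCent.1 hwA).2.1 b hb) (hTR hg) (hcw g hg)

theorem card_fixCent {b : Ω} (hab : a ≠ b) (hb : v • b = b) :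
    Nat.card (fixCent D pt a v) = 2 ^ (Nat.card (centPair D pt a b)).factorization 2 := by
  haveI : Fact (Nat.Prime 2) := ⟨Nat.prime_two⟩
  set R := centPair D pt a b
  have hle := S.fixCent_le_centPair hv hva hb
  obtain ⟨T, hT⟩ := ((S.isPGroup_fixCent hv hva).comap_subtype :
    IsPGroup 2 ((fixCent D pt a v).subgroupOf R)).exists_le_sylow
  have heq : (T : Subgroup R).map R.subtype = fixCent D pt a v :=
    S.fixCent_sylow hv hva hab hb (T.2.map _) (fun g hg => ⟨⟨g, hle hg⟩, hT hg, rfl⟩)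
      (Subgroup.map_subtype_le _)
  rw [← heq, Subgroup.card_map_of_injective R.subtype_injective]
  exact T.card_eq_multiplicity

omit hv hva in
/-- All `A` at `a` have the same order. -/
theorem card_fixCent_eq {v w : G} (hv : IsFixInv Ω v) (hva : v • a = a) (hw : IsFixInv Ω w)
    (hwa : w • a = a) : Nat.card (fixCent D pt a v) = Nat.card (fixCent D pt a w) := by
  have C := S.chd
  obtain ⟨b, hb, hba⟩ := S.exists_other hv hva
  obtain ⟨c, hc, hca⟩ := S.exists_other hw hwa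
  obtain ⟨g, hga, hgb⟩ := C.fin.trans a b c hba.symm hca.symm
  rw [S.card_fixCent hv hva hba.symm hb, S.card_fixCent hw hwa hca.symm hc]
  refine congrArg (fun k : ℕ => 2 ^ k.factorization 2)
    (Nat.card_congr (Equiv.subtypeEquiv (MulAut.conj g).toEquiv fun k => ?_))
  show k ∈ centPair D pt a b ↔ g * k * g⁻¹ ∈ centPair D pt a c
  have hga' : g • a = a := hga
  have hgi : g⁻¹ • a = a := inv_smul_eq_iff.2 hga'.symm
  rw [mem_centPair, mem_centPair]
  constructor
  · rintro ⟨h1, h2, h3⟩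
    refine ⟨by rw [mul_smul, mul_smul, hgi, h1, hga'], ?_, fun d hd hda => ?_⟩
    · rw [mul_smul, mul_smul, ← hgb, inv_smul_smul, h2]
    · have h4 := h3 _ (C.fin.pc.conj_mem g⁻¹ d hd) (by rw [C.fin.pc.pt_conj g⁻¹ hd, hda, hgi])
      have h5 := h4.map (MulAut.conj g).toMonoidHom
      simpa [mul_assoc] using h5
  · rintro ⟨h1, h2, h3⟩
    refine ⟨?_, ?_, fun d hd hda => ?_⟩
    · rw [mul_smul, mul_smul, hgi] at h1
      exact smul_left_cancel g (h1.trans hga'.symm)
    · rw [mul_smul, mul_smul, ← hgb, inv_smul_smul] at h2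
      exact smul_left_cancel g h2
    · have h4 := h3 _ (C.fin.pc.conj_mem g d hd) (by rw [C.fin.pc.pt_conj g hd, hda, hga'])
      have h5 := h4.map (MulAut.conj g⁻¹).toMonoidHom
      simpa [mul_assoc] using h5

theorem mem_classAt_iff {x : G} :
    x ∈ classAt D pt a v ↔ ∃ α ∈ fixCent D pt a v, ∃ e ∈ atPoint D pt a, x = α * e := by
  have hN : fixCent D pt a v ≤ Subgroup.normalizer (atPoint D pt a : Set G) := fun g hg =>
    S.chd.fin.stabilizer_le_normalizer a (mem_stabilizer_iff.2 (S.fixCent_smul_self hv hva hg))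
  rw [classAt, ← SetLike.mem_coe, Subgroup.coe_mul_of_left_le_normalizer_right _ _ hN, Set.mem_mul]
  exact ⟨fun ⟨α, hα, e, he, h⟩ => ⟨α, hα, e, he, h.symm⟩, fun ⟨α, hα, e, he, h⟩ => ⟨α, hα, e, he, h.symm⟩⟩

theorem commute_classAt {x y : G} (hx : x ∈ classAt D pt a v) (hy : y ∈ classAt D pt a v) :
    Commute x y := by
  obtain ⟨α, hα, e, he, rfl⟩ := (S.mem_classAt_iff hv hva).1 hx
  obtain ⟨β, hβ, f, hf, rfl⟩ := (S.mem_classAt_iff hv hva).1 hy
  have hcE : ∀ {g : G}, g ∈ fixCent D pt a v → ∀ {d : G}, d ∈ atPoint D pt a → Commute g d :=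
    fun hg _ hd => (mem_fixCent.1 hg).2.2 _ hd
  exact ((S.commute_fixCent hv hva hα hβ).mul_right (hcE hα hf)).mul_left
    ((hcE hβ he).symm.mul_right (S.chd.fin.commute_E he hf))

theorem self_mem_classAt : v ∈ classAt D pt a v :=
  Subgroup.mem_sup_left (S.self_mem_fixCent hv hva)

theorem not_mem_E : v ∉ atPoint D pt a := fun he => by
  rcases S.chd.fin.mem_E.1 he with e | ⟨hD, -⟩
  · exact ne_one hv.1 e
  · exact S.chd.fin.not_mem_of_fixInv hv hD

/-- The elements of a class off `E_a` are involutions fixing two points. -/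
theorem isFixInv_of_mem_classAt {x : G} (hx : x ∈ classAt D pt a v) (hxE : x ∉ atPoint D pt a) :
    IsFixInv Ω x ∧ x • a = a := by
  obtain ⟨α, hα, e, he, rfl⟩ := (S.mem_classAt_iff hv hva).1 hx
  have hα1 : α ≠ 1 := fun h => hxE (by rw [h, one_mul]; exact he)
  obtain ⟨hαi, hαa, -⟩ := S.fixCent_eq hv hva hα hα1
  rcases S.chd.fin.mem_E.1 he with rfl | ⟨heD, hea⟩
  · rw [mul_one]; exact ⟨hαi, hαa⟩
  · have := S.chd.isFixInv_mul hαi heD (S.commute_E hαi hαa he)
    exact ⟨this.1, hea ▸ this.2⟩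

/-- An involution at `a` commuting with `v` is in its class. -/
theorem mem_classAt_of_commute {w : G} (hw : IsFixInv Ω w) (hwa : w • a = a) (hc : Commute v w) :
    w ∈ classAt D pt a v := by
  have C := S.chd
  have key : ∀ {x : G}, IsFixInv Ω x → x • a = a → Commute v x → ∀ {z : Ω}, v • z = z → z ≠ a →
      x • z = z → x ∈ fixCent D pt a v := fun hx hxa hxc _ hz hza hxz =>
    S.mem_fixCent_of_centPair hv hva hza.symm hz
      (C.fixInv_mem_centPair hza.symm hx.1 hxa hxz) hxc.symm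
  by_cases hno : ∀ z : Ω, v • z = z → z ≠ a → w • z ≠ z
  · obtain ⟨z, hz, hza⟩ := S.exists_other hv hva
    obtain ⟨d, hd, hda, hdw, hwdz⟩ := C.exists_pencil hv hw hc hno hz hza
    obtain ⟨hwd, hwda⟩ := C.isFixInv_mul hw hd hdw
    rw [hda] at hwda
    have hdv : Commute d v := S.commute_E hv hva (C.fin.mem_E.2 (Or.inr ⟨hd, hda⟩))
    rw [show w = w * d * d by rw [mul_assoc, mul_self (C.fin.pc.inv d hd), mul_one]]
    exact mul_mem (Subgroup.mem_sup_left (key hwd hwda (hc.mul_right hdv.symm) hz hza hwdz))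
      (Subgroup.mem_sup_right (C.fin.mem_E.2 (Or.inr ⟨hd, hda⟩)))
  · push Not at hno
    obtain ⟨z, hz, hza, hwz⟩ := hno
    exact Subgroup.mem_sup_left (key hw hwa hc hz hza hwz)

/-- Commuting is transitive: a class is the class of each of its involutions off `E_a`. -/
theorem classAt_eq {w : G} (hw : w ∈ classAt D pt a v) (hwE : w ∉ atPoint D pt a) :
    classAt D pt a w = classAt D pt a v := by
  obtain ⟨hwi, hwa⟩ := S.isFixInv_of_mem_classAt hv hva hw hwE
  have key : ∀ {v w : G} (hv : IsFixInv Ω v) (hva : v • a = a), w ∈ classAt D pt a v →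
      IsFixInv Ω w → w • a = a → classAt D pt a v ≤ classAt D pt a w := by
    intro v w hv hva hw hwi hwa x hx
    by_cases hxE : x ∈ atPoint D pt a
    · exact Subgroup.mem_sup_right hxE
    obtain ⟨hxi, hxa⟩ := S.isFixInv_of_mem_classAt hv hva hx hxE
    exact S.mem_classAt_of_commute hwi hwa hxi hxa (S.commute_classAt hv hva hw hx)
  refine le_antisymm ?_ (key hv hva hw hwi hwa)
  exact key hwi hwa (S.mem_classAt_of_commute hwi hwa hv hva
    (S.commute_classAt hv hva hw (S.self_mem_classAt hv hva))) hv hva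

/-- Every block of a class is that of some `v e`. -/
theorem exists_mul_fix {x : G} (hx : x ∈ classAt D pt a v) (hxE : x ∉ atPoint D pt a) {z : Ω}
    (hxz : x • z = z) (hza : z ≠ a) : ∃ e ∈ atPoint D pt a, (v * e) • z = z := by
  have C := S.chd
  obtain ⟨hxi, hxa⟩ := S.isFixInv_of_mem_classAt hv hva hx hxE
  have hc : Commute x v := S.commute_classAt hv hva hx (S.self_mem_classAt hv hva)
  by_cases hno : ∀ y : Ω, x • y = y → y ≠ a → v • y ≠ y
  · obtain ⟨d, hd, hda, -, hdz⟩ := C.exists_pencil hxi hv hc hno hxz hza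
    exact ⟨d, C.fin.mem_E.2 (Or.inr ⟨hd, hda⟩), hdz⟩
  · push Not at hno
    obtain ⟨y, hxy, hya, hvy⟩ := hno
    refine ⟨1, one_mem _, ?_⟩
    rw [mul_one]
    have hvR := C.fixInv_mem_centPair hya.symm hv.1 hva hvy
    exact C.smul_fix_of_centPair hxi hya.symm hxa hxy (S.fix_ne_cube a x hxi) hvR hxz

/-- Different elements of `E_a` give different blocks. -/
theorem mul_fix_unique {e e' : G} (he : e ∈ atPoint D pt a) (he' : e' ∈ atPoint D pt a) {z : Ω}
    (hza : z ≠ a) (h1 : (v * e) • z = z) (h2 : (v * e') • z = z) : e = e' := by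
  by_contra hne
  rw [mul_smul] at h1 h2
  have h3 : (e'⁻¹ * e) • z = z := by
    rw [mul_smul, inv_smul_eq_iff]
    exact smul_left_cancel v (h1.trans h2.symm)
  exact hza (S.chd.fin.semiregular (mul_mem (inv_mem he') he)
    (fun h => hne (inv_mul_eq_one.1 h).symm) h3)

theorem card_classAt :
    Nat.card (classAt D pt a v) = Nat.card (fixCent D pt a v) * Nat.card (atPoint D pt a) := by
  rw [← Nat.card_prod]
  have h : ∀ p : fixCent D pt a v × atPoint D pt a, (p.1 : G) * p.2 ∈ classAt D pt a v := fun p =>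
    mul_mem (Subgroup.mem_sup_left p.1.2) (Subgroup.mem_sup_right p.2.2)
  refine (Nat.card_congr (Equiv.ofBijective (fun p => (⟨_, h p⟩ : classAt D pt a v)) ⟨?_, ?_⟩)).symm
  · rintro ⟨α, e⟩ ⟨β, f⟩ hp
    have hp' : (α : G) * e = β * f := congrArg Subtype.val hp
    have h1 : (β : G)⁻¹ * α = f * (e : G)⁻¹ := by rw [eq_mul_inv_iff_mul_eq, mul_assoc, hp', inv_mul_cancel_left]
    obtain ⟨b, hb, hba⟩ := S.exists_other hv hva
    have h2 : (β : G)⁻¹ * α = 1 := by
      by_contra hne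
      refine hba (S.chd.fin.semiregular (h1 ▸ mul_mem f.2 (inv_mem e.2)) hne ?_)
      exact (mem_fixCent.1 (mul_mem (inv_mem β.2) α.2)).2.1 b hb
    rw [h2] at h1
    exact Prod.ext (Subtype.ext (inv_mul_eq_one.1 h2).symm)
      (Subtype.ext (mul_inv_eq_one.1 h1.symm).symm)
  · rintro ⟨x, hx⟩
    obtain ⟨α, hα, e, he, rfl⟩ := (S.mem_classAt_iff hv hva).1 hx
    exact ⟨(⟨α, hα⟩, ⟨e, he⟩), rfl⟩

/-! ### the group `T` -/

theorem classAt_le_transT : classAt D pt a v ≤ transT D pt a v := by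
  refine sup_le (fun g hg => ?_) fun g hg => ?_
  · refine mem_transT.2 ⟨S.fixCent_smul_self hv hva hg, (mem_fixCent.1 hg).2.2, ?_⟩
    rw [(mem_fixCent.1 hg).1.eq, mul_inv_cancel_right, mul_inv_cancel]
    exact one_mem _
  · refine mem_transT.2 ⟨?_, fun e he => S.chd.fin.commute_E hg he, ?_⟩
    · rcases S.chd.fin.mem_E.1 hg with rfl | ⟨hD, hga⟩
      · exact one_smul _ _
      · exact hga ▸ S.chd.fin.pc.smul_pt hD
    · rw [(S.commute_E hv hva hg).eq, mul_inv_cancel_right, mul_inv_cancel]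
      exact one_mem _

/-- The part of `T` centralising `v` is the class. -/
theorem mem_classAt_of_transT {g : G} (hg : g ∈ transT D pt a v) (hgv : Commute g v) :
    g ∈ classAt D pt a v := by
  obtain ⟨hga, hgE, -⟩ := mem_transT.1 hg
  obtain ⟨b, hb, hba⟩ := S.exists_other hv hva
  have hgb : v • g • b = g • b := by rw [← mul_smul, ← hgv.eq, mul_smul, hb]
  obtain ⟨e, he, heb⟩ := S.exists_E_smul hv hva hva hb hba hgb
    fun e => hba (smul_left_cancel g (e.trans hga.symm))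
  have hea : e • a = a := mem_stabilizer_iff.1 ((S.classAt_le_transT hv hva (Subgroup.mem_sup_right he)).1)
  have h1 : e⁻¹ * g ∈ fixCent D pt a v := S.mem_fixCent_of_centPair hv hva hba.symm hb
    (mem_centPair.2 ⟨by rw [mul_smul, hga, inv_smul_eq_iff, hea],
      by rw [mul_smul, ← heb, inv_smul_smul],
      fun d hd hda => by
        have hdE : d ∈ atPoint D pt a := S.chd.fin.mem_E.2 (Or.inr ⟨hd, hda⟩)
        exact (S.chd.fin.commute_E (inv_mem he) hdE).mul_left (hgE d hdE)⟩)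
    ((S.commute_E hv hva (inv_mem he)).mul_left hgv)
  rw [show g = e * (e⁻¹ * g) by group]
  exact mul_mem (Subgroup.mem_sup_right he) (Subgroup.mem_sup_left h1)

/-- `g ↦ [g, v]` on `T`. -/
theorem comm_transT_mul {g k : G} (hg : g ∈ transT D pt a v) (hk : k ∈ transT D pt a v) :
    g * k * v * (g * k)⁻¹ * v⁻¹ = (g * v * g⁻¹ * v⁻¹) * (k * v * k⁻¹ * v⁻¹) := by
  obtain ⟨-, hgE, hgv⟩ := mem_transT.1 hg
  obtain ⟨-, -, hkv⟩ := mem_transT.1 hk
  rw [show g * k * v * (g * k)⁻¹ * v⁻¹ =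
      g * (k * v * k⁻¹ * v⁻¹) * g⁻¹ * (g * v * g⁻¹ * v⁻¹) by group,
    (hgE _ hkv).eq, mul_inv_cancel_right]
  exact (S.chd.fin.commute_E hkv hgv).eq

theorem comm_transT_conj {k g : G} (hka : k • a = a) (hkv : Commute k v)
    (hg : g ∈ transT D pt a v) : k * g * k⁻¹ ∈ transT D pt a v ∧
      k * g * k⁻¹ * v * (k * g * k⁻¹)⁻¹ * v⁻¹ = k * (g * v * g⁻¹ * v⁻¹) * k⁻¹ := by
  obtain ⟨hga, hgE, hgv⟩ := mem_transT.1 hg
  have hN := S.chd.fin.stabilizer_le_normalizer a (mem_stabilizer_iff.2 hka)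
  have heq : k * g * k⁻¹ * v * (k * g * k⁻¹)⁻¹ * v⁻¹ = k * (g * v * g⁻¹ * v⁻¹) * k⁻¹ := by
    calc k * g * k⁻¹ * v * (k * g * k⁻¹)⁻¹ * v⁻¹
        = k * g * (k⁻¹ * v * k) * g⁻¹ * k⁻¹ * v⁻¹ := by group
      _ = k * g * v * g⁻¹ * (k⁻¹ * v⁻¹ * k) * k⁻¹ := by
          rw [mul_assoc k⁻¹ v k, ← hkv.eq, inv_mul_cancel_left]; group
      _ = k * (g * v * g⁻¹ * v⁻¹) * k⁻¹ := by
          rw [mul_assoc k⁻¹ v⁻¹ k, ← hkv.inv_right.eq, inv_mul_cancel_left]; group
  refine ⟨mem_transT.2 ⟨by rw [mul_smul, mul_smul, inv_smul_eq_iff.2 hka.symm, hga, hka],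
    fun e he => ?_, ?_⟩, heq⟩
  · have he' : k⁻¹ * e * k ∈ atPoint D pt a := (Subgroup.mem_normalizer_iff''.1 hN e).1 he
    have := (hgE _ he').map (MulAut.conj k).toMonoidHom
    simpa [mul_assoc] using this
  · rw [heq]
    exact (Subgroup.mem_normalizer_iff.1 hN _).1 hgv

theorem exists_torus_at : ∃ (b : Ω) (j : G), v • b = b ∧ b ≠ a ∧ j • a = a ∧ Commute j v ∧
    (∀ α ∈ fixCent D pt a v, Commute j α) ∧ (∀ e ∈ atPoint D pt a, Commute j e → e = 1) ∧
    ∀ e ∈ atPoint D pt a, e ≠ 1 → ∀ f ∈ atPoint D pt a, f ≠ 1 →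
      ∃ m : ℕ, j ^ m * e * (j ^ m)⁻¹ = f := by
  have C := S.chd
  obtain ⟨b, hb, hba⟩ := S.exists_other hv hva
  obtain ⟨j, hj, hja, -, -, htr, hjR, -⟩ :=
    C.exists_torus_regular hv hba.symm hva hb (S.fix_ne_cube a v hv)
  refine ⟨b, j, hb, hba, hja, C.commute_of_mem_chord hv hva hb hj, fun α hα => hjR α
    (S.fixCent_le_centPair hv hva hb hα), fun e he hje => ?_, fun e he he1 f hf hf1 => ?_⟩
  · by_contra he1
    obtain ⟨heD, hea⟩ := (C.fin.mem_E.1 he).resolve_left he1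
    obtain ⟨d, d', hd, hd', hda, hd'a, hne, -⟩ := C.fin.exists_two a
    have key : ∀ f : G, f ∈ D → pt f = a → f = e := fun f hf hfa => by
      obtain ⟨m, hm⟩ := htr e heD hea f hf hfa
      rw [← hm, (hje.pow_left m).eq, mul_inv_cancel_right]
    exact hne ((key d hd hda).trans (key d' hd' hd'a).symm)
  · obtain ⟨heD, hea⟩ := (C.fin.mem_E.1 he).resolve_left he1
    obtain ⟨hfD, hfa⟩ := (C.fin.mem_E.1 hf).resolve_left hf1
    exact htr e heD hea f hfD hfa

/-- If `T` moves `v` then it moves it to every `v e`. -/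
theorem exists_transT_comm {g₀ : G} (hg₀ : g₀ ∈ transT D pt a v) (hne : ¬ Commute g₀ v) {e : G}
    (he : e ∈ atPoint D pt a) : ∃ g ∈ transT D pt a v, g * v * g⁻¹ * v⁻¹ = e := by
  obtain ⟨b, j, -, -, hja, hjv, -, -, htr⟩ := S.exists_torus_at hv hva
  have h0 : g₀ * v * g₀⁻¹ * v⁻¹ ≠ 1 := fun e1 => hne (by
    rw [mul_inv_eq_one, mul_inv_eq_iff_eq_mul] at e1
    exact e1)
  by_cases he1 : e = 1
  · exact ⟨1, one_mem _, by rw [he1]; group⟩
  obtain ⟨m, hm⟩ := htr _ (mem_transT.1 hg₀).2.2 h0 e he he1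
  obtain ⟨h1, h2⟩ := S.comm_transT_conj hv hva (k := j ^ m)
    (mem_stabilizer_iff.1 ((stabilizer G a).pow_mem (mem_stabilizer_iff.2 hja) m)) (hjv.pow_left m) hg₀
  exact ⟨_, h1, h2.trans hm⟩

/-- `g ↦ [g, v]` as a homomorphism `T → E_a`. -/
def transTHom : transT D pt a v →* atPoint D pt a where
  toFun g := ⟨(g : G) * v * (g : G)⁻¹ * v⁻¹, (mem_transT.1 g.2).2.2⟩
  map_one' := Subtype.ext (show (1 : G) * v * (1 : G)⁻¹ * v⁻¹ = 1 by group)
  map_mul' g k := Subtype.ext (S.comm_transT_mul hv hva g.2 k.2)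

theorem mem_ker_transTHom {g : transT D pt a v} :
    g ∈ (S.transTHom hv hva).ker ↔ (g : G) ∈ classAt D pt a v := by
  refine ⟨fun h => S.mem_classAt_of_transT hv hva g.2 ?_, fun h => Subtype.ext ?_⟩
  · have e : (g : G) * v * (g : G)⁻¹ * v⁻¹ = 1 := congrArg Subtype.val h
    rw [mul_inv_eq_one, mul_inv_eq_iff_eq_mul] at e
    exact e
  · show (g : G) * v * (g : G)⁻¹ * v⁻¹ = 1
    rw [(S.commute_classAt hv hva h (S.self_mem_classAt hv hva)).eq, mul_inv_cancel_right,
      mul_inv_cancel]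

theorem card_transT :
    Nat.card (transT D pt a v) = Nat.card (S.transTHom hv hva).range *
      (Nat.card (fixCent D pt a v) * Nat.card (atPoint D pt a)) := by
  rw [← S.card_classAt hv hva, Subgroup.card_eq_card_quotient_mul_card_subgroup (S.transTHom hv hva).ker,
    Nat.card_congr (QuotientGroup.quotientKerEquivRange (S.transTHom hv hva)).toEquiv]
  congr 1
  exact Nat.card_congr
    { toFun := fun g => ⟨(g.1 : G), (S.mem_ker_transTHom hv hva).1 g.2⟩
      invFun := fun x => ⟨⟨x.1, S.classAt_le_transT hv hva x.2⟩, (S.mem_ker_transTHom hv hva).2 x.2⟩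
      left_inv := fun g => rfl
      right_inv := fun x => rfl }

/-- `T` moving `v` has order `|A| q²`. -/
theorem card_transT_of_mem {g₀ : G} (hg₀ : g₀ ∈ transT D pt a v) (hne : ¬ Commute g₀ v) :
    Nat.card (transT D pt a v) =
      Nat.card (fixCent D pt a v) * Nat.card (atPoint D pt a) ^ 2 := by
  have htop : (S.transTHom hv hva).range = ⊤ := top_unique fun e _ => by
    obtain ⟨g, hg, hge⟩ := S.exists_transT_comm hv hva hg₀ hne e.2
    exact ⟨⟨g, hg⟩, Subtype.ext hge⟩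
  rw [S.card_transT hv hva, htop, Subgroup.card_top]
  ring

/-- `T` has order `|A| q` (the class) or `|A| q²`. -/
theorem card_transT_cases :
    transT D pt a v = classAt D pt a v ∨ Nat.card (transT D pt a v) =
      Nat.card (fixCent D pt a v) * Nat.card (atPoint D pt a) ^ 2 := by
  by_cases hall : ∀ g ∈ transT D pt a v, Commute g v
  · exact Or.inl (le_antisymm (fun g hg => S.mem_classAt_of_transT hv hva hg (hall g hg))
      (S.classAt_le_transT hv hva))
  · push Not at hall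
    obtain ⟨g, hg, hne⟩ := hall
    exact Or.inr (S.card_transT_of_mem hv hva hg hne)

/-- `T` normalises the class. -/
theorem transT_conj_mem {g x : G} (hg : g ∈ transT D pt a v) (hx : x ∈ classAt D pt a v) :
    g * x * g⁻¹ ∈ classAt D pt a v := by
  obtain ⟨hga, hgE, hgv⟩ := mem_transT.1 hg
  by_cases hxE : x ∈ atPoint D pt a
  · rw [(hgE x hxE).eq, mul_inv_cancel_right]
    exact hx
  obtain ⟨⟨hx2, c, d, hcd, hc, hd⟩, hxa⟩ := S.isFixInv_of_mem_classAt hv hva hx hxE
  have hfix : ∀ {p : Ω}, x • p = p → (g * x * g⁻¹) • g • p = g • p := fun {p} hp => by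
    rw [mul_smul, mul_smul, inv_smul_smul, hp]
  refine S.mem_classAt_of_commute hv hva
    ⟨by rw [orderOf_conj, hx2], g • c, g • d, fun e => hcd (smul_left_cancel g e), hfix hc, hfix hd⟩
    (by have := hfix hxa; rwa [hga] at this) ?_
  have h1 : Commute (g * x * g⁻¹) (g * v * g⁻¹) := by
    simpa using (S.commute_classAt hv hva hx (S.self_mem_classAt hv hva)).map (MulAut.conj g).toMonoidHom
  have h2 : Commute (g * x * g⁻¹) (g * v * g⁻¹ * v⁻¹) := by
    have h3 : Commute x (g * v * g⁻¹ * v⁻¹) :=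
      S.commute_classAt hv hva hx (Subgroup.mem_sup_right hgv)
    exact ((hgE _ hgv).mul_left h3).mul_left (hgE _ hgv).inv_left
  have h4 := h2.inv_right.mul_right h1
  rw [show (g * v * g⁻¹ * v⁻¹)⁻¹ * (g * v * g⁻¹) = v by group] at h4
  exact h4.symm

/-- **`T` is trivial on `A` modulo `E_a`.** -/
theorem transT_conj {g α : G} (hg : g ∈ transT D pt a v) (hα : α ∈ fixCent D pt a v) :
    g * α * g⁻¹ * α⁻¹ ∈ atPoint D pt a := by
  classical
  by_cases hgc : Commute g v
  · rw [(S.commute_classAt hv hva (S.mem_classAt_of_transT hv hva hg hgc)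
      (Subgroup.mem_sup_left hα)).eq, mul_inv_cancel_right, mul_inv_cancel]
    exact one_mem _
  obtain ⟨b, j, -, -, hja, hjv, hjA, hjE, -⟩ := S.exists_torus_at hv hva
  have hjN := S.chd.fin.stabilizer_le_normalizer a (mem_stabilizer_iff.2 hja)
  -- `y ↦ [j, y]` is a bijection of `E`
  let ψ : atPoint D pt a → atPoint D pt a := fun y => ⟨(y : G)⁻¹ * (j * y * j⁻¹),
    mul_mem (inv_mem y.2) ((Subgroup.mem_normalizer_iff.1 hjN _).1 y.2)⟩
  have hψ : Function.Injective ψ := fun y y' h => by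
    have h' : (y : G)⁻¹ * (j * y * j⁻¹) = (y' : G)⁻¹ * (j * y' * j⁻¹) := congrArg Subtype.val h
    have h1 : j * ((y' : G) * (y : G)⁻¹) * j⁻¹ = (y' : G) * (y : G)⁻¹ := by
      calc j * ((y' : G) * (y : G)⁻¹) * j⁻¹
          = (y' : G) * ((y' : G)⁻¹ * (j * y' * j⁻¹)) * (j * y * j⁻¹)⁻¹ := by group
        _ = (y' : G) * (y : G)⁻¹ := by rw [← h']; group
    exact Subtype.ext (mul_inv_eq_one.1
      (hjE _ (mul_mem y'.2 (inv_mem y.2)) (mul_inv_eq_iff_eq_mul.1 h1))).symm
  obtain ⟨y, hy⟩ := Finite.injective_iff_surjective.1 hψ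
    ⟨g * v * g⁻¹ * v⁻¹, (mem_transT.1 hg).2.2⟩
  obtain ⟨k, hk, hkc⟩ := S.exists_transT_comm hv hva hg hgc y.2
  obtain ⟨hjk, hjkc⟩ := S.comm_transT_conj hv hva hja hjv hk
  set g₁ := k⁻¹ * (j * k * j⁻¹) with hg₁
  have hg₁T : g₁ ∈ transT D pt a v := mul_mem (inv_mem hk) hjk
  have hg₁c : g₁ * v * g₁⁻¹ * v⁻¹ = g * v * g⁻¹ * v⁻¹ := by
    have hkk := S.comm_transT_mul hv hva hk (inv_mem hk)
    rw [mul_inv_cancel, hkc] at hkk
    simp only [one_mul, inv_one, mul_one, mul_inv_cancel] at hkk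
    rw [hg₁, S.comm_transT_mul hv hva (inv_mem hk) hjk, hjkc, hkc, eq_inv_of_mul_eq_one_right hkk.symm]
    exact congrArg Subtype.val hy
  have hcl : g₁⁻¹ * g ∈ classAt D pt a v := by
    refine S.mem_classAt_of_transT hv hva (mul_mem (inv_mem hg₁T) hg) ?_
    have hh := S.comm_transT_mul hv hva (inv_mem hg₁T) hg
    have h11 := S.comm_transT_mul hv hva (inv_mem hg₁T) hg₁T
    rw [inv_mul_cancel] at h11
    simp only [one_mul, inv_one, mul_one, mul_inv_cancel] at h11
    rw [← hg₁c, ← h11] at hh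
    rw [mul_inv_eq_one, mul_inv_eq_iff_eq_mul] at hh
    exact hh
  -- conjugation by `k` and `j k j⁻¹` agrees on `A` modulo `E`
  obtain ⟨α', hα', f, hf, hkα⟩ := (S.mem_classAt_iff hv hva).1
    (S.transT_conj_mem hv hva hk (Subgroup.mem_sup_left hα))
  have hkE := (mem_transT.1 hk).2.1
  set f' := j * f * j⁻¹ with hf'
  have hf'E : f' ∈ atPoint D pt a := (Subgroup.mem_normalizer_iff.1 hjN _).1 hf
  have h5 : j * k * j⁻¹ * α * (j * k * j⁻¹)⁻¹ = α' * f' := by
    calc j * k * j⁻¹ * α * (j * k * j⁻¹)⁻¹ = j * (k * (j⁻¹ * α * j) * k⁻¹) * j⁻¹ := by group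
      _ = j * (α' * f) * j⁻¹ := by rw [mul_assoc j⁻¹ α j, ← (hjA α hα).eq, inv_mul_cancel_left, hkα]
      _ = α' * f' := by
          rw [hf', ← mul_assoc j α' f, (hjA α' hα').eq]
          group
  have h6 : g₁ * α * g₁⁻¹ = α * (f' * f⁻¹) := by
    calc g₁ * α * g₁⁻¹ = k⁻¹ * (j * k * j⁻¹ * α * (j * k * j⁻¹)⁻¹) * k := by rw [hg₁]; group
      _ = k⁻¹ * ((k * α * k⁻¹) * (f⁻¹ * f')) * k := by rw [h5, hkα]; group
      _ = α * (k⁻¹ * (f⁻¹ * f') * k) := by group
      _ = α * (f' * f⁻¹) := by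
          have hff : f⁻¹ * f' ∈ atPoint D pt a := mul_mem (inv_mem hf) hf'E
          rw [mul_assoc k⁻¹, ← (hkE _ hff).eq, inv_mul_cancel_left,
            (S.chd.fin.commute_E (inv_mem hf) hf'E).eq]
  have hgα : g * α * g⁻¹ = g₁ * α * g₁⁻¹ := by
    have hc := (S.commute_classAt hv hva hcl (Subgroup.mem_sup_left hα)).eq
    calc g * α * g⁻¹ = g₁ * ((g₁⁻¹ * g) * α * (g₁⁻¹ * g)⁻¹) * g₁⁻¹ := by group
      _ = _ := by rw [hc, mul_inv_cancel_right]
  have hmem : f' * f⁻¹ ∈ atPoint D pt a := mul_mem hf'E (inv_mem hf)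
  rw [hgα, h6, ((mem_fixCent.1 hα).2.2 _ hmem).eq, mul_inv_cancel_right]
  exact hmem

end BlockHyp

end Cfsg.Agent.Aschbacher
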