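/-
Shared definitions of the case `|Fix u| = q + 1` (CRITERION_FINISH.md section B; owner: helper90).

* `cenAt D pt a` : `C₀`, the stabiliser of `a` centralising `E_a`
* `LineW D pt a v W` : what B2 gives: `A = {1, v}`, `T = W ∪ v W`, `W` abelian of order `q²`, inverted
  by `v`, squaring onto `E_a` with kernel `E_a`
-/
import Cfsg.Agent.Lib.Aschbacher.CriterionTransitive

set_option autoImplicit false
set_option linter.style.haveILetI false
set_option linter.unusedSectionVars false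

namespace Cfsg.Agent.Aschbacher

open Cfsg Involution MulAction

universe u

/-- `C₀`: the elements fixing `a` and centralising the members at `a`. -/
def cenAt {G : Type u} {Ω : Type u} [Group G] [MulAction G Ω] (D : Set G) (pt : G → Ω) (a : Ω) :
    Subgroup G :=
  stabilizer G a ⊓ Subgroup.centralizer (atPoint D pt a : Set G)

theorem mem_cenAt {G : Type u} {Ω : Type u} [Group G] [MulAction G Ω] {D : Set G} {pt : G → Ω}
    {a : Ω} {g : G} : g ∈ cenAt D pt a ↔ g • a = a ∧ ∀ e ∈ atPoint D pt a, Commute g e :=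
  ⟨fun hg => ⟨hg.1, fun e he => (Subgroup.mem_centralizer_iff.1 hg.2 e he).symm⟩,
    fun hg => ⟨hg.1, Subgroup.mem_centralizer_iff.2 fun e he => (hg.2 e he).eq.symm⟩⟩

/-- The group inverted by `v` in `T`. -/
structure LineW {G : Type u} {Ω : Type u} [Group G] [MulAction G Ω] (D : Set G) (pt : G → Ω)
    (a : Ω) (v : G) (W : Subgroup G) : Prop where
  fixCent_eq : ∀ g ∈ fixCent D pt a v, g = 1 ∨ g = v
  le : W ≤ transT D pt a v
  atPoint_le : atPoint D pt a ≤ W
  inverted : ∀ x ∈ W, v * x * v⁻¹ = x⁻¹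
  comm : ∀ x ∈ W, ∀ y ∈ W, Commute x y
  sq_mem : ∀ x ∈ W, x * x ∈ atPoint D pt a
  sq_surj : ∀ e ∈ atPoint D pt a, ∃ x ∈ W, x * x = e
  sq_eq_one : ∀ x ∈ W, x * x = 1 → x ∈ atPoint D pt a
  card : Nat.card W = Nat.card (atPoint D pt a) ^ 2
  cases : ∀ g ∈ transT D pt a v, g ∈ W ∨ v * g ∈ W
  not_mem : v ∉ W
  isFixInv : ∀ x ∈ W, IsFixInv Ω (v * x)
  card_transT : Nat.card (transT D pt a v) = 2 * Nat.card (atPoint D pt a) ^ 2

end Cfsg.Agent.Aschbacher
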