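/-
B1 and B2 of the case `|Fix v| = q + 1` (CRITERION_FINISH.md; owner: helper43).

With `n = q³ + 1` the involutions at `a` are evenly many modulo `E`, those in the class of `v` oddly
many, so another is moved by `v` only inside `E`: `T` has order `|A| q²`.  Then `T` is elementary
modulo `E`, `W = [T, J] E` is a complement of `A`, it contains no involution with two fixed points,
so every involution of `A` inverts it and `A = ⟨v⟩`.

* `BlockHyp.exists_transT_moving`, `BlockHyp.exists_inv_moving` : B1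
* `BlockHyp.exists_lineW` : B2
-/
import Cfsg.Agent.Lib.Aschbacher.CriterionTransitive
import Cfsg.Agent.Lib.Aschbacher.CriterionL2Def

set_option autoImplicit false
set_option linter.style.haveILetI false
set_option linter.unusedSectionVars false

namespace Cfsg.Agent.Aschbacher

open Cfsg Involution MulAction

universe u

variable {G : Type u} {Ω : Type u} [Group G] [MulAction G Ω] [Finite G] [Finite Ω]
  [FaithfulSMul G Ω] {D : Set G} {pt : G → Ω}

namespace BlockHyp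

variable (S : BlockHyp G Ω D pt)
include S

theorem isFixInv_conj {g w : G} (hw : IsFixInv Ω w) : IsFixInv Ω (g * w * g⁻¹) := by
  obtain ⟨h2, c, d, hcd, hc, hd⟩ := hw
  exact ⟨by rw [orderOf_conj, h2], g • c, g • d, fun e => hcd (smul_left_cancel g e),
    by rw [mul_smul, mul_smul, inv_smul_smul, hc], by rw [mul_smul, mul_smul, inv_smul_smul, hd]⟩

theorem isFixInv_mul_E {a : Ω} {w e : G} (hw : IsFixInv Ω w) (hwa : w • a = a)
    (he : e ∈ atPoint D pt a) : IsFixInv Ω (w * e) ∧ (w * e) • a = a := by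
  refine S.isFixInv_of_mem_classAt hw hwa
    (mul_mem (S.self_mem_classAt hw hwa) (Subgroup.mem_sup_right he)) fun h => ?_
  exact S.not_mem_E hw hwa ((Subgroup.mul_mem_cancel_right _ he).1 h)

variable {a : Ω} {v : G} (hv : IsFixInv Ω v) (hva : v • a = a)
include hv hva

omit hv hva in
/-- The involutions fixing `a` and another point are in even number modulo `E_a`. -/
theorem card_fixInv_at (hn : Nat.card Ω = Nat.card (atPoint D pt a) ^ 3 + 1) :
    ∃ s : ℕ, Nat.card {w : G // IsFixInv Ω w ∧ w • a = a} = Nat.card (atPoint D pt a) ^ 2 * s := by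
  classical
  obtain ⟨b, hab⟩ := S.chd.fin.exists_ne a
  let U := {w : G // IsFixInv Ω w ∧ w • a = a}
  let Z := {z : Ω // z ≠ a}
  set q := Nat.card (atPoint D pt a) with hq
  set s := Nat.card {w : G // IsFixInv Ω w ∧ w • a = a ∧ w • b = b} with hs
  haveI := Fintype.ofFinite U
  haveI := Fintype.ofFinite Z
  have hfib : ∀ z : Z, Nat.card {w : G // IsFixInv Ω w ∧ w • a = a ∧ w • z.1 = z.1} = s := by
    intro z
    obtain ⟨g, hga, hgz⟩ := S.chd.fin.trans a b z.1 hab z.2.symm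
    have hga' : g • a = a := hga
    refine (Nat.card_congr (Equiv.subtypeEquiv (MulAut.conj g).toEquiv fun w => ?_)).symm
    show _ ↔ IsFixInv Ω (g * w * g⁻¹) ∧ (g * w * g⁻¹) • a = a ∧ (g * w * g⁻¹) • z.1 = z.1
    refine and_congr ⟨S.isFixInv_conj, fun h => ?_⟩ (and_congr ?_ ?_)
    · have := S.isFixInv_conj (g := g⁻¹) h
      rwa [show g⁻¹ * (g * w * g⁻¹) * g⁻¹⁻¹ = w by group] at this
    · nth_rw 3 [← hga']
      nth_rw 4 [← hga']
      rw [mul_smul, mul_smul, inv_smul_smul, smul_left_cancel_iff]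
    · rw [← hgz, mul_smul, mul_smul, inv_smul_smul, smul_left_cancel_iff]
  have hblock : ∀ w : U, Nat.card {z : Ω // w.1 • z = z ∧ z ≠ a} = q := fun w => by
    rw [ChordHyp.card_fix_ne S.chd w.2.2, S.card_fix a w.1 w.2.1, Nat.add_sub_cancel]
  have h1 : Nat.card (Σ z : Z, {w : G // IsFixInv Ω w ∧ w • a = a ∧ w • z.1 = z.1}) =
      Nat.card (Σ w : U, {z : Ω // w.1 • z = z ∧ z ≠ a}) := Nat.card_congr
    { toFun := fun x => ⟨⟨x.2.1, x.2.2.1, x.2.2.2.1⟩, x.1.1, x.2.2.2.2, x.1.2⟩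
      invFun := fun x => ⟨⟨x.2.1, x.2.2.2⟩, x.1.1, x.1.2.1, x.1.2.2, x.2.2.1⟩
      left_inv := fun x => rfl
      right_inv := fun x => rfl }
  rw [Nat.card_sigma, Nat.card_sigma, Finset.sum_congr rfl fun z _ => hfib z,
    Finset.sum_congr rfl fun w _ => hblock w, Finset.sum_const, Finset.sum_const, smul_eq_mul,
    smul_eq_mul, Finset.card_univ, Finset.card_univ, ← Nat.card_eq_fintype_card,
    ← Nat.card_eq_fintype_card] at h1
  have hZ : Nat.card Z = q ^ 3 := by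
    have e : Nat.card Ω = Nat.card Z + 1 := by
      rw [← Finite.card_option]
      exact Nat.card_congr (Equiv.optionSubtypeNe a).symm
    omega
  refine ⟨s, Nat.eq_of_mul_eq_mul_right (show 0 < q from Nat.card_pos) ?_⟩
  rw [← h1, hZ]
  ring

/-- **B1.** Some involution with two fixed points is moved by `v` inside `E_a` only. -/
theorem exists_transT_moving (hn : Nat.card Ω = Nat.card (atPoint D pt a) ^ 3 + 1) :
    ∃ w : G, IsFixInv Ω w ∧ w • a = a ∧ w ∈ transT D pt a v ∧ ¬ Commute w v := by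
  classical
  by_contra! hall
  set E := atPoint D pt a with hE
  let U := {w : G // IsFixInv Ω w ∧ w • a = a}
  let π : U → G ⧸ E := fun w => QuotientGroup.mk w.1
  haveI := Fintype.ofFinite (Set.range π)
  obtain ⟨s, hs⟩ := S.card_fixInv_at (a := a) hn
  obtain ⟨r, hr2, hr⟩ := S.chd.fin.exists_card_E a
  -- the cosets are evenly many
  have hfibre : ∀ x : Set.range π, Nat.card {w : U // π w = x.1} = Nat.card E := by
    rintro ⟨_, w, rfl⟩
    refine (Nat.card_congr (Equiv.ofBijective (fun e : E =>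
      (⟨⟨w.1 * e, S.isFixInv_mul_E w.2.1 w.2.2 e.2⟩, ?_⟩ : {w' : U // π w' = π w})) ⟨?_, ?_⟩)).symm
    · refine QuotientGroup.eq.2 ?_
      rw [mul_inv_rev, inv_mul_cancel_right]
      exact inv_mem e.2
    · intro e e' h
      exact Subtype.ext (mul_left_cancel (congrArg (fun x : {w' : U // π w' = π w} => x.1.1) h))
    · rintro ⟨w', hw'⟩
      refine ⟨⟨w.1⁻¹ * w'.1, QuotientGroup.eq.1 hw'.symm⟩, Subtype.ext (Subtype.ext ?_)⟩
      exact mul_inv_cancel_left _ _
  have hcardU : Nat.card U = Nat.card (Set.range π) * Nat.card E := by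
    rw [Nat.card_congr (Equiv.sigmaFiberEquiv (fun w : U => (⟨π w, w, rfl⟩ : Set.range π))).symm,
      Nat.card_sigma]
    have : ∀ x : Set.range π,
        Nat.card {w : U // (⟨π w, w, rfl⟩ : Set.range π) = x} = Nat.card E := fun x => by
      rw [← hfibre x]
      exact Nat.card_congr (Equiv.subtypeEquivRight fun w => Subtype.ext_iff)
    rw [Finset.sum_congr rfl fun x _ => this x, Finset.sum_const, smul_eq_mul, Finset.card_univ,
      Nat.card_eq_fintype_card (α := Set.range π)]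
  have heven : Even (Nat.card (Set.range π)) := by
    have h1 : Nat.card (Set.range π) = Nat.card E * s := by
      refine Nat.eq_of_mul_eq_mul_right (show 0 < Nat.card E from Nat.card_pos) ?_
      rw [← hcardU, hs]
      ring
    rw [h1, show Nat.card E = 2 ^ r from hr]
    exact (Nat.even_pow.2 ⟨even_two, by omega⟩).mul_right s
  -- `v` permutes them
  have hconj : ∀ {x y : G}, x⁻¹ * y ∈ E → (v * x * v⁻¹)⁻¹ * (v * y * v⁻¹) ∈ E := fun {x y} h => by
    rw [show (v * x * v⁻¹)⁻¹ * (v * y * v⁻¹) = v * (x⁻¹ * y) * v⁻¹ by group,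
      (S.commute_E hv hva h).symm.eq, mul_inv_cancel_right]
    exact h
  have hvv : ∀ x : G, v * (v * x * v⁻¹) * v⁻¹ = x := fun x => by
    rw [show v * (v * x * v⁻¹) * v⁻¹ = (v * v) * x * (v * v)⁻¹ by group, mul_self hv.1]; group
  have hmem : ∀ w : U, IsFixInv Ω (v * w.1 * v⁻¹) ∧ (v * w.1 * v⁻¹) • a = a := fun w =>
    ⟨S.isFixInv_conj w.2.1, by rw [mul_smul, mul_smul, inv_smul_eq_iff.2 hva.symm, w.2.2, hva]⟩
  let f : G ⧸ E → G ⧸ E := Quotient.map' (fun x => v * x * v⁻¹) (by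
    intro x y hxy
    rw [QuotientGroup.leftRel_apply] at hxy ⊢
    exact hconj hxy)
  have hf : ∀ x : G, f (QuotientGroup.mk x) = QuotientGroup.mk (v * x * v⁻¹) := fun x => rfl
  have hfr : ∀ x, x ∈ Set.range π → f x ∈ Set.range π := by
    rintro _ ⟨w, rfl⟩
    exact ⟨⟨_, hmem w⟩, rfl⟩
  have hff : ∀ x, f (f x) = x := fun x => by
    induction x using QuotientGroup.induction_on with | _ g => rw [hf, hf, hvv]
  let σ : Equiv.Perm (Set.range π) :=
    { toFun := fun x => ⟨f x.1, hfr _ x.2⟩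
      invFun := fun x => ⟨f x.1, hfr _ x.2⟩
      left_inv := fun x => Subtype.ext (hff x.1)
      right_inv := fun x => Subtype.ext (hff x.1) }
  have hσ2 : σ ^ 2 = 1 := Equiv.ext fun x => Subtype.ext (hff x.1)
  haveI : Fact (Nat.Prime 2) := ⟨Nat.prime_two⟩
  have hP : IsPGroup 2 (Subgroup.zpowers σ) := fun x => ⟨1, by
    obtain ⟨i, hi⟩ := Subgroup.mem_zpowers_iff.1 x.2
    refine Subtype.ext ?_
    rw [Subgroup.coe_pow, pow_one, ← hi, ← zpow_natCast, ← zpow_mul, mul_comm, zpow_mul, zpow_natCast,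
      hσ2, one_zpow]
    rfl⟩
  have hmod := hP.card_modEq_card_fixedPoints (Set.range π)
  -- the fixed cosets are those of the class
  obtain ⟨b, hb, hba⟩ := S.exists_other hv hva
  let φ : {α : fixCent D pt a v // α ≠ 1} → fixedPoints (Subgroup.zpowers σ) (Set.range π) :=
    fun α => ⟨⟨QuotientGroup.mk (α.1 : G), ⟨(α.1 : G), (S.fixCent_eq hv hva α.1.2
      (fun e => α.2 (Subtype.ext e))).1, (S.fixCent_eq hv hva α.1.2 (fun e => α.2 (Subtype.ext e))).2.1⟩,
      rfl⟩, fun k => by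
        obtain ⟨i, hi⟩ := Subgroup.mem_zpowers_iff.1 k.2
        show (k : Equiv.Perm (Set.range π)) _ = _
        rw [← hi]
        refine Function.IsFixedPt.perm_zpow ?_ i
        refine Subtype.ext ?_
        show f (QuotientGroup.mk (α.1 : G)) = _
        rw [hf, ← (mem_fixCent.1 α.1.2).1.eq, mul_inv_cancel_right]⟩
  have hφ : Function.Bijective φ := by
    refine ⟨fun α β h => ?_, fun x => ?_⟩
    · have h1 : (α.1 : G)⁻¹ * (β.1 : G) ∈ E :=
        QuotientGroup.eq.1 (congrArg (fun z => z.1.1) h)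
      have h2 : (α.1 : G)⁻¹ * (β.1 : G) ∈ fixCent D pt a v := mul_mem (inv_mem α.1.2) β.1.2
      refine Subtype.ext (Subtype.ext (inv_mul_eq_one.1 ?_))
      by_contra hne
      exact hba (S.chd.fin.semiregular h1 hne ((mem_fixCent.1 h2).2.1 b hb))
    · obtain ⟨⟨_, ⟨w, hwi, hwa⟩, rfl⟩, hx⟩ := x
      have h1 : (σ ⟨π ⟨w, hwi, hwa⟩, _, rfl⟩).1 = π ⟨w, hwi, hwa⟩ :=
        congrArg Subtype.val (hx ⟨σ, Subgroup.mem_zpowers σ⟩)
      have h2 : (v * w * v⁻¹)⁻¹ * w ∈ E := QuotientGroup.eq.1 h1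
      have hwT : w ∈ transT D pt a v := by
        refine mem_transT.2 ⟨hwa, fun e he => (S.commute_E hwi hwa he).symm, ?_⟩
        have hwe : w * ((v * w * v⁻¹)⁻¹ * w) * w⁻¹ = (v * w * v⁻¹)⁻¹ * w := by
          rw [← (S.commute_E hwi hwa h2).eq, mul_inv_cancel_right]
        have e1 : w * v * w⁻¹ * v⁻¹ = w * ((v * w * v⁻¹)⁻¹ * w) * w⁻¹ := by group
        rw [e1, hwe]
        exact h2
      have hwK : w ∈ classAt D pt a v :=
        S.mem_classAt_of_commute hv hva hwi hwa (hall w hwi hwa hwT).symm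
      obtain ⟨α, hα, e, he, rfl⟩ := (S.mem_classAt_iff hv hva).1 hwK
      refine ⟨⟨⟨α, hα⟩, fun h1 => S.not_mem_E hwi hwa ?_⟩, Subtype.ext (Subtype.ext ?_)⟩
      · rw [show α = 1 from congrArg Subtype.val h1, one_mul]
        exact he
      · exact QuotientGroup.eq.2 (by rw [inv_mul_cancel_left]; exact he)
  have hcard : Nat.card {α : fixCent D pt a v // α ≠ 1} + 1 = Nat.card (fixCent D pt a v) := by
    rw [← Finite.card_option]
    exact Nat.card_congr (Equiv.optionSubtypeNe (1 : fixCent D pt a v))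
  have hA : Even (Nat.card (fixCent D pt a v)) := by
    rw [even_iff_two_dvd, ← hv.1]
    exact Subgroup.orderOf_dvd_natCard _ (S.self_mem_fixCent hv hva)
  rw [← Nat.card_congr (Equiv.ofBijective φ hφ)] at hmod
  rw [Nat.even_iff] at hA heven
  have : Nat.card (Set.range π) % 2 = Nat.card {α : fixCent D pt a v // α ≠ 1} % 2 := hmod
  omega

omit hv hva in
theorem sq_classAt {v : G} (hv : IsFixInv Ω v) (hva : v • a = a) {x : G}
    (hx : x ∈ classAt D pt a v) : x * x = 1 := by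
  obtain ⟨α, hα, e, he, rfl⟩ := (S.mem_classAt_iff hv hva).1 hx
  calc α * e * (α * e) = α * (e * α) * e := by group
    _ = (α * α) * (e * e) := by rw [← ((mem_fixCent.1 hα).2.2 e he).eq]; group
    _ = 1 := by rw [S.sq_fixCent hv hva hα, S.chd.fin.sq_E he, one_mul]

theorem conj_pow_E {k : G} (hka : k • a = a) {e : G} (he : e ∈ atPoint D pt a) :
    k * e * k⁻¹ ∈ atPoint D pt a :=
  (Subgroup.mem_normalizer_iff.1 (S.chd.fin.stabilizer_le_normalizer a (mem_stabilizer_iff.2 hka)) e).1 he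

variable {j : G} (hja : j • a = a) (hjv : Commute j v)
  (hjA : ∀ α ∈ fixCent D pt a v, Commute j α)
  (hjE : ∀ e ∈ atPoint D pt a, Commute j e → e = 1)
  (htr : ∀ e ∈ atPoint D pt a, e ≠ 1 → ∀ f ∈ atPoint D pt a, f ≠ 1 →
    ∃ m : ℕ, j ^ m * e * (j ^ m)⁻¹ = f)

section powers

include hja hjv

/-- A torus power moves an element of `T` onto another modulo the class. -/
theorem exists_conj_pow_eq
    (htr : ∀ e ∈ atPoint D pt a, e ≠ 1 → ∀ f ∈ atPoint D pt a, f ≠ 1 →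
      ∃ m : ℕ, j ^ m * e * (j ^ m)⁻¹ = f)
    {x g : G} (hx : x ∈ transT D pt a v) (hxv : ¬ Commute x v) (hg : g ∈ transT D pt a v)
    (hgv : ¬ Commute g v) : ∃ m : ℕ, (j ^ m * x * (j ^ m)⁻¹)⁻¹ * g ∈ classAt D pt a v ∧
      j ^ m * x * (j ^ m)⁻¹ ∈ transT D pt a v := by
  have hne : ∀ {g : G}, ¬ Commute g v → g * v * g⁻¹ * v⁻¹ ≠ 1 := fun h e => h (by
    rw [mul_inv_eq_one, mul_inv_eq_iff_eq_mul] at e
    exact e)
  obtain ⟨m, hm⟩ := htr _ (mem_transT.1 hx).2.2 (hne hxv) _ (mem_transT.1 hg).2.2 (hne hgv)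
  obtain ⟨h1, h2⟩ := S.comm_transT_conj hv hva (k := j ^ m)
    (mem_stabilizer_iff.1 ((stabilizer G a).pow_mem (mem_stabilizer_iff.2 hja) m)) (hjv.pow_left m) hx
  refine ⟨m, ?_, h1⟩
  have h3 : S.transTHom hv hva ⟨_, h1⟩ = S.transTHom hv hva ⟨g, hg⟩ := Subtype.ext (h2.trans hm)
  have h4 : (⟨_, h1⟩ : transT D pt a v)⁻¹ * ⟨g, hg⟩ ∈ (S.transTHom hv hva).ker := by
    rw [MonoidHom.mem_ker, map_mul, map_inv, h3, inv_mul_cancel]
  exact (S.mem_ker_transTHom hv hva).1 h4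

end powers

/-- `T` is elementary abelian modulo `E`, given a moved involution in it. -/
theorem sq_transT {w : G} (hw : IsFixInv Ω w) (hwT : w ∈ transT D pt a v) (hwv : ¬ Commute w v)
    {g : G} (hg : g ∈ transT D pt a v) : g * g ∈ atPoint D pt a := by
  obtain ⟨b, j, -, -, hja, hjv, -, -, htr⟩ := S.exists_torus_at hv hva
  by_cases hgv : Commute g v
  · rw [S.sq_classAt hv hva (S.mem_classAt_of_transT hv hva hg hgv)]
    exact one_mem _
  obtain ⟨m, hk, hw'T⟩ := S.exists_conj_pow_eq hv hva hja hjv htr hwT hwv hg hgv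
  set w' := j ^ m * w * (j ^ m)⁻¹
  have hw'2 : w' * w' = 1 := mul_self (S.isFixInv_conj hw).1
  set k := w'⁻¹ * g with hk'
  obtain ⟨α, hα, e, he, hke⟩ := (S.mem_classAt_iff hv hva).1 hk
  have hf := S.transT_conj hv hva hw'T hα
  set f := w' * α * w'⁻¹ * α⁻¹ with hfdef
  have hwe : Commute w' e := (mem_transT.1 hw'T).2.1 e he
  have h2 : g * g = (w' * k * w'⁻¹) * k := by
    have hgw : g = w' * k := by rw [hk']; group
    rw [hgw, inv_eq_of_mul_eq_one_right hw'2]
    group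
  have h3 : w' * k * w'⁻¹ = f * (α * e) := by
    rw [hke, hfdef, show w' * (α * e) * w'⁻¹ = (w' * α * w'⁻¹) * (w' * e * w'⁻¹) by group,
      hwe.eq, mul_inv_cancel_right]
    group
  rw [h2, h3, hke, mul_assoc, S.sq_classAt hv hva ((S.mem_classAt_iff hv hva).2 ⟨α, hα, e, he, rfl⟩),
    mul_one]
  exact hf

theorem comm_mem_E {w : G} (hw : IsFixInv Ω w) (hwT : w ∈ transT D pt a v) (hwv : ¬ Commute w v)
    {g h : G} (hg : g ∈ transT D pt a v) (hh : h ∈ transT D pt a v) :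
    g * h * g⁻¹ * h⁻¹ ∈ atPoint D pt a := by
  have h1 := S.sq_transT hv hva hw hwT hwv (mul_mem hg hh)
  have h2 := inv_mem (S.sq_transT hv hva hw hwT hwv hg)
  have h3 := inv_mem (S.sq_transT hv hva hw hwT hwv hh)
  rw [show g * h * g⁻¹ * h⁻¹ = g * h * (g * h) * (h⁻¹ * (g * g)⁻¹ * h) * (h * h)⁻¹ by group,
    mul_assoc h⁻¹, ← ((mem_transT.1 hh).2.1 _ h2).eq, inv_mul_cancel_left]
  exact mul_mem (mul_mem h1 h2) h3

theorem exists_torus_full : ∃ (b : Ω) (j : G), v • b = b ∧ b ≠ a ∧ j • a = a ∧ Commute j v ∧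
    (∀ α ∈ fixCent D pt a v, Commute j α) ∧ (∀ e ∈ atPoint D pt a, Commute j e → e = 1) ∧
    (∀ e ∈ atPoint D pt a, e ≠ 1 → ∀ f ∈ atPoint D pt a, f ≠ 1 →
      ∃ m : ℕ, j ^ m * e * (j ^ m)⁻¹ = f) ∧
    ∃ (p : ℕ) (t : G), p.Prime ∧ p ≠ 2 ∧ t ∈ Subgroup.zpowers j ∧ t ^ p = 1 ∧
      ∀ z : Ω, t • z = z → z = a ∨ z = b := by
  have C := S.chd
  obtain ⟨b, hb, hba⟩ := S.exists_other hv hva
  obtain ⟨j, hj, hja, -, hord, htr, hjR, hfix⟩ :=
    C.exists_torus_regular hv hba.symm hva hb (S.fix_ne_cube a v hv)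
  have hq := C.fin.card_E_ge a
  obtain ⟨r, hr2, hr⟩ := C.fin.exists_card_E a
  obtain ⟨p, hp, hpdvd⟩ := Nat.exists_prime_and_dvd
    (show Nat.card (atPoint D pt a) - 1 ≠ 1 by omega)
  have hp2 : p ≠ 2 := by
    rintro rfl
    rw [hr, show r = (r - 1) + 1 by omega, pow_succ] at hpdvd
    have := Nat.one_le_two_pow (n := r - 1)
    omega
  refine ⟨b, j, hb, hba, hja, C.commute_of_mem_chord hv hva hb hj, fun α hα => hjR α
    (S.fixCent_le_centPair hv hva hb hα), fun e he hje => ?_, fun e he he1 f hf hf1 => ?_,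
    p, j ^ (orderOf j / p), hp, hp2, Subgroup.pow_mem _ (Subgroup.mem_zpowers j) _, ?_, fun z hz => ?_⟩
  · by_contra he1
    obtain ⟨heD, hea⟩ := (C.fin.mem_E.1 he).resolve_left he1
    obtain ⟨d, d', hd, hd', hda, hd'a, hne, -⟩ := C.fin.exists_two a
    have key : ∀ f : G, f ∈ D → pt f = a → f = e := fun f hf hfa => by
      obtain ⟨m, hm⟩ := htr e heD hea f hf hfa
      rw [← hm, (hje.pow_left m).eq, mul_inv_cancel_right]
    exact hne ((key d hd hda).trans (key d' hd' hd'a).symm)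
  · obtain ⟨heD, hea⟩ := (C.fin.mem_E.1 he).resolve_left he1
    obtain ⟨hfD, hfa⟩ := (C.fin.mem_E.1 hf).resolve_left hf1
    exact htr e heD hea f hfD hfa
  · rw [← pow_mul, Nat.div_mul_cancel (hord ▸ hpdvd), pow_orderOf_eq_one]
  · refine hfix _ (Subgroup.pow_mem _ (Subgroup.mem_zpowers j) _) (fun e => hp.ne_one ?_) z hz
    rw [← orderOf_pow_orderOf_div (x := j) (n := p) (orderOf_pos j).ne' (hord ▸ hpdvd), e, orderOf_one]

theorem exists_inv_moving (hn : Nat.card Ω = Nat.card (atPoint D pt a) ^ 3 + 1) :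
    ∃ w ∈ transT D pt a v, w * w = 1 ∧ ¬ Commute w v :=
  have ⟨w, hw, _, hwT, hwv⟩ := S.exists_transT_moving hv hva hn
  ⟨w, hwT, mul_self hw.1, hwv⟩

/-- **B2.** -/
theorem exists_lineW (hn : Nat.card Ω = Nat.card (atPoint D pt a) ^ 3 + 1) :
    ∃ W : Subgroup G, LineW D pt a v W := by
  classical
  have C := S.chd
  obtain ⟨w₀, hw₀, hw₀a, hw₀T, hw₀v⟩ := S.exists_transT_moving hv hva hn
  obtain ⟨c, j, hc, hca, hja, hjv, hjA, hjE, htr, p, t, hp, hp2, htj, htp, htfix⟩ :=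
    S.exists_torus_full hv hva
  set E := atPoint D pt a with hE
  set T := transT D pt a v with hT
  have hcomm := fun {g h : G} => S.comm_mem_E hv hva hw₀ hw₀T hw₀v (g := g) (h := h)
  have hcard := S.card_transT_of_mem hv hva hw₀T hw₀v
  have hTE : ∀ {g : G}, g ∈ T → ∀ {e : G}, e ∈ E → Commute g e := fun hg _ he =>
    (mem_transT.1 hg).2.1 _ he
  have hET : E ≤ T := le_sup_right.trans (S.classAt_le_transT hv hva)
  have hjT : ∀ {g : G}, g ∈ T → j * g * j⁻¹ ∈ T := fun hg => (S.comm_transT_conj hv hva hja hjv hg).1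
  -- `W = [T, j] E`
  let θ : G → G := fun g => g⁻¹ * (j * g * j⁻¹)
  have hθT : ∀ {g : G}, g ∈ T → θ g ∈ T := fun hg => mul_mem (inv_mem hg) (hjT hg)
  have hθmul : ∀ {g h : G}, g ∈ T → h ∈ T → ∃ e ∈ E, θ (g * h) = θ g * θ h * e := fun {g h} hg hh => by
    refine ⟨(θ g * θ h)⁻¹ * θ (g * h), ?_, (mul_inv_cancel_left _ _).symm⟩
    have h1 : θ (g * h) = h⁻¹ * θ g * (j * h * j⁻¹) := by simp only [θ]; group
    have h2 := inv_mem (hcomm (hθT hg) (inv_mem hh))
    set f := θ g * h⁻¹ * (θ g)⁻¹ * h⁻¹⁻¹ with hf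
    have hfE : f ∈ E := hcomm (hθT hg) (inv_mem hh)
    have h3 : h⁻¹ * θ g = f⁻¹ * (θ g * h⁻¹) := by rw [hf]; group
    have h4 : θ g * θ h = θ g * h⁻¹ * (j * h * j⁻¹) := by simp only [θ]; group
    rw [h1, h3, h4, mul_assoc f⁻¹, (hTE (mul_mem (mul_mem (hθT hg) (inv_mem hh)) (hjT hh)) h2).symm.eq,
      inv_mul_cancel_left]
    exact h2
  let W : Subgroup G :=
    { carrier := {x | ∃ g ∈ T, ∃ e ∈ E, x = θ g * e}
      one_mem' := ⟨1, one_mem _, 1, one_mem _, by simp [θ]⟩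
      mul_mem' := by
        rintro _ _ ⟨g, hg, e, he, rfl⟩ ⟨h, hh, f, hf, rfl⟩
        obtain ⟨k, hk, hgh⟩ := hθmul hg hh
        refine ⟨g * h, mul_mem hg hh, k⁻¹ * (e * f), mul_mem (inv_mem hk) (mul_mem he hf), ?_⟩
        rw [hgh, mul_assoc (θ g * θ h), mul_inv_cancel_left,
          show θ g * e * (θ h * f) = θ g * (e * θ h) * f by group,
          ← (hTE (hθT hh) he).eq]
        group
      inv_mem' := by
        rintro _ ⟨g, hg, e, he, rfl⟩
        obtain ⟨k, hk, hgh⟩ := hθmul hg (inv_mem hg)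
        have h1 : θ (g * g⁻¹) = 1 := by simp [θ]
        rw [h1] at hgh
        refine ⟨g⁻¹, inv_mem hg, k * e⁻¹, mul_mem hk (inv_mem he), ?_⟩
        rw [mul_inv_rev, ← (hTE (inv_mem (hθT hg)) (inv_mem he)).eq]
        rw [show (θ g)⁻¹ = θ g⁻¹ * k by
          rw [eq_comm, ← mul_eq_one_iff_eq_inv', ← mul_assoc]; exact hgh.symm]
        group }
  have hWmem : ∀ {x : G}, x ∈ W ↔ ∃ g ∈ T, ∃ e ∈ E, x = θ g * e := Iff.rfl
  have hEW : E ≤ W := fun e he => ⟨1, one_mem _, e, he, by simp [θ]⟩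
  have hWT : W ≤ T := by
    rintro _ ⟨g, hg, e, he, rfl⟩
    exact mul_mem (hθT hg) (hET he)
  set c₁ := S.transTHom hv hva with hc₁
  have hθc : ∀ {g : G} (hg : g ∈ T),
      (c₁ ⟨θ g, hθT hg⟩ : G) = (c₁ ⟨g, hg⟩ : G)⁻¹ * (j * (c₁ ⟨g, hg⟩ : G) * j⁻¹) := by
    intro g hg
    have h1 : (⟨θ g, hθT hg⟩ : T) = (⟨g, hg⟩ : T)⁻¹ * ⟨j * g * j⁻¹, hjT hg⟩ := Subtype.ext rfl
    rw [h1, map_mul, map_inv, Subgroup.coe_mul, Subgroup.coe_inv]
    exact congrArg _ (S.comm_transT_conj hv hva hja hjv hg).2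
  have hWK : ∀ {x : G}, x ∈ W → x ∈ classAt D pt a v → x ∈ E := by
    rintro _ ⟨g, hg, e, he, rfl⟩ hK
    have hK' : θ g ∈ classAt D pt a v :=
      (Subgroup.mul_mem_cancel_right _ (Subgroup.mem_sup_right he)).1 hK
    have h1 : c₁ ⟨θ g, hθT hg⟩ = 1 := (S.mem_ker_transTHom hv hva).2 hK'
    have h2 := hθc hg
    rw [h1, Subgroup.coe_one] at h2
    have hjc : Commute j (c₁ ⟨g, hg⟩ : G) :=
      mul_inv_eq_iff_eq_mul.1 (inv_mul_eq_one.1 h2.symm).symm
    have h3 : c₁ ⟨g, hg⟩ = 1 := Subtype.ext (hjE _ (c₁ ⟨g, hg⟩).2 hjc)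
    obtain ⟨α, hα, f, hf, hgα⟩ := (S.mem_classAt_iff hv hva).1 ((S.mem_ker_transTHom hv hva).1 h3)
    refine mul_mem ?_ he
    have hjf := S.conj_pow_E hv hva hja hf
    show g⁻¹ * (j * g * j⁻¹) ∈ E
    have e1 : j * g * j⁻¹ = α * (j * f * j⁻¹) := by
      rw [show g = α * f from hgα, ← mul_assoc j α f, (hjA α hα).eq]
      group
    rw [e1, show g = α * f from hgα, show (α * f)⁻¹ * (α * (j * f * j⁻¹)) = f⁻¹ * (j * f * j⁻¹) by group]
    exact mul_mem (inv_mem hf) hjf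
  have hWj : ∀ (m : ℕ) {x : G}, x ∈ W → j ^ m * x * (j ^ m)⁻¹ ∈ W := by
    intro m
    induction m with
    | zero => intro x hx; simpa using hx
    | succ m ih =>
      rintro x ⟨g, hg, e, he, rfl⟩
      have h1 : j * (θ g * e) * j⁻¹ ∈ W := ⟨j * g * j⁻¹, hjT hg, j * e * j⁻¹,
        S.conj_pow_E hv hva hja he, by simp only [θ]; group⟩
      have := ih h1
      rwa [show j ^ m * (j * (θ g * e) * j⁻¹) * (j ^ m)⁻¹ =
        j ^ (m + 1) * (θ g * e) * (j ^ (m + 1))⁻¹ by rw [pow_succ]; group] at this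
  -- `W` covers `T` modulo the class
  have hcov : ∀ {g : G}, g ∈ T → ∃ x ∈ W, x⁻¹ * g ∈ classAt D pt a v := by
    intro g hg
    by_cases hgv : Commute g v
    · exact ⟨1, one_mem _, by rw [inv_one, one_mul]; exact S.mem_classAt_of_transT hv hva hg hgv⟩
    have h0 : θ w₀ ∉ classAt D pt a v := fun hK => by
      have h1 : c₁ ⟨θ w₀, hθT hw₀T⟩ = 1 := (S.mem_ker_transTHom hv hva).2 hK
      have h2 := hθc hw₀T
      rw [h1, Subgroup.coe_one] at h2
      have hjc : Commute j (c₁ ⟨w₀, hw₀T⟩ : G) :=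
        mul_inv_eq_iff_eq_mul.1 (inv_mul_eq_one.1 h2.symm).symm
      have h3 := hjE _ (c₁ ⟨w₀, hw₀T⟩).2 hjc
      exact hw₀v (mul_inv_eq_iff_eq_mul.1 (mul_inv_eq_one.1 h3))
    have h1 : ¬ Commute (θ w₀) v := fun h => h0 (S.mem_classAt_of_transT hv hva (hθT hw₀T) h)
    obtain ⟨m, hm, -⟩ := S.exists_conj_pow_eq hv hva hja hjv htr (hθT hw₀T) h1 hg hgv
    exact ⟨_, hWj m ⟨w₀, hw₀T, 1, one_mem _, (mul_one _).symm⟩, hm⟩
  have hdec : ∀ {g : G}, g ∈ T → ∃ x ∈ W, ∃ α ∈ fixCent D pt a v, g = x * α := by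
    intro g hg
    obtain ⟨x, hx, hxg⟩ := hcov hg
    obtain ⟨α, hα, e, he, hxa⟩ := (S.mem_classAt_iff hv hva).1 hxg
    refine ⟨x * e, mul_mem hx (hEW he), α, hα, ?_⟩
    rw [mul_assoc, ← ((mem_fixCent.1 hα).2.2 e he).eq, ← hxa, mul_inv_cancel_left]
  have hWA : ∀ {x : G}, x ∈ W → x ∈ fixCent D pt a v → x = 1 := fun hx hxA => by
    by_contra hne
    exact hca (C.fin.semiregular (hWK hx (Subgroup.mem_sup_left hxA)) hne
      ((mem_fixCent.1 hxA).2.1 c hc))
  have hWcard : Nat.card W = Nat.card E ^ 2 := by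
    have h1 : Nat.card W * Nat.card (fixCent D pt a v) = Nat.card T := by
      rw [← Nat.card_prod]
      refine Nat.card_congr (Equiv.ofBijective (fun z => (⟨(z.1 : G) * z.2,
        mul_mem (hWT z.1.2) (S.classAt_le_transT hv hva (Subgroup.mem_sup_left z.2.2))⟩ : T)) ⟨?_, ?_⟩)
      · rintro ⟨x, α⟩ ⟨y, β⟩ h
        have h' : (x : G) * α = y * β := congrArg Subtype.val h
        have h2 : (y : G)⁻¹ * x = (β : G) * (α : G)⁻¹ := by
          rw [eq_mul_inv_iff_mul_eq, mul_assoc, h', inv_mul_cancel_left]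
        have h3 : (y : G)⁻¹ * x = 1 :=
          hWA (mul_mem (inv_mem y.2) x.2) (h2 ▸ mul_mem β.2 (inv_mem α.2))
        exact Prod.ext (Subtype.ext (inv_mul_eq_one.1 h3).symm)
          (Subtype.ext (mul_inv_eq_one.1 (h2.symm.trans h3)).symm)
      · rintro ⟨g, hg⟩
        obtain ⟨x, hx, α, hα, rfl⟩ := hdec hg
        exact ⟨(⟨x, hx⟩, ⟨α, hα⟩), rfl⟩
    refine Nat.eq_of_mul_eq_mul_right (show 0 < Nat.card (fixCent D pt a v) from Nat.card_pos) ?_
    rw [h1, hcard]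
    ring
  -- the involutions with two fixed points in `T` off the class share `T`
  have hTx : ∀ {x : G}, IsFixInv Ω x → x • a = a → x ∈ T → ¬ Commute x v →
      transT D pt a x = T := by
    intro x hx hxa hxT hxv
    have hle : T ≤ transT D pt a x := fun g hg => mem_transT.2
      ⟨(mem_transT.1 hg).1, (mem_transT.1 hg).2.1, hcomm hg hxT⟩
    refine (Subgroup.eq_of_le_of_card_ge hle (le_of_eq ?_)).symm
    rw [S.card_transT_of_mem hx hxa (g₀ := v)
      (hle (S.classAt_le_transT hv hva (S.self_mem_classAt hv hva))) (fun h => hxv h.symm),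
      hcard, S.card_fixCent_eq hv hva hx hxa]
  have hstab : ∀ m : ℕ, j ^ m • a = a := fun m =>
    mem_stabilizer_iff.1 ((stabilizer G a).pow_mem (mem_stabilizer_iff.2 hja) m)
  have hWconj : ∀ {x : G}, x ∈ W → ¬ Commute x v → ∀ {y : G}, y ∈ W → y ∉ E →
      ∃ m : ℕ, ∃ e ∈ E, y = j ^ m * x * (j ^ m)⁻¹ * e := by
    intro x hx hxv y hy hyE
    have hyv : ¬ Commute y v := fun h => hyE (hWK hy (S.mem_classAt_of_transT hv hva (hWT hy) h))
    obtain ⟨m, hm, -⟩ := S.exists_conj_pow_eq hv hva hja hjv htr (hWT hx) hxv (hWT hy) hyv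
    exact ⟨m, _, hWK (mul_mem (inv_mem (hWj m hx)) hy) hm, (mul_inv_cancel_left _ _).symm⟩
  -- no such involution lies in `W`
  have hnoU : ∀ {x : G}, x ∈ W → IsFixInv Ω x → x • a = a → False := by
    intro x hx hxi hxa
    have hxE : x ∉ E := S.not_mem_E hxi hxa
    have hxv : ¬ Commute x v := fun h =>
      hxE (hWK hx (S.mem_classAt_of_transT hv hva (hWT hx) h))
    have hWU : ∀ {y : G}, y ∈ W → y ∉ E → IsFixInv Ω y ∧ y • a = a := fun {y} hy hyE => by
      obtain ⟨m, e, he, rfl⟩ := hWconj hx hxv hy hyE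
      exact S.isFixInv_mul_E (S.isFixInv_conj hxi) (by
        rw [mul_smul, mul_smul, inv_smul_eq_iff.2 (hstab m).symm, hxa, hstab m]) he
    have hWx : ∀ {y : G}, y ∈ W → y ∈ classAt D pt a x := fun {y} hy => by
      by_cases hyE : y ∈ E
      · exact Subgroup.mem_sup_right hyE
      obtain ⟨hyi, hya⟩ := hWU hy hyE
      refine S.mem_classAt_of_commute hxi hxa hyi hya ?_
      have hxy2 : x * y * (x * y) = 1 := by
        by_cases hxyE : x * y ∈ E
        · exact C.fin.sq_E hxyE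
        · exact mul_self (hWU (mul_mem hx hy) hxyE).1.1
      have h1 := (inv_eq_of_mul_eq_one_right hxy2).symm
      rw [mul_inv_rev, inv_eq hxi.1, inv_eq hyi.1] at h1
      exact h1
    set K := classAt D pt a x with hK
    let P := {z : Ω // z ≠ a ∧ ∃ e ∈ E, (x * e) • z = z}
    have hPiff : ∀ {z : Ω}, z ≠ a → ∀ {y : G}, y ∈ K → y ∉ E → y • z = z → ∃ e ∈ E, (x * e) • z = z :=
      fun hza _ hy hyE hyz => S.exists_mul_fix hxi hxa hy hyE hyz hza
    have hjK : ∀ (k : G), k ∈ Subgroup.zpowers j → ∀ {y : G}, y ∈ K → y ∉ E →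
        k * y * k⁻¹ ∈ K ∧ k * y * k⁻¹ ∉ E := by
      intro k hk y hy hyE
      obtain ⟨m, rfl⟩ := (isOfFinOrder_of_finite j).mem_powers_iff_mem_zpowers.2 hk
      simp only
      obtain ⟨hyi, hya⟩ := S.isFixInv_of_mem_classAt hxi hxa hy hyE
      have hx' : j ^ m * x * (j ^ m)⁻¹ ∈ W := hWj m hx
      have hxi' := S.isFixInv_conj (g := j ^ m) hxi
      have hxa' : (j ^ m * x * (j ^ m)⁻¹) • a = a := by
        rw [mul_smul, mul_smul, inv_smul_eq_iff.2 (hstab m).symm, hxa, hstab m]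
      have hyi' := S.isFixInv_conj (g := j ^ m) hyi
      have hya' : (j ^ m * y * (j ^ m)⁻¹) • a = a := by
        rw [mul_smul, mul_smul, inv_smul_eq_iff.2 (hstab m).symm, hya, hstab m]
      refine ⟨?_, S.not_mem_E hyi' hya'⟩
      rw [hK, ← S.classAt_eq hxi hxa (hWx hx') (S.not_mem_E hxi' hxa')]
      refine S.mem_classAt_of_commute hxi' hxa' hyi' hya' ?_
      exact (S.commute_classAt hxi hxa (S.self_mem_classAt hxi hxa) hy).map
        (MulAut.conj (j ^ m)).toMonoidHom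
    have hta : t • a = a := mem_stabilizer_iff.1
      (Subgroup.zpowers_le.2 (mem_stabilizer_iff.2 hja) htj)
    have hmaps : ∀ z : Ω, (z ≠ a ∧ ∃ e ∈ E, (x * e) • z = z) ↔
        (t • z ≠ a ∧ ∃ e ∈ E, (x * e) • (t • z) = t • z) := by
      have key : ∀ k ∈ Subgroup.zpowers j, k • a = a → ∀ z : Ω, (z ≠ a ∧ ∃ e ∈ E, (x * e) • z = z) →
          (k • z ≠ a ∧ ∃ e ∈ E, (x * e) • (k • z) = k • z) := by
        rintro k hk hka z ⟨hza, e, he, hz⟩
        have hne : k • z ≠ a := fun h => hza (smul_left_cancel k (h.trans hka.symm))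
        have hxe : x * e ∈ K := mul_mem (S.self_mem_classAt hxi hxa) (Subgroup.mem_sup_right he)
        have hxeE : x * e ∉ E := fun h => hxE ((Subgroup.mul_mem_cancel_right _ he).1 h)
        obtain ⟨h1, h2⟩ := hjK k hk hxe hxeE
        exact ⟨hne, hPiff hne h1 h2 (by rw [mul_smul (k * (x * e)), inv_smul_smul, mul_smul, hz])⟩
      refine fun z => ⟨key t htj hta z, fun h => ?_⟩
      have := key t⁻¹ (inv_mem htj) (inv_smul_eq_iff.2 hta.symm) _ h
      rwa [inv_smul_smul] at this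
    let τ : Equiv.Perm P := (MulAction.toPerm t).subtypePerm fun z => (hmaps z).symm
    have hτ : τ ^ p ^ 1 = 1 := by
      have h1 : ∀ (n : ℕ) (z : P), ((τ ^ n) z).1 = t ^ n • z.1 := by
        intro n
        induction n with
        | zero => intro z; simp
        | succ n ih =>
          intro z
          rw [pow_succ', pow_succ', Equiv.Perm.mul_apply, mul_smul, ← ih]
          rfl
      refine Equiv.ext fun z => Subtype.ext ?_
      rw [h1, pow_one, htp, one_smul]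
      rfl
    have hPcard : Nat.card P = Nat.card E * Nat.card E := by
      haveI := Fintype.ofFinite E
      have h1 : Nat.card (Σ e : E, {z : Ω // (x * e) • z = z ∧ z ≠ a}) = Nat.card E * Nat.card E := by
        rw [Nat.card_sigma, Finset.sum_congr rfl fun (e : E) _ => (show
          Nat.card {z : Ω // (x * e) • z = z ∧ z ≠ a} = Nat.card E by
            obtain ⟨h1, h2⟩ := S.isFixInv_mul_E hxi hxa e.2
            rw [ChordHyp.card_fix_ne C h2, S.card_fix a _ h1, Nat.add_sub_cancel]),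
          Finset.sum_const, smul_eq_mul, Finset.card_univ, Nat.card_eq_fintype_card]
      rw [← h1]
      refine (Nat.card_congr (Equiv.ofBijective
        (fun y => (⟨y.2.1, y.2.2.2, y.1, y.1.2, y.2.2.1⟩ : P)) ⟨?_, ?_⟩)).symm
      · rintro ⟨⟨e, he⟩, z, hz, hza⟩ ⟨⟨e', he'⟩, z', hz', hza'⟩ h
        obtain rfl : z = z' := congrArg (fun w : P => w.1) h
        obtain rfl := S.mul_fix_unique hxi hxa he he' hza hz hz'
        rfl
      · rintro ⟨z, hza, e, he, hz⟩
        exact ⟨⟨⟨e, he⟩, z, hz, hza⟩, rfl⟩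
    haveI := Fintype.ofFinite P
    haveI : Fact p.Prime := ⟨hp⟩
    obtain ⟨z, hz⟩ := Equiv.Perm.exists_fixed_point_of_prime (p := p) (σ := τ) (by
      rw [← Nat.card_eq_fintype_card, hPcard]
      obtain ⟨r, -, hr⟩ := C.fin.exists_card_E a
      rw [show Nat.card E = 2 ^ r from hr, ← pow_add]
      exact fun h => hp2 ((Nat.prime_dvd_prime_iff_eq hp Nat.prime_two).1 (hp.dvd_of_dvd_pow h))) hτ
    obtain ⟨hza, e, he, hxez⟩ := z.2
    have hzc : z.1 = c := (htfix z.1 (congrArg Subtype.val hz)).resolve_left hza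
    rw [hzc] at hxez
    obtain ⟨hyi, hya⟩ := S.isFixInv_mul_E hxi hxa he
    set y := x * e with hy
    have hyT : y ∈ T := mul_mem (hWT hx) (hET he)
    obtain ⟨-, hyE', hyv'⟩ := mem_transT.1 hyT
    have hyv : Commute y v := by
      by_contra hne
      refine hca (C.fin.semiregular hyv' (fun e1 => hne ?_) ?_)
      · rw [mul_inv_eq_one, mul_inv_eq_iff_eq_mul] at e1
        exact e1
      · rw [mul_smul (y * v * y⁻¹), inv_smul_eq_iff.2 hc.symm, mul_smul (y * v),
          inv_smul_eq_iff.2 hxez.symm, mul_smul, hc, hxez]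
    have hyK := S.mem_classAt_of_transT hv hva hyT hyv
    exact hxE (hWK hx ((Subgroup.mul_mem_cancel_right _ (Subgroup.mem_sup_right he)).1 hyK))
  -- every involution of `A` inverts `W`
  have hinv : ∀ {α : G}, α ∈ fixCent D pt a v → α ≠ 1 → ∀ {y : G}, y ∈ W → α * y * α⁻¹ = y⁻¹ := by
    intro α hα hα1 y hy
    by_cases hyE : y ∈ E
    · rw [((mem_fixCent.1 hα).2.2 y hyE).eq, mul_inv_cancel_right]
      exact (inv_eq_of_mul_eq_one_right (C.fin.sq_E hyE)).symm
    have hTw := hTx hw₀ hw₀a hw₀T hw₀v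
    have hA₀T : ∀ {β : G}, β ∈ fixCent D pt a w₀ → β ∈ T := fun hβ =>
      hTw ▸ S.classAt_le_transT hw₀ hw₀a (Subgroup.mem_sup_left hβ)
    let ψ : fixCent D pt a w₀ → fixCent D pt a v := fun β =>
      ⟨(hdec (hA₀T β.2)).choose_spec.2.choose, (hdec (hA₀T β.2)).choose_spec.2.choose_spec.1⟩
    have hψ : ∀ β : fixCent D pt a w₀, ∃ x ∈ W, (β : G) = x * (ψ β : G) := fun β =>
      ⟨_, (hdec (hA₀T β.2)).choose_spec.1, (hdec (hA₀T β.2)).choose_spec.2.choose_spec.2⟩
    have hψi : Function.Injective ψ := fun β γ h => by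
      obtain ⟨x, hx, hβ⟩ := hψ β
      obtain ⟨x', hx', hγ⟩ := hψ γ
      rw [h] at hβ
      have h1 : (β : G) * (γ : G)⁻¹ = x * x'⁻¹ := by rw [hβ, hγ]; group
      have h2 : (β : G) * (γ : G)⁻¹ ∈ fixCent D pt a w₀ := mul_mem β.2 (inv_mem γ.2)
      refine Subtype.ext (mul_inv_eq_one.1 ?_)
      by_contra hne
      obtain ⟨hi, hia, -⟩ := S.fixCent_eq hw₀ hw₀a h2 hne
      exact hnoU (h1 ▸ mul_mem hx (inv_mem hx')) hi hia
    obtain ⟨β, hβ⟩ := ((Nat.bijective_iff_injective_and_card ψ).2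
      ⟨hψi, S.card_fixCent_eq hw₀ hw₀a hv hva⟩).2 ⟨α, hα⟩
    obtain ⟨x, hx, hβx⟩ := hψ β
    rw [hβ] at hβx
    change (β : G) = x * α at hβx
    have hβ1 : (β : G) ≠ 1 := fun e => hα1 (hWA (mul_inv_eq_one.1
      (show x * (α⁻¹)⁻¹ = 1 by rw [inv_inv, ← hβx, e]) ▸ hx) (inv_mem hα) |> inv_eq_one.1)
    obtain ⟨hβi, hβa, -⟩ := S.fixCent_eq hw₀ hw₀a β.2 hβ1
    have hxE : x ∉ E := by
      intro hxE
      have hβK : (β : G) ∈ classAt D pt a v :=
        hβx ▸ mul_mem (Subgroup.mem_sup_right hxE) (Subgroup.mem_sup_left hα)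
      have h5 : w₀ ∈ classAt D pt a (β : G) := S.mem_classAt_of_commute hβi hβa hw₀ hw₀a
        (mem_fixCent.1 β.2).1
      rw [S.classAt_eq hv hva hβK (S.not_mem_E hβi hβa)] at h5
      exact hw₀v (S.commute_classAt hv hva h5 (S.self_mem_classAt hv hva))
    have hxv : ¬ Commute x v := fun h => hxE (hWK hx (S.mem_classAt_of_transT hv hva (hWT hx) h))
    obtain ⟨m, e, he, hye⟩ := hWconj hx hxv hy hyE
    have hjα : (j ^ m) * α * (j ^ m)⁻¹ = α := by
      rw [((hjA α hα).pow_left m).eq, mul_inv_cancel_right]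
    have heα : Commute α e := (mem_fixCent.1 hα).2.2 e he
    have h3 : y * α = (j ^ m * (β : G) * (j ^ m)⁻¹) * e := by
      calc y * α = j ^ m * x * (j ^ m)⁻¹ * (α * e) := by rw [hye, mul_assoc, heα.eq]
        _ = j ^ m * x * (j ^ m)⁻¹ * (j ^ m * α * (j ^ m)⁻¹) * e := by rw [hjα]; group
        _ = _ := by rw [hβx]; group
    have h4 := mul_self ((S.isFixInv_mul_E (S.isFixInv_conj (g := j ^ m) hβi) (by
      rw [mul_smul, mul_smul, inv_smul_eq_iff.2 (hstab m).symm, hβa, hstab m]) he).1.1)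
    rw [← h3] at h4
    have hαinv : α⁻¹ = α := inv_eq_of_mul_eq_one_right (S.sq_fixCent hv hva hα)
    rw [hαinv]
    refine eq_inv_of_mul_eq_one_right ?_
    rw [← h4]
    group
  have hvinv : ∀ {y : G}, y ∈ W → v * y * v⁻¹ = y⁻¹ := fun hy =>
    hinv (S.self_mem_fixCent hv hva) (ne_one hv.1) hy
  have hAv : ∀ α ∈ fixCent D pt a v, α = 1 ∨ α = v := by
    intro α hα
    by_contra! hne
    obtain ⟨x, hx, hxK⟩ := hcov hw₀T
    have hxE : x ∉ E := fun hxE => hw₀v (S.commute_classAt hv hva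
      ((Subgroup.mul_mem_cancel_left _ (inv_mem (Subgroup.mem_sup_right hxE))).1 hxK)
      (S.self_mem_classAt hv hva))
    have hαv : α * v ≠ 1 := fun e => hne.2 (by rw [mul_eq_one_iff_eq_inv.1 e, inv_eq hv.1])
    have h1 := hinv (mul_mem hα (S.self_mem_fixCent hv hva)) hαv hx
    have h2 : α * v * x * (α * v)⁻¹ = x := by
      rw [show α * v * x * (α * v)⁻¹ = α * (v * x * v⁻¹) * α⁻¹ by group, hvinv hx, ← conj_inv,
        hinv hα hne.1 hx, inv_inv]
    rw [h2] at h1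
    have h3 : Commute x v := by
      have h4 := hvinv hx
      rw [← h1, mul_inv_eq_iff_eq_mul] at h4
      exact h4.symm
    exact hxE (hWK hx (S.mem_classAt_of_transT hv hva (hWT hx) h3))
  have hcases : ∀ g ∈ T, g ∈ W ∨ v * g ∈ W := fun g hg => by
    obtain ⟨x, hx, α, hα, hgx⟩ := hdec hg
    rcases hAv α hα with rfl | rfl
    · exact Or.inl (by rw [hgx, mul_one]; exact hx)
    · refine Or.inr ?_
      rw [hgx, ← mul_assoc]
      have := hvinv hx
      rw [inv_eq hv.1] at this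
      rw [this]
      exact inv_mem hx
  have hsq1 : ∀ x ∈ W, x * x = 1 → x ∈ E := fun x hx hx2 => by
    refine hWK hx (S.mem_classAt_of_transT hv hva (hWT hx) ?_)
    have h1 := hvinv hx
    rw [inv_eq_of_mul_eq_one_right hx2, mul_inv_eq_iff_eq_mul] at h1
    exact h1.symm
  have hWcomm : ∀ x ∈ W, ∀ y ∈ W, Commute x y := fun x hx y hy => by
    have h1 : v * (x * y) * v⁻¹ = (v * x * v⁻¹) * (v * y * v⁻¹) := by group
    rw [hvinv (mul_mem hx hy), hvinv hx, hvinv hy, ← mul_inv_rev] at h1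
    exact inv_inj.1 h1
  have hsqE : ∀ x ∈ W, x * x ∈ E := fun x hx => S.sq_transT hv hva hw₀ hw₀T hw₀v (hWT hx)
  refine ⟨W, ⟨hAv, hWT, hEW, fun x hx => hvinv hx, hWcomm, hsqE, fun e he => ?_, hsq1, hWcard,
    hcases, fun h => ne_one hv.1 (hWA h (S.self_mem_fixCent hv hva)), fun x hx => ?_, ?_⟩⟩
  · let σ : W →* E :=
      { toFun := fun x => ⟨(x : G) * x, hsqE x x.2⟩
        map_one' := Subtype.ext (one_mul (1 : G))
        map_mul' := fun x y => Subtype.ext (by
          show (x : G) * y * (x * y) = x * x * (y * y)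
          rw [mul_assoc, ← mul_assoc (y : G), (hWcomm y y.2 x x.2).eq]
          group) }
    have hker : σ.ker = E.subgroupOf W := Subgroup.ext fun x =>
      ⟨fun h => hsq1 x x.2 (congrArg Subtype.val h), fun h => Subtype.ext (C.fin.sq_E h)⟩
    have h1 := σ.ker.index_mul_card
    rw [Subgroup.index_ker, hker, Nat.card_congr (Subgroup.subgroupOfEquivOfLe hEW).toEquiv, hWcard,
      pow_two] at h1
    obtain ⟨x, hx⟩ := (Subgroup.eq_top_of_card_eq _
      (Nat.eq_of_mul_eq_mul_right Nat.card_pos h1)).ge (Subgroup.mem_top (⟨e, he⟩ : E))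
    exact ⟨x, x.2, congrArg Subtype.val hx⟩
  · rcases hcases w₀ hw₀T with hw | hw
    · exact absurd (hnoU hw hw₀ hw₀a) id
    have hxv' : ¬ Commute (v * w₀) v := fun h => hw₀v (by
      simpa [← mul_assoc, mul_self hv.1] using (Commute.refl v).mul_left h)
    by_cases hxE : x ∈ E
    · exact (S.isFixInv_mul_E hv hva hxE).1
    obtain ⟨m, e, he, hxe⟩ := hWconj hw hxv' hx hxE
    have h2 : v * x = j ^ m * w₀ * (j ^ m)⁻¹ * e := by
      calc v * x = v * (j ^ m * (v * w₀) * (j ^ m)⁻¹ * e) := by rw [← hxe]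
        _ = v * (j ^ m * v) * w₀ * (j ^ m)⁻¹ * e := by group
        _ = _ := by rw [(hjv.pow_left m).eq, ← mul_assoc v v, mul_self hv.1, one_mul]
    rw [h2]
    exact (S.isFixInv_mul_E (S.isFixInv_conj hw₀) (by
      rw [mul_smul, mul_smul, inv_smul_eq_iff.2 (hstab m).symm, hw₀a, hstab m]) he).1
  · have h2 : Nat.card (fixCent D pt a v) = 2 := by
      refine (Nat.card_congr (Equiv.subtypeEquivRight fun g => ⟨hAv g, ?_⟩)).trans
        ((Nat.card_coe_set_eq _).trans (Set.ncard_pair (ne_one hv.1).symm))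
      rintro (rfl | rfl)
      · exact one_mem _
      · exact S.self_mem_fixCent hv hva
    rw [hcard, h2]

end BlockHyp

end Cfsg.Agent.Aschbacher
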