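/-
A point stabiliser has no `2`-quotient (transfer step (T) of the finish, after helper90;
owner: helper1).

A `2`-subgroup fixing two points centralises one of the `ι` members exchanging them, `ι` odd, so
its centraliser is transitive on its fixed points; hence the transfer of `χ : G_a →* A` at a
`2`-element `x` is `χ x ^ n` with `n` odd, and it is `1`.

Main results (namespace `Cfsg.Agent.Aschbacher.FinishHyp`):
* `exists_swapper_centralizing`, `exists_centralizer_smul`
* `hom_stabilizer_eq_one` : a homomorphism of `G_a` into an abelian group kills its `2`-elements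
* `map_two_element_eq_one` : in an image of `G_a` that is odd-by-abelian (as in `ΓL(1,q)` over its
  cyclic group of order `q - 1`) the `2`-elements are trivial
* `not_index_two_stabilizer` : `G_a` has no normal subgroup of index two
-/
import Cfsg.Agent.Lib.Aschbacher.CriterionCtx

set_option autoImplicit false
set_option linter.style.haveILetI false
set_option linter.unusedSectionVars false

namespace Cfsg.Agent.Aschbacher.FinishHyp

open Cfsg Involution MulAction

universe u

variable {G : Type u} {Ω : Type u} [Group G] [MulAction G Ω] [Finite G] [Finite Ω]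
  [FaithfulSMul G Ω] {D : Set G} {pt : G → Ω} (h : FinishHyp G Ω D pt)
include h

/-- A `2`-subgroup fixing two points centralises a member exchanging them. -/
theorem exists_swapper_centralizing {Y : Subgroup G} (hY : IsPGroup 2 Y) {p q : Ω} (hpq : p ≠ q)
    (hp : Y ≤ stabilizer G p) (hq : Y ≤ stabilizer G q) :
    ∃ w ∈ D, w • p = q ∧ ∀ y ∈ Y, Commute y w := by
  classical
  haveI : Fact (Nat.Prime 2) := ⟨Nat.prime_two⟩
  let S := {w : G // w ∈ D ∧ w • p = q}
  have hmem : ∀ (y : Y) (w : S), (y : G) * w.1 * (y : G)⁻¹ ∈ D ∧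
      ((y : G) * w.1 * (y : G)⁻¹) • p = q := fun y w => by
    refine ⟨h.pc.conj_mem _ _ w.2.1, ?_⟩
    rw [mul_smul, mul_smul, mem_stabilizer_iff.1 (inv_mem (hp y.2)), w.2.2,
      mem_stabilizer_iff.1 (hq y.2)]
  letI : MulAction Y S :=
    { smul := fun y w => ⟨_, hmem y w⟩
      one_smul := fun w => Subtype.ext (by show (1 : G) * w.1 * (1 : G)⁻¹ = w.1; simp)
      mul_smul := fun y z w => Subtype.ext (by
        show ((y * z : Y) : G) * w.1 * ((y * z : Y) : G)⁻¹ =
          (y : G) * ((z : G) * w.1 * (z : G)⁻¹) * (y : G)⁻¹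
        simp [mul_assoc]) }
  have hodd : Odd (Nat.card S) := by
    rw [show Nat.card S = _ from h.pc.card_swap hpq]
    exact h.pc.odd_card q
  obtain ⟨w, hw⟩ := hY.nonempty_fixed_point_of_prime_not_dvd_card S
    (fun hd => Nat.not_even_iff_odd.2 hodd (even_iff_two_dvd.2 hd))
  exact ⟨w.1, w.2.1, w.2.2, fun y hy =>
    mul_inv_eq_iff_eq_mul.1 (congrArg Subtype.val (hw ⟨y, hy⟩))⟩

/-- The centraliser of a `2`-subgroup is transitive on its fixed points. -/
theorem exists_centralizer_smul {Y : Subgroup G} (hY : IsPGroup 2 Y) {p q : Ω}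
    (hp : Y ≤ stabilizer G p) (hq : Y ≤ stabilizer G q) :
    ∃ c : G, (∀ y ∈ Y, Commute y c) ∧ c • p = q := by
  by_cases e : p = q
  · exact ⟨1, fun y _ => Commute.one_right y, by rw [one_smul, e]⟩
  · obtain ⟨w, -, hw, hc⟩ := h.exists_swapper_centralizing hY e hp hq
    exact ⟨w, hc, hw⟩

/-- A homomorphism of a point stabiliser into an abelian group kills its elements of `2`-power
order. -/
theorem hom_stabilizer_eq_one {a : Ω} {A : Type*} [CommGroup A] (χ : stabilizer G a →* A)
    (x : stabilizer G a) {m : ℕ} (hx : (x : G) ^ 2 ^ m = 1) : χ x = 1 := by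
  classical
  haveI : Fact (Nat.Prime 2) := ⟨Nat.prime_two⟩
  haveI := Fintype.ofFinite (Quotient (orbitRel (Subgroup.zpowers (x : G)) (G ⧸ stabilizer G a)))
  letI := (stabilizer G a).fintypeQuotientOfFiniteIndex
  have hY : IsPGroup 2 (Subgroup.zpowers (x : G)) := fun y => ⟨m, by
    obtain ⟨i, hi⟩ := Subgroup.mem_zpowers_iff.1 y.2
    refine Subtype.ext ?_
    rw [Subgroup.coe_pow, ← hi, Subgroup.coe_one, ← zpow_natCast, ← zpow_mul, mul_comm, zpow_mul,
      zpow_natCast, hx, one_zpow]⟩
  have key : ∀ (k : ℕ) (g : G) (hg : g⁻¹ * (x : G) ^ k * g ∈ stabilizer G a),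
      χ ⟨_, hg⟩ = χ x ^ k := by
    intro k g hg
    have hxk : (x : G) ^ k ∈ stabilizer G a := (stabilizer G a).pow_mem x.2 k
    have hga : (x : G) ^ k ∈ stabilizer G (g • a) := by
      have h1 := mem_stabilizer_iff.1 hg
      rw [mul_smul, mul_smul, inv_smul_eq_iff] at h1
      exact mem_stabilizer_iff.2 h1
    obtain ⟨c, hc, hca⟩ := h.exists_centralizer_smul (Y := Subgroup.zpowers ((x : G) ^ k))
      (hY.to_le (Subgroup.zpowers_le.2 (Subgroup.pow_mem _ (Subgroup.mem_zpowers _) k)))
      (Subgroup.zpowers_le.2 hxk) (Subgroup.zpowers_le.2 hga)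
    have h0 : c⁻¹ * g ∈ stabilizer G a := by
      rw [mem_stabilizer_iff, mul_smul, inv_smul_eq_iff, hca]
    have e : (⟨_, hg⟩ : stabilizer G a) = (⟨_, h0⟩ : stabilizer G a)⁻¹ * x ^ k * ⟨_, h0⟩ := by
      refine Subtype.ext ?_
      show g⁻¹ * (x : G) ^ k * g = (c⁻¹ * g)⁻¹ * (x : G) ^ k * (c⁻¹ * g)
      calc g⁻¹ * (x : G) ^ k * g = g⁻¹ * ((x : G) ^ k * (c * c⁻¹)) * g := by
            rw [mul_inv_cancel, mul_one]
        _ = g⁻¹ * (c * (x : G) ^ k * c⁻¹) * g := by
            rw [← mul_assoc ((x : G) ^ k), (hc _ (Subgroup.mem_zpowers _)).eq]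
        _ = _ := by group
    rw [e, map_mul, map_mul, map_inv, map_pow, mul_comm, mul_inv_cancel_left]
  have hV : MonoidHom.transfer χ (x : G) = χ x ^ (stabilizer G a).index := by
    rw [MonoidHom.transfer_eq_prod_quotient_orbitRel_zpowers_quot,
      Subgroup.index_eq_sum_minimalPeriod (stabilizer G a) (x : G), ← Finset.prod_pow_eq_pow_sum]
    exact Finset.prod_congr rfl fun q _ => key _ _ _
  rw [h.hom_eq_one] at hV
  have hn : Odd (stabilizer G a).index := by
    haveI : MulAction.IsPretransitive G Ω := ⟨h.pc.exists_smul_eq⟩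
    obtain ⟨d, hd, -⟩ := h.pc.exists_at a
    rw [MulAction.index_stabilizer_of_transitive]
    exact h.pc.odd_card_points hd
  refine orderOf_eq_one_iff.1 (Nat.eq_one_of_dvd_coprimes
    ((Nat.coprime_two_left.2 hn).pow_left m) ?_ (orderOf_dvd_of_pow_eq_one hV.symm))
  refine orderOf_dvd_of_pow_eq_one ?_
  rw [← map_pow, ← map_one χ]
  exact congrArg χ (Subtype.ext hx)

/-- A point stabiliser has no normal subgroup of index two. -/
theorem not_index_two_stabilizer {a : Ω} (N : Subgroup (stabilizer G a)) [N.Normal] :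
    N.index ≠ 2 := by
  intro hN
  haveI : Fact (Nat.Prime 2) := ⟨Nat.prime_two⟩
  haveI : IsCyclic (stabilizer G a ⧸ N) :=
    isCyclic_of_prime_card (p := 2) (by rw [← Subgroup.index_eq_card, hN])
  letI : CommGroup (stabilizer G a ⧸ N) := IsCyclic.commGroup
  obtain ⟨S⟩ : Nonempty (Sylow 2 (stabilizer G a)) := inferInstance
  have hle : (S : Subgroup (stabilizer G a)) ≤ N := by
    intro y hy
    obtain ⟨m, hm⟩ := S.isPGroup' ⟨y, hy⟩
    exact (QuotientGroup.eq_one_iff y).1 (h.hom_stabilizer_eq_one (QuotientGroup.mk' N) y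
      (m := m) (by simpa using congrArg (fun z => ((z.1 : stabilizer G a) : G)) hm))
  exact S.not_dvd_index (hN ▸ Subgroup.index_dvd_of_le hle :)

/-- Where the image of `G_a` is odd-by-abelian, its elements of `2`-power order act trivially. -/
theorem map_two_element_eq_one {a : Ω} {Q : Type*} [Group Q] [Finite Q] (φ : stabilizer G a →* Q)
    (K : Subgroup Q) [K.Normal] (hK : Odd (Nat.card K))
    (hcomm : ∀ y z : stabilizer G a, φ y * φ z * (φ y)⁻¹ * (φ z)⁻¹ ∈ K)
    (x : stabilizer G a) {m : ℕ} (hx : (x : G) ^ 2 ^ m = 1) : φ x = 1 := by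
  set ψ := (QuotientGroup.mk' K).comp φ
  letI : CommGroup ψ.range :=
    { ψ.range.toGroup with
      mul_comm := by
        rintro ⟨_, y, rfl⟩ ⟨_, z, rfl⟩
        refine Subtype.ext ?_
        show ψ y * ψ z = ψ z * ψ y
        have h1 : ψ y * ψ z * (ψ y)⁻¹ * (ψ z)⁻¹ = 1 :=
          (QuotientGroup.eq_one_iff _).2 (hcomm y z)
        calc ψ y * ψ z = (ψ y * ψ z * (ψ y)⁻¹ * (ψ z)⁻¹) * (ψ z * ψ y) := by group
          _ = ψ z * ψ y := by rw [h1, one_mul] }
  have hker : φ x ∈ K :=
    (QuotientGroup.eq_one_iff (φ x)).1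
      (congrArg Subtype.val (h.hom_stabilizer_eq_one ψ.rangeRestrict x hx))
  refine orderOf_eq_one_iff.1 (Nat.eq_one_of_dvd_coprimes
    ((Nat.coprime_two_left.2 (hK.of_dvd_nat (Subgroup.orderOf_dvd_natCard K hker))).pow_left m)
    (orderOf_dvd_of_pow_eq_one ?_) dvd_rfl)
  rw [← map_pow, ← map_one φ]
  exact congrArg φ (Subtype.ext hx)

end Cfsg.Agent.Aschbacher.FinishHyp
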