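/-
Case `|Fix v| = q + 1` of the finish of the criterion: the orbit of `b` under `C_0 = C_H(E)` has
`q ^ 2` or `q ^ 3` points, and not `q ^ 3` (CRITERION_FINISH.md B3, B4; owner: helper87).

B4: a Sylow `2`-subgroup of `C_0` is one of `G`.  With `T = ⟨v⟩ W`, the map `g ↦ [v, g] ^ 2` is a
homomorphism of `N = N_{C_0}(T)` onto `E` with kernel `T`, so `N` is one of them.  Squares of `N`
are in `W` and its involutions outside `T` invert `W`, so a subgroup of index two of `N` over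
`C_N(W)` without `v` has no involution but members: against Thompson transfer.

* `BlockHyp.card_orbit_cenAt_cases` : B3
* `BlockHyp.false_of_big` : B4
* `BlockHyp.card_orbit_cenAt_sq` : so the orbit has `q ^ 2` points
-/
import Cfsg.Agent.Lib.Aschbacher.CriterionL2Class
import Cfsg.Agent.Lib.Aschbacher.CriterionFixPair
import Cfsg.Agent.Lib.Aschbacher.CriterionNoTwo

set_option autoImplicit false
set_option linter.style.haveILetI false
set_option linter.unusedSectionVars false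

namespace Cfsg.Agent.Aschbacher.L2Cube

open Cfsg Involution MulAction

universe u

/-- A group of exponent two over `A` has a subgroup of index two over `A` avoiding an element. -/
theorem exists_index_two_avoiding {G : Type*} [Group G] [Finite G] {N A : Subgroup G} (hA : A ≤ N)
    (hsq : ∀ g ∈ N, g * g ∈ A) {v : G} (hv : v ∈ N) (hvA : v ∉ A) :
    ∃ M : Subgroup G, A ≤ M ∧ M ≤ N ∧ v ∉ M ∧ M.relIndex N = 2 := by
  obtain ⟨M, ⟨hAM, hMN, hvM⟩, hmax⟩ := Set.Finite.exists_maximalFor id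
    {M : Subgroup G | A ≤ M ∧ M ≤ N ∧ v ∉ M} (Set.toFinite _) ⟨A, le_rfl, hA, hvA⟩
  have hnorm : ∀ g ∈ N, ∀ m ∈ M, g * m * g⁻¹ ∈ M := by
    intro g hg m hm
    rw [show g * m * g⁻¹ = (g * m) * (g * m) * m⁻¹ * (g * g)⁻¹ by group]
    exact mul_mem (mul_mem (hAM (hsq _ (mul_mem hg (hMN hm)))) (inv_mem hm))
      (inv_mem (hAM (hsq g hg)))
  refine ⟨M, hAM, hMN, hvM, Subgroup.index_eq_two_iff.2 ⟨⟨v, hv⟩, fun ⟨b, hb⟩ => ?_⟩⟩
  simp only [Subgroup.mem_subgroupOf, Subgroup.coe_mul]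
  by_cases hbM : b ∈ M
  · refine Or.inr ⟨hbM, fun h => hvM ?_⟩
    have := mul_mem (inv_mem hbM) h
    rwa [inv_mul_cancel_left] at this
  · refine Or.inl ⟨?_, hbM⟩
    by_contra hbv
    have hxx : b * b ∈ M := hAM (hsq b hb)
    let M' : Subgroup G :=
      { carrier := {g | g ∈ M ∨ g * b ∈ M}
        one_mem' := Or.inl (one_mem M)
        mul_mem' := by
          rintro g k (hg | hg) (hk | hk)
          · exact Or.inl (mul_mem hg hk)
          · exact Or.inr (by rw [mul_assoc]; exact mul_mem hg hk)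
          · refine Or.inr ?_
            rw [show g * k * b = g * b * (b⁻¹ * k * (b⁻¹)⁻¹) by group]
            exact mul_mem hg (hnorm _ (inv_mem hb) k hk)
          · refine Or.inl ?_
            rw [show g * k = g * b * (b⁻¹ * (k * b) * (b⁻¹)⁻¹) * (b * b)⁻¹ by group]
            exact mul_mem (mul_mem hg (hnorm _ (inv_mem hb) _ hk)) (inv_mem hxx)
        inv_mem' := by
          rintro g (hg | hg)
          · exact Or.inl (inv_mem hg)
          · refine Or.inr ?_
            rw [show g⁻¹ * b = b * (g * b)⁻¹ * b⁻¹ * (b * b) by group]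
            exact mul_mem (hnorm b hb _ (inv_mem hg)) hxx }
    have hvM' : v ∈ M' := by
      by_contra hv'
      have hle : M' ≤ M := hmax (j := M') ⟨hAM.trans fun g hg => Or.inl hg, fun g hg => ?_, hv'⟩
        (fun g hg => Or.inl hg)
      · exact hbM (hle (Or.inr hxx))
      · rcases hg with hg | hg
        · exact hMN hg
        · simpa using mul_mem (hMN hg) (inv_mem hb)
    rcases hvM' with h | h
    · exact hvM h
    · apply hbv
      have hvv : v * v ∈ M := hAM (hsq v hv)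
      rw [show b * v = v⁻¹ * (v * b) * (v⁻¹)⁻¹ by group]
      exact hnorm _ (inv_mem hv) _ h

variable {G : Type u} {Ω : Type u} [Group G] [MulAction G Ω] [Finite G] [Finite Ω]
  [FaithfulSMul G Ω] {D : Set G} {pt : G → Ω}

theorem le_cenAt {a : Ω} {v : G} {W : Subgroup G} (hW : LineW D pt a v W) {x : G} (hx : x ∈ W) :
    x ∈ cenAt D pt a := by
  obtain ⟨h1, h2, -⟩ := hW.le hx
  exact ⟨h1, h2⟩

theorem class_eq (L : BlockHyp G Ω D pt) {a : Ω} {v : G} (hv : IsFixInv Ω v) (hva : v • a = a)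
    {W : Subgroup G} (hW : LineW D pt a v W) {g : G} (hg : g ∈ cenAt D pt a)
    (he : ∃ e ∈ atPoint D pt a, g * v * g⁻¹ = v * e) : g ∈ W ∨ v * g ∈ W := by
  obtain ⟨e, he, hge⟩ := he
  refine hW.cases g ⟨hg.1, hg.2, ?_⟩
  rw [hge, ← (L.commute_E hv hva he).eq, mul_inv_cancel_right]
  exact he

theorem conj_cenAt (h : FinishHyp G Ω D pt) {a : Ω} {k g : G} (hk : k • a = a)
    (hg : g ∈ cenAt D pt a) : k * g * k⁻¹ ∈ cenAt D pt a := by
  obtain ⟨hga, hgE⟩ := mem_cenAt.1 hg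
  refine mem_cenAt.2 ⟨by rw [mul_smul, mul_smul, inv_smul_eq_iff.2 hk.symm, hga, hk],
    fun e he => ?_⟩
  have he' : k⁻¹ * e * k ∈ atPoint D pt a := by
    have := (Subgroup.mem_normalizer_iff.1
      (h.stabilizer_le_normalizer a (inv_mem (show k ∈ stabilizer G a from hk))) e).1 he
    rwa [inv_inv] at this
  have h1 := (hgE _ he').map (MulAut.conj k).toMonoidHom
  simpa [mul_assoc] using h1

section

variable (L : BlockHyp G Ω D pt) {a b : Ω} (hab : a ≠ b) {v : G} (hv : IsFixInv Ω v)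
  (hva : v • a = a) (hvb : v • b = b) {W : Subgroup G} (hW : LineW D pt a v W)
include L hab hv hva hvb hW

theorem cent_pair : ∀ k ∈ centPair D pt a b, Commute k v → k = 1 ∨ k = v :=
  fun k hk hkv => hW.fixCent_eq k (L.mem_fixCent_of_centPair hv hva hab hvb hk hkv)

theorem v_not_mem : v ∉ W := fun h => by
  rcases L.chd.fin.mem_E.1 (hW.sq_eq_one v h (mul_self hv.1)) with e | ⟨e, -⟩
  · exact ne_one hv.1 e
  · exact L.chd.fin.not_mem_of_fixInv hv e

theorem v_mem_centPair : v ∈ centPair D pt a b :=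
  L.chd.fixInv_mem_centPair hab hv.1 hva hvb

theorem v_mem_cenAt : v ∈ cenAt D pt a := by
  refine mem_cenAt.2 ⟨hva, fun e he => ?_⟩
  rcases L.chd.fin.mem_E.1 he with rfl | ⟨heD, hea⟩
  · exact Commute.one_right v
  · exact L.chd.cent v hv e heD (by rw [hea]; exact hva)

/-- `R(a,b)` has twice odd order. -/
theorem exists_card_centPair : ∃ o, Odd o ∧ Nat.card (centPair D pt a b) = 2 * o := by
  haveI : Fact (Nat.Prime 2) := ⟨Nat.prime_two⟩
  set R := centPair D pt a b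
  have hvR := v_mem_centPair L hab hv hva hvb hW
  set x : R := ⟨v, hvR⟩
  have hx : orderOf x = 2 := (Subgroup.orderOf_mk _ _).trans hv.1
  have h2 : 2 ∣ Nat.card R := hx ▸ orderOf_dvd_natCard x
  obtain ⟨o, ho⟩ := h2
  refine ⟨o, ?_, ho⟩
  by_contra hodd
  have h4 : 2 ^ (1 + 1) ∣ Nat.card R := by
    obtain ⟨k, rfl⟩ := Nat.not_odd_iff_even.1 hodd
    exact ⟨k, by rw [ho]; ring⟩
  obtain ⟨K, hK, hle⟩ := Sylow.exists_subgroup_card_pow_succ h4
    (H := Subgroup.zpowers x) (by rw [Nat.card_zpowers, hx, pow_one])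
  have hcomm : ∀ k ∈ K, k = 1 ∨ k = x := by
    intro k hk
    haveI : ((Subgroup.zpowers x).subgroupOf K).Normal := Subgroup.normal_of_index_eq_two (by
      have h1 := Subgroup.card_mul_index ((Subgroup.zpowers x).subgroupOf K)
      rw [Nat.card_congr (Subgroup.subgroupOfEquivOfLe hle).toEquiv, Nat.card_zpowers, hx, hK] at h1
      omega)
    have h1 := (Subgroup.normal_subgroupOf_iff hle).1 inferInstance x k (Subgroup.mem_zpowers x) hk
    obtain ⟨i, hi⟩ := Subgroup.mem_zpowers_iff.1 h1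
    have hc : Commute (k : G) v := by
      rcases Int.even_or_odd i with ⟨l, rfl⟩ | ⟨l, rfl⟩
      · exfalso
        have hxx : x ^ (2 : ℤ) = 1 := by rw [zpow_two]; exact mul_self hx
        rw [← two_mul, zpow_mul, hxx, one_zpow, eq_comm, conj_eq_one_iff] at hi
        exact ne_one hx hi
      · have hxx : x ^ (2 : ℤ) = 1 := by rw [zpow_two]; exact mul_self hx
        rw [zpow_add_one, zpow_mul, hxx, one_zpow, one_mul] at hi
        exact mul_inv_eq_iff_eq_mul.1 (congrArg Subtype.val hi).symm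
    rcases cent_pair L hab hv hva hvb hW _ k.2 hc with e | e
    · exact Or.inl (Subtype.ext e)
    · exact Or.inr (Subtype.ext e)
  have hle2 : Nat.card K ≤ 2 := by
    rw [← hx, ← Nat.card_zpowers]
    refine Subgroup.card_le_of_le fun k hk => ?_
    rcases hcomm k hk with rfl | rfl
    · exact one_mem _
    · exact Subgroup.mem_zpowers _
  omega

/-- `T = ⟨v⟩ W`. -/
theorem exists_tSub : ∃ T : Subgroup G, (∀ g, g ∈ T ↔ g ∈ W ∨ v * g ∈ W) ∧
    Nat.card T = 2 * Nat.card (atPoint D pt a) ^ 2 ∧ T ≤ cenAt D pt a := by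
  have hvv : v * v = 1 := mul_self hv.1
  have hvi : v⁻¹ = v := inv_eq hv.1
  have hconj : ∀ x ∈ W, v * x * v ∈ W := fun x hx => by
    have := inv_mem hx
    rwa [← hW.inverted x hx, hvi] at this
  let T : Subgroup G :=
    { carrier := {g | g ∈ W ∨ v * g ∈ W}
      one_mem' := Or.inl (one_mem W)
      mul_mem' := by
        rintro g k (hg | hg) (hk | hk)
        · exact Or.inl (mul_mem hg hk)
        · refine Or.inr ?_
          rw [show v * (g * k) = v * g * (v * v) * k by rw [hvv, mul_one, mul_assoc],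
            show v * g * (v * v) * k = v * g * v * (v * k) by group]
          exact mul_mem (hconj g hg) hk
        · exact Or.inr (by rw [← mul_assoc]; exact mul_mem hg hk)
        · refine Or.inl ?_
          rw [show g * k = v * v * g * (v * v) * k by rw [hvv, mul_one, one_mul],
            show v * v * g * (v * v) * k = v * (v * g) * v * (v * k) by group]
          exact mul_mem (hconj _ hg) hk
      inv_mem' := by
        rintro g (hg | hg)
        · exact Or.inl (inv_mem hg)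
        · refine Or.inr ?_
          have := hconj _ (inv_mem hg)
          rwa [show v * (v * g)⁻¹ * v = v * g⁻¹ * (v⁻¹ * v) by group, inv_mul_cancel,
            mul_one] at this }
  refine ⟨T, fun g => Iff.rfl, ?_, ?_⟩
  · rw [← hW.card, two_mul]
    have hvW := v_not_mem L hab hv hva hvb hW
    let f : W ⊕ W → T := fun s => Sum.elim (fun w : W => ⟨w, Or.inl w.2⟩)
      (fun w : W => ⟨v * w, Or.inr (by rw [← mul_assoc, hvv, one_mul]; exact w.2)⟩) s
    rw [← Nat.card_sum]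
    refine (Nat.card_congr (Equiv.ofBijective f ⟨?_, ?_⟩)).symm
    · rintro (w | w) (w' | w') e <;> have e' := congrArg Subtype.val e <;>
        simp only [f, Sum.elim_inl, Sum.elim_inr] at e'
      · rw [Subtype.ext e']
      · exact absurd (eq_mul_inv_of_mul_eq e'.symm ▸ mul_mem w.2 (inv_mem w'.2)) hvW
      · exact absurd (eq_mul_inv_of_mul_eq e' ▸ mul_mem w'.2 (inv_mem w.2)) hvW
      · rw [Subtype.ext (mul_left_cancel e')]
    · rintro ⟨g, hg | hg⟩
      · exact ⟨Sum.inl ⟨g, hg⟩, rfl⟩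
      · exact ⟨Sum.inr ⟨v * g, hg⟩, Subtype.ext (by simp [f, ← mul_assoc, hvv])⟩
  · rintro g (hg | hg)
    · exact le_cenAt hW hg
    · have := mul_mem (v_mem_cenAt L hab hv hva hvb hW) (le_cenAt hW hg)
      rwa [← mul_assoc, hvv, one_mul] at this

/-- `|C_0| = L |R(a,b)|`. -/
theorem card_cenAt : Nat.card (cenAt D pt a) =
    Nat.card (orbit (cenAt D pt a) b) * Nat.card (centPair D pt a b) := by
  rw [← Nat.card_congr (orbitProdStabilizerEquivGroup (cenAt D pt a) b), Nat.card_prod]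
  congr 1
  exact Nat.card_congr
      { toFun := fun k => ⟨k.1.1, mem_centPair.2 ⟨(mem_cenAt.1 k.1.2).1, k.2, fun d hd hda =>
          (mem_cenAt.1 k.1.2).2 d (L.chd.fin.mem_E.2 (Or.inr ⟨hd, hda⟩))⟩⟩
        invFun := fun k => ⟨⟨k.1, mem_cenAt.2 ⟨(mem_centPair.1 k.2).1, fun e he => by
          rcases L.chd.fin.mem_E.1 he with rfl | ⟨heD, hea⟩
          · exact Commute.one_right _
          · exact (mem_centPair.1 k.2).2.2 e heD hea⟩⟩, (mem_centPair.1 k.2).2.1⟩
        left_inv := fun _ => rfl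
        right_inv := fun _ => rfl }

/-- The orbit of `b` under `C_0` divides the points other than `a`. -/
theorem orbit_dvd (hn : Nat.card Ω = Nat.card (atPoint D pt a) ^ 3 + 1) : Nat.card (orbit (cenAt D pt a) b) ∣ Nat.card (atPoint D pt a) ^ 3 := by
  have h := L.chd.fin
  set H := stabilizer G a
  set N : Subgroup H := (h.autE a).ker
  set K : Subgroup H := stabilizer H b
  have hN : ∀ g : H, g ∈ N ↔ (g : G) ∈ cenAt D pt a := fun g => by
    rw [MonoidHom.mem_ker, h.autE_eq_one]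
    exact ⟨fun hg => ⟨g.2, hg⟩, fun hg => hg.2⟩
  have hKN : K.relIndex N = Nat.card (orbit (cenAt D pt a) b) := by
    rw [show K.relIndex N = (stabilizer N b).index from rfl, MulAction.index_stabilizer,
      ← Nat.card_coe_set_eq]
    refine Nat.card_congr (Equiv.setCongr ?_)
    ext y
    exact ⟨fun ⟨g, hg⟩ => ⟨⟨((g : H) : G), (hN g).1 g.2⟩, hg⟩,
      fun ⟨⟨g, hg⟩, e⟩ => ⟨⟨⟨g, hg.1⟩, (hN ⟨g, hg.1⟩).2 hg⟩, e⟩⟩
  have hK : K.index = Nat.card (atPoint D pt a) ^ 3 := by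
    rw [MulAction.index_stabilizer, ← Nat.card_coe_set_eq]
    have h1 : Nat.card Ω = Nat.card ({a}ᶜ : Set Ω) + 1 := by
      rw [Nat.card_coe_set_eq, ← Set.ncard_add_ncard_compl ({a} : Set Ω), Set.ncard_singleton,
        Nat.add_comm]
    have h2 : MulAction.orbit H b = ({a}ᶜ : Set Ω) := by
      ext y
      refine ⟨?_, fun hy => ?_⟩
      · rintro ⟨g, rfl⟩ (hy : (g : G) • b = a)
        exact hab (smul_left_cancel (g : G) ((show (g : G) • a = a from g.2).trans hy.symm))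
      · obtain ⟨g, hg, e⟩ := h.trans a b y hab (fun e => hy e.symm)
        exact ⟨⟨g, hg⟩, e⟩
    rw [h2]
    rw [hn] at h1
    omega
  rw [← hKN, ← hK]
  have h1 : K.relIndex N = K.relIndex (K ⊔ N) := by
    have e1 := Subgroup.relIndex_mul_relIndex (K ⊓ N) N (K ⊔ N) inf_le_right le_sup_right
    have e2 := Subgroup.relIndex_mul_relIndex (K ⊓ N) K (K ⊔ N) inf_le_left le_sup_left
    rw [Subgroup.inf_relIndex_right, Subgroup.relIndex_sup_right, mul_comm] at e1
    rw [Subgroup.inf_relIndex_left] at e2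
    exact Nat.eq_of_mul_eq_mul_left (Nat.pos_of_ne_zero (Subgroup.index_ne_zero_of_finite))
      (e1.trans e2.symm)
  rw [h1, ← Subgroup.relIndex_mul_index (le_sup_left : K ≤ K ⊔ N)]
  exact dvd_mul_right _ _

/-- An element of `T` squaring outside `1` is in `W`. -/
theorem mem_W {T : Subgroup G} (hT : ∀ g, g ∈ T ↔ g ∈ W ∨ v * g ∈ W) {x : G} (hx : x ∈ T)
    (hx2 : x * x ≠ 1) : x ∈ W := by
  refine ((hT x).1 hx).resolve_right fun hvx => hx2 ?_
  have h1 := hW.inverted _ hvx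
  rw [inv_eq hv.1, show v * (v * x) * v = x * v by rw [← mul_assoc, mul_self hv.1, one_mul],
    mul_inv_rev, inv_eq hv.1] at h1
  exact mul_eq_one_iff_eq_inv.2 (mul_right_cancel h1)

/-- The normaliser of `T` in `C_0` normalises `W` and is trivial on `W / E`. -/
theorem conj_W {T : Subgroup G} (hT : ∀ g, g ∈ T ↔ g ∈ W ∨ v * g ∈ W) {g : G}
    (hg : g ∈ cenAt D pt a) (hgT : g ∈ Subgroup.normalizer (T : Set G)) {w : G} (hw : w ∈ W) :
    g * w * g⁻¹ ∈ W ∧ g * w * g⁻¹ * w⁻¹ ∈ atPoint D pt a := by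
  have hfix : ∀ e ∈ atPoint D pt a, g * e * g⁻¹ = e := fun e he =>
    mul_inv_eq_iff_eq_mul.2 ((mem_cenAt.1 hg).2 e he).eq
  by_cases hw2 : w * w = 1
  · have he := hW.sq_eq_one w hw hw2
    rw [hfix w he, mul_inv_cancel]
    exact ⟨hw, one_mem _⟩
  have hsq : g * w * g⁻¹ * (g * w * g⁻¹) = w * w := by
    rw [conj_mul]; exact hfix _ (hW.sq_mem w hw)
  have hmem : g * w * g⁻¹ ∈ W := mem_W L hab hv hva hvb hW hT
    ((Subgroup.mem_normalizer_iff.1 hgT w).1 ((hT w).2 (Or.inl hw))) (hsq ▸ hw2)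
  refine ⟨hmem, hW.sq_eq_one _ (mul_mem hmem (inv_mem hw)) ?_⟩
  have hc : Commute (g * w * g⁻¹) w⁻¹ := (hW.comm _ hmem w hw).inv_right
  rw [mul_assoc (g * w * g⁻¹), ← mul_assoc w⁻¹ (g * w * g⁻¹), ← hc.eq,
    mul_assoc (g * w * g⁻¹) w⁻¹ w⁻¹, ← mul_assoc, hsq]
  group

end

/-- Where `C_0` is transitive on the other points it contains every `2`-element fixing `a`. -/
theorem two_mem_cenAt (h : FinishHyp G Ω D pt) {a b : Ω} (hab : a ≠ b)
    (htr : ∀ y : Ω, y ≠ a → ∃ g ∈ cenAt D pt a, g • b = y) {x : G} (hxa : x • a = a) {m : ℕ}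
    (hx : x ^ 2 ^ m = 1) : x ∈ cenAt D pt a := by
  obtain ⟨C, hC, hN⟩ := h.exists_line hab
  obtain ⟨r, hr2, hr⟩ := h.exists_card_E a
  letI : CommGroup (atPoint D pt a) :=
    { (inferInstance : Group (atPoint D pt a)) with
      mul_comm := fun s t => Subtype.ext (h.commute_E s.2 t.2).eq }
  haveI := h.nontrivial_E a
  have hmemN : ∀ g : stabilizer G a, h.autE a g ∈ Subgroup.normalizer (C : Set _) := by
    intro g
    obtain ⟨c, hc, hcb⟩ := htr ((g : G) • b) fun e =>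
      hab (smul_left_cancel (g : G) ((show (g : G) • a = a from g.2).trans e.symm))
    obtain ⟨hca, hcE⟩ := mem_cenAt.1 hc
    have h1 := hN (⟨c, hca⟩⁻¹ * g) (by
      show (c⁻¹ * (g : G)) • b = b
      rw [mul_smul, inv_smul_eq_iff, hcb])
    have h2 : h.autE a ⟨c, hca⟩ = 1 :=
      (h.autE_eq_one _).2 (Subgroup.mem_centralizer_iff.2 fun e he => (hcE e he).eq.symm)
    rwa [map_mul, map_inv, h2, inv_one, one_mul] at h1
  set Nm := Subgroup.normalizer (C : Set (MulAut (atPoint D pt a)))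
  let φ : stabilizer G a →* Nm := (h.autE a).codRestrict Nm hmemN
  have hCN : C ≤ Nm := Subgroup.le_normalizer
  have hodd : Odd (Nat.card (C.subgroupOf Nm)) := by
    rw [Nat.card_congr (Subgroup.subgroupOfEquivOfLe hCN).toEquiv]
    have hc := hC.card
    rw [hr, show r = (r - 1) + 1 by omega, pow_succ] at hc
    refine ⟨2 ^ (r - 1) - 1, ?_⟩
    omega
  have h3 := h.map_two_element_eq_one φ (C.subgroupOf Nm) hodd
    (fun y z => Subgroup.mem_subgroupOf.2 (hC.commutator_mem hr (hmemN y) (hmemN z)))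
    ⟨x, hxa⟩ (m := m) hx
  exact ⟨hxa, (h.autE_eq_one ⟨x, hxa⟩).1 (congrArg Subtype.val h3)⟩

/-- A group acting freely on a set has order dividing the size of the set. -/
theorem dvd_of_free_on {K : Type*} [Group K] [Finite K] [MulAction K Ω] (S : Set Ω)
    (hS : ∀ (k : K), ∀ y ∈ S, k • y ∈ S) (hfree : ∀ k : K, ∀ y ∈ S, k • y = y → k = 1) :
    Nat.card K ∣ S.ncard := by
  classical
  letI : MulAction K S :=
    { smul := fun k y => ⟨k • y.1, hS k y.1 y.2⟩
      one_smul := fun y => Subtype.ext (one_smul K y.1)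
      mul_smul := fun k l y => Subtype.ext (mul_smul k l y.1) }
  have hst : ∀ y : S, stabilizer K y = ⊥ := fun y => (Subgroup.eq_bot_iff_forall _).2 fun k hk =>
    hfree k y.1 y.2 (congrArg Subtype.val hk)
  haveI := Fintype.ofFinite (Quotient (orbitRel K S))
  rw [← Nat.card_coe_set_eq, Nat.card_congr (MulAction.selfEquivSigmaOrbitsQuotientStabilizer K S),
    Nat.card_sigma]
  refine Finset.dvd_sum fun o _ => ?_
  rw [hst, ← Subgroup.index_eq_card, Subgroup.index_bot]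

/-- **B3.** -/
theorem _root_.Cfsg.Agent.Aschbacher.BlockHyp.card_orbit_cenAt_cases (L : BlockHyp G Ω D pt) {a b : Ω} (hab : a ≠ b)
    (hn : Nat.card Ω = Nat.card (atPoint D pt a) ^ 3 + 1) :
    Nat.card (orbit (cenAt D pt a) b) = Nat.card (atPoint D pt a) ^ 2 ∨
      Nat.card (orbit (cenAt D pt a) b) = Nat.card (atPoint D pt a) ^ 3 := by
  obtain ⟨v, hv, hva, hvb⟩ := L.chd.exists_fixInv_at hab
  obtain ⟨W, hW⟩ := L.exists_lineW hv hva hn
  obtain ⟨r, hr2, hr⟩ := L.chd.fin.exists_card_E a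
  obtain ⟨T, -, hTcard, hTle⟩ := exists_tSub L hab hv hva hvb hW
  obtain ⟨o, ho, hR⟩ := exists_card_centPair L hab hv hva hvb hW
  have hC0 := card_cenAt L hab hv hva hvb hW
  have hLd := orbit_dvd L hab hv hva hvb hW hn
  set l := Nat.card (orbit (cenAt D pt a) b) with hl
  rw [hr] at hLd hTcard ⊢
  rw [← pow_mul] at hLd hTcard
  obtain ⟨k, hk, hlk⟩ := (Nat.dvd_prime_pow Nat.prime_two).1 hLd
  have hlow : r * 2 ≤ k := by
    have h1 : 2 * 2 ^ (r * 2) ∣ 2 ^ k * (2 * o) := by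
      rw [← hTcard, ← hlk, ← hR, ← hC0]
      exact Subgroup.card_dvd_of_le hTle
    rw [mul_left_comm] at h1
    have h2 := (((Nat.coprime_two_left.2 ho).pow_left (r * 2)).dvd_of_dvd_mul_right
      (Nat.dvd_of_mul_dvd_mul_left two_pos h1))
    exact (Nat.pow_dvd_pow_iff_le_right one_lt_two).1 h2
  -- the torus
  have hF : Nat.card (FixSet Ω v) ≠ Nat.card (atPoint D pt a) ^ 3 + 1 := by
    rw [L.card_fix a v hv, hr, ← pow_mul]
    intro e
    have := Nat.pow_lt_pow_right (a := 2) one_lt_two (show r < r * 3 by omega)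
    omega
  obtain ⟨j, hj, hja, hjb, hjord, -, -, hjfix⟩ :=
    L.chd.exists_torus_regular hv hab hva hvb hF
  have hdvd : 2 ^ r - 1 ∣ 2 ^ k - 1 := by
    have h1 := dvd_of_free_on (K := Subgroup.zpowers j) (orbit (cenAt D pt a) b \ {b}) ?_ ?_
    · rw [Nat.card_zpowers, hjord, hr, Set.ncard_sdiff_singleton_of_mem
        (mem_orbit_self b : b ∈ orbit (cenAt D pt a) b), ← Nat.card_coe_set_eq,
        ← hl, hlk] at h1
      exact h1
    · rintro ⟨g, hg⟩ _ ⟨⟨⟨c, hc⟩, rfl⟩, hyb⟩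
      have hga : g • a = a := mem_stabilizer_iff.1
        ((Subgroup.zpowers_le.2 (show j ∈ stabilizer G a from hja)) hg)
      have hgb : g • b = b := mem_stabilizer_iff.1
        ((Subgroup.zpowers_le.2 (show j ∈ stabilizer G b from hjb)) hg)
      refine ⟨⟨⟨g * c * g⁻¹, conj_cenAt L.chd.fin hga hc⟩, ?_⟩, fun e => hyb ?_⟩
      · show (g * c * g⁻¹) • b = g • c • b
        rw [mul_smul, mul_smul, inv_smul_eq_iff.2 hgb.symm]
      · exact smul_left_cancel g ((show g • c • b = b from e).trans hgb.symm)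
    · rintro ⟨g, hg⟩ _ ⟨⟨⟨c, hc⟩, rfl⟩, hyb⟩ (e : g • c • b = c • b)
      by_contra hne
      rcases hjfix g hg (fun e' => hne (Subtype.ext e')) (c • b) e with e' | e'
      · exact hab (smul_left_cancel c ((mem_cenAt.1 hc).1.trans e'.symm))
      · exact hyb e'
  have hrk : r ∣ k := by
    have h1 := Nat.gcd_eq_left hdvd
    rw [Nat.pow_sub_one_gcd_pow_sub_one] at h1
    have h2 : 2 ^ Nat.gcd r k = 2 ^ r := by
      have := Nat.one_le_two_pow (n := Nat.gcd r k)
      have := Nat.one_le_two_pow (n := r)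
      omega
    exact Nat.pow_right_injective le_rfl h2 ▸ Nat.gcd_dvd_right r k
  obtain ⟨i, rfl⟩ := hrk
  rw [hlk, ← pow_mul, ← pow_mul]
  have hi2 : 2 ≤ i := Nat.le_of_mul_le_mul_left hlow (by omega)
  have hi3 : i ≤ 3 := Nat.le_of_mul_le_mul_left hk (by omega)
  interval_cases i
  · exact Or.inl rfl
  · exact Or.inr rfl

/-- **B4.** -/
theorem _root_.Cfsg.Agent.Aschbacher.BlockHyp.false_of_big (L : BlockHyp G Ω D pt) {a b : Ω} (hab : a ≠ b)
    (hn : Nat.card Ω = Nat.card (atPoint D pt a) ^ 3 + 1)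
    (hcube : Nat.card (orbit (cenAt D pt a) b) = Nat.card (atPoint D pt a) ^ 3) : False := by
  classical
  haveI : Fact (Nat.Prime 2) := ⟨Nat.prime_two⟩
  have h := L.chd.fin
  obtain ⟨v, hv, hva, hvb⟩ := L.chd.exists_fixInv_at hab
  obtain ⟨W, hW⟩ := L.exists_lineW hv hva hn
  obtain ⟨r, hr2, hr⟩ := h.exists_card_E a
  obtain ⟨T, hT, hTcard, hTle⟩ := exists_tSub L hab hv hva hvb hW
  obtain ⟨o, ho, hR⟩ := exists_card_centPair L hab hv hva hvb hW
  have hC0 := card_cenAt L hab hv hva hvb hW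
  rw [hcube, hR, hr, ← pow_mul] at hC0
  rw [hr, ← pow_mul] at hTcard
  have hvv : v * v = 1 := mul_self hv.1
  have hvi : v⁻¹ = v := inv_eq hv.1
  have hvW := v_not_mem L hab hv hva hvb hW
  have hvT : v ∈ T := (hT v).2 (Or.inr (by rw [hvv]; exact one_mem W))
  have hWT : W ≤ T := fun g hg => (hT g).2 (Or.inl hg)
  have hE2 : ∀ e ∈ atPoint D pt a, e * e = 1 := fun e he => h.sq_E he
  have hcentE : ∀ {g : G}, g ∈ cenAt D pt a → ∀ e ∈ atPoint D pt a, g * e * g⁻¹ = e :=
    fun hg e he => mul_inv_eq_iff_eq_mul.2 ((mem_cenAt.1 hg).2 e he).eq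
  -- `C_0` is transitive on the other points
  have htr : ∀ y : Ω, y ≠ a → ∃ g ∈ cenAt D pt a, g • b = y := by
    intro y hy
    have hsub : orbit (cenAt D pt a) b ⊆ ({a}ᶜ : Set Ω) := by
      rintro _ ⟨⟨g, hg⟩, rfl⟩ (e : g • b = a)
      exact hab (smul_left_cancel g ((mem_cenAt.1 hg).1.trans e.symm))
    have hcard : ({a}ᶜ : Set Ω).ncard ≤ (orbit (cenAt D pt a) b).ncard := by
      have h1 := Set.ncard_add_ncard_compl ({a} : Set Ω)
      rw [Set.ncard_singleton, hn] at h1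
      rw [← Nat.card_coe_set_eq (orbit (cenAt D pt a) b), hcube]
      omega
    obtain ⟨⟨g, hg⟩, e⟩ := (Set.eq_of_subset_of_ncard_le hsub hcard (Set.toFinite _)).ge hy
    exact ⟨g, hg, e⟩
  have hC0two : ∀ {x : G}, x • a = a → ∀ {m : ℕ}, x ^ 2 ^ m = 1 → x ∈ cenAt D pt a :=
    fun hxa _ hx => two_mem_cenAt h hab htr hxa hx
  -- `N`
  set N : Subgroup G := cenAt D pt a ⊓ Subgroup.normalizer (T : Set G) with hN
  have hTN : T ≤ N := le_inf hTle Subgroup.le_normalizer
  have hcW : ∀ {g : G}, g ∈ N → ∀ {w : G}, w ∈ W →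
      g * w * g⁻¹ ∈ W ∧ g * w * g⁻¹ * w⁻¹ ∈ atPoint D pt a := fun hg _ hw =>
    conj_W L hab hv hva hvb hW hT hg.1 hg.2 hw
  have hw : ∀ {g : G}, g ∈ N → v * (g * v * g⁻¹) ∈ W := by
    intro g hg
    refine ((hT _).1 ((Subgroup.mem_normalizer_iff.1 hg.2 v).1 hvT)).resolve_left fun hmem => ?_
    have he := hW.sq_eq_one _ hmem (by rw [conj_mul, hvv, mul_one, mul_inv_cancel])
    have h2 := hcentE (inv_mem hg.1) _ he
    rw [show g⁻¹ * (g * v * g⁻¹) * g⁻¹⁻¹ = v by group] at h2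
    exact hvW (h2 ▸ hW.atPoint_le he)
  let wOf : N → G := fun g => v * ((g : G) * v * (g : G)⁻¹)
  have hwmul : ∀ g k : N, wOf (g * k) = wOf g * ((g : G) * wOf k * (g : G)⁻¹) := by
    intro g k
    simp only [wOf, Subgroup.coe_mul]
    calc v * ((g : G) * k * v * ((g : G) * k)⁻¹)
        = v * ((g : G) * (v * v) * (g : G)⁻¹) *
          ((g : G) * (k : G) * v * ((g : G) * (k : G))⁻¹) := by rw [hvv]; group
      _ = _ := by group
  let σ : N →* G :=
    { toFun := fun g => wOf g * wOf g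
      map_one' := by simp [wOf, hvv]
      map_mul' := fun g k => by
        show wOf (g * k) * wOf (g * k) = _
        rw [hwmul]
        have hc : Commute ((g : G) * wOf k * (g : G)⁻¹) (wOf g) :=
          hW.comm _ (hcW g.2 (hw k.2)).1 _ (hw g.2)
        rw [hc.mul_mul_mul_comm, conj_mul, hcentE g.2.1 _ (hW.sq_mem _ (hw k.2))] }
  have hσE : ∀ g : N, σ g ∈ atPoint D pt a := fun g => hW.sq_mem _ (hw g.2)
  have hker : ∀ g : N, σ g = 1 ↔ (g : G) ∈ T := by
    refine fun g => ⟨fun hg => ?_, fun hg => ?_⟩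
    · refine (hT _).2 (class_eq L hv hva hW g.2.1 ⟨wOf g, hW.sq_eq_one _ (hw g.2) hg, ?_⟩)
      simp [wOf, ← mul_assoc, hvv]
    · have hsq : ∀ x ∈ W, v * (x * v * x⁻¹) * (v * (x * v * x⁻¹)) = 1 := by
        intro x hx
        have e : v * (x * v * x⁻¹) = x⁻¹ * x⁻¹ := by
          rw [← mul_assoc, ← mul_assoc]
          nth_rw 2 [← hvi]
          rw [hW.inverted x hx]
        rw [e]
        exact hE2 _ (hW.sq_mem _ (inv_mem hx))
      rcases (hT _).1 hg with hg | hg
      · exact hsq _ hg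
      · have hvN : v ∈ N := hTN hvT
        have e1 : σ ⟨v, hvN⟩ = 1 := by simp [σ, wOf, hvv]
        have hgN : v * (g : G) ∈ N := mul_mem hvN g.2
        have e2 : σ ⟨v * g, hgN⟩ = 1 := hsq _ hg
        have e3 : (⟨v * g, hgN⟩ : N) = ⟨v, hvN⟩ * g := rfl
        rwa [e3, map_mul, e1, one_mul] at e2
  -- `N` is larger than `T`
  obtain ⟨g₀, hg₀, hg₀T⟩ : ∃ g ∈ N, g ∉ T := by
    have hdvd : 2 ^ (r * 2 + 1 + 1) ∣ Nat.card (cenAt D pt a) := by
      rw [hC0, ← mul_assoc, ← pow_succ]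
      exact Dvd.dvd.mul_right (pow_dvd_pow 2 (by omega)) o
    obtain ⟨K, hK, hle⟩ := Sylow.exists_subgroup_card_pow_succ hdvd
      (H := T.subgroupOf (cenAt D pt a)) (by
        rw [Nat.card_congr (Subgroup.subgroupOfEquivOfLe hTle).toEquiv, hTcard, pow_succ', mul_comm])
    set K' := K.map (cenAt D pt a).subtype
    have hK' : Nat.card K' = 2 ^ (r * 2 + 1 + 1) := by
      rw [Subgroup.card_map_of_injective (Subgroup.subtype_injective _), hK]
    have hK'le : K' ≤ cenAt D pt a := Subgroup.map_subtype_le K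
    have hTK : T ≤ K' := fun t ht => ⟨⟨t, hTle ht⟩, hle ht, rfl⟩
    haveI : (T.subgroupOf K').Normal := Subgroup.normal_of_index_eq_two (by
      have h1 := Subgroup.card_mul_index (T.subgroupOf K')
      rw [Nat.card_congr (Subgroup.subgroupOfEquivOfLe hTK).toEquiv, hTcard, hK'] at h1
      refine Nat.eq_of_mul_eq_mul_left (show 0 < 2 * 2 ^ (r * 2) by positivity) (h1.trans ?_)
      ring)
    obtain ⟨g, hg, hgT⟩ : ∃ g ∈ K', g ∉ T := by
      by_contra! hall
      have := Subgroup.card_le_of_le hall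
      rw [hK', hTcard, pow_succ, pow_succ] at this
      have := Nat.one_le_two_pow (n := r * 2)
      omega
    exact ⟨g, ⟨hK'le hg, (Subgroup.normal_subgroupOf_iff_le_normalizer hTK).1 inferInstance hg⟩, hgT⟩
  -- the torus makes `σ` onto `E`
  have hF : Nat.card (FixSet Ω v) ≠ Nat.card (atPoint D pt a) ^ 3 + 1 := by
    rw [L.card_fix a v hv, hr, ← pow_mul]
    intro e
    have := Nat.pow_lt_pow_right (a := 2) one_lt_two (show r < r * 3 by omega)
    omega
  obtain ⟨j, hj, hja, hjb, -, htr', -, -⟩ := L.chd.exists_torus_regular hv hab hva hvb hF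
  have hjv : Commute j v := L.chd.commute_of_mem_chord hv hva hvb hj
  have hjC : ∀ {m : ℕ} {g : G}, g ∈ cenAt D pt a → j ^ m * g * (j ^ m)⁻¹ ∈ cenAt D pt a :=
    fun {m _} hg => conj_cenAt h
      (mem_stabilizer_iff.1 (pow_mem (show j ∈ stabilizer G a from hja) m)) hg
  have hTj : j ∈ Subgroup.normalizer (T : Set G) := by
    have key : ∀ g, g ∈ T ↔ g ∈ cenAt D pt a ∧ ∃ e ∈ atPoint D pt a, g * v * g⁻¹ = v * e := by
      refine fun g => ⟨fun hg => ⟨hTle hg, _, ?_, (mul_inv_cancel_left _ _).symm⟩,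
        fun ⟨h1, h2⟩ => (hT g).2 (class_eq L hv hva hW h1 h2)⟩
      have := (hker ⟨g, hTN hg⟩).2 hg
      rw [hvi]
      exact hW.sq_eq_one _ (hw (hTN hg)) this
    have one : ∀ k : G, k • a = a → Commute k v → ∀ g ∈ T, k * g * k⁻¹ ∈ T := by
      intro k hka hkv g hg
      obtain ⟨h1, e, he, h2⟩ := (key g).1 hg
      refine (key _).2 ⟨conj_cenAt h hka h1, k * e * k⁻¹,
        (Subgroup.mem_normalizer_iff.1 (h.stabilizer_le_normalizer a hka) e).1 he, ?_⟩
      have hk : k⁻¹ * v * k = v := by rw [mul_assoc, ← hkv.eq, inv_mul_cancel_left]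
      calc k * g * k⁻¹ * v * (k * g * k⁻¹)⁻¹ = k * (g * (k⁻¹ * v * k) * g⁻¹) * k⁻¹ := by group
        _ = k * v * e * k⁻¹ := by rw [hk, h2, mul_assoc k v e]
        _ = v * (k * e * k⁻¹) := by rw [hkv.eq]; group
    refine Subgroup.mem_normalizer_iff.2 fun g => ⟨fun hg => one j hja hjv g hg, fun hg => ?_⟩
    have := one j⁻¹ (inv_smul_eq_iff.2 hja.symm) hjv.inv_left _ hg
    rwa [show j⁻¹ * (j * g * j⁻¹) * j⁻¹⁻¹ = g by group] at this
  have hσsurj : ∀ e ∈ atPoint D pt a, e ∈ σ.range := by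
    intro e he
    rcases h.mem_E.1 he with rfl | ⟨heD, hea⟩
    · exact one_mem _
    have h0 : σ ⟨g₀, hg₀⟩ ≠ 1 := fun e => hg₀T ((hker _).1 e)
    obtain ⟨hdD, hda⟩ := (h.mem_E.1 (hσE ⟨g₀, hg₀⟩)).resolve_left h0
    obtain ⟨m, hm⟩ := htr' _ hdD hda e heD hea
    have hmN : j ^ m * g₀ * (j ^ m)⁻¹ ∈ N := by
      refine ⟨hjC hg₀.1, ?_⟩
      have hjm := Subgroup.pow_mem _ hTj m
      exact Subgroup.mul_mem (Subgroup.normalizer (T : Set G)) (Subgroup.mul_mem _ hjm hg₀.2) (Subgroup.inv_mem _ hjm)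
    refine ⟨⟨_, hmN⟩, ?_⟩
    rw [← hm]
    show wOf _ * wOf _ = j ^ m * (wOf ⟨g₀, hg₀⟩ * wOf ⟨g₀, hg₀⟩) * (j ^ m)⁻¹
    have hc : j ^ m * v * (j ^ m)⁻¹ = v := mul_inv_eq_iff_eq_mul.2 (hjv.pow_left m).eq
    have e1 : wOf ⟨_, hmN⟩ = j ^ m * wOf ⟨g₀, hg₀⟩ * (j ^ m)⁻¹ := by
      simp only [wOf]
      calc v * (j ^ m * g₀ * (j ^ m)⁻¹ * v * (j ^ m * g₀ * (j ^ m)⁻¹)⁻¹)
          = (j ^ m * v * (j ^ m)⁻¹) * (j ^ m * g₀ * (j ^ m)⁻¹ * (j ^ m * v * (j ^ m)⁻¹) *
            (j ^ m * g₀ * (j ^ m)⁻¹)⁻¹) := by rw [hc]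
        _ = _ := by group
    rw [e1, conj_mul]
  have hNcard : Nat.card N = 2 ^ (r * 3 + 1) := by
    have h1 : σ.ker = T.subgroupOf N := by
      ext g
      rw [MonoidHom.mem_ker, Subgroup.mem_subgroupOf, hker]
    have h2 : σ.range = atPoint D pt a :=
      le_antisymm (by rintro _ ⟨g, rfl⟩; exact hσE g) hσsurj
    rw [← Subgroup.card_mul_index σ.ker, Subgroup.index_ker, h2, h1,
      Nat.card_congr (Subgroup.subgroupOfEquivOfLe hTN).toEquiv, hTcard, hr]
    ring
  -- `N` is a Sylow subgroup of `G`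
  obtain ⟨S, hNS⟩ := (IsPGroup.of_card hNcard).exists_le_sylow
  have hfixE : ∀ z : Ω, (∀ g ∈ N, g • z = z) → z = a := by
    intro z hz
    obtain ⟨d, e, hd, -, hda, -, -, -⟩ := h.exists_two a
    have hdE : d ∈ atPoint D pt a := h.mem_E.2 (Or.inr ⟨hd, hda⟩)
    exact h.semiregular hdE (ne_one (h.pc.inv d hd)) (hz d (hTN (hWT (hW.atPoint_le hdE))))
  have hSC : (S : Subgroup G) ≤ cenAt D pt a := by
    obtain ⟨d, hd, -⟩ := h.pc.exists_at a
    obtain ⟨z, hz⟩ := S.isPGroup'.nonempty_fixed_point_of_prime_not_dvd_card Ω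
      (fun hdvd => Nat.not_even_iff_odd.2 (h.pc.odd_card_points hd) (even_iff_two_dvd.2 hdvd))
    obtain rfl := hfixE z fun g hg => hz ⟨g, hNS hg⟩
    intro x hx
    obtain ⟨m, hm⟩ := S.isPGroup' ⟨x, hx⟩
    exact hC0two (hz ⟨x, hx⟩) (m := m) (congrArg Subtype.val hm)
  have hSN : (S : Subgroup G) = N := by
    refine (Subgroup.eq_of_le_of_card_ge hNS ?_).symm
    obtain ⟨n, hn⟩ := IsPGroup.iff_card.1 S.isPGroup'
    have h1 := Subgroup.card_dvd_of_le hSC
    rw [hC0, ← mul_assoc, ← pow_succ, hn] at h1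
    rw [hn, hNcard]
    exact Nat.pow_le_pow_right two_pos ((Nat.pow_dvd_pow_iff_le_right one_lt_two).1
      (((Nat.coprime_two_left.2 ho).pow_left n).dvd_of_dvd_mul_right h1))
  -- squares
  have hsqN : ∀ g ∈ N, g * g ∈ W := by
    intro g hg
    by_cases hgT : g ∈ T
    · by_cases h2 : g * g = 1
      · rw [h2]; exact one_mem W
      · have hgW := mem_W L hab hv hva hvb hW hT hgT h2
        exact mul_mem hgW hgW
    have h1 : σ (⟨g, hg⟩ * ⟨g, hg⟩) = 1 := by rw [map_mul]; exact hE2 _ (hσE _)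
    refine ((hT _).1 ((hker _).1 h1)).resolve_right fun h2 => hgT ?_
    refine (hker ⟨g, hg⟩).1 ?_
    have hy := (hcW hg h2).2
    have e : v * (g * v * g⁻¹) = (g * (v * (g * g)) * g⁻¹ * (v * (g * g))⁻¹)⁻¹ := by
      rw [show (g * (v * (g * g)) * g⁻¹ * (v * (g * g))⁻¹)⁻¹ = v * (g * v⁻¹ * g⁻¹) by group, hvi]
    show v * (g * v * g⁻¹) * (v * (g * v * g⁻¹)) = 1
    rw [e]
    exact hE2 _ (inv_mem hy)
  -- involutions outside `T` invert `W`
  have hinv : ∀ x ∈ N, x ∉ T → x * x = 1 → ∀ w ∈ W, x * w * x⁻¹ = w⁻¹ := by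
    intro x hx hxT hx2 w hwW
    have hx1 : x ≠ 1 := fun e => hxT (e ▸ one_mem T)
    have hxo : orderOf x = 2 := orderOf_eq_prime (by rw [sq, hx2]) hx1
    have hxa := (mem_cenAt.1 hx.1).1
    obtain ⟨c, hca, hxc⟩ : ∃ c, c ≠ a ∧ x • c = c := by
      by_contra! hall
      have hxD := h.pc.mem_of_unique_fixed hxo hab hxa fun p hp => by_contra fun e => hall p e hp
      have hpx : pt x = a := ((h.pc.fixed_iff x hxD a).1 hxa).symm
      exact hxT (hWT (hW.atPoint_le (h.mem_E.2 (Or.inr ⟨hxD, hpx⟩))))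
    have hxi : IsFixInv Ω x := ⟨hxo, a, c, hca.symm, hxa, hxc⟩
    obtain ⟨W', hW'⟩ := L.exists_lineW hxi hxa hn
    by_cases hw2 : w * w = 1
    · rw [hcentE hx.1 w (hW.sq_eq_one w hwW hw2)]
      exact (inv_eq_of_mul_eq_one_left hw2).symm
    have hwC := le_cenAt hW hwW
    have he : x⁻¹ * w * x⁻¹⁻¹ * w⁻¹ ∈ atPoint D pt a := (hcW (inv_mem hx) hwW).2
    have hmem := class_eq L hxi hxa hW' hwC ⟨x⁻¹ * w * x * w⁻¹, by simpa using he, by
      rw [← mul_assoc, ← mul_assoc, mul_inv_cancel_left]⟩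
    rcases hmem with hw' | hw'
    · exact hW'.inverted w hw'
    · exfalso
      have h1 := hW'.inverted _ hw'
      rw [inv_eq hxo, mul_inv_rev, inv_eq hxo, ← mul_assoc x x w, hx2, one_mul] at h1
      exact hw2 (mul_eq_one_iff_eq_inv.2 (mul_right_cancel h1))
  -- Thompson transfer
  set A : Subgroup G := N ⊓ Subgroup.centralizer (W : Set G)
  have hWA : W ≤ A := le_inf (hWT.trans hTN) fun w hwW =>
    Subgroup.mem_centralizer_iff.2 fun y hy => (hW.comm y hy w hwW).eq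
  have hvA : v ∉ A := by
    intro hvA
    have hle : W ≤ atPoint D pt a := fun w hwW => hW.sq_eq_one w hwW (by
      have h1 := hW.inverted w hwW
      rw [← Subgroup.mem_centralizer_iff.1 hvA.2 w hwW, mul_inv_cancel_right] at h1
      nth_rw 1 [h1]
      exact inv_mul_cancel w)
    have h1 := Subgroup.card_le_of_le hle
    rw [hW.card, sq] at h1
    have h4 := h.card_E_ge a
    nlinarith
  obtain ⟨M, hAM, hMN, hvM, hM⟩ := exists_index_two_avoiding (N := N) (A := A) inf_le_left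
    (fun g hg => hWA (hsqN g hg)) (hTN hvT) hvA
  obtain ⟨g, hg⟩ := h.exists_conj_mem S M (hSN ▸ hMN) (hSN.symm ▸ hM) hv.1 (hSN.symm ▸ hTN hvT)
  set x := g * v * g⁻¹ with hx
  have hxE : x ∈ atPoint D pt a := by
    have hxx : x * x = 1 := by rw [hx, conj_mul, hvv, mul_one, mul_inv_cancel]
    by_cases hxT : x ∈ T
    · rcases (hT x).1 hxT with hxW | hxW
      · exact hW.sq_eq_one x hxW hxx
      · exfalso
        refine hvM ?_
        have := mul_mem (hAM (hWA hxW)) (inv_mem hg)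
        rwa [mul_inv_cancel_right] at this
    · exfalso
      refine hvM ?_
      have hi := hinv x (hMN hg) hxT hxx
      have hvx : v * x ∈ A := by
        refine ⟨mul_mem (hTN hvT) (hMN hg), Subgroup.mem_centralizer_iff.2 fun w hwW => ?_⟩
        have h1 : v * x * w * (v * x)⁻¹ = w := by
          rw [show v * x * w * (v * x)⁻¹ = v * (x * w * x⁻¹) * v⁻¹ by group, hi w hwW,
            hW.inverted _ (inv_mem hwW), inv_inv]
        exact (mul_inv_eq_iff_eq_mul.1 h1).symm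
      have := mul_mem (hAM hvx) (inv_mem hg)
      rwa [mul_inv_cancel_right] at this
  rcases h.mem_E.1 hxE with e | ⟨e, -⟩
  · exact ne_one hv.1 (conj_eq_one_iff.1 e)
  · obtain ⟨-, p, p', hpp, hp, hp'⟩ := hv
    refine h.not_mem_of_fixInv ⟨?_, g • p, g • p', fun e => hpp (smul_left_cancel g e), ?_, ?_⟩ e
    · exact orderOf_eq_prime (by rw [sq, hx, conj_mul, hvv, mul_one, mul_inv_cancel])
        fun e' => ne_one (orderOf_eq_prime (by rw [sq, hvv]) fun e'' => hvW (e'' ▸ one_mem W) :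
          orderOf v = 2) (conj_eq_one_iff.1 e')
    · rw [hx, mul_smul, mul_smul, inv_smul_smul, hp]
    · rw [hx, mul_smul, mul_smul, inv_smul_smul, hp']

/-- B3 and B4: the orbit has `q ^ 2` points. -/
theorem _root_.Cfsg.Agent.Aschbacher.BlockHyp.card_orbit_cenAt_sq (L : BlockHyp G Ω D pt) {a b : Ω} (hab : a ≠ b)
    (hn : Nat.card Ω = Nat.card (atPoint D pt a) ^ 3 + 1) :
    Nat.card (orbit (cenAt D pt a) b) = Nat.card (atPoint D pt a) ^ 2 :=
  (L.card_orbit_cenAt_cases hab hn).resolve_right (L.false_of_big hab hn)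

end Cfsg.Agent.Aschbacher.L2Cube
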