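/-
B4 of the case `|Fix v| = q + 1` (owner: helper87): the orbit of `b` under `C_0` has not `q ^ 3`
points, from CriterionL2Cube.
-/
import Cfsg.Agent.Lib.Aschbacher.CriterionL2Cube

set_option autoImplicit false

namespace Cfsg.Agent.Aschbacher

open MulAction

universe u

variable {G : Type u} {Ω : Type u} [Group G] [MulAction G Ω] [Finite G] [Finite Ω]
  [FaithfulSMul G Ω] {D : Set G} {pt : G → Ω}

/-- **B4.** -/
theorem BlockHyp.card_orbit_ne_cube (S : BlockHyp G Ω D pt) {a : Ω} {v : G} (_hv : IsFixInv Ω v)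
    (_hva : v • a = a) {b : Ω} (_hvb : v • b = b) (hba : b ≠ a)
    (hn : Nat.card Ω = Nat.card (atPoint D pt a) ^ 3 + 1) :
    Nat.card (orbit (cenAt D pt a) b) ≠ Nat.card (atPoint D pt a) ^ 3 :=
  fun hL => S.false_of_big hba.symm hn hL

end Cfsg.Agent.Aschbacher
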