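/-
Arithmetic and counting lemmas for the finish of the core-free criterion (CRITERION_FINISH.md;
owner: helper90).

* `exists_hom_units_of_inverting` : a group acting on a homocyclic group of exponent four and odd rank
  has a homomorphism into `(ZMod 4)ˣ` that detects an element inverting it (determinant)
* `sum_sign_quadratic` : the sign sum of a quadratic form over `F_2` is zero or a power of two up to
  sign
* `not_pow_two_mul_sub_two` : `q (q - 2)` is no power of two for `q = 2 ^ r ≥ 8`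
* `exists_conj_of_coset` : in a cyclic normal `l`-group moved by an element `φ` of order `l`, every
  element of order `l` of the coset of `φ` is conjugate to `φ`
* `padicValNat_pow_prime_add_one` : the exponent of `l` in `a ^ l + 1`
* `tiling_commute`, `tiling_inverts` : the translations in a `(4,4,2)` triangle of involutions
-/
import Mathlib
import Cfsg.Agent.EqLemmas

set_option autoImplicit false

namespace Cfsg.Agent.Aschbacher

open scoped DirectSum

/-- A group acting on a homocyclic group of exponent four and odd rank: the determinant detects an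
element inverting it. -/
theorem exists_hom_units_of_inverting {A : Type*} [CommGroup A] [Finite A] {H : Type*} [Group H]
    (ρ : H →* MulAut A) (h4 : ∀ x : A, x ^ 4 = 1) (h2 : ∀ x : A, x ^ 2 = 1 → ∃ y, y ^ 2 = x)
    {r : ℕ} (hr : Odd r) (hcard : Nat.card A = 4 ^ r) {u : H} (hu : ∀ x, ρ u x = x⁻¹) :
    ∃ χ : H →* (ZMod 4)ˣ, χ u ≠ 1 := by
  classical
  haveI : Fact (1 < 4) := ⟨by norm_num⟩
  obtain ⟨ι, hι, n, hn, ⟨e⟩⟩ := AddCommGroup.equiv_directSum_zmod_of_finite' (Additive A)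
  have key : ∀ i, n i = 4 := by
    intro i
    set y := e.symm (DirectSum.of (fun i => ZMod (n i)) i 1) with hy
    have h1 : (4 : ℕ) • y = 0 := by
      have := h4 (Additive.toMul y)
      exact Additive.toMul.injective (by simpa using this)
    have h1' : ((4 : ℕ) : ZMod (n i)) = 0 := by
      have := congrArg (fun z => (e z) i) h1
      simp only [hy, map_nsmul, e.apply_symm_apply, map_zero, DirectSum.zero_apply] at this
      rw [← map_nsmul, DirectSum.of_eq_same] at this
      simpa [nsmul_eq_mul] using this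
    have hdvd : n i ∣ 4 := (ZMod.natCast_eq_zero_iff 4 (n i)).1 h1'
    have hle := Nat.le_of_dvd (by norm_num) hdvd
    have hgt := hn i
    have hne : n i ≠ 2 := by
      intro h2i
      have h2y : (2 : ℕ) • y = 0 := by
        refine e.injective ?_
        rw [map_nsmul, hy, e.apply_symm_apply, ← map_nsmul, map_zero]
        have : ((2 : ℕ) : ZMod (n i)) = 0 := (ZMod.natCast_eq_zero_iff 2 (n i)).2 (by rw [h2i])
        rw [nsmul_eq_mul, this, zero_mul, map_zero]
      obtain ⟨z, hz⟩ := h2 (Additive.toMul y) (Additive.ofMul.injective (by simpa using h2y))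
      have h3 : (2 : ℕ) • Additive.ofMul z = y := by
        rw [← ofMul_pow, hz]; rfl
      have h4' := congrArg (fun z => (e z) i) h3
      have h20 : ((2 : ℕ) : ZMod (n i)) = 0 := (ZMod.natCast_eq_zero_iff 2 (n i)).2 (by rw [h2i])
      simp only [hy, e.apply_symm_apply, map_nsmul, DirectSum.of_eq_same] at h4'
      rw [show ((2 : ℕ) • e (Additive.ofMul z)) i = ((2 : ℕ) : ZMod (n i)) * e (Additive.ofMul z) i by
        rw [← nsmul_eq_mul]; rfl, h20, zero_mul] at h4'
      haveI : Fact (1 < n i) := ⟨hgt⟩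
      exact zero_ne_one h4'
    obtain ⟨j, hj, hji⟩ := (Nat.dvd_prime_pow Nat.prime_two (m := 2) (i := n i)).1 (by simpa using hdvd)
    rcases j with _ | _ | _ | j
    · simp at hji; omega
    · exact absurd (by simpa using hji) hne
    · simpa using hji
    · omega
  obtain rfl : n = fun _ => 4 := funext key
  let f : Additive A ≃+ (ι → ZMod 4) :=
    e.trans (DirectSum.linearEquivFunOnFintype ℕ ι (fun _ : ι => ZMod 4)).toAddEquiv
  have hrι : Fintype.card ι = r := by
    have h1 : Nat.card (Additive A) = Nat.card (ι → ZMod 4) := Nat.card_congr f.toEquiv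
    rw [show Nat.card (Additive A) = 4 ^ r from (Nat.card_congr Additive.toMul).trans hcard,
      Nat.card_fun, Nat.card_zmod, Nat.card_eq_fintype_card] at h1
    exact (Nat.pow_right_injective (le_refl 2 |>.trans (by norm_num)) h1).symm
  let L : H → ((ι → ZMod 4) →ₗ[ZMod 4] (ι → ZMod 4)) := fun h =>
    AddMonoidHom.toZModLinearMap 4
      ((f.toAddMonoidHom.comp (MonoidHom.toAdditive (ρ h).toMonoidHom)).comp f.symm.toAddMonoidHom)
  have hL : ∀ h v, L h v = f (Additive.ofMul (ρ h (Additive.toMul (f.symm v)))) := fun h v => rfl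
  let χ0 : H →* ZMod 4 :=
    { toFun := fun h => LinearMap.det (L h)
      map_one' := by
        have h1 : L 1 = LinearMap.id := LinearMap.ext fun v => by
          rw [hL, map_one, MulAut.one_apply, ofMul_toMul, AddEquiv.apply_symm_apply, LinearMap.id_apply]
        rw [h1, LinearMap.det_id]
      map_mul' := fun g h => by
        have h1 : L (g * h) = L g * L h := LinearMap.ext fun v => by
          rw [Module.End.mul_apply, hL, hL, hL, AddEquiv.symm_apply_apply, toMul_ofMul, map_mul,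
            MulAut.mul_apply]
        rw [h1, map_mul] }
  refine ⟨χ0.toHomUnits, fun hχ => ?_⟩
  have h1 : L u = (-1 : ZMod 4) • LinearMap.id := LinearMap.ext fun v => by
    rw [hL, hu, ofMul_inv, ofMul_toMul, map_neg, AddEquiv.apply_symm_apply, LinearMap.smul_apply,
      LinearMap.id_apply, neg_one_smul]
  have h2 : LinearMap.det (L u) = 1 := congrArg Units.val hχ
  rw [h1, LinearMap.det_smul, LinearMap.det_id, mul_one, Module.finrank_fintype_fun_eq_card,
    hrι, hr.neg_one_pow] at h2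
  exact absurd h2 (by decide)

/-- The sign of an element of `ZMod 2`. -/
def signTwo (t : ZMod 2) : ℤ := if t = 0 then 1 else -1

theorem signTwo_add (s t : ZMod 2) : signTwo (s + t) = signTwo s * signTwo t := by
  revert s t; decide

theorem zmod_two_aux₁ : ∀ b c d : ZMod 2, d + c = b + (c + b + d) := by decide

theorem zmod_two_aux₂ : ∀ t : ZMod 2, t = t + t → t = 0 := by decide

theorem zmod_two_aux₃ : ∀ c x y : ZMod 2, c + x + y = 0 → c = x + y := by decide

/-- The sign sum of an additive map is zero or the order of the group. -/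
theorem sum_sign_additive {V : Type*} [Group V] [Fintype V] (φ : V → ZMod 2)
    (hφ : ∀ x y, φ (x * y) = φ x + φ y) :
    ((∀ x, φ x = 0) ∧ ∑ x, signTwo (φ x) = Fintype.card V) ∨ ∑ x, signTwo (φ x) = 0 := by
  classical
  by_cases h : ∀ x, φ x = 0
  · left
    refine ⟨h, ?_⟩
    simp [h, signTwo]
  · right
    push Not at h
    obtain ⟨a, ha⟩ := h
    have h1 : signTwo (φ a) = -1 := by simp [signTwo, ha]
    have h2 := (Equiv.sum_comp (Equiv.mulLeft a) fun x => signTwo (φ x)).symm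
    simp only [Equiv.coe_mulLeft, hφ, signTwo_add, ← Finset.mul_sum, h1] at h2
    linarith

/-- The sign sum of a quadratic form over `F_2` is zero or a power of two up to sign. -/
theorem sum_sign_quadratic {V : Type*} [CommGroup V] [Fintype V] (hV : ∀ x : V, x * x = 1)
    (Q : V → ZMod 2)
    (hQ : ∀ a x y, Q (a * (x * y)) + Q a + Q (x * y) =
      (Q (a * x) + Q a + Q x) + (Q (a * y) + Q a + Q y)) :
    ∑ x, signTwo (Q x) = 0 ∨ ∃ m, (∑ x, signTwo (Q x)).natAbs = 2 ^ m := by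
  classical
  haveI : Fact (Nat.Prime 2) := ⟨Nat.prime_two⟩
  let β : V → V → ZMod 2 := fun a x => Q (a * x) + Q a + Q x
  have hβ2 : ∀ a x y, β a (x * y) = β a x + β a y := hQ
  have hβs : ∀ a x, β a x = β x a := fun a x => by simp only [β, mul_comm x a]; ring
  have hβ1 : ∀ x y a, β (x * y) a = β x a + β y a := fun x y a => by
    rw [hβs, hβ2, hβs a x, hβs a y]
  have hsum : ∀ a x, signTwo (Q x) * signTwo (Q (a * x)) = signTwo (Q a) * signTwo (β a x) := by
    intro a x
    rw [← signTwo_add, ← signTwo_add]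
    congr 1
    simp only [β]
    exact zmod_two_aux₁ _ _ _
  let R : Subgroup V :=
    { carrier := {a | ∀ x, β a x = 0}
      one_mem' := fun x => by
        have := hβ1 1 1 x
        rw [mul_one] at this
        exact zmod_two_aux₂ _ this
      mul_mem' := fun {a b} ha hb x => by rw [hβ1, ha x, hb x, add_zero]
      inv_mem' := fun {a} ha x => by rw [inv_eq_of_mul_eq_one_right (hV a)]; exact ha x }
  have hsq : (∑ x, signTwo (Q x)) * (∑ x, signTwo (Q x)) =
      (Fintype.card V : ℤ) * ∑ a : R, signTwo (Q a) := by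
    rw [Finset.sum_mul_sum]
    have h1 : ∀ x, ∑ y, signTwo (Q x) * signTwo (Q y) =
        ∑ a, signTwo (Q a) * signTwo (β a x) := fun x => by
      rw [← Equiv.sum_comp (Equiv.mulRight x) fun y => signTwo (Q x) * signTwo (Q y)]
      exact Finset.sum_congr rfl fun a _ => hsum a x
    rw [Finset.sum_congr rfl fun x _ => h1 x, Finset.sum_comm]
    simp only [← Finset.mul_sum]
    have h2 : ∀ a, ∑ x, signTwo (β a x) = if a ∈ R then (Fintype.card V : ℤ) else 0 := fun a => by
      rcases sum_sign_additive (β a) (hβ2 a) with ⟨h, hs⟩ | hs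
      · rw [if_pos (show a ∈ R from h), hs]
      · split
        · next h =>
          exfalso
          have : (0 : ℤ) = Fintype.card V := by
            rw [← hs]; simp [show ∀ x, β a x = 0 from h, signTwo]
          exact Fintype.card_ne_zero (Int.natCast_eq_zero.1 this.symm)
        · exact hs
    simp only [h2, mul_ite, mul_zero, Finset.sum_ite, Finset.sum_const_zero, add_zero]
    rw [Finset.mul_sum, Finset.sum_subtype (p := fun a => a ∈ R) _ (by simp)
      (fun a => signTwo (Q a) * (Fintype.card V : ℤ))]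
    exact Finset.sum_congr rfl fun a _ => mul_comm _ _
  have hadd : ∀ a b : R, Q ((a * b : R) : V) = Q a + Q b := fun a b => by
    have h1 : Q ((a : V) * b) + Q a + Q b = 0 := a.2 b
    rw [Subgroup.coe_mul]
    exact zmod_two_aux₃ _ _ _ h1
  rcases sum_sign_additive (fun a : R => Q a) hadd with ⟨-, hs⟩ | hs
  · right
    have hp : IsPGroup 2 V := fun x => ⟨1, by rw [pow_one, sq, hV]⟩
    obtain ⟨k, hk⟩ := IsPGroup.iff_card.1 hp
    obtain ⟨j, hj⟩ := IsPGroup.iff_card.1 (hp.to_subgroup R)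
    rw [hs] at hsq
    have h1 : (∑ x, signTwo (Q x)).natAbs * (∑ x, signTwo (Q x)).natAbs = 2 ^ (k + j) := by
      rw [← Int.natAbs_mul, hsq, Int.natAbs_mul, Int.natAbs_natCast, Int.natAbs_natCast, pow_add,
        ← hk, ← hj, Nat.card_eq_fintype_card, Nat.card_eq_fintype_card]
    obtain ⟨i, -, hi⟩ := (Nat.dvd_prime_pow Nat.prime_two).1 ⟨_, h1.symm⟩
    exact ⟨i, hi⟩
  · left
    rw [hs, mul_zero] at hsq
    exact mul_self_eq_zero.1 hsq

/-- `q (q - 2)` is no power of two for `q = 2 ^ r ≥ 8`. -/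
theorem not_pow_two_mul_sub_two {r : ℕ} (hr : 3 ≤ r) (m : ℕ) : 2 ^ r * (2 ^ r - 2) ≠ 2 ^ m := by
  intro h
  have h8 : 8 ≤ 2 ^ r := by
    calc (8 : ℕ) = 2 ^ 3 := by norm_num
      _ ≤ 2 ^ r := Nat.pow_le_pow_right (by norm_num) hr
  obtain ⟨i, -, hi⟩ := (Nat.dvd_prime_pow Nat.prime_two).1 (Dvd.intro_left _ h)
  rcases i with _ | _ | i
  · omega
  · omega
  · have h4 : 4 ∣ 2 ^ r := ⟨2 ^ (r - 2), by rw [show r = 2 + (r - 2) by omega, pow_add]; simp⟩
    rw [pow_succ, pow_succ] at hi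
    omega

/-- In a cyclic normal `l`-group moved by an element `φ` of order `l`, every element of order `l` of
the coset of `φ` is conjugate to `φ`. -/
theorem exists_conj_of_coset {P : Type*} [Group P] {l k : ℕ} [Fact l.Prime] (hl : Odd l) {θ φ : P}
    (hθ : orderOf θ = l ^ k) (hφ : φ ^ l = 1) {m : ℕ} (hm : φ * θ * φ⁻¹ = θ ^ m)
    (hnc : ¬ Commute φ θ) {a : ℤ} (hxl : (θ ^ a * φ) ^ l = 1) :
    ∃ b : ℤ, θ ^ b * φ * (θ ^ b)⁻¹ = θ ^ a * φ := by
  have hlp : Nat.Prime l := Fact.out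
  have hconj : ∀ j : ℤ, φ * θ ^ j * φ⁻¹ = θ ^ ((m : ℤ) * j) := fun j => by
    rw [← conj_zpow, hm, ← zpow_natCast θ m, ← zpow_mul]
  have hpow : ∀ j : ℕ, (θ ^ a * φ) ^ j = θ ^ (a * ∑ i ∈ Finset.range j, (m : ℤ) ^ i) * φ ^ j := by
    intro j
    induction j with
    | zero => simp
    | succ j ih =>
      rw [pow_succ', ih, geom_sum_succ, pow_succ']
      calc θ ^ a * φ * (θ ^ (a * ∑ i ∈ Finset.range j, (m : ℤ) ^ i) * φ ^ j)
          = θ ^ a * (φ * θ ^ (a * ∑ i ∈ Finset.range j, (m : ℤ) ^ i) * φ⁻¹) * (φ * φ ^ j) := by group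
        _ = _ := by
          rw [hconj, ← zpow_add]
          congr 2
          ring
  have hiter : ∀ j : ℕ, φ ^ j * θ * (φ ^ j)⁻¹ = θ ^ ((m : ℤ) ^ j) := by
    intro j
    induction j with
    | zero => simp
    | succ j ih =>
      rw [pow_succ', show φ * φ ^ j * θ * (φ * φ ^ j)⁻¹ = φ * (φ ^ j * θ * (φ ^ j)⁻¹) * φ⁻¹ by group,
        ih, hconj]
      congr 1
      ring
  have hord : ∀ j : ℤ, θ ^ j = 1 ↔ ((l ^ k : ℕ) : ℤ) ∣ j := fun j => by
    rw [← hθ, orderOf_dvd_iff_zpow_eq_one]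
  have hml : ((l ^ k : ℕ) : ℤ) ∣ (m : ℤ) ^ l - 1 := by
    rw [← hord, zpow_sub_one, ← hiter, hφ]
    group
  have hnd : ¬ ((l ^ k : ℕ) : ℤ) ∣ (m : ℤ) - 1 := fun hd => hnc (by
    have h1 := (hord _).2 hd
    rw [zpow_sub_one, mul_inv_eq_one, zpow_natCast] at h1
    rw [h1] at hm
    exact mul_inv_eq_iff_eq_mul.1 hm)
  have hk : k ≠ 0 := fun h0 => hnd (by simp [h0])
  -- `m ≡ 1` modulo `l`
  have hm1 : (l : ℤ) ∣ (m : ℤ) - 1 := by
    have h1 : (l : ℤ) ∣ (m : ℤ) ^ l - 1 := (Int.natCast_dvd_natCast.2 (dvd_pow_self l hk)).trans hml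
    rw [← ZMod.intCast_zmod_eq_zero_iff_dvd] at h1 ⊢
    push_cast at h1 ⊢
    rwa [ZMod.pow_card] at h1
  obtain ⟨c, hc⟩ := hm1
  obtain ⟨d, hd⟩ := odd_sq_dvd_geom_sum₂_sub (R := ℤ) (1 : ℤ) c hl
  simp only [one_pow, mul_one] at hd
  have hS : ∑ i ∈ Finset.range l, (m : ℤ) ^ i = (l : ℤ) * (1 + l * d) := by
    rw [show (m : ℤ) = 1 + l * c by linarith]
    linear_combination hd
  have h0 := hpow l
  rw [hxl, hφ, mul_one, eq_comm, hord, hS, ← mul_assoc] at h0
  have hcop : IsCoprime ((l ^ k : ℕ) : ℤ) (1 + l * d) := by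
    rw [Nat.cast_pow]
    exact IsCoprime.pow_left ⟨-d, 1, by ring⟩
  have h1 : ((l ^ k : ℕ) : ℤ) ∣ a * l := hcop.dvd_of_dvd_mul_right h0
  have hg : (Int.gcd (l ^ k : ℕ) ((m : ℤ) - 1) : ℤ) ∣ a := by
    set g := Int.gcd (l ^ k : ℕ) ((m : ℤ) - 1) with hg
    have hgk : g ∣ l ^ k := by
      have := Int.gcd_dvd_left ((l ^ k : ℕ) : ℤ) ((m : ℤ) - 1)
      exact Int.natCast_dvd_natCast.1 this
    obtain ⟨i, hi, hgi⟩ := (Nat.dvd_prime_pow hlp).1 hgk
    have hik : i < k := lt_of_le_of_ne hi fun e => hnd (by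
      rw [← e, ← hgi]; exact Int.gcd_dvd_right _ _)
    rw [hgi]
    have h2 : ((l ^ i : ℕ) : ℤ) * l ∣ a * l := by
      refine (dvd_trans ?_ h1)
      rw [← Nat.cast_mul, ← pow_succ]
      exact Int.natCast_dvd_natCast.2 (pow_dvd_pow l hik)
    exact (mul_dvd_mul_iff_right (by exact_mod_cast hlp.ne_zero)).1 h2
  obtain ⟨t, ht⟩ := hg
  have hbez := Int.gcd_eq_gcd_ab ((l ^ k : ℕ) : ℤ) ((m : ℤ) - 1)
  refine ⟨-(t * Int.gcdB (l ^ k : ℕ) ((m : ℤ) - 1)), ?_⟩
  set b := -(t * Int.gcdB (l ^ k : ℕ) ((m : ℤ) - 1)) with hb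
  calc θ ^ b * φ * (θ ^ b)⁻¹ = θ ^ b * (φ * θ ^ (-b) * φ⁻¹) * φ := by group
    _ = θ ^ (b + (m : ℤ) * -b) * φ := by rw [hconj, ← zpow_add]
    _ = θ ^ a * φ := by
      congr 1
      rw [← mul_inv_eq_one, ← zpow_neg, ← zpow_add, hord]
      refine ⟨-(t * Int.gcdA (l ^ k : ℕ) ((m : ℤ) - 1)), ?_⟩
      rw [hb, ht, hbez]
      ring

/-- Lifting the exponent: `l` divides `a ^ l + 1` once more than `a + 1`. -/
theorem padicValNat_pow_prime_add_one {l a : ℕ} [Fact l.Prime] (hl : Odd l) (h : l ∣ a ^ l + 1) :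
    padicValNat l (a ^ l + 1) = padicValNat l (a + 1) + 1 := by
  have hlp : Nat.Prime l := Fact.out
  have h1 : l ∣ a + 1 := by
    rw [← ZMod.natCast_eq_zero_iff] at h ⊢
    push_cast at h ⊢
    rwa [ZMod.pow_card] at h
  have h2 : ¬ l ∣ a := fun h2 => hlp.one_lt.ne' (Nat.dvd_one.1 ((Nat.dvd_add_right h2).1 h1))
  have h3 := padicValNat.pow_add_pow (p := l) hl h1 h2 (n := l) hl
  rwa [one_pow, padicValNat.self hlp.one_lt] at h3

section tiling

variable {G : Type*} [Group G] {s r : G}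

/-- The translations of a `(4,4,2)` triangle commute, and the half-turn `s²` inverts them. -/
theorem tiling_commute (hs : s * s * (s * s) = 1) (hr : r * r * (r * r) = 1)
    (hsr : s⁻¹ * r * (s⁻¹ * r) = 1) :
    Commute (s * s * (r * r)) (s * (s * s * (r * r)) * s⁻¹) ∧
      (s * s) * (s * (s * s * (r * r)) * s⁻¹) * (s * s)⁻¹ = (s * (s * s * (r * r)) * s⁻¹)⁻¹ := by
  have e1 : r * s⁻¹ * r = s := by
    calc r * s⁻¹ * r = s * (s⁻¹ * r * (s⁻¹ * r)) := by group
      _ = s := by rw [hsr, mul_one]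
  have e2 : r * s⁻¹ = s * r⁻¹ := eq_mul_inv_of_mul_eq e1
  have hs3 : s * s * s = s⁻¹ := eq_inv_of_mul_eq_one_left (by rw [← hs]; group)
  have hr2 : r⁻¹ * r⁻¹ = r * r := by
    rw [← mul_inv_rev]; exact inv_eq_of_mul_eq_one_right hr
  set T := s * r with hT
  -- the conjugates of `T`
  have a1 : T * (s * T * s⁻¹) = s * s * (r * r) := by
    calc T * (s * T * s⁻¹) = s * r * (s * s) * (r * s⁻¹) := by rw [hT]; group
      _ = s * r * (s * s * s) * r⁻¹ := by rw [e2]; group
      _ = s * (r * s⁻¹) * r⁻¹ := by rw [hs3]; group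
      _ = s * s * (r⁻¹ * r⁻¹) := by rw [e2]; group
      _ = s * s * (r * r) := by rw [hr2]
  have a2 : (s * T * s⁻¹) * T = s * s * (r * r) := by rw [hT]; group
  have a3 : s * (s * T * s⁻¹) * s⁻¹ = T⁻¹ := by
    refine eq_inv_of_mul_eq_one_right ?_
    calc T * (s * (s * T * s⁻¹) * s⁻¹) = s * (r * (s * s * s)) * r * (s⁻¹ * s⁻¹) := by rw [hT]; group
      _ = s * (r * s⁻¹ * r) * (s⁻¹ * s⁻¹) := by rw [hs3]; group
      _ = 1 := by rw [e1]; group
  have hc : Commute T (s * T * s⁻¹) := a1.trans a2.symm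
  have hT2 : s * (s * s * (r * r)) * s⁻¹ = (s * T * s⁻¹) * T⁻¹ := by
    rw [← a1, ← a3]; group
  set T' := s * T * s⁻¹ with hT'
  refine ⟨?_, ?_⟩
  · rw [hT2, ← a1]
    exact (hc.mul_left (Commute.refl T')).mul_right ((Commute.refl T).mul_left hc.symm).inv_right
  · rw [hT2]
    have b1 : (s * s) * T * (s * s)⁻¹ = T⁻¹ := by
      rw [← a3, hT']; group
    have b2 : (s * s) * T' * (s * s)⁻¹ = T'⁻¹ := by
      calc (s * s) * T' * (s * s)⁻¹ = s * ((s * s) * T * (s * s)⁻¹) * s⁻¹ := by rw [hT']; group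
        _ = T'⁻¹ := by rw [b1, hT']; group
    calc (s * s) * (T' * T⁻¹) * (s * s)⁻¹ =
        ((s * s) * T' * (s * s)⁻¹) * ((s * s) * T * (s * s)⁻¹)⁻¹ := by group
      _ = T'⁻¹ * T := by rw [b1, b2, inv_inv]
      _ = (T' * T⁻¹)⁻¹ := by
        rw [hc.symm.inv_right.eq]
        exact (((mul_inv_rev T⁻¹ T').trans (by rw [inv_inv]))).symm

/-- An involution `u` with `u s u = s⁻¹` centralising `s² r²` inverts the second translation. -/
theorem tiling_inverts (hs : s * s * (s * s) = 1) (hr : r * r * (r * r) = 1)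
    (hsr : s⁻¹ * r * (s⁻¹ * r) = 1) {u : G}
    (hus : u * s * u⁻¹ = s⁻¹) (hu : Commute u (s * s * (r * r))) :
    u * (s * (s * s * (r * r)) * s⁻¹) * u⁻¹ = (s * (s * s * (r * r)) * s⁻¹)⁻¹ := by
  obtain ⟨-, hz⟩ := tiling_commute hs hr hsr
  set X := s * s * (r * r) with hX
  have hs4 : (s * s)⁻¹ = s * s := inv_eq_of_mul_eq_one_right hs
  calc u * (s * X * s⁻¹) * u⁻¹ = (u * s * u⁻¹) * (u * X * u⁻¹) * (u * s * u⁻¹)⁻¹ := by group
    _ = s⁻¹ * X * s := by rw [hus, hu.eq, mul_inv_cancel_right, inv_inv]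
    _ = (s * s)⁻¹ * (s * X * s⁻¹) * (s * s) := by group
    _ = (s * s) * (s * X * s⁻¹) * (s * s)⁻¹ := by rw [hs4]
    _ = _ := hz

end tiling

end Cfsg.Agent.Aschbacher
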