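/-
The case `i = 1`, `L = q²`, `r` odd of the finish of the criterion (CRITERION_FINISH.md B5;
owner: helper1): a point stabiliser normalises no homocyclic group of exponent four and odd rank
inverted by one of its involutions, as it has no hom to an abelian group detecting an involution.

* `FinishHyp.false_of_homocyclic`
-/
import Cfsg.Agent.Lib.Aschbacher.CriterionNoTwo
import Cfsg.Agent.Lib.Aschbacher.CriterionCount

set_option autoImplicit false
set_option linter.style.haveILetI false
set_option linter.unusedSectionVars false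

namespace Cfsg.Agent.Aschbacher.FinishHyp

open Cfsg Involution MulAction

universe u

variable {G : Type u} {Ω : Type u} [Group G] [MulAction G Ω] [Finite G] [Finite Ω]
  [FaithfulSMul G Ω] {D : Set G} {pt : G → Ω} (h : FinishHyp G Ω D pt)
include h

/-- **B5, `r` odd.** -/
theorem false_of_homocyclic {a : Ω} {W : Subgroup G}
    (hn : stabilizer G a ≤ Subgroup.normalizer (W : Set G))
    (hcomm : ∀ x ∈ W, ∀ y ∈ W, Commute x y) (h4 : ∀ x ∈ W, x ^ 4 = 1)
    (h2 : ∀ x ∈ W, x ^ 2 = 1 → ∃ y ∈ W, y ^ 2 = x) {r : ℕ} (hr : Odd r)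
    (hcard : Nat.card W = 4 ^ r) {v : G} (hv : orderOf v = 2) (hva : v • a = a)
    (hinv : ∀ x ∈ W, v * x * v⁻¹ = x⁻¹) : False := by
  letI : CommGroup W :=
    { (inferInstance : Group W) with mul_comm := fun x y => Subtype.ext (hcomm x x.2 y y.2).eq }
  obtain ⟨χ, hχ⟩ := exists_hom_units_of_inverting
    (((Subgroup.normalizerMonoidHom W).comp (Subgroup.inclusion hn) : stabilizer G a →* MulAut W))
    (fun x => Subtype.ext (by simpa using h4 x x.2))
    (fun x hx => by
      obtain ⟨y, hy, hyx⟩ := h2 x x.2 (by simpa using congrArg Subtype.val hx)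
      exact ⟨⟨y, hy⟩, Subtype.ext (by simpa using hyx)⟩)
    hr hcard (u := ⟨v, mem_stabilizer_iff.2 hva⟩)
    (fun x => Subtype.ext (by simpa using hinv x x.2))
  exact hχ (h.hom_stabilizer_eq_one χ ⟨v, mem_stabilizer_iff.2 hva⟩ (m := 1)
    (by rw [pow_one, pow_two]; exact mul_self hv))

end Cfsg.Agent.Aschbacher.FinishHyp
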