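/-
An involution fixing two points, when it centralises the members at them (CRITERION.md §5 start;
owner: helper87).

`h : FinishHyp G Ω D pt`, `hv : IsFixInv Ω v`, `ι` the number of members at a point, `f = |Fix v|`.

* `FinishHyp.card_centralizing_fix` : every member at a fixed point of `v` centralises it
* `FinishHyp.swapper_unique` : a pair moved by `v` has exactly one swapper centralising `v`
* `FinishHyp.card_fixed_mul` : `v w` fixes as many points as `v`, `w` a member centralising `v`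
* `FinishHyp.card_points_fix` : `n - 1 = (f - 1) (1 + ι f)`
* `FinishHyp.card_fixed_cases` : `f = (ι + 1) ^ i + 1`, `i ∈ {1, 2, 3}`
-/
import Cfsg.Agent.Lib.Aschbacher.CriterionMove

set_option autoImplicit false
set_option linter.style.haveILetI false
set_option linter.unusedSectionVars false

namespace Cfsg.Agent.Aschbacher.FinishHyp

open Cfsg Involution

universe u

variable {G : Type u} {Ω : Type u} [Group G] [MulAction G Ω] [Finite G] [Finite Ω]
  [FaithfulSMul G Ω] {D : Set G} {pt : G → Ω} (h : FinishHyp G Ω D pt) {v : G} (hv : IsFixInv Ω v)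
include h hv

/-- All members at a fixed point of `v` centralise it. -/
theorem card_centralizing_fix {x : Ω} (hvx : v • x = x) :
    Nat.card {d : G // d ∈ D ∧ pt d = x ∧ Commute d v} = Nat.card {d : G // d ∈ D ∧ pt d = x} :=
  Nat.card_congr (Equiv.subtypeEquivRight fun _ =>
    ⟨fun hd => ⟨hd.1, hd.2.1⟩, fun hd => ⟨hd.1, hd.2, h.commute_of_fixInv hv hvx hd.1 hd.2⟩⟩)

/-- A pair moved by `v` has exactly one swapper centralising `v`; its point is fixed by `v`. -/
theorem swapper_unique {y : Ω} (hy : v • y ≠ y) :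
    ∃! w : G, w ∈ D ∧ Commute w v ∧ w • y = v • y := by
  obtain ⟨hv2, a, b, hab, ha, hb⟩ := hv
  have h1 := h.pc.card_swappers_mul h.comm hv2 hab ha hb hy
  rw [h.card_centralizing_fix ⟨hv2, a, b, hab, ha, hb⟩ ha] at h1
  obtain ⟨hsub, ⟨w, hw⟩⟩ := Nat.card_eq_one_iff_unique.1
    (mul_eq_right₀ (Nat.ne_of_gt (h.pc.odd_card a).pos) |>.1 h1)
  exact ⟨w, hw, fun w' hw' => congrArg Subtype.val (Subsingleton.elim ⟨w', hw'⟩
    (⟨w, hw⟩ : {w : G // w ∈ D ∧ Commute w v ∧ w • y = v • y}))⟩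

theorem card_fix_two : 2 ≤ Nat.card {p : Ω // v • p = p} := by
  obtain ⟨-, a, b, hab, ha, hb⟩ := hv
  haveI : Nontrivial {p : Ω // v • p = p} :=
    ⟨⟨a, ha⟩, ⟨b, hb⟩, fun e => hab (congrArg Subtype.val e)⟩
  exact Finite.one_lt_card

theorem card_fix_lt : Nat.card {p : Ω // v • p = p} < Nat.card Ω := by
  classical
  obtain ⟨y, hy⟩ : ∃ y : Ω, v • y ≠ y := by
    by_contra! hall
    exact ne_one hv.1 (eq_of_smul_eq_smul fun p : Ω => by rw [hall p, one_smul])
  haveI := Fintype.ofFinite Ω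
  rw [Nat.card_eq_fintype_card, Nat.card_eq_fintype_card]
  exact Fintype.card_subtype_lt hy

/-- The pencil count: `n - f = ι f (f' - 1)`. -/
theorem card_moved_fix {x : Ω} {w : G} (hw : w ∈ D) (hwv : Commute w v) :
    Nat.card Ω - Nat.card {p : Ω // v • p = p} = Nat.card {p : Ω // v • p = p} *
      Nat.card {d : G // d ∈ D ∧ pt d = x} * (Nat.card {p : Ω // (v * w) • p = p} - 1) := by
  obtain ⟨hv2, a, b, hab, ha, hb⟩ := hv
  have h1 := h.pc.card_moved_mul h.comm hv2 hab ha hb hw hwv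
  rw [h.card_centralizing_fix ⟨hv2, a, b, hab, ha, hb⟩ ha] at h1
  rw [Bender.card_point_eq h.pc x a]
  refine Nat.eq_of_mul_eq_mul_right (h.pc.odd_card a).pos ?_
  rw [h1]
  ring

/-- `v w` is again an involution fixing two points. -/
theorem isFixInv_mul {w : G} (hw : w ∈ D) (hwv : Commute w v) : IsFixInv Ω (v * w) := by
  have h2 := h.card_fix_two hv
  have hlt := h.card_fix_lt hv
  have hm := h.card_moved_fix hv (x := pt w) hw hwv
  have hf' : 2 ≤ Nat.card {p : Ω // (v * w) • p = p} := by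
    by_contra hcon
    rw [show Nat.card {p : Ω // (v * w) • p = p} - 1 = 0 by omega, mul_zero] at hm
    omega
  obtain ⟨hv2, a, b, hab, ha, hb⟩ := hv
  refine ⟨orderOf_of_sq ?_ fun e => hab ?_, ?_⟩
  · calc v * w * (v * w) = v * (w * v) * w := by group
      _ = (v * v) * (w * w) := by rw [hwv.eq]; group
      _ = 1 := by rw [mul_self hv2, mul_self (h.pc.inv w hw), one_mul]
  · have hvw : v = w := by rw [eq_inv_of_mul_eq_one_left e, inv_eq (h.pc.inv w hw)]
    exact ((h.pc.fixed_iff w hw a).1 (hvw ▸ ha)).trans ((h.pc.fixed_iff w hw b).1 (hvw ▸ hb)).symm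
  · obtain ⟨⟨p, hp⟩, ⟨q, hq⟩, hne⟩ := (Finite.one_lt_card_iff_nontrivial.1
      (show 1 < Nat.card {p : Ω // (v * w) • p = p} by omega)).exists_pair_ne
    exact ⟨p, q, fun e => hne (Subtype.ext e), hp, hq⟩

/-- `v w` fixes as many points as `v`. -/
theorem card_fixed_mul {w : G} (hw : w ∈ D) (hwv : Commute w v) :
    Nat.card {p : Ω // (v * w) • p = p} = Nat.card {p : Ω // v • p = p} := by
  have hg := h.isFixInv_mul hv hw hwv
  have hwg : Commute w (v * w) := hwv.mul_right (Commute.refl w)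
  have h1 := h.card_moved_fix hv (x := pt w) hw hwv
  have h2 := h.card_moved_fix hg (x := pt w) hw hwg
  rw [show v * w * w = v by rw [mul_assoc, mul_self (h.pc.inv w hw), mul_one]] at h2
  have hn1 := (h.card_fix_lt hv).le
  have hn2 := (h.card_fix_lt hg).le
  have ha2 := h.card_fix_two hv
  have hb2 := h.card_fix_two hg
  set n := Nat.card Ω
  set f := Nat.card {p : Ω // v • p = p}
  set f' := Nat.card {p : Ω // (v * w) • p = p}
  set ι := Nat.card {d : G // d ∈ D ∧ pt d = pt w} with hι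
  obtain ⟨d, e, hd, he, hdx, hex, hne, -⟩ := h.exists_two (pt w)
  have hι2 : 2 ≤ ι := by
    haveI : Nontrivial {d : G // d ∈ D ∧ pt d = pt w} :=
      ⟨⟨d, hd, hdx⟩, ⟨e, he, hex⟩, fun e' => hne (congrArg Subtype.val e')⟩
    exact Finite.one_lt_card
  zify [hn1, hn2, show 1 ≤ f by omega, show 1 ≤ f' by omega] at h1 h2
  have key : ((f' : ℤ) - f) * ((ι : ℤ) - 1) = 0 := by linear_combination h2 - h1
  rcases mul_eq_zero.1 key with h0 | h0
  · omega
  · omega

/-- `n - 1 = (f - 1) (1 + ι f)`. -/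
theorem card_points_fix (x : Ω) :
    Nat.card Ω - 1 = (Nat.card {p : Ω // v • p = p} - 1) *
      (1 + Nat.card {d : G // d ∈ D ∧ pt d = x} * Nat.card {p : Ω // v • p = p}) := by
  obtain ⟨hv2, a, b, hab, ha, hb⟩ := hv
  obtain ⟨w, hw, -, hwv⟩ := h.pc.exists_commuting (mul_self hv2) ha
  have hv' : IsFixInv Ω v := ⟨hv2, a, b, hab, ha, hb⟩
  have h1 := h.card_moved_fix hv' (x := x) hw hwv
  rw [h.card_fixed_mul hv' hw hwv] at h1
  have h2 := h.card_fix_two hv'
  have hn := (h.card_fix_lt hv').le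
  zify [hn, show 1 ≤ Nat.card {p : Ω // v • p = p} by omega, show 1 ≤ Nat.card Ω by omega] at h1 ⊢
  linear_combination h1

/-- `v` fixes `(ι + 1) ^ i + 1` points, `i ∈ {1, 2, 3}`. -/
theorem card_fixed_cases (x : Ω) :
    ∃ i : ℕ, (i = 1 ∨ i = 2 ∨ i = 3) ∧ Nat.card {p : Ω // v • p = p} =
      (Nat.card {d : G // d ∈ D ∧ pt d = x} + 1) ^ i + 1 := by
  obtain ⟨hv2, a, b, hab, ha, hb⟩ := hv
  obtain ⟨d, e, hd, he, hdx, hex, hne, -⟩ := h.exists_two a
  have hc : Nat.card {d : G // d ∈ D ∧ pt d = a ∧ Commute d v} =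
      Nat.card {d : G // d ∈ D ∧ pt d = x} := by
    rw [h.card_centralizing_fix ⟨hv2, a, b, hab, ha, hb⟩ ha, Bender.card_point_eq h.pc a x]
  obtain ⟨i, hi, hf⟩ := h.pc.card_fixed_cases h.comm hv2 hab ha hb h.ih (by
    rw [hc, ← Bender.card_point_eq h.pc a x]
    haveI : Nontrivial {d : G // d ∈ D ∧ pt d = a} :=
      ⟨⟨d, hd, hdx⟩, ⟨e, he, hex⟩, fun e' => hne (congrArg Subtype.val e')⟩
    exact Finite.one_lt_card)
  exact ⟨i, hi, by rw [hf, hc]⟩

end Cfsg.Agent.Aschbacher.FinishHyp
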