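/-
Chords: the group generated by the members at two points (finish of the core-free criterion,
CRITERION.md 5.0; owner: helper2).

`C : ChordHyp G Ω D pt` adds to `FinishHyp` that every involution fixing two points centralises the
members at all its fixed points, and that there is one.

* `FinishHyp.exists_commute_member` : an element normalising a proper `M`, fixing a point with two
  members of `M` and two further points of members, commutes with a member of `M` at that point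
* `chord D pt a b` : the group generated by `E_a` and `E_b`; `centPair D pt a b` is `R(a,b)`
* `ChordHyp.centPair_comm`, `commute_chord` : `R(a,b)` centralises the chord
* `ChordHyp.exists_fixInv_at` : every pair is fixed by an involution
* `FinishHyp.exists_card_full` : a proper subgroup with all members at one of its points has
  `q ^ j + 1` points
* `ChordHyp.card_chord_dvd` : and the chords are blocks of a design on them
-/
import Cfsg.Agent.Lib.Aschbacher.CriterionCtx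
import Cfsg.Agent.Lib.Aschbacher.CriterionSub
import Cfsg.Agent.Lib.Aschbacher.PairKernel

set_option autoImplicit false
set_option linter.style.haveILetI false
set_option linter.unusedSectionVars false

namespace Cfsg.Agent.Aschbacher

open Cfsg Involution MulAction

universe u

variable {G : Type u} {Ω : Type u} [Group G] [MulAction G Ω]

/-- The group generated by the members at two points. -/
def chord (D : Set G) (pt : G → Ω) (a b : Ω) : Subgroup G := atPoint D pt a ⊔ atPoint D pt b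

/-- The elements fixing two points and centralising the members at the first. -/
def centPair (D : Set G) (pt : G → Ω) (a b : Ω) : Subgroup G :=
  stabilizer G a ⊓ stabilizer G b ⊓ Subgroup.centralizer {d | d ∈ D ∧ pt d = a}

theorem mem_centPair {D : Set G} {pt : G → Ω} {a b : Ω} {k : G} :
    k ∈ centPair D pt a b ↔ k • a = a ∧ k • b = b ∧ ∀ d ∈ D, pt d = a → Commute k d := by
  simp only [centPair, Subgroup.mem_inf, mem_stabilizer_iff, Subgroup.mem_centralizer_iff,
    Set.mem_setOf_eq, and_assoc, and_imp]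
  exact and_congr_right fun _ => and_congr_right fun _ =>
    forall_congr' fun d => forall₂_congr fun _ _ => ⟨Eq.symm, Eq.symm⟩

theorem mem_chord_left {D : Set G} {pt : G → Ω} {a : Ω} (b : Ω) {d : G} (hd : d ∈ D)
    (hda : pt d = a) : d ∈ chord D pt a b :=
  Subgroup.mem_sup_left (Subgroup.subset_closure ⟨hd, hda⟩)

theorem mem_chord_right {D : Set G} {pt : G → Ω} (a : Ω) {b : Ω} {d : G} (hd : d ∈ D)
    (hdb : pt d = b) : d ∈ chord D pt a b :=
  Subgroup.mem_sup_right (Subgroup.subset_closure ⟨hd, hdb⟩)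

theorem chord_comm (D : Set G) (pt : G → Ω) (a b : Ω) : chord D pt a b = chord D pt b a := sup_comm _ _

theorem chord_le {D : Set G} {pt : G → Ω} {a b : Ω} {M : Subgroup G}
    (ha : ∀ d ∈ D, pt d = a → d ∈ M) (hb : ∀ d ∈ D, pt d = b → d ∈ M) : chord D pt a b ≤ M :=
  sup_le ((Subgroup.closure_le _).2 fun d hd => ha d hd.1 hd.2)
    ((Subgroup.closure_le _).2 fun d hd => hb d hd.1 hd.2)

/-- The pairs of distinct elements of a finite type. -/
theorem card_distinct_pairs (α : Type*) [Finite α] :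
    Nat.card {z : α × α // z.1 ≠ z.2} = Nat.card α * (Nat.card α - 1) := by
  classical
  haveI := Fintype.ofFinite α
  have h : Fintype.card {z : α × α // z.1 = z.2} = Fintype.card α :=
    Fintype.card_congr
      { toFun := fun z => z.1.1
        invFun := fun x => ⟨(x, x), rfl⟩
        left_inv := fun z => Subtype.ext (Prod.ext rfl z.2)
        right_inv := fun x => rfl }
  rw [Nat.card_eq_fintype_card, Nat.card_eq_fintype_card, Fintype.card_subtype_compl, h,
    Fintype.card_prod, Nat.mul_sub, mul_one]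

namespace PointClass

variable [Finite G] {D : Set G} {pt : G → Ω} (P : PointClass G Ω D pt)
include P

theorem map_conj_atPoint (g : G) (x : Ω) :
    (atPoint D pt x).map (MulAut.conj g).toMonoidHom = atPoint D pt (g • x) := by
  refine le_antisymm ?_ ?_
  · rw [Subgroup.map_le_iff_le_comap]
    refine (Subgroup.closure_le _).2 fun d hd => Subgroup.subset_closure ?_
    exact ⟨P.conj_mem g d hd.1, (P.pt_conj g hd.1).trans (congrArg _ hd.2)⟩
  · refine (Subgroup.closure_le _).2 fun d hd => ⟨g⁻¹ * d * g⁻¹⁻¹, Subgroup.subset_closure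
      ⟨P.conj_mem g⁻¹ d hd.1, by rw [P.pt_conj g⁻¹ hd.1, hd.2, inv_smul_smul]⟩, ?_⟩
    simp [mul_assoc]

theorem map_conj_chord (g : G) (a b : Ω) :
    (chord D pt a b).map (MulAut.conj g).toMonoidHom = chord D pt (g • a) (g • b) := by
  rw [chord, Subgroup.map_sup, P.map_conj_atPoint, P.map_conj_atPoint]
  rfl

theorem mem_normalizer_chord {k : G} {a b : Ω} (ha : k • a = a) (hb : k • b = b) :
    k ∈ Subgroup.normalizer (chord D pt a b : Set G) :=
  Bender.mem_normalizer_of_forall fun r hr => by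
    have h : k * r * k⁻¹ ∈ (chord D pt a b).map (MulAut.conj k).toMonoidHom := ⟨r, hr, rfl⟩
    rwa [P.map_conj_chord, ha, hb] at h

end PointClass

/-- `FinishHyp` with the members centralised by every involution fixing their point and another. -/
structure ChordHyp (G : Type u) [Group G] [Finite G] (Ω : Type u) [MulAction G Ω] (D : Set G)
    (pt : G → Ω) : Prop where
  fin : FinishHyp G Ω D pt
  cent : ∀ u : G, IsFixInv Ω u → ∀ d ∈ D, u • pt d = pt d → Commute u d
  exists_fixInv : ∃ u : G, IsFixInv Ω u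

variable [Finite G] [Finite Ω] [FaithfulSMul G Ω] {D : Set G} {pt : G → Ω}

namespace FinishHyp

variable (h : FinishHyp G Ω D pt)
include h

/-- All `E_x` have the same order. -/
theorem card_E_eq (x y : Ω) : Nat.card (atPoint D pt x) = Nat.card (atPoint D pt y) := by
  obtain ⟨g, rfl⟩ := h.pc.exists_smul_eq x y
  rw [← h.pc.map_conj_atPoint g x,
    Subgroup.card_map_of_injective (MulAut.conj g).injective]

theorem card_E_ge (x : Ω) : 4 ≤ Nat.card (atPoint D pt x) := by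
  obtain ⟨r, hr, e⟩ := h.exists_card_E x
  rw [e]
  calc 4 = 2 ^ 2 := rfl
    _ ≤ 2 ^ r := Nat.pow_le_pow_right two_pos hr

/-- `G` is doubly transitive. -/
theorem exists_pair_map {a b c d : Ω} (hab : a ≠ b) (hcd : c ≠ d) :
    ∃ g : G, g • a = c ∧ g • b = d := by
  obtain ⟨g, rfl⟩ := h.pc.exists_smul_eq a c
  obtain ⟨k, hk, hkb⟩ := h.trans (g • a) (g • b) d (fun e => hab (smul_left_cancel g e)) hcd
  exact ⟨k * g, by rw [mul_smul, mem_stabilizer_iff.1 hk], by rw [mul_smul, hkb]⟩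

/-- Members at one point agreeing at another are equal. -/
theorem eq_of_smul_eq {d e : G} (hd : d ∈ D) (he : e ∈ D) (hpt : pt d = pt e) {c : Ω}
    (hc : c ≠ pt d) (heq : d • c = e • c) : d = e := by
  by_contra hne
  have hm : d * e ∈ atPoint D pt (pt d) :=
    mul_mem (h.mem_E.2 (Or.inr ⟨hd, rfl⟩)) (h.mem_E.2 (Or.inr ⟨he, hpt.symm⟩))
  have h1 : d * e ≠ 1 := fun e1 => hne ((mul_eq_one_iff_eq_inv.1 e1).trans (inv_eq (h.pc.inv e he)))
  refine hc (h.semiregular hm h1 ?_)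
  rw [mul_smul, ← heq, h.pc.smul_smul_self hd]

/-- An element normalising a proper `M`, fixing `p` and two further points of members in `M`,
commutes with a member of `M` at `p`, if there are two. -/
theorem exists_commute_member {M : Subgroup G} (hM : M ≠ ⊤) {p : Ω} {v e : G} (hv : v ∈ D)
    (hvM : v ∈ M) (hvp : pt v = p) (he : e ∈ D) (heM : e ∈ M) (hep : pt e = p) (hve : v ≠ e)
    {k : G} (hk : k ∈ Subgroup.normalizer (M : Set G)) (hkp : k • p = p) {c d : Ω}
    (hc : ∃ w ∈ D, w ∈ M ∧ pt w = c) (hd : ∃ w ∈ D, w ∈ M ∧ pt w = d) (hcp : c ≠ p) (hdp : d ≠ p)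
    (hcd : c ≠ d) (hkc : k • c = c) (hkd : k • d = d) :
    ∃ f ∈ D, f ∈ M ∧ pt f = p ∧ Commute k f := by
  classical
  have P := h.pc
  obtain ⟨w, hw, hwM, hwc⟩ := id hc
  have hwp : pt w ≠ p := hwc ▸ hcp
  rcases P.exists_kernel_or_unique h.ih (P.pointNC_of_commute h.comm) hM hv hvM hvp hw hwM hwp with
    huniq | ⟨Q, hQ2, hQg, hQt, hQn⟩
  · exact absurd (huniq e he heM hep).symm hve
  obtain ⟨R, φ, -, hsmul, -, hf3, -, -, -⟩ := P.exists_image h.ih hM hv hvM hvp hw hwM hwp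
  have hinv : ∀ τ ∈ Q, orderOf τ = 2 → ∃ f ∈ D, f ∈ M ∧ pt f = p ∧
      ∀ r : PtSet D pt M, (τ r).1 = f • r.1 := by
    intro τ hτ hτ2
    obtain ⟨g, hg, hgp, rfl⟩ := hQg τ hτ
    have hval : ((φ ⟨g, hg⟩ : R) : Equiv.Perm (PtSet D pt M)) = P.normHom M g :=
      Equiv.ext fun r => Subtype.ext (hsmul ⟨g, hg⟩ r)
    obtain ⟨f, hf, hfe⟩ := hf3 (φ ⟨g, hg⟩) (by rw [← Subgroup.orderOf_coe, hval, hτ2])
    have hact : ∀ r : PtSet D pt M, (P.normHom M g r).1 = (f : G) • r.1 := fun r => by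
      rw [← hsmul f r, hfe, hsmul, P.normHom_apply]
    refine ⟨f, hf, memSub_le D M f.2, ((P.fixed_iff _ hf p).1 ?_).symm, hact⟩
    have := hact ⟨p, v, hv, hvM, hvp⟩
    rw [P.normHom_apply] at this
    exact this.symm.trans hgp
  have hsemi : ∀ σ ∈ Q, ∀ r : PtSet D pt M, r.1 ≠ p → σ r = r → σ = 1 := by
    intro σ hσ r hr hfix
    by_contra hne
    obtain ⟨l, hl⟩ := hQ2 ⟨σ, hσ⟩
    have hl' : σ ^ 2 ^ l = 1 := congrArg Subtype.val hl
    obtain ⟨m, -, hm⟩ := (Nat.dvd_prime_pow Nat.prime_two).1 (orderOf_dvd_of_pow_eq_one hl')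
    have hm0 : m ≠ 0 := fun e0 => hne (orderOf_eq_one_iff.1 (by rw [hm, e0, pow_zero]))
    have hord := orderOf_pow_orderOf_div (x := σ) (n := 2) (orderOf_pos σ).ne'
      (by rw [hm]; exact dvd_pow_self 2 hm0)
    obtain ⟨f, hf, -, hfp, hact⟩ := hinv _ (Q.pow_mem hσ _) hord
    refine hr (((P.fixed_iff f hf r.1).1 ?_).trans hfp)
    rw [← hact r]
    exact congrArg Subtype.val (Function.IsFixedPt.iterate (f := σ) hfix (orderOf σ / 2) |>
      fun hh => by rw [Equiv.Perm.coe_pow]; exact hh)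
  set c' : PtSet D pt M := ⟨c, hc⟩
  set d' : PtSet D pt M := ⟨d, hd⟩
  obtain ⟨σ, hσ, hσc⟩ := hQt c' d' hcp hdp
  set kb := P.normHom M ⟨k, hk⟩ with hkb
  have hkc' : kb c' = c' := Subtype.ext hkc
  have hkd' : kb d' = d' := Subtype.ext hkd
  have hkci : kb⁻¹ c' = c' := Equiv.Perm.inv_eq_iff_eq.2 hkc'.symm
  have hσ' : kb * σ * kb⁻¹ ∈ Q :=
    (Subgroup.mem_normalizer_iff.1 (hQn ⟨k, hk⟩ hkp) σ).1 hσ
  have hcomm : Commute kb σ := by
    have h1 := hsemi (σ⁻¹ * (kb * σ * kb⁻¹)) (Q.mul_mem (Q.inv_mem hσ) hσ') c' hcp (by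
      simp only [Equiv.Perm.mul_apply]
      rw [hkci, hσc, hkd', Equiv.Perm.inv_eq_iff_eq, hσc])
    rw [inv_mul_eq_one] at h1
    exact mul_inv_eq_iff_eq_mul.1 h1.symm
  have hσ1 : σ ≠ 1 := fun e1 => hcd (by
    rw [e1, Equiv.Perm.one_apply] at hσc
    exact congrArg Subtype.val hσc)
  obtain ⟨l, hl⟩ := hQ2 ⟨σ, hσ⟩
  obtain ⟨m, -, hm⟩ := (Nat.dvd_prime_pow Nat.prime_two).1
    (orderOf_dvd_of_pow_eq_one (congrArg Subtype.val hl : σ ^ 2 ^ l = 1))
  have hm0 : m ≠ 0 := fun e0 => hσ1 (orderOf_eq_one_iff.1 (by rw [hm, e0, pow_zero]))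
  obtain ⟨f, hf, hfM, hfp, hact⟩ := hinv _ (Q.pow_mem hσ (orderOf σ / 2))
    (orderOf_pow_orderOf_div (orderOf_pos σ).ne' (by rw [hm]; exact dvd_pow_self 2 hm0))
  refine ⟨f, hf, hfM, hfp, ?_⟩
  have hkf : k • f • c = f • c := by
    have h1 := congrArg (fun τ : Equiv.Perm (PtSet D pt M) => (τ c').1)
      (hcomm.pow_right (orderOf σ / 2)).eq
    simp only [Equiv.Perm.mul_apply, hkc'] at h1
    rw [hkb, P.normHom_apply, hact] at h1
    exact h1
  have heq : k * f * k⁻¹ = f := h.eq_of_smul_eq (P.conj_mem k f hf) hf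
    (by rw [P.pt_conj k hf, hfp, hkp]) (c := c) (by rw [P.pt_conj k hf, hfp, hkp]; exact hcp) (by
      rw [mul_smul, mul_smul, inv_smul_eq_iff.2 hkc.symm, hkf])
  exact mul_inv_eq_iff_eq_mul.1 heq

/-- In a proper subgroup with all members at one of its points, all members at every point. -/
theorem mem_of_full {M : Subgroup G} (hM : M ≠ ⊤) {a : Ω} (hMa : ∀ d ∈ D, pt d = a → d ∈ M)
    {w : G} (hw : w ∈ D) (hwM : w ∈ M) (hwa : pt w ≠ a) {d : G} (hd : d ∈ D)
    (hpts : ∃ f ∈ D, f ∈ M ∧ pt f = pt d) : d ∈ M := by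
  obtain ⟨v, hv, hva⟩ := h.pc.exists_at a
  obtain ⟨R, φ, hfs, hsmul, -, -, htrans, -, -⟩ :=
    h.pc.exists_image h.ih hM hv (hMa v hv hva) hva hw hwM hwa
  obtain ⟨σ, hσ⟩ := htrans ⟨pt d, hpts⟩ ⟨a, v, hv, hMa v hv hva, hva⟩
  obtain ⟨g, rfl⟩ := hfs σ
  have hg : (g : G) • pt d = a := by
    have := congrArg Subtype.val hσ
    rwa [hsmul] at this
  have hgM : (g : G) ∈ M := memSub_le D M g.2
  have h1 := hMa _ (h.pc.conj_mem (g : G) d hd) (by rw [h.pc.pt_conj _ hd, hg])
  have h2 := M.mul_mem (M.mul_mem (M.inv_mem hgM) h1) hgM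
  rwa [show (g : G)⁻¹ * ((g : G) * d * (g : G)⁻¹) * (g : G) = d by group] at h2

/-- A proper subgroup with all members at one of its points has `q ^ j + 1` points of members. -/
theorem exists_card_full {M : Subgroup G} (hM : M ≠ ⊤) {a : Ω}
    (hMa : ∀ d ∈ D, pt d = a → d ∈ M) {w : G} (hw : w ∈ D) (hwM : w ∈ M) (hwa : pt w ≠ a) :
    ∃ j : ℕ, 1 ≤ j ∧ j ≤ 3 ∧
      Nat.card (PtSet D pt M) = Nat.card (atPoint D pt a) ^ j + 1 := by
  obtain ⟨v, e, hv, he, hva, hea, hve, -⟩ := h.exists_two a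
  obtain ⟨n, j, -, hn, hj1, hj3, hj⟩ := h.pc.exists_card_ptSet h.comm h.ih hM hv (hMa v hv hva) hva
    he (hMa e he hea) hea hve hw hwM hwa
  refine ⟨j, hj1, hj3, ?_⟩
  rw [hj, ← hn, h.pc.card_atPoint h.comm hwa.symm]
  congr 3
  exact Nat.card_congr (Equiv.subtypeEquivRight fun d =>
    ⟨fun hd => ⟨hd.1, hd.2.1⟩, fun hd => ⟨hd.1, hd.2, hMa d hd.1 hd.2⟩⟩)

/-- An element fixing a point and centralised by everything is trivial. -/
theorem eq_one_of_central {k : G} {a : Ω} (ha : k • a = a) (hc : ∀ g : G, Commute k g) : k = 1 :=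
  eq_of_smul_eq_smul fun p : Ω => by
    obtain ⟨g, rfl⟩ := h.pc.exists_smul_eq a p
    rw [one_smul, ← mul_smul, (hc g).eq, mul_smul, ha]

/-- A non-trivial element fixing a point does not centralise all of `G`. -/
theorem ne_top_of_le_centralizer {k : G} {a : Ω} (ha : k • a = a) (hk : k ≠ 1) {M : Subgroup G}
    (hM : ∀ g ∈ M, Commute g k) : M ≠ ⊤ := fun e =>
  hk (h.eq_one_of_central ha fun g => (hM g (e ▸ Subgroup.mem_top g)).symm)

end FinishHyp

namespace ChordHyp

variable (C : ChordHyp G Ω D pt)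
include C

/-- Every pair of points is fixed by an involution. -/
theorem exists_fixInv_at {a b : Ω} (hab : a ≠ b) :
    ∃ u : G, IsFixInv Ω u ∧ u • a = a ∧ u • b = b := by
  obtain ⟨u, hu, c, d, hcd, hc, hd⟩ := C.exists_fixInv
  obtain ⟨g, hgc, hgd⟩ := C.fin.exists_pair_map hcd hab
  have h1 : (g * u * g⁻¹) • a = a := by rw [mul_smul, mul_smul, ← hgc, inv_smul_smul, hc]
  have h2 : (g * u * g⁻¹) • b = b := by rw [mul_smul, mul_smul, ← hgd, inv_smul_smul, hd]
  exact ⟨_, ⟨by rw [orderOf_conj, hu], a, b, hab, h1, h2⟩, h1, h2⟩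

/-- An involution fixing two points centralises their chord. -/
theorem commute_of_mem_chord {u : G} (hu : IsFixInv Ω u) {a b : Ω} (ha : u • a = a) (hb : u • b = b)
    {g : G} (hg : g ∈ chord D pt a b) : Commute g u :=
  mem_centralizer_iff_commute.1 (chord_le (a := a) (b := b)
    (fun d hd hda => mem_centralizer_iff_commute.2 (C.cent u hu d hd (by rw [hda, ha])).symm)
    (fun d hd hdb => mem_centralizer_iff_commute.2 (C.cent u hu d hd (by rw [hdb, hb])).symm) hg)

/-- The points of the chord of two fixed points are fixed. -/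
theorem smul_pts_chord {u : G} (hu : IsFixInv Ω u) {a b : Ω} (ha : u • a = a) (hb : u • b = b)
    {p : Ω} (hp : ∃ d ∈ D, d ∈ chord D pt a b ∧ pt d = p) : u • p = p := by
  obtain ⟨d, hd, hdc, rfl⟩ := hp
  exact C.fin.pc.commute_fix hd (C.commute_of_mem_chord hu ha hb hdc).symm

theorem chord_ne_top {a b : Ω} (hab : a ≠ b) : chord D pt a b ≠ ⊤ := by
  obtain ⟨u, hu, ha, hb⟩ := C.exists_fixInv_at hab
  exact C.fin.ne_top_of_le_centralizer ha (ne_one hu.1) fun g hg => C.commute_of_mem_chord hu ha hb hg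

theorem pts_left {a : Ω} (b : Ω) : ∃ d ∈ D, d ∈ chord D pt a b ∧ pt d = a := by
  obtain ⟨d, hd, hda⟩ := C.fin.pc.exists_at a
  exact ⟨d, hd, mem_chord_left b hd hda, hda⟩

theorem pts_right (a : Ω) {b : Ω} : ∃ d ∈ D, d ∈ chord D pt a b ∧ pt d = b := by
  obtain ⟨d, hd, hdb⟩ := C.fin.pc.exists_at b
  exact ⟨d, hd, mem_chord_right a hd hdb, hdb⟩

/-- All members at the points of a chord are in it. -/
theorem mem_chord_of_pts {a b : Ω} (hab : a ≠ b) {d : G} (hd : d ∈ D)
    (hp : ∃ f ∈ D, f ∈ chord D pt a b ∧ pt f = pt d) : d ∈ chord D pt a b := by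
  obtain ⟨w, hw, hwc, hwb⟩ := C.pts_right a (b := b)
  exact C.fin.mem_of_full (C.chord_ne_top hab) (fun f hf hfa => mem_chord_left b hf hfa) hw hwc
    (hwb ▸ hab.symm) hd hp

theorem centPair_le {a b : Ω} (hab : a ≠ b) : centPair D pt a b ≤ centPair D pt b a := by
  intro k hk
  obtain ⟨hka, hkb, hc⟩ := mem_centPair.1 hk
  have P := C.fin.pc
  obtain ⟨v, e, hv, he, hva, hea, hve, -⟩ := C.fin.exists_two a
  obtain ⟨f₁, f₂, hf₁, hf₂, hf₁b, hf₂b, hf, -⟩ := C.fin.exists_two b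
  have hvb : v • b ≠ b := fun e1 => hab (((P.fixed_iff v hv b).1 e1).trans hva).symm
  have hva' : v • a = a := by rw [← hva]; exact P.smul_pt hv
  have hne : a ≠ v • b := fun e1 => hab (by
    rw [← P.smul_smul_self hv b, ← e1, hva'])
  obtain ⟨f, hfD, -, hfb, hkf⟩ := C.fin.exists_commute_member (C.chord_ne_top hab) hf₁
    (mem_chord_right a hf₁ hf₁b) hf₁b hf₂ (mem_chord_right a hf₂ hf₂b) hf₂b hf
    (P.mem_normalizer_chord hka hkb) hkb (C.pts_left b)
    (P.smul_mem_ptSet (mem_chord_left b hv hva) (C.pts_right a)) hab hvb hne hka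
    (by rw [← mul_smul, (hc v hv hva).eq, mul_smul, hkb])
  obtain ⟨w, hw, hwv, hwp⟩ := P.exists_mid hv hfD (by rw [hva, hfb]; exact hab)
  rw [hva, hfb] at hwp
  have hkw : Commute k w := by
    have h1 := P.mid_unique hv (P.conj_mem k w hw) hw (by
      rw [hva, mul_smul, mul_smul, inv_smul_eq_iff.2 hka.symm, hwp, hkb]; exact hab.symm) (by
      rw [hwv]
      have h2 : k⁻¹ * v * k = v := by rw [mul_assoc, ← (hc v hv hva).eq, inv_mul_cancel_left]
      calc k * w * k⁻¹ * v * (k * w * k⁻¹)⁻¹ = k * (w * (k⁻¹ * v * k) * w⁻¹) * k⁻¹ := by group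
        _ = f := by rw [h2, hwv, hkf.eq, mul_inv_cancel_right])
    exact mul_inv_eq_iff_eq_mul.1 h1
  refine mem_centPair.2 ⟨hkb, hka, fun g hg hgb => ?_⟩
  have hcg := hc _ (P.conj_mem w⁻¹ g hg)
    (by rw [P.pt_conj w⁻¹ hg, hgb, ← hwp, inv_smul_smul])
  have h3 := (hkw.mul_right hcg).mul_right hkw.inv_right
  rwa [show w * (w⁻¹ * g * w⁻¹⁻¹) * w⁻¹ = g by group] at h3

/-- `R(a,b) = R(b,a)`. -/
theorem centPair_comm {a b : Ω} (hab : a ≠ b) : centPair D pt a b = centPair D pt b a :=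
  le_antisymm (C.centPair_le hab) (C.centPair_le hab.symm)

/-- `R(a,b)` centralises the chord. -/
theorem commute_chord {a b : Ω} (hab : a ≠ b) {k : G} (hk : k ∈ centPair D pt a b) {g : G}
    (hg : g ∈ chord D pt a b) : Commute g k :=
  mem_centralizer_iff_commute.1 (chord_le
    (fun d hd hda => mem_centralizer_iff_commute.2 ((mem_centPair.1 hk).2.2 d hd hda).symm)
    (fun d hd hdb => mem_centralizer_iff_commute.2
      ((mem_centPair.1 (C.centPair_le hab hk)).2.2 d hd hdb).symm) hg)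

/-- `R(a,b)` fixes the points of the chord. -/
theorem smul_pts_of_centPair {a b : Ω} (hab : a ≠ b) {k : G} (hk : k ∈ centPair D pt a b) {p : Ω}
    (hp : ∃ d ∈ D, d ∈ chord D pt a b ∧ pt d = p) : k • p = p := by
  obtain ⟨d, hd, hdc, rfl⟩ := hp
  exact C.fin.pc.commute_fix hd (C.commute_chord hab hk hdc).symm

/-- Every involution fixing `a` and `b` is in `R(a,b)`. -/
theorem fixInv_mem_centPair {a b : Ω} (hab : a ≠ b) {u : G} (hu : orderOf u = 2) (ha : u • a = a)
    (hb : u • b = b) : u ∈ centPair D pt a b :=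
  mem_centPair.2 ⟨ha, hb, fun d hd hda => C.cent u ⟨hu, a, b, hab, ha, hb⟩ d hd (hda ▸ ha)⟩

theorem card_chord_group_eq {a b c d : Ω} (hab : a ≠ b) (hcd : c ≠ d) :
    Nat.card (chord D pt a b) = Nat.card (chord D pt c d) := by
  obtain ⟨g, rfl, rfl⟩ := C.fin.exists_pair_map hab hcd
  rw [← C.fin.pc.map_conj_chord, Subgroup.card_map_of_injective (MulAut.conj g).injective]

/-- Two points of a chord have the same chord. -/
theorem chord_eq {a b c d : Ω} (hab : a ≠ b) (hcd : c ≠ d)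
    (hc : ∃ f ∈ D, f ∈ chord D pt a b ∧ pt f = c) (hd : ∃ f ∈ D, f ∈ chord D pt a b ∧ pt f = d) :
    chord D pt c d = chord D pt a b := by
  refine Subgroup.eq_of_le_of_card_ge ?_ (C.card_chord_group_eq hab hcd).le
  exact chord_le (fun f hf hfc => C.mem_chord_of_pts hab hf (hfc ▸ hc))
    fun f hf hfd => C.mem_chord_of_pts hab hf (hfd ▸ hd)

theorem card_chord_eq {a b c d : Ω} (hab : a ≠ b) (hcd : c ≠ d) :
    Nat.card (PtSet D pt (chord D pt a b)) = Nat.card (PtSet D pt (chord D pt c d)) := by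
  have P := C.fin.pc
  obtain ⟨g, rfl, rfl⟩ := C.fin.exists_pair_map hab hcd
  refine Nat.card_congr (Equiv.subtypeEquiv (MulAction.toPerm g) fun p => ?_)
  rw [MulAction.toPerm_apply]
  constructor
  · rintro ⟨f, hf, hfc, rfl⟩
    exact ⟨g * f * g⁻¹, P.conj_mem g f hf, P.map_conj_chord g a b ▸ ⟨f, hfc, rfl⟩, P.pt_conj g hf⟩
  · rintro ⟨f, hf, hfc, hfp⟩
    rw [← P.map_conj_chord g a b] at hfc
    obtain ⟨f₀, hf₀, rfl⟩ := hfc
    have hf' := P.conj_mem g⁻¹ _ hf
    simp only [MulEquiv.coe_toMonoidHom, MulAut.conj_apply] at hf hf' hfp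
    rw [show g⁻¹ * (g * f₀ * g⁻¹) * g⁻¹⁻¹ = f₀ by group] at hf'
    exact ⟨f₀, hf', hf₀, smul_left_cancel g (by rw [← P.pt_conj g hf', hfp])⟩

/-- The chord has `q ^ l + 1` points. -/
theorem exists_card_chord {a b : Ω} (hab : a ≠ b) : ∃ l : ℕ, 1 ≤ l ∧ l ≤ 3 ∧
    Nat.card (PtSet D pt (chord D pt a b)) = Nat.card (atPoint D pt a) ^ l + 1 := by
  obtain ⟨w, hw, hwc, hwb⟩ := C.pts_right a (b := b)
  exact C.fin.exists_card_full (C.chord_ne_top hab) (fun f hf hfa => mem_chord_left b hf hfa) hw hwc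
    (hwb ▸ hab.symm)

/-- In a proper subgroup with all members at its points the chords are the blocks of a design. -/
theorem card_chord_dvd {M : Subgroup G} {a b : Ω} (hab : a ≠ b)
    (hfull : ∀ d ∈ D, (∃ f ∈ D, f ∈ M ∧ pt f = pt d) → d ∈ M)
    (ha : ∃ f ∈ D, f ∈ M ∧ pt f = a) (hb : ∃ f ∈ D, f ∈ M ∧ pt f = b) :
    Nat.card (PtSet D pt (chord D pt a b)) ≤ Nat.card (PtSet D pt M) ∧
      Nat.card (PtSet D pt (chord D pt a b)) * (Nat.card (PtSet D pt (chord D pt a b)) - 1) ∣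
        Nat.card (PtSet D pt M) * (Nat.card (PtSet D pt M) - 1) := by
  classical
  have hle : ∀ {c d : Ω}, (∃ f ∈ D, f ∈ M ∧ pt f = c) → (∃ f ∈ D, f ∈ M ∧ pt f = d) →
      chord D pt c d ≤ M := fun hc hd =>
    chord_le (fun f hf e => hfull f hf (e ▸ hc)) fun f hf e => hfull f hf (e ▸ hd)
  have hpts : ∀ {c d p : Ω}, (∃ f ∈ D, f ∈ M ∧ pt f = c) → (∃ f ∈ D, f ∈ M ∧ pt f = d) →
      (∃ f ∈ D, f ∈ chord D pt c d ∧ pt f = p) → ∃ f ∈ D, f ∈ M ∧ pt f = p :=
    fun hc hd hp => by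
      obtain ⟨f, hf, hfc, e⟩ := hp
      exact ⟨f, hf, hle hc hd hfc, e⟩
  refine ⟨Nat.card_le_card_of_injective (fun p => (⟨p.1, hpts ha hb p.2⟩ : PtSet D pt M))
    fun p q e => Subtype.ext (congrArg Subtype.val e :), ?_⟩
  set N := Nat.card (PtSet D pt (chord D pt a b)) * (Nat.card (PtSet D pt (chord D pt a b)) - 1)
  let A := {z : PtSet D pt M × PtSet D pt M // z.1 ≠ z.2}
  let φ : A → Subgroup G := fun z => chord D pt z.1.1.1 z.1.2.1
  haveI := Fintype.ofFinite (Subgroup G)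
  have hfib : ∀ B : Subgroup G, N ∣ Nat.card {z : A // φ z = B} := by
    intro B
    by_cases hB : ∃ z : A, φ z = B
    swap
    · haveI : IsEmpty {z : A // φ z = B} := ⟨fun z => hB ⟨z.1, z.2⟩⟩
      simp
    obtain ⟨⟨⟨c, d⟩, hcd⟩, rfl⟩ := hB
    have hcd' : c.1 ≠ d.1 := fun e => hcd (Subtype.ext e)
    refine dvd_of_eq ?_
    have e1 : N = Nat.card {z : PtSet D pt (chord D pt c.1 d.1) × PtSet D pt (chord D pt c.1 d.1) //
        z.1 ≠ z.2} := by
      rw [card_distinct_pairs, ← C.card_chord_eq hab hcd']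
    rw [e1]
    refine Nat.card_congr
      { toFun := fun z => ⟨⟨⟨(⟨z.1.1.1, hpts c.2 d.2 z.1.1.2⟩ : PtSet D pt M),
            ⟨z.1.2.1, hpts c.2 d.2 z.1.2.2⟩⟩, fun e => z.2 (Subtype.ext (congrArg Subtype.val e :))⟩,
          C.chord_eq hcd' (fun e => z.2 (Subtype.ext e)) z.1.1.2 z.1.2.2⟩
        invFun := fun z => ⟨(⟨z.1.1.1.1, ?_⟩, ⟨z.1.1.2.1, ?_⟩),
          fun e => z.1.2 (Subtype.ext (congrArg Subtype.val e :))⟩
        left_inv := fun z => rfl
        right_inv := fun z => rfl }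
    · exact (show chord D pt z.1.1.1.1 z.1.1.2.1 = chord D pt c.1 d.1 from z.2) ▸ C.pts_left _
    · exact (show chord D pt z.1.1.1.1 z.1.1.2.1 = chord D pt c.1 d.1 from z.2) ▸ C.pts_right _
  have hsum : Nat.card A = ∑ B : Subgroup G, Nat.card {z : A // φ z = B} := by
    rw [← Nat.card_sigma]
    exact (Nat.card_congr (Equiv.sigmaFiberEquiv φ)).symm
  rw [← card_distinct_pairs, show Nat.card {z : PtSet D pt M × PtSet D pt M // z.1 ≠ z.2} =
    Nat.card A from rfl, hsum]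
  exact Finset.dvd_sum fun B _ => hfib B

end ChordHyp

end Cfsg.Agent.Aschbacher
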