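/-
Lemmas for the last step of the case `i = 1` of the criterion (CRITERION_FINISH.md B5; owner:
helper1).

* `plane_commute`, `plane_inverted` : in `⟨x, w | x⁴, w², (xw)⁴⟩` the product `T` of `x²` and
  `(xw)²` commutes with `x T x⁻¹` and is inverted by `x²`
* `false_of_inverted_in_centralizer` : if a Sylow `l`-subgroup centralises the involution `u` and
  `t`, and `u` is isolated in `C(t)`, no non-trivial `l`-element of `C(t)` is inverted by `u`
* `sl2_centralizer`, `sl2_sylow_cyclic` : in a rank one group with `|Q| = q` generated by its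
  involutions a stabiliser element centralising an involution of the stabiliser squares to `1`, and
  the Sylow subgroups of odd order are cyclic
-/
import Cfsg.Agent.Lib.SuzukiRankOne.Elementary
import Cfsg.Agent.Lib.GLOrder.Torus
import Cfsg.Agent.Lib.GraphCIT.PslEven
import Cfsg.Agent.Lib.PairsCyclic.Basic
import Cfsg.Agent.Lib.Coprime.Invariant
import Cfsg.Agent.Lib.ZStar.Glauberman
import Cfsg.Agent.Lib.Involution.Basic
import Cfsg.Agent.Lib.Cores.Basic
import Cfsg.Agent.Lib.ZStar.Unique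

set_option autoImplicit false
set_option linter.style.haveILetI false
set_option linter.unusedSectionVars false

namespace Cfsg.Agent.Aschbacher

open Cfsg Involution MulAction

universe u v

section plane

variable {G : Type u} [Group G] {x w : G} (hx : x * x * (x * x) = 1) (hw : w * w = 1)
  (hy : x * w * (x * w) * (x * w * (x * w)) = 1)
include hx hw hy

/-- The product `T` of `x²` and `(xw)²` is inverted by `x²`. -/
theorem plane_inverted :
    x * (x * (x * x * (x * w * (x * w))) * x⁻¹) * x⁻¹ = (x * x * (x * w * (x * w)))⁻¹ := by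
  have hzi : (x * x)⁻¹ = x * x := inv_eq_of_mul_eq_one_right hx
  have hyi : (x * w * (x * w))⁻¹ = x * w * (x * w) := inv_eq_of_mul_eq_one_right hy
  rw [mul_inv_rev, hzi, hyi,
    show x * (x * (x * x * (x * w * (x * w))) * x⁻¹) * x⁻¹ =
      (x * x * (x * x)) * (x * w * (x * w)) * (x * x)⁻¹ by group, hx, one_mul, hzi]

/-- `T` commutes with `x T x⁻¹`. -/
theorem plane_commute :
    Commute (x * x * (x * w * (x * w))) (x * (x * x * (x * w * (x * w))) * x⁻¹) := by
  set z' := x * w * (x * w) with hz'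
  have hwi : w⁻¹ = w := inv_eq_of_mul_eq_one_right hw
  have hxi : x⁻¹ * x⁻¹ = x * x := by
    rw [← mul_inv_rev]; exact inv_eq_of_mul_eq_one_right hx
  have hyi : z'⁻¹ = z' := inv_eq_of_mul_eq_one_right hy
  have h1 : z' * (x * x) * (x * z' * x⁻¹) = x * w * (x * x) * w * x⁻¹ := by
    calc z' * (x * x) * (x * z' * x⁻¹)
        = x * w * x * w * (x * x * (x * x)) * w * x * w * x⁻¹ := by rw [hz']; group
      _ = x * w * x * (w * w) * x * w * x⁻¹ := by rw [hx]; group
      _ = _ := by rw [hw]; group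
  have h2 : x * z' * x⁻¹ * (x * x) * z' = x * w * (x * x) * w * x⁻¹ := by
    calc x * z' * x⁻¹ * (x * x) * z' = x * z'⁻¹ * x * z'⁻¹ := by rw [hyi]; group
      _ = x * w⁻¹ * x⁻¹ * (w⁻¹ * w⁻¹) * x⁻¹ * w⁻¹ * x⁻¹ := by rw [hz']; group
      _ = x * w * (x⁻¹ * x⁻¹) * w * x⁻¹ := by rw [hwi, hw]; group
      _ = _ := by rw [hxi]
  have e : x * (x * x * z') * x⁻¹ = x * x * (x * z' * x⁻¹) := by group
  rw [Commute, SemiconjBy, e]
  calc x * x * z' * (x * x * (x * z' * x⁻¹))
      = x * x * (z' * (x * x) * (x * z' * x⁻¹)) := by group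
    _ = x * x * (x * z' * x⁻¹ * (x * x) * z') := by rw [h1, h2]
    _ = x * x * (x * z' * x⁻¹) * (x * x * z') := by group

end plane

/-- **Isolation.** If a Sylow `l`-subgroup centralises `u` and `t` and `u` is isolated in `C(t)`,
then `u` inverts no non-trivial `l`-element of `C(t)`. -/
theorem false_of_inverted_in_centralizer {G : Type u} [Group G] [Finite G] {l : ℕ} [Fact l.Prime]
    (hl : l ≠ 2) {v t t' : G} (hv : orderOf v = 2) (hvt : Commute v t) (htt' : Commute t' t)
    {k : ℕ} (ht' : t' ^ l ^ k = 1) (hinv : v * t' * v⁻¹ = t'⁻¹) (hne : t' ≠ 1)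
    (P : Sylow l G) (hPv : ∀ g ∈ (P : Subgroup G), Commute g v)
    (hPt : ∀ g ∈ (P : Subgroup G), Commute g t)
    (hiso : ∀ g : G, Commute g t → Commute v (g * v * g⁻¹) → g * v * g⁻¹ = v) : False := by
  classical
  haveI : Fact (Nat.Prime 2) := ⟨Nat.prime_two⟩
  set K : Subgroup G := Subgroup.centralizer ({t} : Set G) with hK
  have hmemK : ∀ {g : G}, g ∈ K ↔ Commute g t := fun {g} => mem_centralizer_singleton
  have hvK : v ∈ K := hmemK.2 hvt
  have ht'K : t' ∈ K := hmemK.2 htt'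
  have hisoK : IsIsolatedInvolution (⟨v, hvK⟩ : K) :=
    ⟨by rw [Subgroup.orderOf_mk, hv], fun g hg => Subtype.ext
      (hiso (g : G) (hmemK.1 g.2) (congrArg Subtype.val hg.eq))⟩
  set O₀ := Cfsg.pPrimeCore 2 K with hO₀
  haveI : O₀.Normal := Cores.pPrimeCore_normal 2 K
  set O := O₀.map K.subtype with hO
  have hOodd : Odd (Nat.card O) := by
    rw [hO, Nat.card_congr (O₀.equivMapOfInjective K.subtype K.subtype_injective).symm.toEquiv]
    exact Nat.coprime_two_right.1 (Cores.coprime_card_pPrimeCore (G := K) 2)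
  have hl2 : Odd l := (Fact.out : l.Prime).odd_of_ne_two hl
  -- `t'` lies in `O`
  have ht'O : t' ∈ O := by
    have h1 := ZStar.zStar_of_brauerSuzuki ZStar.uniqueInvolution hisoK ⟨t', ht'K⟩
    have h2 : v * t' * v⁻¹ * t'⁻¹ ∈ O := ⟨_, h1, rfl⟩
    rw [hinv, ← mul_inv_rev] at h2
    obtain ⟨m, hm⟩ : Odd (l ^ k) := hl2.pow
    have e : (t' * t') ^ (m + 1) = t' := by
      rw [← pow_two, ← pow_mul, show 2 * (m + 1) = l ^ k + 1 by omega, pow_succ, ht', one_mul]
    exact e ▸ O.pow_mem (inv_mem_iff.1 h2) _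
  -- the action of `v`
  set A := Subgroup.zpowers v with hA
  have hAK : A ≤ Subgroup.normalizer (O : Set G) := by
    rw [hA, Subgroup.zpowers_le]
    refine Coprime.mem_normalizer_of_forall fun g hg => ?_
    obtain ⟨g₀, hg₀, rfl⟩ := hg
    exact ⟨_, (inferInstance : O₀.Normal).conj_mem g₀ hg₀ ⟨v, hvK⟩, rfl⟩
  have hcop : (Nat.card A).Coprime (Nat.card O) := by
    rw [hA, Nat.card_zpowers, hv]; exact Nat.coprime_two_left.2 hOodd
  haveI : IsMulCommutative A := hA ▸ inferInstance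
  have hsolv : Group.IsSolvable A ∨ Group.IsSolvable O :=
    Or.inl (Group.isSolvable_of_comm fun a b => mul_comm' a b)
  -- `P ∩ O` is a Sylow subgroup of `O` centralised by `v`
  have hPK : (P : Subgroup G) ≤ K := fun g hg => hmemK.2 (hPt g hg)
  set PO : Subgroup O := (P : Subgroup G).subgroupOf O with hPO
  have hPOp : IsPGroup l PO := (P.2.to_le inf_le_left).of_equiv
    ((Subgroup.subgroupOfEquivOfLe (inf_le_right : (P : Subgroup G) ⊓ O ≤ O)).symm.trans
      (MulEquiv.subgroupCongr (Subgroup.inf_subgroupOf_right _ _)))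
  have hPOi : ¬ l ∣ PO.index := by
    intro hd
    set P₀ : Sylow l K := P.subtype hPK
    have h1 := P₀.not_dvd_index
    have h3 : PO.index = ((P₀ : Subgroup K) ⊓ O₀).relIndex O₀ := by
      rw [hPO, ← Subgroup.relIndex, ← Subgroup.inf_relIndex_right, hO]
      rw [← Subgroup.relIndex_map_map_of_injective (f := K.subtype) _ _ K.subtype_injective,
        Subgroup.map_inf _ _ _ K.subtype_injective]
      congr 2
      exact (Subgroup.map_subgroupOf_eq_of_le hPK).symm
    have h4 : ((P₀ : Subgroup K) ⊓ O₀).relIndex O₀ ∣ (P₀ : Subgroup K).index := by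
      have e1 := Subgroup.relIndex_mul_relIndex ((P₀ : Subgroup K) ⊓ O₀) (P₀ : Subgroup K)
        ((P₀ : Subgroup K) ⊔ O₀) inf_le_left le_sup_left
      have e2 := Subgroup.relIndex_mul_relIndex ((P₀ : Subgroup K) ⊓ O₀) O₀
        ((P₀ : Subgroup K) ⊔ O₀) inf_le_right le_sup_right
      rw [Subgroup.inf_relIndex_left] at e1
      rw [Subgroup.relIndex_sup_right, mul_comm, ← e1] at e2
      rw [Nat.eq_of_mul_eq_mul_left (Nat.pos_of_ne_zero (@Subgroup.relIndex_ne_zero _ _ _ _
        ⟨Subgroup.FiniteIndex.index_ne_zero⟩)) e2]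
      exact Subgroup.relIndex_dvd_index_of_le le_sup_left
    exact h1 ((h3 ▸ hd).trans h4)
  let S : Sylow l O := hPOp.toSylow hPOi
  have hSmap : ∀ g ∈ (S : Subgroup O).map O.subtype, Commute g v := by
    rintro _ ⟨g, hg, rfl⟩
    exact hPv _ hg
  have hSn : A ≤ Subgroup.normalizer ((S : Subgroup O).map O.subtype : Set G) := by
    rw [hA, Subgroup.zpowers_le]
    refine Coprime.mem_normalizer_of_forall fun g hg => ?_
    rw [← (hSmap g hg).eq, mul_inv_cancel_right]
    exact hg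
  -- an invariant one over `t'`
  obtain ⟨S', hS'ge, hS'n⟩ := Coprime.exists_invariant_sylow_ge (p := l) hAK hcop hsolv
    (U := Subgroup.zpowers t') (Subgroup.zpowers_le.2 ht'O)
    (fun y => ⟨k, by
      obtain ⟨i, hi⟩ := Subgroup.mem_zpowers_iff.1 y.2
      refine Subtype.ext ?_
      rw [Subgroup.coe_pow, ← hi, Subgroup.coe_one, ← zpow_natCast, ← zpow_mul, mul_comm, zpow_mul,
        zpow_natCast, ht', one_zpow]⟩)
    (by
      rw [hA, Subgroup.zpowers_le]
      refine Coprime.mem_normalizer_of_forall fun g hg => ?_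
      obtain ⟨i, rfl⟩ := Subgroup.mem_zpowers_iff.1 hg
      rw [← conj_zpow, hinv]
      exact zpow_mem (inv_mem (Subgroup.mem_zpowers t')) i)
  obtain ⟨c, hc, rfl⟩ := Coprime.invariant_sylow_conj hAK hcop hsolv S S' hSn hS'n
  obtain ⟨y, hy, hyt⟩ := hS'ge (Subgroup.mem_zpowers t')
  have hy' : ∃ s ∈ (S : Subgroup O), c * s * c⁻¹ = y := by
    rw [SetLike.mem_coe, Sylow.coe_subgroup_smul] at hy
    obtain ⟨s, hs, rfl⟩ := hy
    exact ⟨s, hs, rfl⟩
  obtain ⟨s, hs, rfl⟩ := hy'
  have hcv : Commute v (c : G) := Subgroup.mem_centralizer_iff.1 hc v (Subgroup.mem_zpowers v)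
  have hsv : Commute v (s : G) := (hSmap _ ⟨s, hs, rfl⟩).symm
  have hvt' : Commute v t' := by
    rw [← hyt]
    exact (hcv.mul_right hsv).mul_right hcv.inv_right
  rw [hvt'.eq, mul_inv_cancel_right] at hinv
  have hsq : t' ^ 2 = 1 := by rw [pow_two]; nth_rewrite 1 [hinv]; exact inv_mul_cancel t'
  exact hne (orderOf_eq_one_iff.1 (Nat.eq_one_of_dvd_coprimes
    ((Nat.coprime_two_left.2 hl2).pow_right k)
    (orderOf_dvd_of_pow_eq_one hsq) (orderOf_dvd_of_pow_eq_one ht')))

section sl2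

open SuzukiRankOne RankOne.Setup

variable {G : Type u} {Ω : Type v} [Group G] [Finite G] [MulAction G Ω] [FaithfulSMul G Ω]
  {a : Ω} {t : G} {Q : Subgroup G}

local notation "DD" => (stabilizer G a ⊓ stabilizer G (t • a) : Subgroup G)
local notation "II" => Cfsg.involutionsIn (stabilizer G a : Set G)
local notation "KK" => Cfsg.invertedBy (stabilizer G a ⊓ stabilizer G (t • a)) t

variable (h : Cfsg.IsRankOneSetup G Ω a t Q) (h2 : TwoInvolutions G)
  (hQ : Nat.card Q = param G a) (hgen : Subgroup.closure {g : G | orderOf g = 2} = ⊤)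
include h h2 hQ

/-- `Q` is the set of involutions of the stabiliser and `1`. -/
theorem sl2_sq : ∀ x ∈ Q, x * x = 1 := by
  intro x hx
  have hsub : insert (1 : G) II ⊆ (Q : Set G) := by
    rintro y (rfl | hy)
    · exact one_mem Q
    · exact mem_Q_of_ii h hy
  have hcard : (Q : Set G).ncard ≤ (insert (1 : G) II).ncard := by
    rw [Set.ncard_insert_of_notMem (fun hmem => hmem.2.1 rfl) (Set.toFinite _),
      ← Nat.card_coe_set_eq, ← Nat.card_coe_set_eq]
    exact hQ.le
  have e := Set.eq_of_subset_of_ncard_le hsub hcard (Set.toFinite _)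
  rcases (e.symm ▸ hx : x ∈ insert (1 : G) II) with rfl | hxi
  · exact one_mul 1
  · exact hxi.2.2

include hgen

/-- The group is `PSL(2, q)`. -/
theorem sl2_iso : ∃ (F : Type) (_ : Field F) (_ : Fintype F) (n : ℕ), 2 ≤ n ∧
    Fintype.card F = 2 ^ n ∧ Nonempty (G ≃* Matrix.ProjectiveSpecialLinearGroup (Fin 2) F) := by
  obtain ⟨L, hLn, hLi, F, _, _, ⟨n, hn, hF⟩, ⟨e⟩⟩ := elementary_case h h2 (sl2_sq h h2 hQ)
  haveI := hLn
  have hL : L = ⊤ := by
    rw [eq_top_iff, ← hgen, Subgroup.closure_le]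
    intro g hg
    have hf2 : orderOf (QuotientGroup.mk' L g) ∣ 2 := hg ▸ orderOf_map_dvd (QuotientGroup.mk' L) g
    have hfo : orderOf (QuotientGroup.mk' L g) ∣ L.index := by
      rw [Subgroup.index_eq_card]; exact orderOf_dvd_natCard _
    exact (QuotientGroup.eq_one_iff g).1 (orderOf_eq_one_iff.1
      (Nat.eq_one_of_dvd_coprimes (Nat.coprime_two_left.2 hLi) hf2 hfo))
  exact ⟨F, inferInstance, inferInstance, n, hn, hF,
    ⟨(Subgroup.topEquiv.symm.trans (MulEquiv.subgroupCongr hL.symm)).trans e⟩⟩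

/-- The Sylow subgroups of odd order are cyclic. -/
theorem sl2_sylow_cyclic {l : ℕ} [Fact l.Prime] (hl : l ≠ 2) (P : Sylow l G) :
    IsCyclic (P : Subgroup G) := by
  obtain ⟨F, _, _, n, hn, hF, ⟨e⟩⟩ := sl2_iso h h2 hQ hgen
  haveI : Fact (Nat.Prime 2) := ⟨Nat.prime_two⟩
  haveI : CharP F 2 := GraphCIT.charP_two (by omega) hF
  obtain ⟨S⟩ : Nonempty (Sylow l (Matrix.SpecialLinearGroup (Fin 2) F)) := inferInstance
  have hS := GLOrder.isCyclic_sylow_SL_two 2 l hl hl S
  have hq := PairsCyclic.isCyclic_sylow_quotient S hS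
    (Subgroup.center (Matrix.SpecialLinearGroup (Fin 2) F))
    (P.mapSurjective (f := e.toMonoidHom) e.surjective)
  haveI : IsCyclic ((P : Subgroup G).map e.toMonoidHom) := hq
  exact isCyclic_of_surjective _
    ((P : Subgroup G).equivMapOfInjective e.toMonoidHom e.injective).symm.surjective

/-- The two-point stabilisers have order `q - 1`. -/
theorem sl2_card_dd : Nat.card DD + 1 = param G a := by
  obtain ⟨F, _, _, m, hm, hF, ⟨e⟩⟩ := sl2_iso h h2 hQ hgen
  obtain ⟨n, hn, hq, -⟩ := exists_coords h h2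
  have hG := card_group h
  rw [Nat.card_congr e.toEquiv, GraphCIT.card_pslEven (by omega) hF, hQ, hq] at hG
  have hD : Odd (Nat.card DD) := h.odd_card
  have hm2 : Odd (2 ^ (2 * m) - 1) :=
    Nat.Even.sub_odd Nat.one_le_two_pow (Nat.even_pow.2 ⟨even_two, by omega⟩) odd_one
  have hn1 : Odd (2 ^ n + 1) := (Nat.even_pow.2 ⟨even_two, by omega⟩).add_one
  have hnm : 2 ^ n = 2 ^ m := by
    refine Nat.dvd_antisymm ?_ ?_
    · exact (Nat.Coprime.pow_left n (Nat.coprime_two_left.2 hm2)).dvd_of_dvd_mul_right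
        (hG ▸ ⟨Nat.card DD * (2 ^ n + 1), by ring⟩)
    · exact (Nat.Coprime.pow_left m (Nat.coprime_two_left.2 (hD.mul hn1))).dvd_of_dvd_mul_right
        (show 2 ^ m ∣ 2 ^ n * (Nat.card DD * (2 ^ n + 1)) from
          ⟨2 ^ (2 * m) - 1, by rw [hG]; ring⟩)
  rw [← hnm] at hG
  have hsq : 2 ^ (2 * m) = 2 ^ n * 2 ^ n := by rw [hnm, ← pow_add, two_mul]
  rw [hsq] at hG
  have h1 : 1 ≤ 2 ^ n := Nat.one_le_two_pow
  obtain ⟨j, hj⟩ : ∃ j, 2 ^ n = j + 1 := ⟨2 ^ n - 1, by omega⟩
  rw [hq, hj]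
  rw [hj, show (j + 1) * (j + 1) - 1 = j * (j + 1 + 1) by
    have : (j + 1) * (j + 1) = j * (j + 1 + 1) + 1 := by ring
    omega] at hG
  have h3 : j * (j + 1 + 1) = Nat.card DD * (j + 1 + 1) := by
    refine Nat.eq_of_mul_eq_mul_left (by omega : 0 < j + 1) ?_
    rw [hG]; ring
  rw [Nat.eq_of_mul_eq_mul_right (by omega) h3]

/-- An element of the stabiliser centralising one of its involutions squares to `1`. -/
theorem sl2_centralizer {s c : G} (hs : s ∈ II) (hc : c ∈ stabilizer G a) (hcs : Commute c s) :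
    c * c = 1 := by
  obtain ⟨x, hx, d, hd, rfl⟩ := exists_decomp h hc
  have hQel := sl2_sq h h2 hQ
  have hsQ := mem_Q_of_ii h hs
  have hxs : Commute x s := by
    have e : ∀ y ∈ Q, y⁻¹ = y := fun y hy => inv_eq_of_mul_eq_one_right (hQel y hy)
    have := e _ (mul_mem hx hsQ)
    rwa [mul_inv_rev, e x hx, e s hsQ, eq_comm] at this
  have hds : Commute d s := by
    have : Commute (x⁻¹ * (x * d)) s := hxs.inv_left.mul_left hcs
    rwa [inv_mul_cancel_left] at this
  have hKD : (KK : Set G) = ((DD : Subgroup G) : Set G) := by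
    refine Set.eq_of_subset_of_ncard_le (fun y hy => hy.1) ?_ (Set.toFinite _)
    rw [← Nat.card_coe_set_eq, ← Nat.card_coe_set_eq, card_kk h]
    have := sl2_card_dd h h2 hQ hgen
    unfold param at this
    exact (Nat.succ_injective this).le
  have hd1 : d = 1 := by
    by_contra hne
    exact hs.2.1 (kk_fpf h (hKD ▸ hd : d ∈ KK) hne hsQ hds.eq)
  rw [hd1, mul_one]
  exact hQel x hx

end sl2

end Cfsg.Agent.Aschbacher
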