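/-
The case `i = 1`, `L = q²`, `r` even of the finish of the criterion (CRITERION_FINISH.md B5;
owner: helper1).

`v` fixes the `q + 1` points `F` of a line, `n = q³ + 1`, `v` is the only non-trivial element fixing
`a, b` that centralises `E_a`, and involutions fixing two points, both fixing `a`, have a product
squaring into `E_a`.  With `v₂` one of them not commuting with `v`, `x = v v₂` and the swapper `w` of
`b` in `C(v₂)`, the product `T` of `x²` and `(x w)²` lies in the group `M` of the line and commutes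
with `x T x⁻¹`, inverted by `v`.  An element `t` of prime order `l` in `⟨T⟩` fixes no point, so
`l ∣ q + 1`, `l ≠ 3` and `C(v)` holds a Sylow `l`-subgroup `P`; as `M` is `PSL(2,q)`, `t` is central
in `P`; `v` is isolated in `C(t)`, so inverts no `l`-element there.

* `FinishHyp.false_of_orbit`
-/
import Cfsg.Agent.Lib.Aschbacher.CriterionChord
import Cfsg.Agent.Lib.Aschbacher.CriterionCentral
import Cfsg.Agent.Lib.Aschbacher.CriterionL2Lemmas
import Cfsg.Agent.Lib.RankOne.SetupTwoRank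
import Cfsg.Agent.Lib.GWKlein.General.L2Facts
import Cfsg.Agent.Lib.Aschbacher.CriterionNoTwo

set_option autoImplicit false
set_option linter.style.haveILetI false
set_option linter.unusedSectionVars false

namespace Cfsg.Agent.Aschbacher

open Cfsg Involution MulAction

universe u

section count

variable {G : Type u} {Ω : Type u} [Group G] [MulAction G Ω] [Finite G]

/-- The orbit formula inside a subgroup. -/
theorem card_eq_orbit_mul (K : Subgroup G) (p : Ω) {s : Set Ω}
    (hs : ∀ q, q ∈ s ↔ ∃ k ∈ K, k • p = q) :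
    Nat.card K = Nat.card s * Nat.card (K ⊓ stabilizer G p : Subgroup G) := by
  have horb : orbit K p = s := Set.ext fun q => by
    rw [hs]
    exact ⟨fun ⟨k, hk⟩ => ⟨k, k.2, hk⟩, fun ⟨k, hk, e⟩ => ⟨⟨k, hk⟩, e⟩⟩
  have h1 := (stabilizer K p).index_mul_card
  rw [MulAction.index_stabilizer, horb, ← Nat.card_coe_set_eq] at h1
  have e2 : (stabilizer G p).subgroupOf K = stabilizer K p := rfl
  rw [← h1, ← e2, ← Subgroup.inf_subgroupOf_left]
  exact congrArg _ (Nat.card_congr (Subgroup.subgroupOfEquivOfLe inf_le_left).toEquiv)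

end count

namespace PointClass

variable {G : Type u} {Ω : Type u} [Group G] [MulAction G Ω] [Finite G] [Finite Ω]
  [FaithfulSMul G Ω] {D : Set G} {pt : G → Ω} (P : PointClass G Ω D pt)

include P in
/-- The product of two members at different points has odd order. -/
theorem odd_orderOf_mul_of_semiregular {d e : G} (hd : d ∈ D) (he : e ∈ D) (hne : pt d ≠ pt e)
    (hsemi : ∀ g : G, g ∈ atPoint D pt (pt d) → g ≠ 1 → ∀ z : Ω, g • z = z → z = pt d) :
    Odd (orderOf (d * e)) := by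
  rw [← Nat.not_even_iff_odd]
  intro hev
  obtain ⟨h2, hcd, hce⟩ := half_pow_commute (P.inv d hd) (P.inv e he) hev
  obtain ⟨hD, hc, -⟩ := P.exists_partner hd he hev
  set k := (d * e) ^ (orderOf (d * e) / 2)
  have hk : k ∈ atPoint D pt (pt d) := by
    have e1 : d * (d * k) = k := by rw [← mul_assoc, mul_self (P.inv d hd), one_mul]
    rw [← e1]
    exact mul_mem (Subgroup.subset_closure ⟨hd, rfl⟩)
      (Subgroup.subset_closure ⟨hD, (P.pt_eq_of_commute hd hD hc).symm⟩)
  exact hne (hsemi k hk (ne_one h2) _ (P.commute_fix he hce)).symm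

end PointClass

namespace FinishHyp

variable {G : Type u} {Ω : Type u} [Group G] [MulAction G Ω] [Finite G] [Finite Ω]
  [FaithfulSMul G Ω] {D : Set G} {pt : G → Ω} (h : FinishHyp G Ω D pt)
  {v : G} {a b : Ω} (hv : orderOf v = 2) (hab : a ≠ b) (hva : v • a = a) (hvb : v • b = b)
  {r : ℕ} (hq : Nat.card (atPoint D pt a) = 2 ^ r)
  (hf : Nat.card {p : Ω // v • p = p} = 2 ^ r + 1)
include h hv hab hva hvb hq hf

/-- The members at a fixed point are transitive on the other fixed points. -/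
theorem exists_mem_E_smul {p p' p'' : Ω} (hp : v • p = p) (hp' : v • p' = p') (hp'' : v • p'' = p'')
    (hne : p' ≠ p) (hne' : p'' ≠ p) : ∃ e ∈ atPoint D pt p, e • p' = p'' := by
  classical
  have hfix : IsFixInv Ω v := ⟨hv, a, b, hab, hva, hvb⟩
  have hev : ∀ e ∈ atPoint D pt p, Commute e v := fun e he => by
    rcases h.mem_E.1 he with rfl | ⟨hd, hdp⟩
    · exact Commute.one_left v
    · exact h.commute_of_fixInv hfix hp hd hdp
  let φ : atPoint D pt p → {x : {x : Ω // v • x = x} // x.1 ≠ p} := fun e =>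
    ⟨⟨(e : G) • p', by rw [← mul_smul, ← (hev e e.2).eq, mul_smul, hp']⟩, fun e1 => by
      rcases eq_or_ne (e : G) 1 with e2 | e2
      · exact hne (by simpa [e2] using e1)
      · refine hne ?_
        have h3 : (e : G) • p = p := by
          rcases h.mem_E.1 e.2 with e3 | ⟨hd, hdp⟩
          · exact absurd e3 e2
          · have h5 := h.pc.smul_pt hd
            rwa [hdp] at h5
        exact smul_left_cancel (e : G) (e1.trans h3.symm)⟩
  have hinj : Function.Injective φ := fun e e' he => by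
    have h1 : (e : G) • p' = (e' : G) • p' := congrArg (fun x => x.1.1) he
    by_contra hne2
    refine hne (h.semiregular (mul_mem (inv_mem e'.2) e.2)
      (fun e4 => hne2 (Subtype.ext (inv_mul_eq_one.1 e4).symm)) ?_)
    rw [mul_smul, h1, inv_smul_smul]
  have hcard : Nat.card {x : {x : Ω // v • x = x} // x.1 ≠ p} + 1 = Nat.card {x : Ω // v • x = x} := by
    rw [← Nat.card_congr (Equiv.optionSubtypeNe (⟨p, hp⟩ : {x : Ω // v • x = x})), Finite.card_option]
    exact congrArg (· + 1) (Nat.card_congr (Equiv.subtypeEquivRight fun x =>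
      ⟨fun e e' => e (congrArg Subtype.val e'), fun e e' => e (Subtype.ext e')⟩))
  have hbij : Function.Bijective φ := by
    refine (Nat.bijective_iff_injective_and_card φ).2 ⟨hinj, ?_⟩
    have := h.card_E_eq p a
    omega
  obtain ⟨e, he⟩ := hbij.2 ⟨⟨p'', hp''⟩, hne'⟩
  exact ⟨e, e.2, congrArg (fun x => x.1.1) he⟩

variable (hR : ∀ g : G, g • a = a → g • b = b → (∀ d ∈ D, pt d = a → Commute g d) → g = 1 ∨ g = v)
include hR

/-- An element fixing every fixed point of `v` is `1` or `v`. -/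
theorem eq_one_or_of_fix {g : G} (hg : ∀ p : Ω, v • p = p → g • p = p) : g = 1 ∨ g = v := by
  have hfix : IsFixInv Ω v := ⟨hv, a, b, hab, hva, hvb⟩
  refine hR g (hg a hva) (hg b hvb) fun d hd hda => ?_
  have hdv := h.commute_of_fixInv hfix hva hd hda
  have hdb : v • (d • b) = d • b := by rw [← mul_smul, ← hdv.eq, mul_smul, hvb]
  have hd' := h.pc.conj_mem g d hd
  have hpt : pt (g * d * g⁻¹) = pt d := by rw [h.pc.pt_conj g hd, hda, hg a hva]
  have e : g * d * g⁻¹ = d := h.eq_of_smul_eq hd' hd hpt (c := b)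
    (by rw [hpt, hda]; exact hab.symm) (by
      rw [mul_smul, mul_smul, inv_smul_eq_iff.2 (hg b hvb).symm, hg _ hdb])
  exact mul_inv_eq_iff_eq_mul.1 e

/-- An involution is determined by any two of its fixed points. -/
theorem fixInv_unique {p p' : Ω} (hne : p ≠ p') {v₁ v₂ : G} (h1 : orderOf v₁ = 2)
    (h2 : orderOf v₂ = 2) (h1p : v₁ • p = p) (h1p' : v₁ • p' = p') (h2p : v₂ • p = p)
    (h2p' : v₂ • p' = p') : v₁ = v₂ := by
  obtain ⟨c, hca, hcb⟩ := h.exists_pair_map hne hab
  have key : ∀ v₀ : G, orderOf v₀ = 2 → v₀ • p = p → v₀ • p' = p' → c * v₀ * c⁻¹ = v := by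
    intro v₀ h0 hp hp'
    have h0' : orderOf (c * v₀ * c⁻¹) = 2 := by rw [← h0, ← MulAut.conj_apply, MulEquiv.orderOf_eq]
    have ha' : (c * v₀ * c⁻¹) • a = a := by rw [mul_smul, mul_smul, ← hca, inv_smul_smul, hp]
    have hb' : (c * v₀ * c⁻¹) • b = b := by rw [mul_smul, mul_smul, ← hcb, inv_smul_smul, hp']
    exact (hR _ ha' hb' fun d hd hda => (h.commute_of_fixInv ⟨h0', a, b, hab, ha', hb'⟩ ha' hd hda).symm
      ).resolve_left (ne_one h0')
  exact (MulAut.conj c).injective ((key v₁ h1 h1p h1p').trans (key v₂ h2 h2p h2p').symm)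

/-- `M = ⟨members centralising v⟩` acts as `PSL(2, q)`: an element of odd order centralising a member
is trivial and the Sylow subgroups of odd order are cyclic. -/
theorem centMembers_facts :
    (∀ g ∈ centMembers D v, Odd (orderOf g) → ∀ d ∈ D, Commute d v → Commute g d → g = 1) ∧
    (∀ (l : ℕ), l.Prime → l ≠ 2 → ∀ Q : Subgroup G, Q ≤ centMembers D v → IsPGroup l Q → IsCyclic Q) := by
  classical
  have hfix : IsFixInv Ω v := ⟨hv, a, b, hab, hva, hvb⟩
  set M := centMembers D v with hM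
  obtain ⟨z₁, e₁, hz₁, he₁, hz₁a, he₁a, hne₁, -⟩ := h.exists_two a
  obtain ⟨w₁, hw₁, hw₁b, hw₁v⟩ := h.pc.exists_commuting (mul_self hv) hvb
  have hz₁v := h.commute_of_fixInv hfix hva hz₁ hz₁a
  have he₁v := h.commute_of_fixInv hfix hva he₁ he₁a
  have hMtop : M ≠ ⊤ := by
    intro htop
    refine ne_one hv (eq_of_smul_eq_smul fun y : Ω => ?_)
    obtain ⟨g, rfl⟩ := h.pc.exists_smul_eq a y
    rw [one_smul, ← mul_smul, ← (commute_of_mem_centMembers (htop ▸ Subgroup.mem_top g : g ∈ M)).eq,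
      mul_smul, hva]
  obtain ⟨R, f, hfs, hsmul, hf2, -, -, t, Q, hset, h2, -, hparam⟩ :=
    h.pc.exists_rankOne_sub h.comm h.ih hMtop hz₁ (mem_centMembers hz₁ hz₁v) hz₁a he₁
      (mem_centMembers he₁ he₁v) he₁a hne₁ hw₁ (mem_centMembers hw₁ hw₁v)
      (by rw [hw₁b]; exact hab.symm)
  have hMv : ∀ g ∈ M, Commute g v := fun g hg => commute_of_mem_centMembers hg
  have hpts : ∀ p : Ω, (∃ d ∈ D, d ∈ M ∧ pt d = p) ↔ v • p = p := fun p =>
    ⟨fun ⟨d, hd, hdM, e⟩ => e ▸ h.pc.commute_fix hd (hMv d hdM).symm, fun hp => by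
      obtain ⟨d, hd, hdp, hdv⟩ := h.pc.exists_commuting (mul_self hv) hp
      exact ⟨d, hd, mem_centMembers hd hdv, hdp⟩⟩
  have hQcard : Nat.card Q = 2 ^ r := by
    have h1 := RankOne.Setup.card_omega hset
    rw [Nat.card_congr (Equiv.subtypeEquivRight hpts)] at h1
    omega
  have hι : Nat.card {d : G // d ∈ D ∧ pt d = a ∧ d ∈ M} + 1 = 2 ^ r := by
    rw [← hq, h.pc.card_atPoint h.comm hab]
    exact congrArg (· + 1) (Nat.card_congr (Equiv.subtypeEquivRight fun d =>
      ⟨fun hd => ⟨hd.1, hd.2.1⟩, fun hd =>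
        ⟨hd.1, hd.2, mem_centMembers hd.1 (h.commute_of_fixInv hfix hva hd.1 hd.2)⟩⟩))
  have hQp := hQcard.trans (hι.symm.trans hparam.symm)
  have hgenR : Subgroup.closure {σ : R | orderOf σ = 2} = ⊤ := by
    have hle : ∀ g, ∀ hg : g ∈ memSub D M, f ⟨g, hg⟩ ∈ Subgroup.closure {σ : R | orderOf σ = 2} := by
      intro g hg
      induction hg using Subgroup.closure_induction with
      | mem d hd => exact Subgroup.subset_closure (hf2 ⟨d, Subgroup.subset_closure hd⟩ hd.1)
      | one => exact (map_one f).symm ▸ one_mem _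
      | mul x y hx hy ihx ihy => exact (map_mul f ⟨x, hx⟩ ⟨y, hy⟩).symm ▸ mul_mem ihx ihy
      | inv x hx ihx => exact (map_inv f ⟨x, hx⟩).symm ▸ inv_mem ihx
    rw [eq_top_iff]
    intro σ _
    obtain ⟨⟨g, hg⟩, rfl⟩ := hfs σ
    exact hle g hg
  have hMsub : M ≤ memSub D M := by
    rw [hM, centMembers, Subgroup.closure_le]
    exact fun d hd => Subgroup.subset_closure ⟨hd.1, mem_centMembers hd.1 hd.2⟩
  -- elements of odd order are determined by their image
  have hker : ∀ (g : G) (hg : g ∈ M), Odd (orderOf g) → f ⟨g, hMsub hg⟩ = 1 → g = 1 := by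
    intro g hg hodd hf1
    refine (h.eq_one_or_of_fix hv hab hva hvb hq hf hR fun p hp => ?_).resolve_right fun e => ?_
    · have h1 := hsmul ⟨g, hMsub hg⟩ ⟨p, (hpts p).2 hp⟩
      rw [hf1, one_smul] at h1
      exact h1.symm
    · rw [e, hv] at hodd
      exact absurd hodd (by decide)
  constructor
  · intro g hg hodd d hd hdv hgd
    obtain ⟨c, hcv, hcd⟩ := h.pc.exists_centralizing_conj h.comm hv hab hva hvb hd hdv hz₁ hz₁v
    set g' := c * g * c⁻¹ with hg'
    have hg'M : g' ∈ M := by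
      have hcN : ∀ y ∈ M, c * y * c⁻¹ ∈ M := by
        intro y hy
        induction hy using Subgroup.closure_induction with
        | mem d hd =>
          refine mem_centMembers (h.pc.conj_mem c d hd.1) ?_
          exact (hcv.mul_left hd.2).mul_left hcv.inv_left
        | one => simp
        | mul x y _ _ hx hy => rw [← conj_mul]; exact mul_mem hx hy
        | inv x _ hx => rw [← conj_inv]; exact inv_mem hx
      exact hcN g hg
    have hg'odd : Odd (orderOf g') := by rwa [hg', ← MulAut.conj_apply, MulEquiv.orderOf_eq]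
    have hg'z : Commute g' z₁ := by
      rw [← hcd]; exact (Commute.conj_iff c).2 hgd
    have hg'a : g' • a = a := hz₁a ▸ h.pc.commute_fix hz₁ hg'z
    set x' : PtSet D pt M := ⟨a, z₁, hz₁, mem_centMembers hz₁ hz₁v, hz₁a⟩
    have hsq := sl2_centralizer hset h2 hQp hgenR
      (s := f ⟨z₁, hMsub (mem_centMembers hz₁ hz₁v)⟩)
      (c := f ⟨g', hMsub hg'M⟩)
      ⟨mem_stabilizer_iff.2 (Subtype.ext ((hsmul _ x').trans (by
          show z₁ • a = a
          rw [← hz₁a]; exact h.pc.smul_pt hz₁))),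
        ne_one (hf2 _ hz₁), mul_self (hf2 _ hz₁)⟩
      (mem_stabilizer_iff.2 (Subtype.ext ((hsmul _ x').trans hg'a)))
      (Commute.map (show Commute (⟨g', hMsub hg'M⟩ : memSub D M)
        ⟨z₁, hMsub (mem_centMembers hz₁ hz₁v)⟩ from Subtype.ext hg'z.eq) f)
    have h1 : f ⟨g', hMsub hg'M⟩ = 1 := orderOf_eq_one_iff.1 (Nat.eq_one_of_dvd_coprimes
      (Nat.coprime_two_left.2 hg'odd) (orderOf_dvd_of_pow_eq_one (by rw [pow_two]; exact hsq))
      ((orderOf_map_dvd f _).trans (Subgroup.orderOf_mk g' _).dvd))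
    have h2' := hker g' hg'M hg'odd h1
    exact conj_eq_one_iff.1 h2'
  · intro l hl hl2 Q₀ hQ₀ hQ₀p
    haveI : Fact l.Prime := ⟨hl⟩
    let φ : Q₀ →* R := f.comp (Subgroup.inclusion (hQ₀.trans hMsub))
    have hφ : Function.Injective φ := (injective_iff_map_eq_one φ).2 fun y hy => by
      obtain ⟨j, hj⟩ := hQ₀p y
      have hodd : Odd (orderOf (y : G)) := by
        rw [Subgroup.orderOf_coe]
        exact (hl.odd_of_ne_two hl2).pow.of_dvd_nat (orderOf_dvd_of_pow_eq_one hj)
      exact Subtype.ext (hker y (hQ₀ y.2) hodd hy)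
    obtain ⟨S, hS⟩ := (hQ₀p.of_equiv (MonoidHom.ofInjective hφ)).exists_le_sylow
    haveI := sl2_sylow_cyclic hset h2 hQp hgenR hl2 S
    haveI : IsCyclic φ.range :=
      isCyclic_of_injective (Subgroup.inclusion hS) (Subgroup.inclusion_injective hS)
    exact isCyclic_of_surjective (MonoidHom.ofInjective hφ).symm (MonoidHom.ofInjective hφ).symm.surjective

variable (hr : Even r) (hn : Nat.card Ω = (2 ^ r) ^ 3 + 1)
include hn

/-- The index of `C(v)` is `q² (q² - q + 1)`. -/
theorem card_eq_centralizer_mul :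
    Nat.card G = Nat.card (Subgroup.centralizer ({v} : Set G)) *
      ((2 ^ r) ^ 2 * ((2 ^ r) ^ 2 - 2 ^ r + 1)) := by
  classical
  have hfix : IsFixInv Ω v := ⟨hv, a, b, hab, hva, hvb⟩
  set C := Subgroup.centralizer ({v} : Set G)
  have hmemC : ∀ {g : G}, g ∈ C ↔ Commute g v := fun {g} => mem_centralizer_singleton
  have hVC : C ⊓ stabilizer G a ⊓ stabilizer G b = stabilizer G a ⊓ stabilizer G b := by
    refine le_antisymm (inf_le_inf_right _ inf_le_right) fun g hg => ?_
    obtain ⟨hga, hgb⟩ := hg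
    refine ⟨⟨hmemC.2 ?_, hga⟩, hgb⟩
    have hga' := mem_stabilizer_iff.1 hga
    have hgb' := mem_stabilizer_iff.1 hgb
    have e := h.fixInv_unique hv hab hva hvb hq hf hR hab (v₁ := g * v * g⁻¹) (v₂ := v)
      (by rw [← MulAut.conj_apply, MulEquiv.orderOf_eq, hv]) hv
      (by rw [mul_smul, mul_smul, inv_smul_eq_iff.2 hga'.symm, hva, hga'])
      (by rw [mul_smul, mul_smul, inv_smul_eq_iff.2 hgb'.symm, hvb, hgb']) hva hvb
    exact mul_inv_eq_iff_eq_mul.1 e
  -- `G`
  have hG1 : Nat.card G = Nat.card Ω * Nat.card (stabilizer G a) := by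
    have h1 := card_eq_orbit_mul (G := G) (⊤ : Subgroup G) a (s := Set.univ)
      (fun q => ⟨fun _ => by
        obtain ⟨g, hg⟩ := h.pc.exists_smul_eq a q
        exact ⟨g, Subgroup.mem_top g, hg⟩, fun _ => Set.mem_univ q⟩)
    rwa [Subgroup.card_top, top_inf_eq, Nat.card_coe_set_eq, Set.ncard_univ] at h1
  have hrest : Nat.card {q : Ω // q ≠ a} + 1 = Nat.card Ω := by
    rw [← Nat.card_congr (Equiv.optionSubtypeNe a), Finite.card_option]
  have hG2 : Nat.card (stabilizer G a) =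
      Nat.card {q : Ω // q ≠ a} * Nat.card (stabilizer G a ⊓ stabilizer G b : Subgroup G) :=
    card_eq_orbit_mul (stabilizer G a) b (s := {q | q ≠ a}) fun q => ⟨fun hq' => by
      obtain ⟨g, hg, hgb⟩ := h.trans a b q hab (Ne.symm hq')
      exact ⟨g, hg, hgb⟩, by
        rintro ⟨g, hg, rfl⟩ e
        exact hab (smul_left_cancel g ((mem_stabilizer_iff.1 hg).trans e.symm))⟩
  -- `C(v)`
  have hC1 : Nat.card C = Nat.card {p : Ω // v • p = p} * Nat.card (C ⊓ stabilizer G a : Subgroup G) :=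
    card_eq_orbit_mul C a (s := {p | v • p = p}) fun q => ⟨fun hq' => by
      by_cases e : a = q
      · exact ⟨1, one_mem C, by rw [one_smul, e]⟩
      obtain ⟨w, -, hwq, hw⟩ := h.exists_swapper_centralizing (Y := Subgroup.zpowers v)
        (IsPGroup.of_card (n := 1) (by rw [Nat.card_zpowers, hv, pow_one])) e
        (Subgroup.zpowers_le.2 hva) (Subgroup.zpowers_le.2 hq')
      exact ⟨w, hmemC.2 (hw v (Subgroup.mem_zpowers v)).symm, hwq⟩, by
        rintro ⟨c, hc, rfl⟩
        show v • c • a = c • a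
        rw [← mul_smul, ← (hmemC.1 hc).eq, mul_smul, hva]⟩
  have hrest' : Nat.card {q : Ω // v • q = q ∧ q ≠ a} = 2 ^ r := by
    have e1 : Nat.card {q : Ω // v • q = q ∧ q ≠ a} + 1 = Nat.card {p : Ω // v • p = p} := by
      rw [← Nat.card_congr (Equiv.optionSubtypeNe (⟨a, hva⟩ : {p : Ω // v • p = p})), Finite.card_option]
      exact congrArg (· + 1) (Nat.card_congr ((Equiv.subtypeSubtypeEquivSubtypeInter
        (fun q : Ω => v • q = q) fun q => q ≠ a).symm.trans (Equiv.subtypeEquivRight fun x =>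
          ⟨fun e e' => e (congrArg Subtype.val e'), fun e e' => e (Subtype.ext e')⟩)))
    omega
  have hC2 : Nat.card (C ⊓ stabilizer G a : Subgroup G) =
      2 ^ r * Nat.card (stabilizer G a ⊓ stabilizer G b : Subgroup G) := by
    rw [← hVC, ← hrest']
    refine card_eq_orbit_mul (C ⊓ stabilizer G a) b (s := {q | v • q = q ∧ q ≠ a}) fun q =>
      ⟨fun hq' => ?_, ?_⟩
    · obtain ⟨e, he, heb⟩ := h.exists_mem_E_smul hv hab hva hvb hq hf hva hvb hq'.1 hab.symm hq'.2
      refine ⟨e, ⟨hmemC.2 ?_, mem_stabilizer_iff.2 ?_⟩, heb⟩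
      · rcases h.mem_E.1 he with rfl | ⟨hd, hdp⟩
        · exact Commute.one_left v
        · exact h.commute_of_fixInv hfix hva hd hdp
      · rcases h.mem_E.1 he with rfl | ⟨hd, hdp⟩
        · exact one_smul G a
        · exact hdp ▸ h.pc.smul_pt hd
    · rintro ⟨g, ⟨hgC, hga⟩, rfl⟩
      refine ⟨by rw [← mul_smul, ← (hmemC.1 hgC).eq, mul_smul, hvb], fun e => ?_⟩
      exact hab (smul_left_cancel g ((mem_stabilizer_iff.1 hga).trans e.symm))
  rw [hG1, hG2, hC1, hC2, show Nat.card {q : Ω // q ≠ a} = (2 ^ r) ^ 3 by omega, hn, hf]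
  have hle : 2 ^ r ≤ (2 ^ r) ^ 2 := by nlinarith [Nat.one_le_two_pow (n := r)]
  zify [hle]
  ring

include hr in
/-- **B5, `r` even.** No such `v` exists. -/
theorem false_of_orbit
    (hcls : ∀ p : Ω, ∀ v₁ v₂ : G, IsFixInv Ω v₁ → IsFixInv Ω v₂ → v₁ • p = p → v₂ • p = p →
      v₁ * v₂ * (v₁ * v₂) ∈ atPoint D pt p ∧ (Commute v₁ v₂ → v₁ * v₂ ∈ atPoint D pt p))
    (hex : ∃ v₂ : G, IsFixInv Ω v₂ ∧ v₂ • a = a ∧ ¬ Commute v v₂) : False := by
  classical
  haveI : Fact (Nat.Prime 2) := ⟨Nat.prime_two⟩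
  obtain ⟨v₂, hf₂, hv₂a, hnc⟩ := hex
  have hfix : IsFixInv Ω v := ⟨hv, a, b, hab, hva, hvb⟩
  have hv2 := mul_self hv
  have hvi := inv_eq hv
  have hw2 := mul_self hf₂.1
  have hwi := inv_eq hf₂.1
  have hsemi : ∀ {d : G}, d ∈ D → ∀ g : G, g ∈ atPoint D pt (pt d) → g ≠ 1 → ∀ z : Ω, g • z = z →
      z = pt d := fun {d} _ g hg hg1 z hz => h.semiregular hg hg1 hz
  -- the element `x`
  set x := v * v₂ with hxdef
  have hxi : x⁻¹ = v₂ * v := by rw [hxdef, mul_inv_rev, hvi, hwi]
  have hzE : x * x ∈ atPoint D pt a := (hcls a v v₂ hfix hf₂ hva hv₂a).1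
  have hz1 : x * x ≠ 1 := by
    intro e
    refine hnc (?_ : v * v₂ = v₂ * v)
    rw [← hxi]
    exact eq_inv_of_mul_eq_one_left e
  obtain ⟨hzD, hza⟩ := (h.mem_E.1 hzE).resolve_left hz1
  have hx4 : x * x * (x * x) = 1 := h.sq_E hzE
  -- the swapper `w`
  have hv₂b : v₂ • b ≠ b := fun e =>
    hnc (h.fixInv_unique hv hab hva hvb hq hf hR hab hv hf₂.1 hva hvb hv₂a e ▸ Commute.refl v₂)
  obtain ⟨w, ⟨hwD, hwc, hwb⟩, -⟩ := h.swapper_unique hf₂ hv₂b
  set c := pt w with hc
  have hv₂c : v₂ • c = c := h.pc.commute_fix hwD hwc.symm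
  have hcb : c ≠ b := fun e => hv₂b (by rw [← hwb, ← e, hc, h.pc.smul_pt hwD])
  have hwsq := mul_self (h.pc.inv w hwD)
  set v₃ := v₂ * w with hv₃
  have hv₃2 : orderOf v₃ = 2 := by
    refine orderOf_of_sq ?_ fun e => h.not_mem_of_fixInv hf₂ ?_
    · rw [hv₃, show v₂ * w * (v₂ * w) = v₂ * (w * v₂) * w by group, hwc.eq,
        show v₂ * (v₂ * w) * w = v₂ * v₂ * (w * w) by group, hw2, hwsq, one_mul]
    · rw [mul_eq_one_iff_eq_inv.1 e, inv_eq (h.pc.inv w hwD)]
      exact hwD
  have hv₃b : v₃ • b = b := by rw [hv₃, mul_smul, hwb, ← mul_smul, hw2, one_smul]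
  have hv₃c : v₃ • c = c := by rw [hv₃, mul_smul, hc, h.pc.smul_pt hwD, ← hc, hv₂c]
  have hf₃ : IsFixInv Ω v₃ := ⟨hv₃2, b, c, hcb.symm, hv₃b, hv₃c⟩
  have hyx : v * v₃ = x * w := by rw [hv₃, hxdef, mul_assoc]
  -- `w` is not `x`
  have hxw : x ≠ w := fun e => hz1 (by rw [e, hwsq])
  have hne3 : v₃ ≠ v := by
    intro e
    refine hxw ?_
    rw [hxdef, ← e, hv₃, mul_assoc, hwc.eq, ← mul_assoc, hw2, one_mul]
  have hca : c ≠ a := fun e =>
    hne3 (h.fixInv_unique hv hab hva hvb hq hf hR hab hv₃2 hv (e ▸ hv₃c) hv₃b hva hvb)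
  obtain ⟨hy2, hy2'⟩ := hcls b v v₃ hfix hf₃ hvb hv₃b
  rw [hyx] at hy2
  have hy1 : x * w * (x * w) ≠ 1 := by
    intro e1
    have hcomm3 : Commute v v₃ := by
      show v * v₃ = v₃ * v
      conv_rhs => rw [← inv_eq hv₃2, ← hvi, ← mul_inv_rev]
      rw [hyx]
      exact eq_inv_of_mul_eq_one_left e1
    have heE := hy2' hcomm3
    set e := v * v₃ with he
    have he1 : e ≠ 1 := fun e2 => hne3 (by
      rw [← one_mul v₃, ← hv2, mul_assoc, ← he, e2, mul_one])
    obtain ⟨heD, heb⟩ := (h.mem_E.1 heE).resolve_left he1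
    have hv₃a : v₃ • a = e • a := by
      have hev := h.commute_of_fixInv hfix hvb heD heb
      calc v₃ • a = (v * e) • a := by rw [he, ← mul_assoc, hv2, one_mul]
        _ = e • a := by rw [← hev.eq, mul_smul, hva]
    have hmoved : v₃ • a ≠ a := fun e2 =>
      hab (h.semiregular heE he1 (hv₃a.symm.trans e2))
    obtain ⟨w', -, huniq⟩ := h.swapper_unique hf₃ hmoved
    have hwe : w = e := by
      rw [huniq w ⟨hwD, hwc.mul_right (Commute.refl w), ?_⟩,
        huniq e ⟨heD, h.commute_of_fixInv hf₃ hv₃b heD heb, hv₃a.symm⟩]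
      rw [hv₃, ← hwc.eq, mul_smul, hv₂a]
    exact hcb (by rw [hc, hwe, heb])
  obtain ⟨hz'D, hz'b⟩ := (h.mem_E.1 hy2).resolve_left hy1
  have hy4 : x * w * (x * w) * (x * w * (x * w)) = 1 := h.sq_E hy2
  -- `T`
  set T := x * x * (x * w * (x * w)) with hTdef
  have hTcomm := plane_commute hx4 hwsq hy4
  have hTinv := plane_inverted hx4 hwsq hy4
  rw [← hTdef] at hTcomm hTinv
  have hTv : Commute T v :=
    (h.commute_of_fixInv hfix hva hzD hza).mul_left (h.commute_of_fixInv hfix hvb hz'D hz'b)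
  have hTM : T ∈ centMembers D v := mul_mem (mem_centMembers hzD (h.commute_of_fixInv hfix hva hzD hza))
    (mem_centMembers hz'D (h.commute_of_fixInv hfix hvb hz'D hz'b))
  have hT1 : T ≠ 1 := fun e => hab (by
    rw [← hza, ← hz'b]
    exact congrArg pt ((mul_eq_one_iff_eq_inv.1 e).trans (inv_eq (h.pc.inv _ hz'D))))
  have hTodd : Odd (orderOf T) :=
    h.pc.odd_orderOf_mul_of_semiregular hzD hz'D (by rw [hza, hz'b]; exact hab) (hsemi hzD)
  obtain ⟨l, hlp, hlT⟩ := Nat.exists_prime_and_dvd (fun e => hT1 (orderOf_eq_one_iff.1 e))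
  haveI : Fact l.Prime := ⟨hlp⟩
  have hl2 : l ≠ 2 := by
    rintro rfl
    exact Nat.not_even_iff_odd.2 hTodd (even_iff_two_dvd.2 hlT)
  set k := orderOf T / l with hk
  set t := T ^ k with htdef
  have hto : orderOf t = l := orderOf_pow_orderOf_div (orderOf_pos T).ne' hlT
  have ht1 : t ≠ 1 := fun e => hlp.one_lt.ne' (by rw [← hto, e, orderOf_one])
  have htM : t ∈ centMembers D v := Subgroup.pow_mem _ hTM k
  have htv : Commute t v := hTv.pow_left k
  have htodd : Odd (orderOf t) := hto ▸ hlp.odd_of_ne_two hl2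
  set t' := x * t * x⁻¹ with ht'def
  have ht'k : t' = (x * T * x⁻¹) ^ k := by rw [ht'def, htdef, conj_pow]
  have htt' : Commute t' t := by rw [ht'k, htdef]; exact (hTcomm.symm.pow_pow k k)
  have ht'inv : v * t' * v⁻¹ = t'⁻¹ := by
    rw [ht'k, ← conj_pow, ← inv_pow]
    congr 1
    have e1 : v * (x * T * x⁻¹) * v⁻¹ = x⁻¹ * (v * T * v⁻¹) * x := by
      have hvv : ∀ g : G, v * (v * g) = g := fun g => by rw [← mul_assoc, hv2, one_mul]
      simp [hxdef, hvi, hwi, mul_assoc, hvv, hv2]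
    rw [e1, ← hTv.eq, mul_inv_cancel_right]
    calc x⁻¹ * T * x = x⁻¹ * (x * (x * T * x⁻¹) * x⁻¹)⁻¹ * x := by rw [hTinv, inv_inv]
      _ = (x * T * x⁻¹)⁻¹ := by group
  have ht'1 : t' ≠ 1 := fun e => ht1 (conj_eq_one_iff.1 e)
  have ht'l : t' ^ l = 1 := by rw [ht'def, conj_pow, ← hto, pow_orderOf_eq_one, mul_one, mul_inv_cancel]
  obtain ⟨hA, hcyc⟩ := h.centMembers_facts hv hab hva hvb hq hf hR
  -- `t` fixes no point
  have hin : ∀ y : Ω, t • y = y → v • y = y := by
    intro y hy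
    by_contra hvy
    obtain ⟨w', ⟨hw'D, hw'v, hw'y⟩, huniq⟩ := h.swapper_unique hfix hvy
    have e1 : t * w' * t⁻¹ = w' := huniq _ ⟨h.pc.conj_mem t w' hw'D,
      (htv.mul_left hw'v).mul_left htv.inv_left, by
        rw [mul_smul, mul_smul, inv_smul_eq_iff.2 hy.symm, hw'y, ← mul_smul, htv.eq, mul_smul, hy]⟩
    exact ht1 (hA t htM htodd w' hw'D hw'v (mul_inv_eq_iff_eq_mul.1 e1))
  have hthree : ∀ p p' p'' : Ω, t • p = p → t • p' = p' → t • p'' = p'' → p ≠ p' → p ≠ p'' →
      p' = p'' := by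
    intro p p' p'' hp hp' hp'' h1 h2
    by_contra h3
    obtain ⟨e, he, hep⟩ := h.exists_mem_E_smul hv hab hva hvb hq hf (hin p hp) (hin p' hp')
      (hin p'' hp'') h1.symm h2.symm
    have he1 : e ≠ 1 := fun e1 => h3 (by rw [← hep, e1, one_smul])
    obtain ⟨heD, hep'⟩ := (h.mem_E.1 he).resolve_left he1
    have hconj : t * e * t⁻¹ = e := h.eq_of_smul_eq (h.pc.conj_mem t e heD) heD
      (by rw [h.pc.pt_conj t heD, hep', hp]) (c := p')
      (by rw [h.pc.pt_conj t heD, hep', hp]; exact h1.symm) (by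
        rw [mul_smul, mul_smul, inv_smul_eq_iff.2 hp'.symm, hep, hp''])
    exact ht1 (hA t htM htodd e heD (h.commute_of_fixInv hfix (hin p hp) heD hep')
      (mul_inv_eq_iff_eq_mul.1 hconj))
  have htgroup : IsPGroup l (Subgroup.zpowers t) :=
    IsPGroup.of_card (n := 1) (by rw [Nat.card_zpowers, hto, pow_one])
  have hzfix : ∀ p : Ω, t • p = p → ∀ y : Subgroup.zpowers t, (y : G) • p = p := fun p hp y =>
    mem_stabilizer_iff.1 (Subgroup.zpowers_le.2 (mem_stabilizer_iff.2 hp) y.2)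
  have hfpf : ∀ p : Ω, t • p ≠ p := by
    intro p hp
    -- a second fixed point
    obtain ⟨p', hp'ne, hp'⟩ : ∃ p', p' ≠ p ∧ t • p' = p' := by
      by_contra! hall
      letI : MulAction (Subgroup.zpowers t) {q : Ω // v • q = q ∧ q ≠ p} :=
        { smul := fun y q => ⟨(y : G) • q.1, by
            have hyv : Commute (y : G) v := by
              obtain ⟨i, hi⟩ := Subgroup.mem_zpowers_iff.1 y.2
              rw [← hi]; exact htv.zpow_left i
            refine ⟨by rw [← mul_smul, ← hyv.eq, mul_smul, q.2.1], fun e => q.2.2 ?_⟩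
            exact smul_left_cancel (y : G) (e.trans (hzfix p hp y).symm)⟩
          one_smul := fun q => Subtype.ext (one_smul G q.1)
          mul_smul := fun y z q => Subtype.ext (mul_smul (y : G) (z : G) q.1) }
      have hcardF : Nat.card {q : Ω // v • q = q ∧ q ≠ p} = 2 ^ r := by
        have e1 : Nat.card {q : Ω // v • q = q ∧ q ≠ p} + 1 = Nat.card {q : Ω // v • q = q} := by
          rw [← Nat.card_congr (Equiv.optionSubtypeNe (⟨p, hin p hp⟩ : {q : Ω // v • q = q})),
            Finite.card_option]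
          exact congrArg (· + 1) (Nat.card_congr ((Equiv.subtypeSubtypeEquivSubtypeInter
            (fun q : Ω => v • q = q) fun q => q ≠ p).symm.trans (Equiv.subtypeEquivRight fun x =>
              ⟨fun e e' => e (congrArg Subtype.val e'), fun e e' => e (Subtype.ext e')⟩)))
        omega
      obtain ⟨q₀, hq₀⟩ := htgroup.nonempty_fixed_point_of_prime_not_dvd_card
        {q : Ω // v • q = q ∧ q ≠ p} (fun hd => hl2 ((Nat.prime_dvd_prime_iff_eq hlp Nat.prime_two).1
          (hlp.dvd_of_dvd_pow (hcardF ▸ hd))))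
      exact hall q₀.1 q₀.2.2 (congrArg Subtype.val (hq₀ ⟨t, Subgroup.mem_zpowers t⟩))
    -- `t'` fixes both
    have hperm : ∀ q : Ω, t • q = q → t • (t' • q) = t' • q := fun q hq' => by
      rw [← mul_smul, ← htt'.eq, mul_smul, hq']
    have hfix' : ∀ q q' : Ω, q ≠ q' → t • q = q → t • q' = q' → t' • q = q := by
      intro q q' hne hq' hq''
      have hcases : ∀ y, t • y = y → y = q ∨ y = q' := fun y hy => by
        by_cases e : q = y
        · exact Or.inl e.symm
        · exact Or.inr (hthree q q' y hq' hq'' hy hne e).symm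
      rcases hcases _ (hperm q hq') with e | e
      · exact e
      · have e' : t' • q' = q := by
          rcases hcases _ (hperm q' hq'') with e2 | e2
          · exact e2
          · exact absurd (smul_left_cancel t' (e.trans e2.symm)) hne
        have hsq : (t' ^ 2) • q = q := by rw [pow_two, mul_smul, e, e']
        obtain ⟨m, hm⟩ := hlp.odd_of_ne_two hl2
        have hmem := mem_stabilizer_iff.1 ((stabilizer G q).pow_mem (mem_stabilizer_iff.2 hsq) (m + 1))
        rwa [← pow_mul, show 2 * (m + 1) = l + 1 by omega, pow_succ, ht'l, one_mul] at hmem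
    have hkill : ∀ q : Ω, t • q = q → t' • q = q → q = a := by
      intro q hq' hq''
      have h1 : t • (x⁻¹ • q) = x⁻¹ • q := by
        rw [ht'def, mul_smul, mul_smul, smul_eq_iff_eq_inv_smul] at hq''
        exact hq''
      have h2 := hin _ h1
      refine h.semiregular hzE hz1 ?_
      have e : x * x = x * v * x⁻¹ * v := by rw [hxi, hxdef]; simp [mul_assoc, hv2]
      rw [e, mul_smul, hin q hq', mul_smul, mul_smul, h2, smul_inv_smul]
    have e1 := hkill p hp (hfix' p p' hp'ne.symm hp hp')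
    exact hp'ne ((hkill p' hp' (hfix' p' p hp'ne hp' hp)).trans e1.symm)
  -- `l ∣ q + 1`, so `l` is prime to the index of `C(v)`
  have hl1 : l ∣ 2 ^ r + 1 := by
    letI : MulAction (Subgroup.zpowers t) {q : Ω // v • q = q} :=
      { smul := fun y q => ⟨(y : G) • q.1, by
          have hyv : Commute (y : G) v := by
            obtain ⟨i, hi⟩ := Subgroup.mem_zpowers_iff.1 y.2
            rw [← hi]; exact htv.zpow_left i
          rw [← mul_smul, ← hyv.eq, mul_smul, q.2]⟩
        one_smul := fun q => Subtype.ext (one_smul G q.1)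
        mul_smul := fun y z q => Subtype.ext (mul_smul (y : G) (z : G) q.1) }
    by_contra hnd
    obtain ⟨q₀, hq₀⟩ := htgroup.nonempty_fixed_point_of_prime_not_dvd_card
      {q : Ω // v • q = q} (fun hd => hnd (hf ▸ hd))
    exact hfpf q₀.1 (congrArg Subtype.val (hq₀ ⟨t, Subgroup.mem_zpowers t⟩))
  have hl3 : l ≠ 3 := by
    rintro rfl
    obtain ⟨j, rfl⟩ := hr
    rw [← two_mul, pow_mul] at hl1
    have : (2 ^ 2 : ℕ) ^ j % 3 = 1 := by rw [Nat.pow_mod]; norm_num
    omega
  set C := Subgroup.centralizer ({v} : Set G) with hC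
  have hmemC : ∀ {g : G}, g ∈ C ↔ Commute g v := fun {g} => mem_centralizer_singleton
  have hCi : ¬ l ∣ C.index := by
    have hidx : C.index = (2 ^ r) ^ 2 * ((2 ^ r) ^ 2 - 2 ^ r + 1) := by
      refine Nat.eq_of_mul_eq_mul_left (Nat.card_pos (α := C)) ?_
      rw [C.card_mul_index, hC]
      exact h.card_eq_centralizer_mul hv hab hva hvb hq hf hR hn
    rw [hidx]
    intro hd
    rcases hlp.dvd_mul.1 hd with hd | hd
    · exact hl2 ((Nat.prime_dvd_prime_iff_eq hlp Nat.prime_two).1 (hlp.dvd_of_dvd_pow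
        (hlp.dvd_of_dvd_pow hd)))
    · refine hl3 ((Nat.prime_dvd_prime_iff_eq hlp Nat.prime_three).1 ?_)
      have hle : 2 ^ r ≤ (2 ^ r) ^ 2 := by nlinarith [Nat.one_le_two_pow (n := r)]
      have key : (2 ^ r + 1) * (2 ^ r + 1) = (2 ^ r) ^ 2 - 2 ^ r + 1 + 3 * 2 ^ r := by
        zify [hle]; ring
      have h3 : l ∣ 3 * 2 ^ r := (Nat.dvd_add_right hd).1 (key ▸ hl1.mul_right _)
      exact (hlp.dvd_mul.1 h3).resolve_right fun hh =>
        hl2 ((Nat.prime_dvd_prime_iff_eq hlp Nat.prime_two).1 (hlp.dvd_of_dvd_pow hh))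
  -- `t` central in a Sylow subgroup inside `C`
  have htC : t ∈ C := hmemC.2 htv
  obtain ⟨P₀, hP₀⟩ : ∃ P₀ : Sylow l C, Subgroup.zpowers (⟨t, htC⟩ : C) ≤ P₀ :=
    IsPGroup.exists_le_sylow (IsPGroup.of_card (n := 1)
      (by rw [Nat.card_zpowers, Subgroup.orderOf_mk, hto, pow_one]))
  have hPi : ¬ l ∣ ((P₀ : Subgroup C).map C.subtype).index := by
    rw [Subgroup.index_map_subtype]
    exact fun hd => (hlp.dvd_mul.1 hd).elim P₀.not_dvd_index hCi
  set P : Sylow l G := (P₀.2.map C.subtype).toSylow hPi with hP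
  have hPv : ∀ g ∈ (P : Subgroup G), Commute g v := by
    rintro _ ⟨g, -, rfl⟩
    exact hmemC.1 g.2
  have htP : t ∈ (P : Subgroup G) := ⟨⟨t, htC⟩, hP₀ (Subgroup.mem_zpowers _), rfl⟩
  set M := centMembers D v with hM
  have hMn : ∀ g ∈ (P : Subgroup G), ∀ y ∈ M, g * y * g⁻¹ ∈ M := by
    intro g hg y hy
    induction hy using Subgroup.closure_induction with
    | mem d hd =>
      exact mem_centMembers (h.pc.conj_mem g d hd.1)
        (((hPv g hg).mul_left hd.2).mul_left (hPv g hg).inv_left)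
    | one => simp
    | mul x y _ _ hx hy => rw [← conj_mul]; exact mul_mem hx hy
    | inv x _ hx => rw [← conj_inv]; exact inv_mem hx
  haveI : IsCyclic ((P : Subgroup G) ⊓ M : Subgroup G) :=
    hcyc l hlp hl2 _ inf_le_right (P.2.to_le inf_le_left)
  have hconjz : ∀ g ∈ (P : Subgroup G), g * t * g⁻¹ ∈ Subgroup.zpowers t := by
    intro g hg
    obtain ⟨gen, hgen⟩ := IsCyclic.exists_generator (α := ((P : Subgroup G) ⊓ M : Subgroup G))
    have hpow : (g * t * g⁻¹) ^ orderOf t = 1 := by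
      rw [conj_pow, pow_orderOf_eq_one, mul_one, mul_inv_cancel]
    let y₁ : ((P : Subgroup G) ⊓ M : Subgroup G) := ⟨g * t * g⁻¹, Subgroup.mem_inf.2
      ⟨(P : Subgroup G).mul_mem ((P : Subgroup G).mul_mem hg htP) ((P : Subgroup G).inv_mem hg),
        hMn g hg t htM⟩⟩
    let y₂ : ((P : Subgroup G) ⊓ M : Subgroup G) := ⟨t, Subgroup.mem_inf.2 ⟨htP, htM⟩⟩
    have key := GWKlein.L2.mem_zpowers_of_pow_eq_one (y := gen) (x := y₁) (x' := y₂) (hgen y₁)
      (hgen y₂) (orderOf_dvd_iff_pow_eq_one.1 (by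
        rw [← Subgroup.orderOf_coe y₁, ← Subgroup.orderOf_coe y₂]
        exact orderOf_dvd_of_pow_eq_one hpow))
    obtain ⟨i, hi⟩ := Subgroup.mem_zpowers_iff.1 key
    exact Subgroup.mem_zpowers_iff.2 ⟨i, by simpa [y₁, y₂] using congrArg Subtype.val hi⟩
  have hPt : ∀ g ∈ (P : Subgroup G), Commute g t := by
    let Z : Subgroup (P : Subgroup G) := Subgroup.zpowers ⟨t, htP⟩
    haveI : Z.Normal := ⟨fun y hy g => by
      obtain ⟨i, rfl⟩ := Subgroup.mem_zpowers_iff.1 hy
      rw [← conj_zpow]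
      refine Subgroup.zpow_mem _ ?_ i
      obtain ⟨j, hj⟩ := Subgroup.mem_zpowers_iff.1 (hconjz g g.2)
      exact Subgroup.mem_zpowers_iff.2 ⟨j, Subtype.ext (by simpa using hj)⟩⟩
    haveI : Group.IsNilpotent (P : Subgroup G) := P.2.isNilpotent
    have hZcard : Nat.card Z = l := by rw [Nat.card_zpowers, Subgroup.orderOf_mk, hto]
    have hne := RankOne.Setup.inf_center_ne_bot_of_nilpotent (N := Z)
      (fun e => hlp.one_lt.ne' (by rw [← hZcard, e, Subgroup.card_bot]))
    have hle : Z ≤ Subgroup.center (P : Subgroup G) := by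
      have h1 : Nat.card (Z ⊓ Subgroup.center (P : Subgroup G) : Subgroup (P : Subgroup G)) = l :=
        ((Nat.dvd_prime hlp).1 (by
          have h0 := Subgroup.card_dvd_of_le (inf_le_left : Z ⊓ Subgroup.center (P : Subgroup G) ≤ Z)
          rwa [hZcard] at h0)).resolve_left
          fun e => hne (Subgroup.card_eq_one.1 e)
      exact inf_eq_left.1 (Subgroup.eq_of_le_of_card_ge inf_le_left (by rw [h1, hZcard]))
    intro g hg
    exact congrArg Subtype.val
      (Subgroup.mem_center_iff.1 (hle (Subgroup.mem_zpowers _)) (⟨g, hg⟩ : (P : Subgroup G)))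
  -- `v` is isolated in `C(t)`
  refine false_of_inverted_in_centralizer hl2 hv htv.symm htt' (k := 1) (by rw [pow_one, ht'l])
    ht'inv ht'1 P hPv hPt fun g hgt hc4 => ?_
  set v₄ := g * v * g⁻¹ with hv₄
  have hv₄2 : orderOf v₄ = 2 := by rw [hv₄, ← MulAut.conj_apply, MulEquiv.orderOf_eq, hv]
  have hf₄ : IsFixInv Ω v₄ := ⟨hv₄2, g • a, g • b, fun e => hab (smul_left_cancel g e),
    by rw [hv₄, mul_smul, mul_smul, inv_smul_smul, hva],
    by rw [hv₄, mul_smul, mul_smul, inv_smul_smul, hvb]⟩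
  have hv₄t : Commute v₄ t := (hgt.mul_left htv.symm).mul_left hgt.inv_left
  letI : MulAction (Subgroup.zpowers v₄) {q : Ω // v • q = q} :=
    { smul := fun y q => ⟨(y : G) • q.1, by
        have hyv : Commute (y : G) v := by
          obtain ⟨i, hi⟩ := Subgroup.mem_zpowers_iff.1 y.2
          rw [← hi]; exact hc4.symm.zpow_left i
        rw [← mul_smul, ← hyv.eq, mul_smul, q.2]⟩
      one_smul := fun q => Subtype.ext (one_smul G q.1)
      mul_smul := fun y z q => Subtype.ext (mul_smul (y : G) (z : G) q.1) }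
  obtain ⟨p₀, hp₀⟩ := (IsPGroup.of_card (p := 2) (G := Subgroup.zpowers v₄) (n := 1)
    (by rw [Nat.card_zpowers, hv₄2, pow_one])).nonempty_fixed_point_of_prime_not_dvd_card
    {q : Ω // v • q = q} (by
      rw [hf]
      intro hd
      obtain ⟨j, hj⟩ := hr
      rcases Nat.eq_zero_or_pos r with h0 | hpos
      · obtain ⟨r', hr', e⟩ := h.exists_card_E a
        rw [hq, h0] at e
        have := Nat.pow_right_injective le_rfl e
        omega
      · exact absurd ((Nat.dvd_add_right (dvd_pow_self 2 hpos.ne')).1 hd) (by decide))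
  have hp₀v₄ : v₄ • p₀.1 = p₀.1 := congrArg Subtype.val (hp₀ ⟨v₄, Subgroup.mem_zpowers v₄⟩)
  have heE := (hcls p₀.1 v v₄ hfix hf₄ p₀.2 hp₀v₄).2 hc4
  rcases h.mem_E.1 heE with e | ⟨heD, hep⟩
  · rw [mul_eq_one_iff_eq_inv.1 e, inv_eq hv₄2]
  · exact absurd (hA t htM htodd _ heD (h.commute_of_fixInv hfix p₀.2 heD hep)
      (htv.mul_right hv₄t.symm)) ht1

end FinishHyp

end Cfsg.Agent.Aschbacher
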