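/-
The orbits of `C₀` in the case `|Fix v| = q + 1` (CRITERION_FINISH.md B3; owner: helper43).

`W` moves `b` freely, so an orbit of `C₀` off `a` has at least `q²` points; being one of the blocks of
the transitive stabiliser of `a` its size divides `q³`, and the torus at `a, b` moves the other
points of it semiregularly, so it is `1` modulo `q - 1`.

* `BlockHyp.mem_fixCent_of_transT` : `T ∩ G_b = A`
* `BlockHyp.card_orbit_cenAt` : an orbit has `q²` or `q³` points
-/
import Cfsg.Agent.Lib.Aschbacher.CriterionL2Class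

set_option autoImplicit false
set_option linter.style.haveILetI false
set_option linter.unusedSectionVars false

namespace Cfsg.Agent.Aschbacher

open Cfsg Involution MulAction

universe u

namespace BlockHyp

variable {G : Type u} {Ω : Type u} [Group G] [MulAction G Ω] [Finite G] [Finite Ω]
  [FaithfulSMul G Ω] {D : Set G} {pt : G → Ω}

variable (S : BlockHyp G Ω D pt) {a : Ω} {v : G} (hv : IsFixInv Ω v) (hva : v • a = a)
  {b : Ω} (hvb : v • b = b) (hba : b ≠ a)
include S hv hva hvb hba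

/-- An element of `T` fixing another point of the block lies in `A`. -/
theorem mem_fixCent_of_transT {g : G} (hg : g ∈ transT D pt a v) (hgb : g • b = b) :
    g ∈ fixCent D pt a v := by
  obtain ⟨-, hgE, hgv⟩ := mem_transT.1 hg
  have hcv : Commute g v := by
    by_contra hne
    refine hba (S.chd.fin.semiregular hgv (fun e1 => hne ?_) ?_)
    · rw [mul_inv_eq_one, mul_inv_eq_iff_eq_mul] at e1
      exact e1
    · rw [mul_smul (g * v * g⁻¹), inv_smul_eq_iff.2 hvb.symm, mul_smul (g * v),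
        inv_smul_eq_iff.2 hgb.symm, mul_smul, hvb, hgb]
  obtain ⟨α, hα, e, he, rfl⟩ := (S.mem_classAt_iff hv hva).1 (S.mem_classAt_of_transT hv hva hg hcv)
  by_cases he1 : e = 1
  · rwa [he1, mul_one]
  · refine absurd (S.chd.fin.semiregular he he1 ?_) hba
    rw [mul_smul] at hgb
    exact smul_left_cancel α (hgb.trans ((mem_fixCent.1 hα).2.1 b hvb).symm)

/-- **B3.** An orbit of `C₀` off `a` has `q²` or `q³` points. -/
theorem card_orbit_cenAt (hn : Nat.card Ω = Nat.card (atPoint D pt a) ^ 3 + 1) :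
    Nat.card (orbit (cenAt D pt a) b) = Nat.card (atPoint D pt a) ^ 2 ∨
      Nat.card (orbit (cenAt D pt a) b) = Nat.card (atPoint D pt a) ^ 3 := by
  classical
  obtain ⟨W, hW⟩ := S.exists_lineW hv hva hn
  obtain ⟨r, hr2, hr⟩ := S.chd.fin.exists_card_E a
  set q := Nat.card (atPoint D pt a) with hq
  have hC0a : ∀ c : cenAt D pt a, (c : G) • a = a := fun c => (mem_cenAt.1 c.2).1
  set O := orbit (cenAt D pt a) b with hO
  have hmemO : ∀ {z : Ω}, z ∈ O ↔ ∃ c ∈ cenAt D pt a, c • b = z := fun {z} =>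
    ⟨fun ⟨c, hc⟩ => ⟨c, c.2, hc⟩, fun ⟨c, hc, e⟩ => ⟨⟨c, hc⟩, e⟩⟩
  have hnorm : ∀ {g c : G}, g • a = a → c ∈ cenAt D pt a → g * c * g⁻¹ ∈ cenAt D pt a := by
    intro g c hga hc
    obtain ⟨hca, hcE⟩ := mem_cenAt.1 hc
    refine mem_cenAt.2 ⟨by rw [mul_smul, mul_smul, inv_smul_eq_iff.2 hga.symm, hca, hga], fun e he => ?_⟩
    have h1 := hcE _ (S.conj_pow_E hv hva (inv_smul_eq_iff.2 hga.symm) he)
    rw [inv_inv] at h1
    have h2 := h1.map (MulAut.conj g).toMonoidHom
    simp only [MulEquiv.coe_toMonoidHom, MulAut.conj_apply] at h2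
    rwa [show g * (g⁻¹ * e * g) * g⁻¹ = e by group] at h2
  -- at least `q²` points
  have hge : q ^ 2 ≤ Nat.card O := by
    rw [← hW.card]
    refine Nat.card_le_card_of_injective (fun x : W => (⟨(x : G) • b, hmemO.2 ⟨x, mem_cenAt.2
      ⟨(mem_transT.1 (hW.le x.2)).1, (mem_transT.1 (hW.le x.2)).2.1⟩, rfl⟩⟩ : O)) fun x y hxy => ?_
    have h1 : (x : G) • b = (y : G) • b := congrArg Subtype.val hxy
    have h2 : (y : G)⁻¹ * x ∈ W := mul_mem (inv_mem y.2) x.2
    rcases hW.fixCent_eq _ (S.mem_fixCent_of_transT hv hva hvb hba (hW.le h2)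
      (by rw [mul_smul, h1, inv_smul_smul])) with e | e
    · exact Subtype.ext (inv_mul_eq_one.1 e).symm
    · exact absurd (e ▸ h2) hW.not_mem
  -- dividing `q³`
  have hdvd : Nat.card O ∣ q ^ 3 := by
    let H : Subgroup G :=
      { carrier := {g | g • a = a ∧ g • b ∈ O}
        one_mem' := ⟨one_smul G a, hmemO.2 ⟨1, one_mem _, rfl⟩⟩
        mul_mem' := by
          rintro g k ⟨hga, hgb⟩ ⟨hka, hkb⟩
          obtain ⟨c, hc, hkc⟩ := hmemO.1 hkb
          obtain ⟨d, hd, hgd⟩ := hmemO.1 hgb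
          refine ⟨by rw [mul_smul, hka, hga], hmemO.2 ⟨g * c * g⁻¹ * d, mul_mem (hnorm hga hc) hd, ?_⟩⟩
          rw [mul_smul (g * c * g⁻¹), hgd, mul_smul, inv_smul_smul, mul_smul, hkc, mul_smul]
        inv_mem' := by
          rintro g ⟨hga, hgb⟩
          have hga' := inv_smul_eq_iff.2 hga.symm
          obtain ⟨c, hc, hgc⟩ := hmemO.1 hgb
          refine ⟨hga', hmemO.2 ⟨(g⁻¹ * c * g⁻¹⁻¹)⁻¹, inv_mem (hnorm hga' hc), ?_⟩⟩
          rw [inv_smul_eq_iff, inv_inv, mul_smul, smul_inv_smul, mul_smul, hgc, inv_smul_smul] }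
    have horbG : orbit (stabilizer G a) b = {z | z ≠ a} := by
      refine Set.ext fun z => ⟨?_, fun hz => ?_⟩
      · rintro ⟨⟨g, hg⟩, rfl⟩ e
        exact hba (smul_left_cancel g (e.trans (mem_stabilizer_iff.1 hg).symm))
      · obtain ⟨g, hga, hgz⟩ := S.chd.fin.trans a b z (Ne.symm hba) (Ne.symm hz)
        exact ⟨⟨g, hga⟩, hgz⟩
    have horbH : orbit H b = O := by
      refine Set.ext fun z => ⟨?_, fun hz => ?_⟩
      · rintro ⟨⟨g, hg⟩, rfl⟩
        exact hg.2
      · obtain ⟨c, hc, rfl⟩ := hmemO.1 hz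
        exact ⟨⟨c, (mem_cenAt.1 hc).1, hmemO.2 ⟨c, hc, rfl⟩⟩, rfl⟩
    have hHle : H ≤ stabilizer G a := fun g hg => mem_stabilizer_iff.2 hg.1
    have hK : stabilizer H b = ((stabilizer (stabilizer G a) b).map (stabilizer G a).subtype).subgroupOf H := by
      refine Subgroup.ext fun g => ⟨fun hg => ⟨⟨g, hHle g.2⟩, hg, rfl⟩, ?_⟩
      rintro ⟨k, hk, e⟩
      show (g : G) • b = b
      rw [← show (k : G) = (g : G) from e]
      exact hk
    have hKle : (stabilizer (stabilizer G a) b).map (stabilizer G a).subtype ≤ H := by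
      rintro _ ⟨k, hk, rfl⟩
      exact ⟨mem_stabilizer_iff.1 k.2, hmemO.2 ⟨1, one_mem _, by
        rw [one_smul]; exact (show (k : G) • b = b from hk).symm⟩⟩
    have e1 := (stabilizer H b).index_mul_card
    have e2 := (stabilizer (stabilizer G a) b).index_mul_card
    rw [MulAction.index_stabilizer, horbH, ← Nat.card_coe_set_eq, hK,
      Nat.card_congr (Subgroup.subgroupOfEquivOfLe hKle).toEquiv,
      Subgroup.card_map_of_injective (stabilizer G a).subtype_injective] at e1
    rw [MulAction.index_stabilizer, horbG, ← Nat.card_coe_set_eq] at e2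
    have h3 : Nat.card {z : Ω | z ≠ a} = q ^ 3 := by
      have e : Nat.card Ω = Nat.card {z : Ω // z ≠ a} + 1 := by
        rw [← Finite.card_option]
        exact Nat.card_congr (Equiv.optionSubtypeNe a).symm
      show Nat.card {z : Ω // z ≠ a} = q ^ 3
      omega
    have h4 := Subgroup.card_dvd_of_le hHle
    rw [← e1, ← e2, h3] at h4
    exact Nat.dvd_of_mul_dvd_mul_right Nat.card_pos h4
  -- one modulo `q - 1`
  have hmod : q - 1 ∣ Nat.card O - 1 := by
    obtain ⟨j, -, hja, hjb, hord, -, -, hfix⟩ :=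
      S.chd.exists_torus_regular hv hba.symm hva hvb (S.fix_ne_cube a v hv)
    have hJ : ∀ k ∈ Subgroup.zpowers j, k • a = a ∧ k • b = b := fun k hk =>
      ⟨mem_stabilizer_iff.1 (Subgroup.zpowers_le.2 (mem_stabilizer_iff.2 hja) hk),
        mem_stabilizer_iff.1 (Subgroup.zpowers_le.2 (mem_stabilizer_iff.2 hjb) hk)⟩
    letI : MulAction (Subgroup.zpowers j) {z : O // (z : Ω) ≠ b} :=
      { smul := fun k z => ⟨⟨(k : G) • z.1.1, by
            obtain ⟨c, hc, hcz⟩ := hmemO.1 z.1.2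
            refine hmemO.2 ⟨k * c * (k : G)⁻¹, hnorm (hJ k k.2).1 hc, ?_⟩
            rw [mul_smul, mul_smul, inv_smul_eq_iff.2 (hJ k k.2).2.symm, hcz]⟩,
          fun e => z.2 (smul_left_cancel (k : G) (e.trans (hJ k k.2).2.symm))⟩
        one_smul := fun z => Subtype.ext (Subtype.ext (one_smul G _))
        mul_smul := fun k l z => Subtype.ext (Subtype.ext (mul_smul (k : G) (l : G) _)) }
    have hfree : ∀ z : {z : O // (z : Ω) ≠ b}, stabilizer (Subgroup.zpowers j) z = ⊥ := by
      intro z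
      refine (Subgroup.eq_bot_iff_forall _).2 fun k hk => ?_
      by_contra hne
      rcases hfix k k.2 (fun e => hne (Subtype.ext e)) z.1.1
        (congrArg (fun w => w.1.1) (mem_stabilizer_iff.1 hk)) with e | e
      · obtain ⟨c, hc, hcz⟩ := hmemO.1 z.1.2
        exact hba (smul_left_cancel c ((hcz.trans e).trans (mem_cenAt.1 hc).1.symm))
      · exact z.2 e
    have h1 := Nat.card_congr (MulAction.selfEquivOrbitsQuotientProd hfree)
    rw [Nat.card_prod, Nat.card_zpowers, hord] at h1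
    have h2 : Nat.card O = Nat.card {z : O // (z : Ω) ≠ b} + 1 := by
      rw [← Finite.card_option]
      refine (Nat.card_congr ((Equiv.optionSubtypeNe (⟨b, mem_orbit_self b⟩ : O)).symm.trans
        (Equiv.optionCongr (Equiv.subtypeEquivRight fun z => ?_)))).trans rfl
      exact ⟨fun h e => h (Subtype.ext e), fun h e => h (congrArg Subtype.val e)⟩
    exact ⟨_, by rw [h2, Nat.add_sub_cancel, h1, mul_comm]⟩
  -- arithmetic
  obtain ⟨k, -, hk⟩ := (Nat.dvd_prime_pow Nat.prime_two).1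
    (show Nat.card O ∣ 2 ^ (r * 3) by rwa [pow_mul, ← hr])
  rw [hk] at hge hdvd hmod ⊢
  have hq2 : 2 ≤ q := by
    rw [hr]; exact Nat.le_self_pow (by omega) 2
  have hkr : r * 2 ≤ k := (Nat.pow_le_pow_iff_right one_lt_two).1 (by rwa [pow_mul, ← hr])
  set m := 2 ^ (k - r * 2) with hm
  have hL : 2 ^ k = m * q ^ 2 := by
    rw [hm, hr, ← pow_mul, ← pow_add, Nat.sub_add_cancel hkr]
  rw [hL] at hdvd hmod ⊢
  have hm1 : 1 ≤ m := Nat.one_le_two_pow
  have hmq : m ≤ q := by
    refine Nat.le_of_mul_le_mul_right ?_ (show 0 < q ^ 2 from pow_pos (by omega) 2)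
    rw [← pow_succ']
    exact Nat.le_of_dvd (pow_pos (by omega) 3) hdvd
  have hdiv : q - 1 ∣ (m - 1) * q ^ 2 := by
    have hsq : q - 1 ∣ q ^ 2 - 1 := by simpa using Nat.sub_dvd_pow_sub_pow q 1 2
    have hq21 : 1 ≤ q ^ 2 := Nat.one_le_pow _ _ (by omega)
    have e : m * q ^ 2 - 1 = (m - 1) * q ^ 2 + (q ^ 2 - 1) := by
      rw [Nat.sub_mul, one_mul]
      have := Nat.le_mul_of_pos_left (q ^ 2) (show 0 < m by omega)
      omega
    exact (Nat.dvd_add_left hsq).1 (e ▸ hmod)
  have hcop : (q - 1).Coprime (q ^ 2) := by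
    refine Nat.Coprime.pow_right 2 ?_
    rw [Nat.coprime_self_sub_left (by omega)]
    exact Nat.coprime_one_left q
  have hm' := hcop.dvd_of_dvd_mul_right hdiv
  rcases Nat.eq_zero_or_pos (m - 1) with h0 | h0
  · left
    rw [show m = 1 by omega, one_mul]
  · right
    have := Nat.le_of_dvd h0 hm'
    rw [show m = q by omega]
    ring

end BlockHyp

end Cfsg.Agent.Aschbacher
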