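/-
Case `|Fix v| = q + 1` of the finish of the criterion with orbits of `C₀` of size `q²`
(CRITERION_FINISH.md B5; owner: helper2).

For `v, v'` fixing `a, b` every point of the orbit `W b = W' b` is fixed by some `v e` and some
`v' e'`, so `(v v')²` fixes it and centralises the members there: as the chord has only `q + 1`
points it is trivial.  So `R(a,b) = {1, v}`, `C₀ = T` and the involutions with two fixed points at `a`
are `v W`.

* `BlockHyp.card_omega_eq` : `n = q³ + 1`
* `BlockHyp.centPair_eq_pair` : `R(a,b) = {1, v}`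
* `BlockHyp.cenAt_eq_transT` : `C₀ = T`
* `BlockHyp.false_of_orbit_sq` : no such configuration
-/
import Cfsg.Agent.Lib.Aschbacher.CriterionL2Orbits
import Cfsg.Agent.Lib.Aschbacher.CriterionL2Orbit
import Cfsg.Agent.Lib.Aschbacher.CriterionL2Det

set_option autoImplicit false
set_option linter.style.haveILetI false
set_option linter.unusedSectionVars false

namespace Cfsg.Agent.Aschbacher

open Cfsg Involution MulAction

universe u

variable {G : Type u} {Ω : Type u} [Group G] [MulAction G Ω] [Finite G] [Finite Ω]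
  [FaithfulSMul G Ω] {D : Set G} {pt : G → Ω}

namespace BlockHyp

variable (S : BlockHyp G Ω D pt)
include S

/-- `n = q³ + 1`. -/
theorem card_omega_eq {v : G} (hv : IsFixInv Ω v) (a : Ω) :
    Nat.card Ω = Nat.card (atPoint D pt a) ^ 3 + 1 := by
  rw [S.chd.card_omega hv a, S.card_fix a v hv, Nat.add_sub_cancel]
  obtain ⟨c, hc⟩ : ∃ c, Nat.card (atPoint D pt a) = c + 1 :=
    ⟨_, (Nat.succ_pred_eq_of_pos Nat.card_pos).symm⟩
  rw [hc, Nat.add_sub_cancel]
  ring

/-- An element fixing `a, b` and a further point off their chord, centralising `E_a`, is trivial. -/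
theorem eq_one_of_centPair_third {v : G} (hv : IsFixInv Ω v) {a b z : Ω} (hab : a ≠ b)
    (hva : v • a = a) (hvb : v • b = b) (hvz : v • z ≠ z) {g : G} (hg : g ∈ centPair D pt a b)
    (hgz : g • z = z) : g = 1 := by
  by_contra hg1
  have C := S.chd
  have P := C.fin.pc
  obtain ⟨hga, hgb, hgE⟩ := mem_centPair.1 hg
  set M := centMembers D g
  have hM : M ≠ ⊤ := C.fin.ne_top_of_le_centralizer hga hg1 fun k hk => commute_of_mem_centMembers hk
  have hMa : ∀ d ∈ D, pt d = a → d ∈ M := fun d hd hda => mem_centMembers hd (hgE d hd hda).symm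
  have hin : ∀ {p : Ω}, a ≠ p → g • p = p → ∃ f ∈ D, f ∈ M ∧ pt f = p := by
    intro p hap hgp
    obtain ⟨f, hf, hfp⟩ := P.exists_at p
    have h := (mem_centPair.1 (C.centPair_le hap (mem_centPair.2 ⟨hga, hgp, hgE⟩))).2.2 f hf hfp
    exact ⟨f, hf, mem_centMembers hf h.symm, hfp⟩
  have haz : a ≠ z := fun e => hvz (e ▸ hva)
  rcases C.chord_cases hab hM hMa (hin hab hgb) with h | ⟨-, h⟩
  · exact hvz (C.smul_pts_chord hv hva hvb (h z (hin haz hgz)))
  · rw [← S.card_omega_eq hv a] at h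
    refine hg1 (eq_of_smul_eq_smul fun p : Ω => ?_)
    obtain ⟨⟨-, f, hf, hfM, rfl⟩, rfl⟩ := ((Nat.bijective_iff_injective_and_card
      (Subtype.val : PtSet D pt M → Ω)).2 ⟨Subtype.val_injective, h⟩).2 p
    rw [one_smul]
    exact P.commute_fix hf (commute_of_mem_centMembers hfM).symm

variable {a : Ω} {v : G} (hv : IsFixInv Ω v) (hva : v • a = a) {b : Ω} (hvb : v • b = b)
  (hba : b ≠ a)
  (hO : Nat.card (orbit (cenAt D pt a) b) = Nat.card (atPoint D pt a) ^ 2)
include hv hva hvb hba hO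

/-- A point of the orbit is `x b` with `x ∈ W`, and some `v e` fixes it. -/
theorem exists_mul_fix_orbit {z : Ω} (hz : z ∈ orbit (cenAt D pt a) b) :
    ∃ e ∈ atPoint D pt a, (v * e) • z = z := by
  have hn := S.card_omega_eq hv a
  obtain ⟨W, hW⟩ := S.exists_lineW hv hva hn
  have hWC : ∀ x ∈ W, x ∈ cenAt D pt a := fun x hx =>
    mem_cenAt.2 ⟨(mem_transT.1 (hW.le hx)).1, (mem_transT.1 (hW.le hx)).2.1⟩
  let φ : W → orbit (cenAt D pt a) b := fun x => ⟨(x : G) • b, ⟨x, hWC x x.2⟩, rfl⟩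
  have hφ : Function.Injective φ := by
    intro x y hxy
    have h1 : (x : G) • b = (y : G) • b := congrArg Subtype.val hxy
    have h2 : (y : G)⁻¹ * x ∈ W := mul_mem (inv_mem y.2) x.2
    rcases hW.fixCent_eq _ (S.mem_fixCent_of_transT hv hva hvb hba (hW.le h2)
      (by rw [mul_smul, h1, inv_smul_smul])) with e | e
    · exact Subtype.ext (inv_mul_eq_one.1 e).symm
    · exact absurd (e ▸ h2) hW.not_mem
  obtain ⟨x, hx⟩ := ((Nat.bijective_iff_injective_and_card φ).2
    ⟨hφ, hW.card.trans hO.symm⟩).2 ⟨z, hz⟩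
  have hxz : (x : G) • b = z := congrArg Subtype.val hx
  set e := (x : G) * x with he
  have heE : e ∈ atPoint D pt a := hW.sq_mem x x.2
  refine ⟨e, heE, ?_⟩
  have h1 : v • z = (x : G)⁻¹ • b := by
    rw [← hxz, ← mul_smul, ← hW.inverted x x.2, mul_smul (v * x), inv_smul_eq_iff.2 hvb.symm]
  rw [← (S.commute_E hv hva heE).eq, mul_smul, h1, ← mul_smul, he, mul_inv_cancel_right, hxz]

/-- `R(a,b) = {1, v}`. -/
theorem centPair_eq_pair {g : G} (hg : g ∈ centPair D pt a b) : g = 1 ∨ g = v := by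
  have C := S.chd
  have hn := S.card_omega_eq hv a
  obtain ⟨W, hW⟩ := S.exists_lineW hv hva hn
  suffices hgv : Commute g v from
    hW.fixCent_eq g (S.mem_fixCent_of_centPair hv hva hba.symm hvb hg hgv)
  have hcon : ∀ {k : G}, k ∈ centPair D pt a b → k * v * k⁻¹ = v := by
    intro k hk
    obtain ⟨hka, hkb, -⟩ := mem_centPair.1 hk
    set v' := k * v * k⁻¹ with hv'
    have hv'a : v' • a = a := by rw [hv', mul_smul, mul_smul, inv_smul_eq_iff.2 hka.symm, hva, hka]
    have hv'b : v' • b = b := by rw [hv', mul_smul, mul_smul, inv_smul_eq_iff.2 hkb.symm, hvb, hkb]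
    have hv'i : IsFixInv Ω v' := S.isFixInv_conj hv
    have hR : ∀ {w : G}, IsFixInv Ω w → w • a = a → w • b = b → w ∈ centPair D pt a b :=
      fun hw h1 h2 => C.fixInv_mem_centPair hba.symm hw.1 h1 h2
    -- a point of the orbit off the fixed points of `v`
    obtain ⟨x, hx, hxv⟩ : ∃ x ∈ W, ¬ x * x = 1 := by
      by_contra! hall
      have hle := Subgroup.card_le_of_le (H := W) (K := atPoint D pt a)
        fun x hx => hW.sq_eq_one x hx (hall x hx)
      rw [hW.card] at hle
      have := C.fin.card_E_ge a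
      nlinarith
    set z := x • b with hz
    have hxC : x ∈ cenAt D pt a :=
      mem_cenAt.2 ⟨(mem_transT.1 (hW.le hx)).1, (mem_transT.1 (hW.le hx)).2.1⟩
    have hzO : z ∈ orbit (cenAt D pt a) b := ⟨⟨x, hxC⟩, rfl⟩
    have hvz : v • z ≠ z := by
      intro e
      rw [hz, ← mul_smul] at e
      have h1 : v * x = x⁻¹ * v := by rw [← hW.inverted x hx, inv_mul_cancel_right]
      rw [h1, mul_smul, hvb, inv_smul_eq_iff, ← mul_smul] at e
      refine hxv ?_
      by_contra hne
      exact hba (C.fin.semiregular (hW.sq_mem x hx) hne e.symm)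
    obtain ⟨e, he, hez⟩ := S.exists_mul_fix_orbit hv hva hvb hba hO hzO
    obtain ⟨e', he', he'z⟩ := S.exists_mul_fix_orbit hv'i hv'a hv'b hba hO hzO
    set y := v * v' with hy
    have hyR : y ∈ centPair D pt a b := mul_mem (hR hv hva hvb) (hR hv'i hv'a hv'b)
    have hye : ∀ {d : G}, d ∈ atPoint D pt a → Commute y d := fun {d} hd =>
      (S.commute_E hv hva hd).symm.mul_left (S.commute_E hv'i hv'a hd).symm
    have hfix : (v * e * (v' * e')) • z = z := by rw [mul_smul, he'z, hez]
    have hcalc : v * e * (v' * e') = y * (e * e') := by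
      rw [hy, mul_assoc v e, ← mul_assoc e v' e', (S.commute_E hv'i hv'a he).eq]
      group
    rw [hcalc] at hfix
    have hee := C.fin.sq_E (mul_mem he he')
    have hsq : (y * y) • z = z := by
      have h1 : (y * (e * e')) * (y * (e * e')) = y * y := by
        rw [mul_assoc y, ← mul_assoc (e * e') y, ← (hye (mul_mem he he')).eq, mul_assoc y (e * e'),
          hee, mul_one]
      rw [← h1, mul_smul, hfix, hfix]
    have hy2 := S.eq_one_of_centPair_third hv hba.symm hva hvb hvz (mul_mem hyR hyR) hsq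
    have hc : Commute v v' := by
      have h1 := (inv_eq_of_mul_eq_one_right hy2).symm
      rw [hy, mul_inv_rev, inv_eq hv.1, inv_eq hv'i.1] at h1
      exact h1
    rcases hW.fixCent_eq v' (S.mem_fixCent_of_centPair hv hva hba.symm hvb (hR hv'i hv'a hv'b) hc.symm)
      with h1 | h1
    · exact absurd h1 (ne_one hv'i.1)
    · exact h1
  exact mul_inv_eq_iff_eq_mul.1 (hcon hg)

/-- `C₀ = T`. -/
theorem cenAt_eq_transT : cenAt D pt a = transT D pt a v := by
  classical
  obtain ⟨W, hW⟩ := S.exists_lineW hv hva (S.card_omega_eq hv a)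
  have hle : transT D pt a v ≤ cenAt D pt a := fun g hg =>
    mem_cenAt.2 ⟨(mem_transT.1 hg).1, (mem_transT.1 hg).2.1⟩
  refine (Subgroup.eq_of_le_of_card_ge hle ?_).symm
  have h1 := Nat.card_congr (orbitProdStabilizerEquivGroup (cenAt D pt a) b)
  rw [Nat.card_prod, hO] at h1
  have h2 : Nat.card (stabilizer (cenAt D pt a) b) ≤ 2 := by
    let φ : stabilizer (cenAt D pt a) b → ({1, v} : Set G) := fun k => ⟨k.1.1, by
      refine S.centPair_eq_pair hv hva hvb hba hO (mem_centPair.2
        ⟨(mem_cenAt.1 k.1.2).1, k.2, fun d hd hda =>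
          (mem_cenAt.1 k.1.2).2 d (S.chd.fin.mem_E.2 (Or.inr ⟨hd, hda⟩))⟩)⟩
    refine (Nat.card_le_card_of_injective φ fun k l e =>
      Subtype.ext (Subtype.ext (congrArg (fun z : ({1, v} : Set G) => z.1) e))).trans (le_of_eq ?_)
    rw [Nat.card_coe_set_eq, Set.ncard_pair (ne_one hv.1).symm]
  rw [← h1, hW.card_transT, mul_comm 2]
  exact Nat.mul_le_mul_left _ h2

omit hv hva hvb hba hO

/-- **B5.** The orbits do not all have `q²` points. -/
theorem false_of_orbit_sq {v : G} (hv : IsFixInv Ω v) {a : Ω} (hva : v • a = a)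
    (hO : ∀ x y : Ω, y ≠ x → Nat.card (orbit (cenAt D pt x) y) = Nat.card (atPoint D pt x) ^ 2) :
    False := by
  have C := S.chd
  have h := C.fin
  have hn := S.card_omega_eq hv a
  obtain ⟨b, hvb, hba⟩ := S.exists_other hv hva
  obtain ⟨r, hr2, hr⟩ := h.exists_card_E a
  obtain ⟨W, hW⟩ := S.exists_lineW hv hva hn
  -- the involutions with two fixed points at a point
  have hU : ∀ {p : Ω} {v₁ v₂ : G}, IsFixInv Ω v₁ → IsFixInv Ω v₂ → v₁ • p = p → v₂ • p = p →
      ∀ {W₁ : Subgroup G}, LineW D pt p v₁ W₁ → v₁ * v₂ ∈ W₁ := by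
    intro p v₁ v₂ h₁ h₂ h₁p h₂p W₁ hW₁
    obtain ⟨c, hc, hcp⟩ := S.exists_other h₁ h₁p
    have h2C : v₂ ∈ cenAt D pt p :=
      mem_cenAt.2 ⟨h₂p, fun e he => (S.commute_E h₂ h₂p he).symm⟩
    rw [S.cenAt_eq_transT h₁ h₁p hc hcp (hO p c hcp)] at h2C
    refine (hW₁.cases v₂ h2C).resolve_left fun h2W => ?_
    exact S.not_mem_E h₂ h₂p (hW₁.sq_eq_one v₂ h2W (mul_self h₂.1))
  rcases Nat.even_or_odd r with hev | hodd
  · refine h.false_of_orbit hv.1 hba.symm hva hvb hr ((S.card_fix a v hv).trans (by rw [hr]))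
      (fun g hga hgb hgE => S.centPair_eq_pair hv hva hvb hba (hO a b hba)
        (mem_centPair.2 ⟨hga, hgb, hgE⟩)) hev (by rw [hn, hr])
      (fun p v₁ v₂ h₁ h₂ h₁p h₂p => ?_) ?_
    · obtain ⟨W₁, hW₁⟩ := S.exists_lineW h₁ h₁p (S.card_omega_eq h₁ p)
      have hx := hU h₁ h₂ h₁p h₂p hW₁
      refine ⟨hW₁.sq_mem _ hx, fun hc => hW₁.sq_eq_one _ hx ?_⟩
      calc v₁ * v₂ * (v₁ * v₂) = v₁ * (v₂ * v₁) * v₂ := by group
        _ = (v₁ * v₁) * (v₂ * v₂) := by rw [← hc.eq]; group
        _ = 1 := by rw [mul_self h₁.1, mul_self h₂.1, one_mul]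
    · obtain ⟨x, hx, hx2⟩ : ∃ x ∈ W, ¬ x * x = 1 := by
        by_contra! hall
        have hle := Subgroup.card_le_of_le (H := W) (K := atPoint D pt a)
          fun x hx => hW.sq_eq_one x hx (hall x hx)
        rw [hW.card] at hle
        have := h.card_E_ge a
        nlinarith
      refine ⟨v * x, hW.isFixInv x hx, ?_, fun hc => hx2 ?_⟩
      · rw [mul_smul, (mem_transT.1 (hW.le hx)).1, hva]
      · have h1 := hW.inverted x hx
        have h2 : v * x = x * v := by
          have := hc.eq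
          rw [← mul_assoc, mul_self hv.1, one_mul] at this
          calc v * x = v * (v * x * v) := by rw [← this]
            _ = x * v := by rw [← mul_assoc, ← mul_assoc, mul_self hv.1, one_mul]
        rw [h2, mul_inv_cancel_right] at h1
        exact mul_eq_one_iff_eq_inv.2 h1
  · refine h.false_of_homocyclic (a := a) (W := W) (fun k hk => ?_) hW.comm (fun x hx => ?_)
      (fun x hx hx2 => ?_) (r := r) hodd ?_ hv.1 hva hW.inverted
    · have hka : k • a = a := mem_stabilizer_iff.1 hk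
      refine Bender.mem_normalizer_of_forall fun x hx => ?_
      have hvxa : (v * x) • a = a := by rw [mul_smul, (mem_transT.1 (hW.le hx)).1, hva]
      have hca : ∀ {w : G}, w • a = a → (k * w * k⁻¹) • a = a := fun {w} hw => by
        rw [mul_smul, mul_smul, inv_smul_eq_iff.2 hka.symm, hw, hka]
      have h1 := hU hv (S.isFixInv_conj (g := k) (hW.isFixInv x hx)) hva (hca hvxa) hW
      have h2 := hU hv (S.isFixInv_conj (g := k) hv) hva (hca hva) hW
      have h3 := mul_mem (inv_mem h2) h1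
      rwa [show (v * (k * v * k⁻¹))⁻¹ * (v * (k * (v * x) * k⁻¹)) = k * x * k⁻¹ by group] at h3
    · rw [show (4 : ℕ) = 2 * 2 from rfl, pow_mul, pow_two, pow_two]
      exact h.sq_E (hW.sq_mem x hx)
    · rw [pow_two] at hx2
      obtain ⟨y, hy, hyx⟩ := hW.sq_surj x (hW.sq_eq_one x hx hx2)
      exact ⟨y, hy, by rw [pow_two, hyx]⟩
    · rw [hW.card, hr, ← pow_mul, mul_comm, pow_mul]
      norm_num

end BlockHyp

end Cfsg.Agent.Aschbacher
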