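/-
The unitary rank one set-up as used by the criterion (owner: helper40; CRITERION.md 5.4).

`h : IsRankOneSetup G Ω a t Q` with two commuting involutions and `|Q| = q³`, `q = param G a`.
* `kernel_facts` : `Q` is a non-abelian `2`-group, squares and commutators are central of order `≤ 2`
* `exists_centralizing` : a `τ` of prime order fixing `a` and `t • a` centralises the involutions at `a`
* `sq_eq_one_of_commute_centralizing` : such a `τ` is fixed point free on `Q` modulo the involutions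
-/
import Cfsg.Agent.Lib.SuzukiRankOne.Main
import Cfsg.Agent.Lib.SuzukiRankOne.Kernel.Main

set_option autoImplicit false

namespace Cfsg.Agent.Aschbacher.SetupU3

open MulAction Cfsg.Agent.RankOne Cfsg.Agent.RankOne.Setup Cfsg.Agent.SuzukiRankOne
open scoped MatrixGroups

universe u v

variable {G : Type u} {Ω : Type v} [Group G] [Finite G] [MulAction G Ω] [FaithfulSMul G Ω]
  {a : Ω} {t : G} {Q : Subgroup G}

local notation "DD" => (stabilizer G a ⊓ stabilizer G (t • a) : Subgroup G)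
local notation "II" => Cfsg.involutionsIn (stabilizer G a : Set G)

variable (h : Cfsg.IsRankOneSetup G Ω a t Q) (h2 : TwoInvolutions G)
  (hQ3 : Nat.card Q = param G a ^ 3)
include h h2 hQ3

theorem not_commutative : IsPGroup 2 Q ∧ ¬ IsMulCommutative Q := by
  obtain ⟨hQ2, hel⟩ := kernelShape G Ω a t Q h h2
  refine ⟨hQ2, fun hc => ?_⟩
  obtain ⟨n, hn, hq, ⟨C⟩⟩ := exists_coords h h2
  have hle : Nat.card Q ≤ Nat.card (GaloisField 2 n) := by
    refine Nat.card_le_card_of_surjective (fun x => (⟨C.z x, C.z_mem_Q h x⟩ : ↥Q)) fun u => ?_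
    obtain ⟨x, hx⟩ := C.z_surj (u : G) (h.le u.2) (hel hc u u.2)
    exact ⟨x, Subtype.ext hx⟩
  rw [hQ3, GaloisField.card 2 n (by omega), hq] at hle
  have h4 : 2 ≤ 2 ^ n := le_trans (by norm_num) (Nat.pow_le_pow_right (by norm_num) hn)
  have h5 : (2 ^ n) ^ 1 < (2 ^ n) ^ 3 := Nat.pow_lt_pow_right (by omega) (by norm_num)
  rw [pow_one] at h5
  omega

/-- Squares and commutators in `Q` are trivial or involutions at `a`, hence central in `Q`, and an
element of `Q` is central iff its square is trivial. -/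
theorem kernel_facts {u : G} (hu : u ∈ Q) :
    (u * u * (u * u) = 1) ∧ ((∀ v ∈ Q, u * v = v * u) ↔ u * u = 1) ∧
      (∀ v ∈ Q, (u⁻¹ * v⁻¹ * u * v) * (u⁻¹ * v⁻¹ * u * v) = 1) := by
  obtain ⟨hQ2, hna⟩ := not_commutative h h2 hQ3
  obtain ⟨n, -, -, ⟨C⟩⟩ := exists_coords h h2
  refine ⟨?_, C.central_iff h h2 hQ2 hna hu, fun v hv => ?_⟩
  · obtain ⟨x, hx⟩ := C.sq_eq h h2 hQ2 hna hu
    rw [← hx]; exact C.z_sq x
  · obtain ⟨x, hx⟩ := C.comm_eq h h2 hQ2 hna hu hv
    rw [← hx]; exact C.z_sq x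

/-- An element fixing `a` and `t • a` and centralising the involutions at `a` centralises no element
of order four in `Q`. -/
theorem sq_eq_one_of_commute_centralizing {d : G} (hd : d ∈ DD) (hd1 : d ≠ 1)
    (hdz : ∀ s ∈ II, Commute d s) {u : G} (hu : u ∈ Q) (hc : Commute d u) : u * u = 1 := by
  obtain ⟨hQ2, hna⟩ := not_commutative h h2 hQ3
  obtain ⟨n, hn, hq, ⟨C⟩⟩ := exists_coords h h2
  refine C.sq_eq_one_of_commute h h2 hQ2 hna ?_ hd hd1 (fun x => ?_) hu hc
  · rw [hQ3, hq, GaloisField.card 2 n (by omega)]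
  · rcases eq_or_ne x 0 with rfl | hx
    · rw [C.z_zero, mul_one, one_mul]
    · exact hdz _ (C.z_mem_ii hx)

/-- There is an element of prime order fixing `a` and `t • a` that centralises the involutions at
`a`. -/
theorem exists_centralizing :
    ∃ τ ∈ DD, (orderOf τ).Prime ∧ ∀ s ∈ II, Commute τ s := by
  classical
  obtain ⟨hQ2, hna⟩ := not_commutative h h2 hQ3
  obtain ⟨n, hn, hq, ⟨C⟩⟩ := exists_coords h h2
  have hcard : Nat.card (GaloisField 2 n) = 2 ^ n := GaloisField.card 2 n (by omega)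
  obtain ⟨P₀, -⟩ := exists_frame_of_cube h h2 hQ2 hna hQ3 C
  obtain ⟨P, -⟩ := exists_lframe P₀ hQ2 hna (by rw [hQ3, hq, hcard])
  suffices hex : ∃ d ∈ DD, d ≠ 1 ∧ ∀ x, d * P.co.z x * d⁻¹ = P.co.z x by
    obtain ⟨d, hd, hd1, hdz⟩ := hex
    obtain ⟨ℓ, hℓ, hdiv⟩ := Nat.exists_prime_and_dvd
      (show orderOf d ≠ 1 from fun e => hd1 (orderOf_eq_one_iff.1 e))
    refine ⟨d ^ (orderOf d / ℓ), pow_mem hd _, ?_, fun s hs => ?_⟩
    · rw [orderOf_pow_orderOf_div (orderOf_pos d).ne' hdiv]; exact hℓ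
    · obtain ⟨x, rfl⟩ := P.co.z_surj s hs.1 hs.2.2
      exact Commute.pow_left (mul_inv_eq_iff_eq_mul.1 (hdz x)) _
  by_contra hcon
  push Not at hcon
  have htriv : ∀ d ∈ DD, (∀ x, d * P.co.z x * d⁻¹ = P.co.z x) → d = 1 := fun d hd hz => by
    by_contra hd1
    obtain ⟨x, hx⟩ := hcon d hd hd1
    exact hx (hz x)
  -- the parts `hp T R` would be scalar
  have key : ∀ T R : GaloisField 2 n × GaloisField 2 n, Unitary.det₂ T R = 1 →
      P.qr T * P.qr R = 1 := by
    suffices key' : ∀ T R : GaloisField 2 n × GaloisField 2 n, Unitary.det₂ T R = 1 →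
        P.qr (P.rp T R) * P.qr R = 1 by
      intro T R hdet
      have := key' _ _ (P.det_rp hdet)
      rwa [P.rp_rp] at this
    intro T R hdet
    have hmem := P.hp_mem hdet
    obtain ⟨b, hb⟩ : ∃ b : (GaloisField 2 n)ˣ,
        P.mul (P.hp T R) = (b : GaloisField 2 n) * b :=
      ⟨(P.act (P.hp T R)).1, rfl⟩
    have hk := P.co.k_mem_dd b
    have heq : P.hp T R = P.co.k b := by
      refine eq_of_inv_mul_eq_one ?_
      refine htriv _ (mul_mem (inv_mem hmem) hk) fun x => ?_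
      have e1 : P.co.k b * P.co.z x * (P.co.k b)⁻¹ =
          P.hp T R * P.co.z x * (P.hp T R)⁻¹ := by
        rw [P.conj_z hmem, P.sig_hp hdet, P.co.k_conj, hb]
        simp
      calc (P.hp T R)⁻¹ * P.co.k b * P.co.z x * ((P.hp T R)⁻¹ * P.co.k b)⁻¹
          = (P.hp T R)⁻¹ * (P.co.k b * P.co.z x * (P.co.k b)⁻¹) * P.hp T R := by group
        _ = P.co.z x := by rw [e1]; group
    have hscal : ∀ x : GaloisField 2 n × GaloisField 2 n, x ≠ 0 →
        P.Lmap (P.hp T R) x = ((b⁻¹ : (GaloisField 2 n)ˣ) : GaloisField 2 n) • x := by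
      intro x hx
      have hd := Unitary.det_compl hx
      obtain ⟨e1, h1⟩ := P.conj_phi hmem hd
      have e2 := P.k_phi hd b
      rw [← heq] at e2
      refine (P.phi_inj h1 ?_ (e1.symm.trans e2)).2
      rw [Unitary.det₂_smul_left, Unitary.det₂_smul_right, hd, mul_one, Units.mul_inv]
    have htf : P.tf T R ≠ 0 := by
      refine Unitary.left_ne_zero (y := P.rp T R) ?_
      rw [P.det_tf hdet]; exact one_ne_zero
    have e3 := (P.hp_line hdet).2
    rw [hscal _ htf] at e3
    have e4 : Unitary.det₂ T (P.tf T R) = 0 := by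
      have e5 : Unitary.det₂ T (((b⁻¹ : (GaloisField 2 n)ˣ) : GaloisField 2 n) • P.tf T R) = 0 := by
        rw [e3, Unitary.det₂_self]
      rw [Unitary.det₂_smul_right] at e5
      exact (mul_eq_zero.1 e5).resolve_left (Units.ne_zero _)
    rw [LFrame.tf, LFrame.rp, Unitary.det₂_add_right, hdet, Unitary.det₂_smul_right,
      Unitary.det₂_add_right, Unitary.det₂_self, Unitary.det₂_smul_right, hdet, zero_add, mul_one] at e4
    exact (CharTwo.add_eq_zero.1 e4).symm
  obtain ⟨R, hR0, hR⟩ := P.exists_unit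
  have hdet := Unitary.det_compl hR0
  obtain ⟨c, hc0, hc1⟩ : ∃ c : GaloisField 2 n, c ≠ 0 ∧ c ≠ 1 := by
    obtain ⟨c, z, hc, hz, hne⟩ := P.four_le
    by_cases e : c = 1
    · exact ⟨z, hz, fun e' => hne (e.trans e'.symm)⟩
    · exact ⟨c, hc, e⟩
  have hT : P.qr (Unitary.compl R) = 1 := by
    have := key _ _ hdet
    rwa [hR, mul_one] at this
  have hline : P.qr (Unitary.compl R + c • R) = 1 := by
    have := key _ _ (Unitary.LData.det_line hdet c)
    rwa [hR, mul_one] at this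
  have e := P.qr_form hdet c
  rw [hline, hT, hR, div_one, one_mul, mul_one, add_assoc] at e
  have e' : c * (1 + c) = 0 := by
    rw [mul_add, mul_one]
    exact add_eq_left.1 e
  rcases mul_eq_zero.1 e' with e0 | e0
  · exact hc0 e0
  · exact hc1 (CharTwo.add_eq_zero.1 e0).symm

end Cfsg.Agent.Aschbacher.SetupU3
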