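/-
Automorphisms of a special `2`-group fixing the squares (owner: helper40; unitary case of the finish
of the core-free criterion).

`Special Z` : `Z` is central of exponent two, contains the squares, and every involution.  `σ` is an
automorphism, its deltas are the `x⁻¹ σ x`; `ρ` fixes `Z` and is fixed point free modulo `Z`.

* `commute_delta` : the deltas of an involutory `σ` fixing the squares commute
* `delta_mem` : if `ρ` commutes with it they lie in `Z`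
* `sigma_delta` : and then `σ` fixes the deltas of `ρ`, so it is trivial if it fixes `Z` (`eq_self`)
* `mem_of_inverted` : if `σ ρ σ = ρ⁻¹` then `σ` fixes nothing outside `Z`
* `exists_sq` : then every element of `Z` is the square of a delta
* `false_of_sqrt` : and `σ` is not the square of an automorphism fixing `Z`
-/
import Cfsg.Agent.EqLemmas

set_option autoImplicit false
set_option linter.style.haveILetI false
set_option linter.unusedSectionVars false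

namespace Cfsg.Agent.Aschbacher.UnitaryKernel

universe u

variable {Q : Type u} [Group Q] {Z : Subgroup Q}

/-- `Z` is central of exponent two and contains the squares and the involutions. -/
structure Special (Z : Subgroup Q) : Prop where
  center : ∀ z ∈ Z, ∀ x : Q, z * x = x * z
  sq : ∀ x : Q, x * x ∈ Z
  elem : ∀ z ∈ Z, z * z = 1
  mem_of_sq : ∀ x : Q, x * x = 1 → x ∈ Z

theorem Special.normal (hS : Special Z) : Z.Normal :=
  ⟨fun z hz g => by rwa [← hS.center z hz g, mul_inv_cancel_right]⟩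

/-- Modulo `Z` the group is commutative. -/
theorem Special.mk_comm (hS : Special Z) (x y : Q) :
    haveI := hS.normal
    (x : Q ⧸ Z) * y = (y : Q ⧸ Z) * x := by
  haveI := hS.normal
  have h2 : ∀ g : Q ⧸ Z, g * g = 1 := fun g => by
    obtain ⟨g, rfl⟩ := QuotientGroup.mk_surjective g
    rw [← QuotientGroup.mk_mul, QuotientGroup.eq_one_iff]
    exact hS.sq g
  have hi : ∀ g : Q ⧸ Z, g⁻¹ = g := fun g => inv_eq_of_mul_eq_one_right (h2 g)
  rw [← hi ((x : Q ⧸ Z) * y), mul_inv_rev, hi, hi]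

variable {σ ρ : Q ≃* Q}

/-- `σ` inverts its deltas. -/
theorem sigma_inv_delta (hi : ∀ x, σ (σ x) = x) (x : Q) : σ (x⁻¹ * σ x) = (x⁻¹ * σ x)⁻¹ := by
  rw [map_mul, map_inv, hi, mul_inv_rev, inv_inv]

variable (hS : Special Z)
include hS

/-- An automorphism fixing the squares fixes the commutators. -/
theorem map_comm (hsq : ∀ x, σ (x * x) = x * x) (a b : Q) :
    σ (a⁻¹ * b⁻¹ * a * b) = a⁻¹ * b⁻¹ * a * b := by
  have e : a⁻¹ * b⁻¹ * a * b = (a⁻¹ * a⁻¹) * ((a * b⁻¹) * (a * b⁻¹)) * (b * b) := by group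
  rw [e, map_mul, map_mul, hsq, hsq, hsq]

theorem comm_mem (a b : Q) : a⁻¹ * b⁻¹ * a * b ∈ Z := by
  have e : a⁻¹ * b⁻¹ * a * b = (a⁻¹ * a⁻¹) * ((a * b⁻¹) * (a * b⁻¹)) * (b * b) := by group
  rw [e]
  exact mul_mem (mul_mem (hS.sq _) (hS.sq _)) (hS.sq _)

/-- The deltas commute. -/
theorem commute_delta (hi : ∀ x, σ (σ x) = x) (hsq : ∀ x, σ (x * x) = x * x) (x y : Q) :
    Commute (x⁻¹ * σ x) (y⁻¹ * σ y) := by
  obtain ⟨d₁, hd₁⟩ : ∃ d, d = x⁻¹ * σ x := ⟨_, rfl⟩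
  obtain ⟨d₂, hd₂⟩ : ∃ d, d = y⁻¹ * σ y := ⟨_, rfl⟩
  have hi₁ : σ d₁ = d₁⁻¹ := by rw [hd₁]; exact sigma_inv_delta hi x
  have hi₂ : σ d₂ = d₂⁻¹ := by rw [hd₂]; exact sigma_inv_delta hi y
  rw [← hd₁, ← hd₂]
  obtain ⟨c, hc⟩ : ∃ c, c = d₁⁻¹ * y⁻¹ * d₁ * y := ⟨_, rfl⟩
  have hcZ : c ∈ Z := hc ▸ comm_mem hS _ _
  have hσc : σ c = c := hc ▸ map_comm hS hsq _ _
  have e : (x * y)⁻¹ * σ (x * y) = d₁ * c * d₂ := by
    rw [hc, hd₂, hd₁, map_mul]; group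
  have h1 := sigma_inv_delta hi (x * y)
  rw [e, map_mul, map_mul, hσc, hi₁, hi₂, mul_inv_rev, mul_inv_rev,
    inv_eq_of_mul_eq_one_right (hS.elem c hcZ)] at h1
  -- `d₁⁻¹ c d₂⁻¹ = d₂⁻¹ c d₁⁻¹`
  rw [← hS.center c hcZ d₁⁻¹, ← mul_assoc d₂⁻¹ c, ← hS.center c hcZ d₂⁻¹, mul_assoc, mul_assoc] at h1
  have h2 := mul_left_cancel h1
  show d₁ * d₂ = d₂ * d₁
  rw [← inv_inj, mul_inv_rev, mul_inv_rev]
  exact h2.symm

/-- If a fixed point free `ρ` commutes with `σ` then `σ` is trivial modulo `Z`. -/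
theorem delta_mem (hi : ∀ x, σ (σ x) = x) (hsq : ∀ x, σ (x * x) = x * x)
    (hρZ : ∀ z ∈ Z, ρ z = z) (hρ : ∀ x, x⁻¹ * ρ x ∈ Z → x ∈ Z) (hc : ∀ x, σ (ρ x) = ρ (σ x))
    (x : Q) : x⁻¹ * σ x ∈ Z := by
  obtain ⟨d, hd⟩ : ∃ d, d = x⁻¹ * σ x := ⟨_, rfl⟩
  rw [← hd]
  have hρd : ρ d = (ρ x)⁻¹ * σ (ρ x) := by rw [hd, map_mul, map_inv, hc]
  have hcd : Commute d (ρ d) := by rw [hρd, hd]; exact commute_delta hS hi hsq x (ρ x)
  refine hρ d (hS.mem_of_sq _ ?_)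
  have e : d⁻¹ * ρ d * (d⁻¹ * ρ d) = (d⁻¹ * d⁻¹) * ρ (d * d) := by
    calc d⁻¹ * ρ d * (d⁻¹ * ρ d) = d⁻¹ * (ρ d * d⁻¹) * ρ d := by group
      _ = d⁻¹ * (d⁻¹ * ρ d) * ρ d := by rw [hcd.inv_left.eq]
      _ = _ := by rw [map_mul]; group
  rw [e, hρZ _ (hS.sq d)]
  group

/-- Then `σ` fixes the deltas of `ρ`. -/
theorem sigma_delta (hi : ∀ x, σ (σ x) = x) (hsq : ∀ x, σ (x * x) = x * x)
    (hρZ : ∀ z ∈ Z, ρ z = z) (hρ : ∀ x, x⁻¹ * ρ x ∈ Z → x ∈ Z) (hc : ∀ x, σ (ρ x) = ρ (σ x))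
    (x : Q) : σ (x⁻¹ * ρ x) = x⁻¹ * ρ x := by
  set d := x⁻¹ * σ x with hd
  have hdZ : d ∈ Z := delta_mem hS hi hsq hρZ hρ hc x
  have e1 : σ x = x * d := by rw [hd, mul_inv_cancel_left]
  have e2 : σ (ρ x) = ρ x * d := by rw [hc, e1, map_mul, hρZ d hdZ]
  calc σ (x⁻¹ * ρ x) = d⁻¹ * (x⁻¹ * ρ x * d) := by
        rw [map_mul, map_inv, e1, e2, mul_inv_rev]; group
    _ = d⁻¹ * (d * (x⁻¹ * ρ x)) := by rw [hS.center d hdZ]
    _ = x⁻¹ * ρ x := inv_mul_cancel_left _ _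

section finite

variable [Finite Q]

/-- The deltas of a fixed point free `ρ` cover `Q` modulo `Z`. -/
theorem exists_delta (hρZ : ∀ z ∈ Z, ρ z = z) (hρ : ∀ x, x⁻¹ * ρ x ∈ Z → x ∈ Z) (y : Q) :
    ∃ x : Q, ∃ z ∈ Z, y = x⁻¹ * ρ x * z := by
  haveI := hS.normal
  let ρ' : Q ⧸ Z →* Q ⧸ Z := QuotientGroup.map Z Z ρ.toMonoidHom fun z hz => by
    show ρ z ∈ Z
    rwa [hρZ z hz]
  have hρ' : ∀ x : Q, ρ' x = ((ρ x : Q) : Q ⧸ Z) := fun x => rfl
  have hinj : Function.Injective fun g : Q ⧸ Z => g⁻¹ * ρ' g := by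
    intro g g' e
    obtain ⟨a, rfl⟩ := QuotientGroup.mk_surjective g
    obtain ⟨b, rfl⟩ := QuotientGroup.mk_surjective g'
    have hm : ((a⁻¹ * b)⁻¹ * ρ (a⁻¹ * b) : Q) ∈ Z := by
      rw [← QuotientGroup.eq_one_iff, map_mul, map_inv, mul_inv_rev, inv_inv, QuotientGroup.mk_mul,
        QuotientGroup.mk_mul, QuotientGroup.mk_inv, QuotientGroup.mk_mul, QuotientGroup.mk_inv]
      simp only [hρ'] at e
      have hcm : ∀ p q : Q ⧸ Z, p * q = q * p := fun p q => by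
        obtain ⟨p, rfl⟩ := QuotientGroup.mk_surjective p
        obtain ⟨q, rfl⟩ := QuotientGroup.mk_surjective q
        exact hS.mk_comm p q
      have hlc : ∀ p q r : Q ⧸ Z, p * (q * r) = q * (p * r) := fun p q r => by
        rw [← mul_assoc, hcm p q, mul_assoc]
      calc _ = ((a : Q ⧸ Z)⁻¹ * ρ a)⁻¹ * ((b : Q ⧸ Z)⁻¹ * ρ b) := by
            simp only [mul_inv_rev, inv_inv, mul_assoc, hlc]
        _ = 1 := by rw [e, inv_mul_cancel]
    exact QuotientGroup.eq.2 (hρ _ hm)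
  obtain ⟨g, hg⟩ := (Finite.injective_iff_surjective.1 hinj) (y : Q ⧸ Z)
  obtain ⟨x, rfl⟩ := QuotientGroup.mk_surjective g
  refine ⟨x, (x⁻¹ * ρ x)⁻¹ * y, ?_, (mul_inv_cancel_left _ _).symm⟩
  rw [← QuotientGroup.eq, QuotientGroup.mk_mul, QuotientGroup.mk_inv, ← hρ']
  exact hg

/-- An involutory automorphism commuting with `ρ` and fixing `Z` is trivial. -/
theorem eq_self (hi : ∀ x, σ (σ x) = x) (hσZ : ∀ z ∈ Z, σ z = z)
    (hρZ : ∀ z ∈ Z, ρ z = z) (hρ : ∀ x, x⁻¹ * ρ x ∈ Z → x ∈ Z) (hc : ∀ x, σ (ρ x) = ρ (σ x))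
    (y : Q) : σ y = y := by
  obtain ⟨x, z, hz, rfl⟩ := exists_delta hS hρZ hρ y
  rw [map_mul, sigma_delta hS hi (fun x => hσZ _ (hS.sq x)) hρZ hρ hc, hσZ z hz]

/-- If `σ` inverts `ρ` it fixes nothing outside `Z`. -/
theorem mem_of_inverted (hi : ∀ x, σ (σ x) = x) (hσZ : ∀ z ∈ Z, σ z = z)
    (hρZ : ∀ z ∈ Z, ρ z = z) (hρ2 : ∀ x, x⁻¹ * ρ (ρ x) ∈ Z → x ∈ Z)
    (hc : ∀ x, σ (ρ x) = ρ.symm (σ x)) {f : Q} (hf : σ f = f) : f ∈ Z := by
  haveI := hS.normal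
  have hρiZ : ∀ z ∈ Z, ρ.symm z = z := fun z hz => by rw [MulEquiv.symm_apply_eq, hρZ z hz]
  have hcm : ∀ p q : Q ⧸ Z, p * q = q * p := fun p q => by
    obtain ⟨p, rfl⟩ := QuotientGroup.mk_surjective p
    obtain ⟨q, rfl⟩ := QuotientGroup.mk_surjective q
    exact hS.mk_comm p q
  have hlc : ∀ p q r : Q ⧸ Z, p * (q * r) = q * (p * r) := fun p q r => by
    rw [← mul_assoc, hcm p q, mul_assoc]
  have hc' : ∀ x, σ (ρ.symm x) = ρ (σ x) := fun x => by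
    have h := hc (ρ.symm x)
    rw [MulEquiv.apply_symm_apply] at h
    rw [h, MulEquiv.apply_symm_apply]
  -- `μ` modulo `Z`
  let f₁ : Q ⧸ Z →* Q ⧸ Z :=
    QuotientGroup.map Z Z ρ.toMonoidHom fun z hz => by show ρ z ∈ Z; rwa [hρZ z hz]
  let f₂ : Q ⧸ Z →* Q ⧸ Z :=
    QuotientGroup.map Z Z ρ.symm.toMonoidHom fun z hz => by show ρ.symm z ∈ Z; rwa [hρiZ z hz]
  let μ : Q ⧸ Z →* Q ⧸ Z := MonoidHom.mk' (fun g => f₁ g * f₂ g) fun g g' => by
    rw [map_mul, map_mul, mul_assoc, mul_assoc, hlc (f₁ g')]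
  have hμ : ∀ x : Q, μ x = ((ρ x * ρ.symm x : Q) : Q ⧸ Z) := fun x => rfl
  have hμi : Function.Injective μ := by
    rw [injective_iff_map_eq_one]
    intro g hg
    obtain ⟨x, rfl⟩ := QuotientGroup.mk_surjective g
    rw [hμ, QuotientGroup.eq_one_iff] at hg
    rw [QuotientGroup.eq_one_iff]
    set w := ρ x * ρ.symm x with hw
    have h2 : ρ w = w := hρZ w hg
    have h3 : x⁻¹ * ρ (ρ x) ∈ Z := by
      have e : ρ (ρ x) = w * x⁻¹ := by
        rw [eq_mul_inv_iff_mul_eq, ← h2, hw, map_mul, MulEquiv.apply_symm_apply]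
      rw [e, hS.center w hg, ← mul_assoc]
      exact mul_mem (by rw [← mul_inv_rev]; exact inv_mem (hS.sq x)) hg
    exact hρ2 x h3
  let S : Set (Q ⧸ Z) := {g | ∃ x : Q, g = ((x⁻¹ * σ x : Q) : Q ⧸ Z)}
  have hμS : ∀ g ∈ S, μ g ∈ S := by
    rintro g ⟨x, rfl⟩
    refine ⟨ρ x * ρ.symm x, ?_⟩
    have hperm : ∀ a b c d : Q ⧸ Z, a * d * (b * c) = b * a * (c * d) := fun a b c d => by
      rw [mul_assoc, mul_assoc b, hlc d b c, hlc a b, hcm d c]
    have e1 : (ρ x * ρ.symm x)⁻¹ * σ (ρ x * ρ.symm x) =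
        (ρ.symm x)⁻¹ * (ρ x)⁻¹ * (ρ.symm (σ x) * ρ (σ x)) := by
      rw [map_mul, mul_inv_rev, hc, hc']
    have e2 : ρ (x⁻¹ * σ x) * ρ.symm (x⁻¹ * σ x) =
        (ρ x)⁻¹ * ρ (σ x) * ((ρ.symm x)⁻¹ * ρ.symm (σ x)) := by
      rw [map_mul, map_mul, map_inv, map_inv]
    rw [hμ, e1, e2]
    simp only [QuotientGroup.mk_mul, QuotientGroup.mk_inv]
    exact hperm _ _ _ _
  have hfS : μ (f : Q ⧸ Z) ∈ S := by
    refine ⟨ρ f, ?_⟩
    rw [hμ, hc, hf]
    have h2 : ((ρ f : Q) : Q ⧸ Z) * (ρ f : Q) = 1 := by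
      rw [← QuotientGroup.mk_mul, QuotientGroup.eq_one_iff]; exact hS.sq _
    rw [QuotientGroup.mk_mul, QuotientGroup.mk_mul, QuotientGroup.mk_inv,
      ← eq_inv_of_mul_eq_one_left h2]
  haveI : Finite (Q ⧸ Z) := inferInstance
  obtain ⟨⟨g, hg⟩, hgf⟩ := (Finite.injective_iff_surjective.1
    (fun (g g' : S) e => Subtype.ext (hμi (congrArg Subtype.val e)) :
      Function.Injective fun g : S => (⟨μ g, hμS g g.2⟩ : S))) ⟨_, hfS⟩
  obtain ⟨x, hx⟩ := hg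
  have e : (f : Q ⧸ Z) = ((x⁻¹ * σ x : Q) : Q ⧸ Z) :=
    (hμi (congrArg Subtype.val hgf)).symm.trans hx
  have hz : f⁻¹ * (x⁻¹ * σ x) ∈ Z := QuotientGroup.eq.1 e
  set d := x⁻¹ * σ x with hd
  have h4 := hσZ _ hz
  rw [map_mul, map_inv, hf, hd, sigma_inv_delta hi, ← hd] at h4
  have hdd : d * d = 1 := by rw [← eq_inv_iff_mul_eq_one]; exact (mul_left_cancel h4).symm
  have hdZ := hS.mem_of_sq d hdd
  have : f = d * (f⁻¹ * d)⁻¹ := by group
  rw [this]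
  exact mul_mem hdZ (inv_mem hz)

/-- If `σ` fixes exactly `Z`, `|Q| = |Z| ^ 3`, every element of `Z` is the square of a delta. -/
theorem exists_sq (hi : ∀ x, σ (σ x) = x) (hsq : ∀ x, σ (x * x) = x * x)
    (hfix : ∀ f, σ f = f → f ∈ Z) (hQ : Nat.card Z ^ 3 ≤ Nat.card Q) {z : Q} (hz : z ∈ Z) :
    ∃ x : Q, (x⁻¹ * σ x) * (x⁻¹ * σ x) = z := by
  classical
  let D := {d : Q // ∃ x : Q, d = x⁻¹ * σ x}
  let s : Q → D := fun x => ⟨x⁻¹ * σ x, x, rfl⟩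
  have hs : Function.Surjective s := fun d => by
    obtain ⟨d, x, rfl⟩ := d; exact ⟨x, rfl⟩
  -- the fibres of `s` are cosets of the fixed points
  have h1 : Nat.card Q ≤ Nat.card D * Nat.card Z := by
    rw [← Nat.card_prod]
    obtain ⟨r, hr⟩ := hs.hasRightInverse
    have hmem : ∀ x, x * (r (s x))⁻¹ ∈ Z := fun x => by
      refine hfix _ ?_
      have e := congrArg Subtype.val (hr (s x))
      simp only [s] at e
      rw [map_mul, map_inv, show σ (r (s x)) = r (s x) * (x⁻¹ * σ x) by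
        rw [← e, mul_inv_cancel_left]]
      group
    refine Nat.card_le_card_of_injective (fun x => (s x, (⟨_, hmem x⟩ : Z))) fun x y e => ?_
    obtain ⟨e1, e2⟩ := Prod.ext_iff.1 e
    have e3 := congrArg Subtype.val e2
    simp only at e3
    rw [show s x = s y from e1] at e3
    exact mul_right_cancel e3
  let S := {w : Z // ∃ x : Q, (x⁻¹ * σ x) * (x⁻¹ * σ x) = (w : Q)}
  let q : D → S := fun d => ⟨⟨d.1 * d.1, hS.sq _⟩, by
    obtain ⟨d, x, rfl⟩ := d; exact ⟨x, rfl⟩⟩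
  have hq : Function.Surjective q := fun w => by
    obtain ⟨⟨w, hw⟩, x, hx⟩ := w
    exact ⟨s x, Subtype.ext (Subtype.ext hx)⟩
  have h2 : Nat.card D ≤ Nat.card S * Nat.card Z := by
    rw [← Nat.card_prod]
    obtain ⟨r, hr⟩ := hq.hasRightInverse
    have hmem : ∀ d : D, (r (q d)).1⁻¹ * d.1 ∈ Z := fun d => by
      have e : (r (q d)).1 * (r (q d)).1 = d.1 * d.1 :=
        congrArg (fun w : S => ((w.1 : Z) : Q)) (hr (q d))
      obtain ⟨x, hx⟩ := (r (q d)).2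
      obtain ⟨y, hy⟩ := d.2
      have hc : Commute (r (q d)).1 d.1 := by rw [hx, hy]; exact commute_delta hS hi hsq x y
      refine hS.mem_of_sq _ ?_
      rw [mul_assoc, ← mul_assoc d.1, ← hc.inv_left.eq, mul_assoc _ d.1, ← e]
      group
    refine Nat.card_le_card_of_injective (fun d => (q d, (⟨_, hmem d⟩ : Z))) fun x y e => ?_
    obtain ⟨e1, e2⟩ := Prod.ext_iff.1 e
    have e3 := congrArg Subtype.val e2
    simp only at e3
    rw [show q x = q y from e1] at e3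
    exact Subtype.ext (mul_left_cancel e3)
  have hpos : 0 < Nat.card Z := Nat.card_pos
  have h3 : Nat.card Z ≤ Nat.card S := by
    have h4 : Nat.card Z ^ 3 ≤ Nat.card S * (Nat.card Z * Nat.card Z) :=
      (hQ.trans h1).trans ((Nat.mul_le_mul_right _ h2).trans_eq (mul_assoc _ _ _))
    rw [pow_three] at h4
    exact Nat.le_of_mul_le_mul_right h4 (Nat.mul_pos hpos hpos)
  have hsurj : Function.Surjective (Subtype.val : S → Z) :=
    ((Nat.bijective_iff_injective_and_card _).2 ⟨Subtype.val_injective,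
      le_antisymm (Nat.card_le_card_of_injective _ Subtype.val_injective) h3⟩).2
  obtain ⟨⟨w, hw⟩, he⟩ := hsurj ⟨z, hz⟩
  obtain ⟨x, hx⟩ := hw
  exact ⟨x, hx.trans (congrArg Subtype.val he)⟩

/-- An automorphism fixing `Z` whose square fixes only `Z`, and is involutory, does not exist. -/
theorem false_of_sqrt {φ : Q ≃* Q} (hi : ∀ x, σ (σ x) = x) (hσZ : ∀ z ∈ Z, σ z = z)
    (hfix : ∀ f, σ f = f → f ∈ Z) (hQ : Nat.card Z ^ 3 ≤ Nat.card Q) (hZ : 1 < Nat.card Z)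
    (hφZ : ∀ z ∈ Z, φ z = z) (hφ : ∀ x, φ (φ x) = σ x) : False := by
  have hsq : ∀ x, σ (x * x) = x * x := fun x => hσZ _ (hS.sq x)
  haveI : Nontrivial Z := Finite.one_lt_card_iff_nontrivial.1 hZ
  obtain ⟨⟨z, hz⟩, hne⟩ := exists_ne (1 : Z)
  obtain ⟨x, hx⟩ := exists_sq hS hi hsq hfix hQ hz
  set d := x⁻¹ * σ x with hd
  have hcomm : ∀ y, φ (σ y) = σ (φ y) := fun y => by rw [← hφ y, hφ]
  have hd' : φ d = (φ x)⁻¹ * σ (φ x) := by rw [hd, map_mul, map_inv, hcomm]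
  have hc : Commute d (φ d) := by rw [hd', hd]; exact commute_delta hS hi hsq _ _
  have he : φ d * φ d = d * d := by rw [← map_mul, hφZ _ (hS.sq d)]
  have hzm : d⁻¹ * φ d ∈ Z := by
    refine hS.mem_of_sq _ ?_
    rw [mul_assoc, ← mul_assoc (φ d), ← hc.inv_left.eq, mul_assoc _ (φ d), he]
    group
  have hσd : σ d = d := by
    have e1 : φ d = d * (d⁻¹ * φ d) := (mul_inv_cancel_left _ _).symm
    calc σ d = φ (φ d) := (hφ d).symm
      _ = φ d * (d⁻¹ * φ d) := by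
          conv_lhs => rw [e1, map_mul, hφZ _ hzm]
      _ = d * ((d⁻¹ * φ d) * (d⁻¹ * φ d)) := by
          conv_lhs => arg 1; rw [e1]
          rw [mul_assoc]
      _ = d := by rw [hS.elem _ hzm, mul_one]
  refine hne (Subtype.ext ?_)
  show z = 1
  rw [← hx, ← eq_inv_iff_mul_eq_one, ← sigma_inv_delta hi x, ← hd, hσd]

end finite

end Cfsg.Agent.Aschbacher.UnitaryKernel
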