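/-
Permutations normalising a unitary rank one group (owner: helper40; unitary case of the finish of the
core-free criterion).

`h : IsRankOneSetup R X a t Q` for a group `R` of permutations of `X`, `|Q| = param ^ 3`.
`IsTorusPerm π` : `π` normalises `R`, fixes `a` and `t • a` and centralises the involutions of `R`
fixing `a`; `IsTorus ρ` : `ρ ∈ R` is such a permutation.

* `eq_one_of_commute` : an involutory `π` commuting with some `ρ ≠ 1` is trivial
* `inverts` : otherwise it inverts every `ρ`; `eq_of_commute` : two commuting ones are equal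
* `fix_mem` : and fixes only the points `x • t • a`, `x * x = 1`
* `exists_delta` : every involution at `a` is the square of some `x⁻¹ π x π⁻¹`
* `false_of_sqrt` : such a `π ≠ 1` is no square of a permutation of this kind
-/
import Cfsg.Agent.Lib.Aschbacher.SetupU3
import Cfsg.Agent.Lib.Aschbacher.UnitaryKernel

set_option autoImplicit false
set_option linter.style.haveILetI false
set_option linter.unusedSectionVars false

namespace Cfsg.Agent.Aschbacher.UnitaryPerm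

open MulAction Cfsg.Agent.RankOne Cfsg.Agent.RankOne.Setup Cfsg.Agent.SuzukiRankOne
open Cfsg.Agent.Aschbacher.UnitaryKernel

universe u

variable {X : Type u} [Finite X] {R : Subgroup (Equiv.Perm X)} {a : X} {t : R} {Q : Subgroup R}

/-- A permutation normalising `R`, fixing `a` and `t • a`, centralising the involutions at `a`. -/
structure IsTorusPerm (R : Subgroup (Equiv.Perm X)) (a : X) (t : R) (π : Equiv.Perm X) : Prop where
  norm : π ∈ Subgroup.normalizer (R : Set (Equiv.Perm X))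
  fix_a : π a = a
  fix_b : π (t • a) = t • a
  comm : ∀ s : R, s ∈ Cfsg.involutionsIn (stabilizer R a : Set R) → Commute π (s : Equiv.Perm X)

/-- The subgroup of `R` of these permutations. -/
def torus (R : Subgroup (Equiv.Perm X)) (a : X) (t : R) : Subgroup R :=
  (stabilizer R a ⊓ stabilizer R (t • a)) ⊓
    Subgroup.centralizer (Cfsg.involutionsIn (stabilizer R a : Set R))

theorem mem_torus {ρ : R} : ρ ∈ torus R a t ↔ (ρ • a = a ∧ ρ • t • a = t • a) ∧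
    ∀ s ∈ Cfsg.involutionsIn (stabilizer R a : Set R), s * ρ = ρ * s :=
  Subgroup.mem_inf.trans (and_congr (Subgroup.mem_inf.trans Iff.rfl) Subgroup.mem_centralizer_iff)

theorem torusPerm {ρ : R} (hρ : ρ ∈ torus R a t) : IsTorusPerm R a t (ρ : Equiv.Perm X) := by
  obtain ⟨⟨ha, hb⟩, hc⟩ := mem_torus.1 hρ
  exact ⟨Subgroup.le_normalizer ρ.2, ha, hb, fun s hs => congrArg Subtype.val (hc s hs).symm⟩

theorem IsTorusPerm.mul {π π' : Equiv.Perm X} (h₁ : IsTorusPerm R a t π)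
    (h₂ : IsTorusPerm R a t π') : IsTorusPerm R a t (π * π') :=
  ⟨mul_mem h₁.norm h₂.norm, by rw [Equiv.Perm.mul_apply, h₂.fix_a, h₁.fix_a],
    by rw [Equiv.Perm.mul_apply, h₂.fix_b, h₁.fix_b], fun s hs => (h₁.comm s hs).mul_left (h₂.comm s hs)⟩

theorem IsTorusPerm.inv {π : Equiv.Perm X} (h₁ : IsTorusPerm R a t π) : IsTorusPerm R a t π⁻¹ :=
  ⟨inv_mem h₁.norm, Equiv.Perm.inv_eq_iff_eq.2 h₁.fix_a.symm,
    Equiv.Perm.inv_eq_iff_eq.2 h₁.fix_b.symm, fun s hs => (h₁.comm s hs).inv_left⟩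

variable (h : Cfsg.IsRankOneSetup R X a t Q)
include h

/-- The `2`-elements of the stabiliser of `a` lie in `Q`. -/
theorem mem_Q_of_two {g : R} (hg : g • a = a) {m : ℕ} (hm : g ^ 2 ^ m = 1) : g ∈ Q := by
  set S := stabilizer R a with hS
  set Q' := Q.subgroupOf S with hQ'
  haveI : Q'.Normal := ⟨fun n hn s => h.conj_mem s s.2 n hn⟩
  have hodd : Odd Q'.index := by
    have h1 := Q'.card_mul_index
    rw [Nat.card_congr (Subgroup.subgroupOfEquivOfLe h.le).toEquiv, card_stabilizer h] at h1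
    rw [Nat.eq_of_mul_eq_mul_left Nat.card_pos h1]
    exact h.odd_card
  set g' : S := ⟨g, mem_stabilizer_iff.2 hg⟩ with hg'
  have h1 : g' ^ Q'.index ∈ Q' := Q'.pow_index_mem g'
  have h2 : g' ^ 2 ^ m = 1 := Subtype.ext hm
  have hcop : (Q'.index).Coprime (2 ^ m) := ((Nat.coprime_two_left.2 hodd).pow_left m).symm
  have h3 : g' ∈ Q' := by
    have e : (g' ^ Q'.index) ^ Nat.gcdA Q'.index (2 ^ m) * (g' ^ 2 ^ m) ^ Nat.gcdB Q'.index (2 ^ m) = g' := by
      rw [← zpow_natCast g' Q'.index, ← zpow_natCast g' (2 ^ m), ← zpow_mul, ← zpow_mul, ← zpow_add,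
        ← Nat.gcd_eq_gcd_ab, hcop, Nat.cast_one, zpow_one]
    rw [← e, h2, one_zpow, mul_one]
    exact Q'.zpow_mem h1 _
  exact h3

theorem exists_pow_of_mem (hQ2 : IsPGroup 2 Q) {g : R} (hg : g ∈ Q) : ∃ m : ℕ, g ^ 2 ^ m = 1 := by
  obtain ⟨m, hm⟩ := hQ2 ⟨g, hg⟩
  exact ⟨m, congrArg Subtype.val hm⟩

variable (h2 : TwoInvolutions R) (hQ3 : Nat.card Q = param R a ^ 3)
include h2 hQ3

theorem isPGroup : IsPGroup 2 Q := (SetupU3.not_commutative h h2 hQ3).1

/-- The elements of `Q` squaring to `1`. -/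
def zSub : Subgroup Q where
  carrier := {x | x * x = 1}
  one_mem' := by simp
  mul_mem' := fun {x y} hx hy => by
    have hc : x * y = y * x := Subtype.ext
      ((SetupU3.kernel_facts h h2 hQ3 x.2).2.1.2 (congrArg Subtype.val hx) y y.2)
    show x * y * (x * y) = 1
    rw [mul_assoc, ← mul_assoc y, ← hc, mul_assoc x y, show y * y = 1 from hy, mul_one]
    exact hx
  inv_mem' := fun {x} hx => by
    show x⁻¹ * x⁻¹ = 1
    rw [← mul_inv_rev, show x * x = 1 from hx, inv_one]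

theorem mem_zSub {x : Q} : x ∈ zSub h h2 hQ3 ↔ x * x = 1 := Iff.rfl

theorem special : Special (zSub h h2 hQ3) where
  center z hz x := Subtype.ext
    ((SetupU3.kernel_facts h h2 hQ3 z.2).2.1.2 (congrArg Subtype.val hz) x x.2)
  sq x := Subtype.ext (SetupU3.kernel_facts h h2 hQ3 x.2).1
  elem _ hz := hz
  mem_of_sq _ hx := hx

theorem mem_ii_of_zSub {z : Q} (hz : z ∈ zSub h h2 hQ3) (hz1 : z ≠ 1) :
    (z : R) ∈ Cfsg.involutionsIn (stabilizer R a : Set R) :=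
  ⟨h.le z.2, fun e => hz1 (Subtype.ext e), congrArg Subtype.val hz⟩

theorem card_zSub : Nat.card (zSub h h2 hQ3) = param R a := by
  classical
  let II := Cfsg.involutionsIn (stabilizer R a : Set R)
  have hmem : ∀ s : II, (⟨s.1, mem_Q_of_ii h s.2⟩ : Q) ∈ zSub h h2 hQ3 := fun s =>
    Subtype.ext s.2.2.2
  let φ : Option II → zSub h h2 hQ3 := fun o => o.elim 1 fun s => ⟨_, hmem s⟩
  have hφ : Function.Bijective φ := by
    refine ⟨?_, fun z => ?_⟩
    · rintro (_ | s) (_ | s') e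
      · rfl
      · exact absurd (congrArg (fun z : zSub h h2 hQ3 => ((z : Q) : R)) e).symm s'.2.2.1
      · exact absurd (congrArg (fun z : zSub h h2 hQ3 => ((z : Q) : R)) e) s.2.2.1
      · exact congrArg some (Subtype.ext (congrArg (fun z : zSub h h2 hQ3 => ((z : Q) : R)) e))
    · by_cases hz1 : (z : Q) = 1
      · exact ⟨none, Subtype.ext hz1.symm⟩
      · exact ⟨some ⟨_, mem_ii_of_zSub h h2 hQ3 z.2 hz1⟩, Subtype.ext (Subtype.ext rfl)⟩
  rw [← Nat.card_congr (Equiv.ofBijective φ hφ), Finite.card_option]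
  rfl

theorem card_le : Nat.card (zSub h h2 hQ3) ^ 3 ≤ Nat.card Q := by rw [card_zSub, hQ3]

section perm

variable {π : Equiv.Perm X} (hπ : IsTorusPerm R a t π)
include hπ

theorem conj_mem_R (r : R) : π * (r : Equiv.Perm X) * π⁻¹ ∈ R :=
  (Subgroup.mem_normalizer_iff.1 hπ.norm r).1 r.2

theorem conj_mem_Q (x : Q) : (⟨_, conj_mem_R h h2 hQ3 hπ (x : R)⟩ : R) ∈ Q := by
  obtain ⟨m, hm⟩ := exists_pow_of_mem h (isPGroup h h2 hQ3) x.2
  refine mem_Q_of_two h ?_ (m := m) (Subtype.ext ?_)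
  · show (π * ((x : R) : Equiv.Perm X) * π⁻¹) a = a
    rw [Equiv.Perm.mul_apply, Equiv.Perm.mul_apply, hπ.inv.fix_a]
    exact (congrArg π (h.le x.2)).trans hπ.fix_a
  · rw [Subgroup.coe_pow, conj_pow, ← Subgroup.coe_pow, hm]
    simp

/-- Conjugation by `π` on `Q`. -/
def conjQ : Q ≃* Q where
  toFun x := ⟨_, conj_mem_Q h h2 hQ3 hπ x⟩
  invFun x := ⟨_, conj_mem_Q h h2 hQ3 hπ.inv x⟩
  left_inv x := Subtype.ext (Subtype.ext (by
    show π⁻¹ * (π * ((x : R) : Equiv.Perm X) * π⁻¹) * π⁻¹⁻¹ = ((x : R) : Equiv.Perm X); group))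
  right_inv x := Subtype.ext (Subtype.ext (by
    show π * (π⁻¹ * ((x : R) : Equiv.Perm X) * π⁻¹⁻¹) * π⁻¹ = ((x : R) : Equiv.Perm X); group))
  map_mul' x y := Subtype.ext (Subtype.ext (by
    show π * (((x : R) : Equiv.Perm X) * (y : R)) * π⁻¹ =
      π * ((x : R) : Equiv.Perm X) * π⁻¹ * (π * ((y : R) : Equiv.Perm X) * π⁻¹)
    group))

theorem conjQ_apply (x : Q) : (((conjQ h h2 hQ3 hπ x : Q) : R) : Equiv.Perm X) =
    π * ((x : R) : Equiv.Perm X) * π⁻¹ := rfl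

theorem conjQ_z {z : Q} (hz : z ∈ zSub h h2 hQ3) : conjQ h h2 hQ3 hπ z = z := by
  by_cases hz1 : z = 1
  · rw [hz1, map_one]
  · refine Subtype.ext (Subtype.ext ?_)
    rw [conjQ_apply]
    exact mul_inv_eq_iff_eq_mul.2 (hπ.comm _ (mem_ii_of_zSub h h2 hQ3 hz hz1)).eq

theorem conjQ_sq (x : Q) : conjQ h h2 hQ3 hπ (x * x) = x * x :=
  conjQ_z h h2 hQ3 hπ ((special h h2 hQ3).sq x)

theorem conjQ_invol (hi : π * π = 1) (x : Q) : conjQ h h2 hQ3 hπ (conjQ h h2 hQ3 hπ x) = x := by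
  refine Subtype.ext (Subtype.ext ?_)
  rw [conjQ_apply, conjQ_apply, show π * (π * ((x : R) : Equiv.Perm X) * π⁻¹) * π⁻¹ =
    (π * π) * ((x : R) : Equiv.Perm X) * (π * π)⁻¹ by group, hi]
  simp

/-- A fixed point of `π` off `a` corresponds to a fixed element of `Q`. -/
theorem conjQ_fix_iff (x : Q) :
    π ((x : R) • t • a) = (x : R) • t • a ↔ conjQ h h2 hQ3 hπ x = x := by
  have e : ((conjQ h h2 hQ3 hπ x : Q) : R) • t • a = π ((x : R) • t • a) := by
    show (π * ((x : R) : Equiv.Perm X) * π⁻¹) (t • a) = _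
    rw [Equiv.Perm.mul_apply, Equiv.Perm.mul_apply, hπ.inv.fix_b]
    rfl
  rw [← e]
  exact ⟨fun hx => (regular h (t_smul_ne h) (smul_ne_self h x.2 (t_smul_ne h))).unique hx rfl,
    fun hx => by rw [hx]⟩

theorem eq_one_of_conjQ (hfix : ∀ x, conjQ h h2 hQ3 hπ x = x) : π = 1 := by
  refine Equiv.ext fun p => ?_
  by_cases hp : p = a
  · rw [hp, hπ.fix_a]; rfl
  obtain ⟨x, hx, rfl⟩ := exists_smul_eq h hp
  exact (conjQ_fix_iff h h2 hQ3 hπ ⟨x, hx⟩).2 (hfix _)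

end perm

/-- A non-trivial torus element is fixed point free modulo the involutions. -/
theorem fpf {ρ : R} (hρ : ρ ∈ torus R a t) (hρ1 : ρ ≠ 1) (x : Q)
    (hx : x⁻¹ * conjQ h h2 hQ3 (torusPerm hρ) x ∈ zSub h h2 hQ3) : x ∈ zSub h h2 hQ3 := by
  set σ := conjQ h h2 hQ3 (torusPerm hρ) with hσ
  obtain ⟨⟨ha, hb⟩, hc⟩ := mem_torus.1 hρ
  have hz := hx
  set z := x⁻¹ * σ x with hzdef
  have e : ∀ i : ℕ, ((ρ : R) ^ i * x * ((ρ : R) ^ i)⁻¹ : R) = (x : R) * ((z : Q) : R) ^ i := by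
    intro i
    induction i with
    | zero => simp
    | succ i ih =>
      have h1 : ρ * (x : R) * ρ⁻¹ = (x : R) * (z : R) := by
        have : ((σ x : Q) : R) = ρ * (x : R) * ρ⁻¹ := Subtype.ext rfl
        rw [← this, hzdef]
        simp
      have h3 : ρ * (z : R) * ρ⁻¹ = (z : R) := by
        by_cases hz1 : z = 1
        · simp [hz1]
        · exact mul_inv_eq_iff_eq_mul.2 (hc _ (mem_ii_of_zSub h h2 hQ3 hz hz1)).symm
      rw [pow_succ' ρ i, show ρ * ρ ^ i * (x : R) * (ρ * ρ ^ i)⁻¹ = ρ * (ρ ^ i * x * (ρ ^ i)⁻¹) * ρ⁻¹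
        by group, ih, show ρ * ((x : R) * (z : R) ^ i) * ρ⁻¹ =
          (ρ * (x : R) * ρ⁻¹) * (ρ * (z : R) * ρ⁻¹) ^ i by rw [conj_pow]; group, h1, h3, mul_assoc,
        ← pow_succ']
  have hodd : Odd (orderOf ρ) := h.odd_card.of_dvd_nat
    (Subgroup.orderOf_dvd_natCard _ (Subgroup.mem_inf.1 hρ).1)
  obtain ⟨k, hk⟩ := hodd
  have e' := e (orderOf ρ)
  rw [pow_orderOf_eq_one, one_mul, inv_one, mul_one, hk, pow_succ, pow_mul, pow_two,
    show (z : R) * (z : R) = 1 from congrArg Subtype.val hz, one_pow, one_mul, left_eq_mul] at e'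
  have e1 := e 1
  rw [e', pow_one, pow_one, mul_one] at e1
  exact Subtype.ext (SetupU3.sq_eq_one_of_commute_centralizing h h2 hQ3
    (Subgroup.mem_inf.1 hρ).1 hρ1 (fun s hs => (hc s hs).symm) x.2 (mul_inv_eq_iff_eq_mul.1 e1))

/-- An involutory permutation commuting with a torus element is trivial. -/
theorem eq_one_of_commute {π : Equiv.Perm X} (hπ : IsTorusPerm R a t π) (hi : π * π = 1)
    {ρ : R} (hρ : ρ ∈ torus R a t) (hρ1 : ρ ≠ 1) (hc : Commute π (ρ : Equiv.Perm X)) : π = 1 := by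
  refine eq_one_of_conjQ h h2 hQ3 hπ fun x => ?_
  refine eq_self (special h h2 hQ3) (conjQ_invol h h2 hQ3 hπ hi)
    (fun z hz => conjQ_z h h2 hQ3 hπ hz) (ρ := conjQ h h2 hQ3 (torusPerm hρ))
    (fun z hz => conjQ_z h h2 hQ3 _ hz) (fpf h h2 hQ3 hρ hρ1) (fun y => ?_) x
  refine Subtype.ext (Subtype.ext ?_)
  rw [conjQ_apply, conjQ_apply, conjQ_apply, conjQ_apply]
  calc π * ((ρ : Equiv.Perm X) * ((y : R) : Equiv.Perm X) * (ρ : Equiv.Perm X)⁻¹) * π⁻¹
      = (π * ρ) * ((y : R) : Equiv.Perm X) * (π * ρ)⁻¹ := by group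
    _ = _ := by rw [hc.eq]; group

/-- A non-trivial involutory permutation inverts the torus. -/
theorem inverts {π : Equiv.Perm X} (hπ : IsTorusPerm R a t π) (hi : π * π = 1) (hπ1 : π ≠ 1)
    {ρ : R} (hρ : ρ ∈ torus R a t) :
    π * (ρ : Equiv.Perm X) * π⁻¹ = (ρ : Equiv.Perm X)⁻¹ := by
  have hmem : ∀ ρ : torus R a t, (⟨_, conj_mem_R h h2 hQ3 hπ (ρ : R)⟩ : R) ∈ torus R a t := by
    rintro ⟨ρ, hρ⟩
    have hp := (hπ.mul (torusPerm hρ)).mul hπ.inv
    exact mem_torus.2 ⟨⟨hp.fix_a, hp.fix_b⟩, fun s hs => Subtype.ext (hp.comm s hs).eq.symm⟩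
  let φ : torus R a t →* torus R a t := MonoidHom.mk' (fun ρ => ⟨_, hmem ρ⟩) fun ρ ρ' =>
    Subtype.ext (Subtype.ext (by
      show π * (((ρ : R) : Equiv.Perm X) * ((ρ' : R) : Equiv.Perm X)) * π⁻¹ =
        π * ((ρ : R) : Equiv.Perm X) * π⁻¹ * (π * ((ρ' : R) : Equiv.Perm X) * π⁻¹)
      group))
  have hφ : ∀ ρ : torus R a t,
      (((φ ρ : torus R a t) : R) : Equiv.Perm X) = π * ((ρ : R) : Equiv.Perm X) * π⁻¹ := fun ρ => rfl
  have hfp : MonoidHom.FixedPointFree φ := by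
    intro g hg
    by_contra hg1
    refine hπ1 (eq_one_of_commute h h2 hQ3 hπ hi g.2 (fun e => hg1 (Subtype.ext e)) ?_)
    have := congrArg (fun g : torus R a t => ((g : R) : Equiv.Perm X)) hg
    simp only [hφ] at this
    exact mul_inv_eq_iff_eq_mul.1 this
  have hinv : Function.Involutive φ := fun g => Subtype.ext (Subtype.ext (by
    rw [hφ, hφ, show π * (π * ((g : R) : Equiv.Perm X) * π⁻¹) * π⁻¹ =
      (π * π) * ((g : R) : Equiv.Perm X) * (π * π)⁻¹ by group, hi]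
    simp))
  have h3 := congrFun (hfp.coe_eq_inv_of_involutive hinv) ⟨ρ, hρ⟩
  exact congrArg (fun g : torus R a t => ((g : R) : Equiv.Perm X)) h3

theorem exists_torus : ∃ ρ ∈ torus R a t, (orderOf ρ).Prime := by
  obtain ⟨ρ, hρ, hp, hc⟩ := SetupU3.exists_centralizing h h2 hQ3
  exact ⟨ρ, Subgroup.mem_inf.2 ⟨hρ, Subgroup.mem_centralizer_iff.2 fun s hs => (hc s hs).eq.symm⟩, hp⟩

/-- Two commuting non-trivial involutory permutations are equal. -/
theorem eq_of_commute {π π' : Equiv.Perm X} (hπ : IsTorusPerm R a t π) (hi : π * π = 1) (hπ1 : π ≠ 1)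
    (hπ' : IsTorusPerm R a t π') (hi' : π' * π' = 1) (hπ'1 : π' ≠ 1) (hc : Commute π π') : π = π' := by
  obtain ⟨ρ, hρ, hp⟩ := exists_torus h h2 hQ3
  have hρ1 : ρ ≠ 1 := fun e => hp.ne_one (orderOf_eq_one_iff.2 e)
  have h1 := eq_one_of_commute h h2 hQ3 (hπ.mul hπ') (by
    rw [mul_assoc, ← mul_assoc π', ← hc.eq, mul_assoc π π', hi', mul_one, hi]) hρ hρ1 (by
    show π * π' * (ρ : Equiv.Perm X) = (ρ : Equiv.Perm X) * (π * π')
    rw [← mul_inv_eq_iff_eq_mul, show π * π' * (ρ : Equiv.Perm X) * (π * π')⁻¹ =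
      π * (π' * (ρ : Equiv.Perm X) * π'⁻¹) * π⁻¹ by group, inverts h h2 hQ3 hπ' hi' hπ'1 hρ,
      show π * (ρ : Equiv.Perm X)⁻¹ * π⁻¹ = (π * (ρ : Equiv.Perm X) * π⁻¹)⁻¹ by group,
      inverts h h2 hQ3 hπ hi hπ1 hρ, inv_inv])
  rw [mul_eq_one_iff_eq_inv.1 h1, inv_eq_of_mul_eq_one_right hi']

/-- A torus element fixes only the block. -/
theorem fix_mem_torus {ρ : R} (hρ : ρ ∈ torus R a t) (hρ1 : ρ ≠ 1) {x : Q}
    (hx : ρ • (x : R) • t • a = (x : R) • t • a) : x * x = 1 := by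
  have h1 := (conjQ_fix_iff h h2 hQ3 (torusPerm hρ) x).1 hx
  exact fpf h h2 hQ3 hρ hρ1 x (by rw [h1, inv_mul_cancel]; exact one_mem _)

/-- A non-trivial involutory permutation fixes only the block. -/
theorem fix_mem {π : Equiv.Perm X} (hπ : IsTorusPerm R a t π) (hi : π * π = 1) (hπ1 : π ≠ 1) {x : Q}
    (hx : conjQ h h2 hQ3 hπ x = x) : x * x = 1 := by
  obtain ⟨ρ, hρ, hp⟩ := exists_torus h h2 hQ3
  have hρ1 : ρ ≠ 1 := fun e => hp.ne_one (orderOf_eq_one_iff.2 e)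
  have hρ2 : ρ * ρ ≠ 1 := fun e => hρ1 (dd_eq_one h (Subgroup.mem_inf.1 hρ).1 e)
  have hinv := inverts h h2 hQ3 hπ hi hπ1 hρ
  refine mem_of_inverted (special h h2 hQ3) (conjQ_invol h h2 hQ3 hπ hi)
    (fun z hz => conjQ_z h h2 hQ3 hπ hz) (ρ := conjQ h h2 hQ3 (torusPerm hρ))
    (fun z hz => conjQ_z h h2 hQ3 _ hz) (fun y hy => ?_) (fun y => ?_) hx
  · refine fpf h h2 hQ3 (mul_mem hρ hρ) hρ2 y ?_
    have e : conjQ h h2 hQ3 (torusPerm (mul_mem hρ hρ)) y =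
        conjQ h h2 hQ3 (torusPerm hρ) (conjQ h h2 hQ3 (torusPerm hρ) y) := by
      refine Subtype.ext (Subtype.ext ?_)
      rw [conjQ_apply, conjQ_apply, conjQ_apply, Subgroup.coe_mul]; group
    rw [e]; exact hy
  · rw [eq_comm, MulEquiv.symm_apply_eq]
    refine Subtype.ext (Subtype.ext ?_)
    rw [conjQ_apply, conjQ_apply, conjQ_apply, conjQ_apply]
    calc π * ((y : R) : Equiv.Perm X) * π⁻¹
        = (π * (ρ : Equiv.Perm X) * π⁻¹)⁻¹ * (π * ((ρ : Equiv.Perm X) * ((y : R) : Equiv.Perm X) *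
            (ρ : Equiv.Perm X)⁻¹) * π⁻¹) * (π * (ρ : Equiv.Perm X) * π⁻¹) := by group
      _ = _ := by rw [hinv, inv_inv]

/-- Every involution at `a` is the square of a delta of `π`. -/
theorem exists_delta {π : Equiv.Perm X} (hπ : IsTorusPerm R a t π) (hi : π * π = 1) (hπ1 : π ≠ 1)
    {s : R} (hs : s • a = a) (hs2 : s * s = 1) :
    ∃ d : Q, (d : R) * (d : R) = s ∧ conjQ h h2 hQ3 hπ d = d⁻¹ ∧ ∃ x : Q, d = x⁻¹ * conjQ h h2 hQ3 hπ x := by
  have hsQ : s ∈ Q := mem_Q_of_two h hs (m := 1) (by rw [pow_one, pow_two, hs2])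
  obtain ⟨x, hx⟩ := exists_sq (special h h2 hQ3) (conjQ_invol h h2 hQ3 hπ hi)
    (conjQ_sq h h2 hQ3 hπ) (fun f hf => fix_mem h h2 hQ3 hπ hi hπ1 hf) (card_le h h2 hQ3)
    (z := ⟨s, hsQ⟩) (Subtype.ext hs2)
  exact ⟨_, congrArg Subtype.val hx, sigma_inv_delta (conjQ_invol h h2 hQ3 hπ hi) x, x, rfl⟩

/-- A non-trivial involutory permutation is no square. -/
theorem false_of_sqrt {π : Equiv.Perm X} (hπ : IsTorusPerm R a t π) (hi : π * π = 1) (hπ1 : π ≠ 1)
    {φ : Equiv.Perm X} (hφ : IsTorusPerm R a t φ) (hφ2 : φ * φ = π) : False := by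
  refine UnitaryKernel.false_of_sqrt (special h h2 hQ3) (σ := conjQ h h2 hQ3 hπ)
    (φ := conjQ h h2 hQ3 hφ) (conjQ_invol h h2 hQ3 hπ hi) (fun z hz => conjQ_z h h2 hQ3 hπ hz)
    (fun f hf => fix_mem h h2 hQ3 hπ hi hπ1 hf) (card_le h h2 hQ3) ?_
    (fun z hz => conjQ_z h h2 hQ3 hφ hz) fun x => ?_
  · rw [card_zSub]
    obtain ⟨n, hn, hq, -⟩ := exists_coords h h2
    rw [hq]
    exact Nat.one_lt_two_pow (by omega)
  · refine Subtype.ext (Subtype.ext ?_)
    rw [conjQ_apply, conjQ_apply, conjQ_apply, ← hφ2]; group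

end Cfsg.Agent.Aschbacher.UnitaryPerm
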