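/-
Frames for the unitary case of the finish of the core-free criterion (owner: helper40).

A frame is the rank one set-up induced by the members in a proper `M` on their `q ^ 3 + 1` points,
based at two of them, `q = |E_a|`, all members at these two in `M`.

* `Frame.exists_frame` : frames exist;  `Frame.torusPerm`, `Frame.normHom_eq` : the normaliser acts
* `Frame.fix_block` : an involutory non-trivial action fixes only the chord of the base points
-/
import Cfsg.Agent.Lib.Aschbacher.CriterionChordFix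
import Cfsg.Agent.Lib.Aschbacher.UnitaryPerm

set_option autoImplicit false
set_option linter.style.haveILetI false
set_option linter.unusedSectionVars false

namespace Cfsg.Agent.Aschbacher

open Cfsg Involution MulAction Cfsg.Agent.RankOne Cfsg.Agent.RankOne.Setup Cfsg.Agent.SuzukiRankOne

universe u v

/-- A set-up can be based at any second point. -/
theorem exists_rebase {R : Type u} {X : Type v} [Group R] [Finite R] [MulAction R X] {a : X} {t : R}
    {Q : Subgroup R} (h : Cfsg.IsRankOneSetup R X a t Q) {b : X} (hb : b ≠ a) :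
    ∃ t' : R, Cfsg.IsRankOneSetup R X a t' Q ∧ t' • a = b := by
  obtain ⟨x, hx, hxb⟩ := exists_smul_eq h hb
  have hxa : x • a = a := h.le hx
  have hta : (x * t * x⁻¹) • a = b := by
    rw [mul_smul, mul_smul, inv_smul_eq_iff.2 hxa.symm, hxb]
  refine ⟨x * t * x⁻¹, ⟨h.two_transitive, ?_, fun e => h.ne_one (conj_eq_one_iff.1 e),
    fun e => hb (hta.symm.trans e), h.le, h.conj_mem, ?_, ?_, h.even_card, ?_⟩, hta⟩
  · rw [show x * t * x⁻¹ * (x * t * x⁻¹) = x * (t * t) * x⁻¹ by group, h.mul_self]; group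
  · rw [hta, Subgroup.eq_bot_iff_forall]
    rintro g ⟨hgQ, hgb⟩
    exact eq_one_of_fix h hgQ hb hgb
  · rw [hta]
    refine le_antisymm (sup_le h.le inf_le_left) fun g hg => ?_
    obtain ⟨y, hy, hyb⟩ := exists_smul_eq h (b := g • b) fun e => hb (smul_left_cancel g
      (e.trans (mem_stabilizer_iff.1 hg).symm))
    obtain ⟨y₀, hy₀, hy₀b⟩ := exists_smul_eq h hb
    have h2 : (y₀ * y⁻¹ * g) • b = b := by rw [mul_smul, mul_smul, ← hyb, inv_smul_smul, hy₀b]
    rw [show g = (y * y₀⁻¹) * (y₀ * y⁻¹ * g) by group]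
    exact Subgroup.mul_mem_sup (mul_mem hy (inv_mem hy₀))
      (Subgroup.mem_inf.2 ⟨(stabilizer R a).mul_mem ((stabilizer R a).mul_mem (h.le hy₀)
        ((stabilizer R a).inv_mem (h.le hy))) hg, h2⟩)
  · rw [hta]
    convert h.odd_card using 1
    refine (Nat.card_congr (Equiv.subtypeEquiv (MulAut.conj x).toEquiv fun g => ?_)).symm
    show _ ↔ x * g * x⁻¹ ∈ stabilizer R a ⊓ stabilizer R b
    simp only [Subgroup.mem_inf, mem_stabilizer_iff, mul_smul, inv_smul_eq_iff.2 hxa.symm, ← hxb,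
      inv_smul_smul, smul_left_cancel_iff]
    exact and_congr_left fun _ => by
      conv_rhs => rw [← eq_inv_smul_iff, inv_smul_eq_iff.2 hxa.symm]

variable {G : Type u} {Ω : Type u} [Group G] [MulAction G Ω] [Finite G] [Finite Ω]
  [FaithfulSMul G Ω] {D : Set G} {pt : G → Ω}

/-- The set-up induced by the members in `M`, based at `a` and `b`. -/
structure Frame (C : ChordHyp G Ω D pt) (M : Subgroup G) (a b : Ω) where
  R : Subgroup (Equiv.Perm (PtSet D pt M))
  f : memSub D M →* R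
  a' : PtSet D pt M
  b' : PtSet D pt M
  t : R
  Q : Subgroup R
  setup : Cfsg.IsRankOneSetup R (PtSet D pt M) a' t Q
  two : TwoInvolutions R
  cube : Nat.card Q = param R a' ^ 3
  param_eq : param R a' = Nat.card (atPoint D pt a)
  smul_b : t • a' = b'
  a_eq : (a' : Ω) = a
  b_eq : (b' : Ω) = b
  full : ∀ d ∈ D, pt d = a → d ∈ M
  f_surj : Function.Surjective f
  f_smul : ∀ (g : memSub D M) (p : PtSet D pt M), ((f g • p : PtSet D pt M) : Ω) = (g : G) • p.1
  f_inj : ∀ g h : memSub D M, (g : G) ∈ D → (h : G) ∈ D → f g = f h → g = h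
  f_inv : ∀ σ : R, orderOf σ = 2 → ∃ g : memSub D M, (g : G) ∈ D ∧ f g = σ

namespace Frame

variable {C : ChordHyp G Ω D pt} {M : Subgroup G} {a b : Ω}

theorem exists_frame (hM : M ≠ ⊤) (hab : a ≠ b) (ha : ∀ d ∈ D, pt d = a → d ∈ M)
    (hb : ∃ w ∈ D, w ∈ M ∧ pt w = b)
    (hcard : Nat.card (PtSet D pt M) = Nat.card (atPoint D pt a) ^ 3 + 1) :
    Nonempty (Frame C M a b) := by
  have P := C.fin.pc
  obtain ⟨v, e, hv, he, hva, hea, hve, -⟩ := C.fin.exists_two a
  obtain ⟨w, hw, hwM, hwb⟩ := hb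
  obtain ⟨R, f, hfs, hsmul, -, hf3, hinj, t, Q, hS, h2, -, hq⟩ :=
    P.exists_rankOne_sub C.fin.comm C.fin.ih hM hv (ha v hv hva) hva he (ha e he hea) hea hve hw hwM
      (by rw [hwb]; exact hab.symm)
  have hparam : param R (⟨a, v, hv, ha v hv hva, hva⟩ : PtSet D pt M) = Nat.card (atPoint D pt a) := by
    rw [hq, P.card_atPoint C.fin.comm hab]
    refine congrArg (· + 1) (Nat.card_congr (Equiv.subtypeEquivRight fun d => ?_))
    exact ⟨fun hd => ⟨hd.1, hd.2.1⟩, fun hd => ⟨hd.1, hd.2, ha d hd.1 hd.2⟩⟩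
  obtain ⟨t', hS', ht'⟩ := exists_rebase hS (b := ⟨b, w, hw, hwM, hwb⟩)
    fun e => hab (congrArg Subtype.val e).symm
  have h3 := card_omega hS
  rw [hcard, Nat.add_right_cancel_iff] at h3
  exact ⟨⟨R, f, _, _, t', Q, hS', h2, by rw [hparam, h3], hparam, ht', rfl, rfl, ha, hfs, hsmul, hinj,
    hf3⟩⟩

variable (T : Frame C M a b)

theorem smul_t : ((T.t • T.a' : PtSet D pt M) : Ω) = b := by rw [T.smul_b, T.b_eq]

include T in
theorem ab_ne : a ≠ b := fun e => t_smul_ne T.setup (Subtype.ext (by rw [T.smul_t, T.a_eq, e]))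

/-- The action of the normaliser. -/
noncomputable def act (_T : Frame C M a b) (g : G) (hg : g ∈ Subgroup.normalizer (M : Set G)) :
    Equiv.Perm (PtSet D pt M) :=
  C.fin.pc.normHom M ⟨g, hg⟩

theorem act_apply {g : G} (hg : g ∈ Subgroup.normalizer (M : Set G)) (p : PtSet D pt M) :
    ((T.act g hg p : PtSet D pt M) : Ω) = g • p.1 := rfl

theorem act_mul {g g' : G} (hg : g ∈ Subgroup.normalizer (M : Set G))
    (hg' : g' ∈ Subgroup.normalizer (M : Set G)) :
    T.act (g * g') (mul_mem hg hg') = T.act g hg * T.act g' hg' :=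
  Equiv.ext fun p => Subtype.ext (mul_smul g g' p.1)

theorem act_eq_one {g : G} (hg : g ∈ Subgroup.normalizer (M : Set G)) :
    T.act g hg = 1 ↔ ∀ p : PtSet D pt M, g • p.1 = p.1 :=
  ⟨fun e p => by rw [← T.act_apply hg p, e]; rfl, fun hp => Equiv.ext fun p => Subtype.ext (hp p)⟩

theorem act_mul_self {g : G} (hg : g ∈ Subgroup.normalizer (M : Set G))
    (h2 : ∀ p : PtSet D pt M, (g * g) • p.1 = p.1) : T.act g hg * T.act g hg = 1 :=
  Equiv.ext fun p => Subtype.ext ((mul_smul g g p.1).symm.trans (h2 p))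

/-- `f` is the restriction of the action. -/
theorem f_apply (g : memSub D M) (p : PtSet D pt M) :
    (((T.f g : T.R) : Equiv.Perm (PtSet D pt M)) p : Ω) = (g : G) • p.1 := T.f_smul g p

theorem f_coe (g : memSub D M) (hg : (g : G) ∈ Subgroup.normalizer (M : Set G)) :
    ((T.f g : T.R) : Equiv.Perm (PtSet D pt M)) = T.act g hg :=
  Equiv.ext fun p => Subtype.ext (T.f_apply g p)

theorem act_conj {g : G} (hg : g ∈ Subgroup.normalizer (M : Set G)) (k : memSub D M) :
    T.act g hg * ((T.f k : T.R) : Equiv.Perm (PtSet D pt M)) * (T.act g hg)⁻¹ =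
      ((T.f ⟨g * k * g⁻¹, conj_mem_memSub C.fin.pc.conj_mem hg k.2⟩ : T.R) :
        Equiv.Perm (PtSet D pt M)) := by
  rw [mul_inv_eq_iff_eq_mul]
  refine Equiv.ext fun p => Subtype.ext ?_
  rw [Equiv.Perm.mul_apply, Equiv.Perm.mul_apply, T.act_apply, T.f_apply, T.f_apply, T.act_apply,
    ← mul_smul, ← mul_smul, inv_mul_cancel_right]

theorem member_of_ii {s : T.R} (hs : s ∈ Cfsg.involutionsIn (stabilizer T.R T.a' : Set T.R)) :
    ∃ d : memSub D M, (d : G) ∈ D ∧ pt (d : G) = a ∧ T.f d = s := by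
  obtain ⟨d, hd, hds⟩ := T.f_inv s (orderOf_of_sq hs.2.2 hs.2.1)
  refine ⟨d, hd, ?_, hds⟩
  have h1 := congrArg Subtype.val (mem_stabilizer_iff.1 hs.1)
  rw [← hds, T.f_smul, T.a_eq] at h1
  exact ((C.fin.pc.fixed_iff _ hd a).1 h1).symm

/-- An element of the normaliser fixing the base points and centralising `E_a` acts as a torus
permutation. -/
theorem torusPerm {g : G} (hg : g ∈ Subgroup.normalizer (M : Set G)) (hga : g • a = a)
    (hgb : g • b = b) (hc : ∀ d ∈ D, pt d = a → Commute g d) :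
    UnitaryPerm.IsTorusPerm T.R T.a' T.t (T.act g hg) := by
  refine ⟨Bender.mem_normalizer_of_forall fun r hr => ?_, Subtype.ext ?_, Subtype.ext ?_, fun s hs => ?_⟩
  · obtain ⟨k, hk⟩ := T.f_surj ⟨r, hr⟩
    rw [show r = ((T.f k : T.R) : Equiv.Perm (PtSet D pt M)) from (congrArg Subtype.val hk).symm,
      T.act_conj hg]
    exact (T.f _).2
  · rw [T.act_apply, T.a_eq, hga]
  · rw [T.act_apply, T.smul_t, hgb]
  · obtain ⟨d, hd, hda, rfl⟩ := T.member_of_ii hs
    refine mul_inv_eq_iff_eq_mul.1 ?_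
    rw [T.act_conj hg]
    exact congrArg (fun k => ((T.f k : T.R) : Equiv.Perm (PtSet D pt M)))
      (Subtype.ext (mul_inv_eq_iff_eq_mul.2 (hc _ hd hda).eq))

/-- A lift of an element centralising the involutions at `a` centralises `E_a`. -/
theorem commute_of_image {k : memSub D M}
    (hc : ∀ s ∈ Cfsg.involutionsIn (stabilizer T.R T.a' : Set T.R), s * T.f k = T.f k * s) {d : G}
    (hd : d ∈ D) (hda : pt d = a) : Commute (k : G) d := by
  set d' : memSub D M := ⟨d, Subgroup.subset_closure ⟨hd, T.full d hd hda⟩⟩ with hd'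
  have hs : T.f d' ∈ Cfsg.involutionsIn (stabilizer T.R T.a' : Set T.R) := by
    refine ⟨mem_stabilizer_iff.2 (Subtype.ext ?_), fun e => ?_, ?_⟩
    · rw [T.f_smul, T.a_eq]; exact (C.fin.pc.fixed_iff d hd a).2 hda.symm
    · have h1 := T.f_smul d' (T.t • T.a')
      rw [e, one_smul, T.smul_t] at h1
      exact T.ab_ne (((C.fin.pc.fixed_iff d hd b).1 h1.symm).trans hda).symm
    · rw [← map_mul, ← map_one T.f]; exact congrArg T.f (Subtype.ext (mul_self (C.fin.pc.inv d hd)))
  have h2 := T.f_inj (k * d' * k⁻¹) d' (C.fin.pc.conj_mem k d hd) hd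
    (by rw [map_mul, map_mul, map_inv, mul_inv_eq_iff_eq_mul]; exact (hc _ hs).symm)
  exact mul_inv_eq_iff_eq_mul.1 (congrArg Subtype.val h2)

/-- An element of `Q` centralises `E_a`. -/
theorem commute_of_mem_Q {k : memSub D M} (hk : T.f k ∈ T.Q) {d : G} (hd : d ∈ D) (hda : pt d = a) :
    (k : G) • a = a ∧ Commute (k : G) d := by
  have hka : (k : G) • a = a := by
    rw [← T.a_eq, ← T.f_smul, mem_stabilizer_iff.1 (T.setup.le hk)]
  refine ⟨hka, T.commute_of_image (fun s hs => ?_) hd hda⟩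
  exact ((SetupU3.kernel_facts T.setup T.two T.cube (mem_Q_of_ii T.setup hs)).2.1.2 hs.2.2) _ hk

/-- An element of `Q` squaring to `1` is the image of an element of `E_a`. -/
theorem exists_E {y : T.R} (hy : y ∈ T.Q) (hy2 : y * y = 1) :
    ∃ k : memSub D M, (k : G) ∈ atPoint D pt a ∧ T.f k = y := by
  by_cases hy1 : y = 1
  · exact ⟨1, one_mem _, by rw [hy1, map_one]⟩
  · obtain ⟨d, hd, hda, hds⟩ := T.member_of_ii ⟨T.setup.le hy, hy1, hy2⟩
    exact ⟨d, C.fin.mem_E.2 (Or.inr ⟨hd, hda⟩), hds⟩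

/-- A non-trivial involutory action fixes only the block of the base points. -/
theorem fix_block {g : G} (hg : g ∈ Subgroup.normalizer (M : Set G))
    (hπ : UnitaryPerm.IsTorusPerm T.R T.a' T.t (T.act g hg)) (h2 : T.act g hg * T.act g hg = 1)
    (h1 : T.act g hg ≠ 1) (p : PtSet D pt M) (hpa : p.1 ≠ a) (hgp : g • p.1 = p.1) :
    ∃ e ∈ atPoint D pt a, p.1 = e • b := by
  obtain ⟨y, hy, hyp⟩ := exists_smul_eq T.setup (b := p) fun e => hpa (by rw [e, T.a_eq])
  have hfix : T.act g hg ((y : T.R) • T.t • T.a') = (y : T.R) • T.t • T.a' := by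
    refine Subtype.ext ?_
    rw [T.act_apply, hyp, hgp]
  have hy2 := UnitaryPerm.fix_mem T.setup T.two T.cube hπ h2 h1
    ((UnitaryPerm.conjQ_fix_iff T.setup T.two T.cube hπ ⟨y, hy⟩).1 hfix)
  obtain ⟨k, hk, hky⟩ := T.exists_E hy (congrArg Subtype.val hy2)
  refine ⟨k, hk, ?_⟩
  rw [← hyp, ← hky, T.f_smul, T.smul_t]

end Frame

end Cfsg.Agent.Aschbacher
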