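/-
The torus of an involution fixing `q ^ 3 + 1` points (owner: helper40; unitary case of the finish of
the core-free criterion).

`C : CubeHyp` : every involution fixing two points fixes `q ^ 3 + 1`.  `IsTau u a b τ` : an element of
odd prime power order of `<D ∩ C(u)>` fixing `a`, `b`, centralising `E_a`, non-trivial on `Fix u`.

* `CubeHyp.exists_tau`, `card_tau` : it exists and fixes `q ^ 3 + 1` points
* `CubeHyp.conj_tau` : what commutes with `u` and squares to the identity on `Fix u` normalises it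
* `CubeHyp.eq_of_fix_inv` : no second involution has the fixed points of `u` and commutes with it
* `CubeHyp.sq_ne` : no element fixing `a` and centralising `E_a` squares to an involution fixing two
  points
* `CubeHyp.eq_one_or_eq` : only `1` and `u` commute with `u` and fix its fixed points
-/
import Cfsg.Agent.Lib.Aschbacher.UnitaryFrame

set_option autoImplicit false
set_option linter.style.haveILetI false
set_option linter.unusedSectionVars false

namespace Cfsg.Agent.Aschbacher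

open Cfsg Involution MulAction Cfsg.Agent.RankOne Cfsg.Agent.RankOne.Setup Cfsg.Agent.SuzukiRankOne

universe u

/-- The centraliser of an element. -/
abbrev cent {G : Type u} [Group G] (g : G) : Subgroup G := Subgroup.centralizer ({g} : Set G)

theorem mem_cent {G : Type u} [Group G] {g k : G} : k ∈ cent g ↔ Commute k g :=
  Subgroup.mem_centralizer_singleton_iff

theorem mem_normalizer_cent {G : Type u} [Group G] [Finite G] {g k : G}
    (h : k * g * k⁻¹ = g ∨ k * g * k⁻¹ = g⁻¹) : k ∈ Subgroup.normalizer (cent g : Set G) := by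
  refine Bender.mem_normalizer_of_forall fun r hr => mem_cent.2 ?_
  have h1 : Commute (k * r * k⁻¹) (k * g * k⁻¹) := Commute.conj (mem_cent.1 hr) k
  rcases h with h | h <;> rw [h] at h1
  · exact h1
  · simpa using h1.inv_right

/-- The setting: every involution fixing two points fixes `q ^ 3 + 1` points. -/
structure CubeHyp (G : Type u) [Group G] [Finite G] (Ω : Type u) [MulAction G Ω] (D : Set G)
    (pt : G → Ω) : Prop where
  ch : ChordHyp G Ω D pt
  card_fix : ∀ v : G, IsFixInv Ω v → ∀ x : Ω,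
    Nat.card (FixSet Ω v) = Nat.card (atPoint D pt x) ^ 3 + 1

variable {G : Type u} {Ω : Type u} [Group G] [MulAction G Ω] [Finite G] [Finite Ω]
  [FaithfulSMul G Ω] {D : Set G} {pt : G → Ω}

/-- An element of odd prime power order in the torus of `u` at `a`, `b`. -/
structure IsTau (D : Set G) (pt : G → Ω) (u : G) (a b : Ω) (τ : G) : Prop where
  mem : τ ∈ memSub D (cent u)
  prime_pow : ∃ ℓ k : ℕ, ℓ.Prime ∧ ℓ ≠ 2 ∧ orderOf τ = ℓ ^ k
  fix_a : τ • a = a
  fix_b : τ • b = b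
  comm : ∀ d ∈ D, pt d = a → Commute τ d
  moves : ∃ p : Ω, u • p = p ∧ τ • p ≠ p

theorem IsTau.commute {u : G} {a b : Ω} {τ : G} (hτ : IsTau D pt u a b τ) : Commute τ u :=
  mem_cent.1 (memSub_le D _ hτ.mem)

theorem IsTau.ne_one {u : G} {a b : Ω} {τ : G} (hτ : IsTau D pt u a b τ) : τ ≠ 1 := fun e => by
  obtain ⟨p, -, hp⟩ := hτ.moves
  exact hp (by rw [e, one_smul])

theorem IsTau.odd {u : G} {a b : Ω} {τ : G} (hτ : IsTau D pt u a b τ) : Odd (orderOf τ) := by
  obtain ⟨ℓ, k, hℓ, hℓ2, hk⟩ := hτ.prime_pow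
  rw [hk]
  exact (hℓ.odd_of_ne_two hℓ2).pow

namespace CubeHyp

variable (C : CubeHyp G Ω D pt)
include C

/-- An element fixing `a` and `y` and centralising `E_a` centralises `E_y`. -/
theorem commute_fixed {k : G} {a y : Ω} (hka : k • a = a) (hc : ∀ d ∈ D, pt d = a → Commute k d)
    (hky : k • y = y) {d : G} (hd : d ∈ D) (hdy : pt d = y) : Commute k d := by
  rcases eq_or_ne a y with rfl | hay
  · exact hc d hd hdy
  · exact (mem_centPair.1 (C.ch.centPair_le hay (mem_centPair.2 ⟨hka, hky, hc⟩))).2.2 d hd hdy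

theorem pts_cent {u : G} (hu : IsFixInv Ω u) (p : Ω) :
    (∃ d ∈ D, d ∈ cent u ∧ pt d = p) ↔ u • p = p := by
  refine ⟨fun ⟨d, hd, hdu, e⟩ => e ▸ C.ch.fin.pc.commute_fix hd (mem_cent.1 hdu).symm, fun hp => ?_⟩
  obtain ⟨d, hd, hdp⟩ := C.ch.fin.pc.exists_at p
  exact ⟨d, hd, mem_cent.2 (C.ch.cent u hu d hd (by rw [hdp, hp])).symm, hdp⟩

theorem full_cent {u : G} (hu : IsFixInv Ω u) {a : Ω} (ha : u • a = a) :
    ∀ d ∈ D, pt d = a → d ∈ cent u := fun d hd hda =>
  mem_cent.2 (C.ch.cent u hu d hd (by rw [hda, ha])).symm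

theorem cent_ne_top {k : G} {a : Ω} (ha : k • a = a) (hk : k ≠ 1) : cent k ≠ ⊤ :=
  C.ch.fin.ne_top_of_le_centralizer ha hk fun _ hg => mem_cent.1 hg

theorem frame_fix {u : G} (hu : IsFixInv Ω u) {a b : Ω} (hab : a ≠ b) (ha : u • a = a)
    (hb : u • b = b) : Nonempty (Frame C.ch (cent u) a b) := by
  refine Frame.exists_frame (C.cent_ne_top ha (ne_one hu.1)) hab (C.full_cent hu ha)
    ((C.pts_cent hu b).2 hb) ?_
  rw [← C.card_fix u hu a]
  exact Nat.card_congr (Equiv.subtypeEquivRight (C.pts_cent hu))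

/-- What commutes with `u` and fixes its fixed points centralises the members there. -/
theorem commute_of_fix_all {u g : G} (hu : IsFixInv Ω u) (hfix : ∀ p : Ω, u • p = p → g • p = p)
    {d : G} (hd : d ∈ D) (hdu : u • pt d = pt d) : Commute g d := by
  obtain ⟨hu2, a, b, hab, ha, hb⟩ := id hu
  obtain ⟨c, hc, hcne⟩ : ∃ c, u • c = c ∧ c ≠ pt d := by
    by_cases h : a = pt d
    · exact ⟨b, hb, fun e => hab (h.trans e.symm)⟩
    · exact ⟨a, ha, h⟩
  have hdc : u • (d • c) = d • c := by rw [← mul_smul, (C.ch.cent u hu d hd hdu).eq, mul_smul, hc]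
  refine mul_inv_eq_iff_eq_mul.1 (C.ch.fin.eq_of_smul_eq (C.ch.fin.pc.conj_mem g d hd) hd
    (by rw [C.ch.fin.pc.pt_conj g hd, hfix _ hdu]) (c := c) ?_ ?_)
  · rw [C.ch.fin.pc.pt_conj g hd, hfix _ hdu]; exact hcne
  · rw [mul_smul, mul_smul, inv_smul_eq_iff.2 (hfix c hc).symm, hfix _ hdc]

theorem eq_one_of_odd {u g : G} (hu : IsFixInv Ω u) (hgu : Commute g u)
    (hfix : ∀ p : Ω, u • p = p → g • p = p) (hodd : Odd (orderOf g)) : g = 1 :=
  C.ch.eq_one_of_odd_centralizing hu hodd hgu fun _ hd hdu => C.commute_of_fix_all hu hfix hd hdu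

variable {u : G} (hu : IsFixInv Ω u) {a b : Ω} (hab : a ≠ b) (ha : u • a = a) (hb : u • b = b)
include hu hab ha hb

/-- The torus exists. -/
theorem exists_tau : ∃ τ, IsTau D pt u a b τ := by
  obtain ⟨T⟩ := C.frame_fix hu hab ha hb
  obtain ⟨ρ, hρ, hp⟩ := UnitaryPerm.exists_torus T.setup T.two T.cube
  haveI := Fact.mk hp
  obtain ⟨g, hg⟩ := T.f_surj ρ
  set ℓ := orderOf ρ with hℓ
  set n := orderOf g with hn
  set m := n / ℓ ^ n.factorization ℓ with hm
  have hn0 : n ≠ 0 := (orderOf_pos g).ne'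
  have hcop : Nat.Coprime m ℓ := (hp.coprime_iff_not_dvd.2 (Nat.not_dvd_ordCompl hp hn0)).symm
  set τ := g ^ ((m : ℤ) * Nat.gcdA m ℓ) with hτ
  have hfτ : T.f τ = ρ := by
    rw [hτ, map_zpow, hg]
    have e : ((m : ℤ) * Nat.gcdA m ℓ) = 1 - (ℓ : ℤ) * Nat.gcdB m ℓ := by
      have := Nat.gcd_eq_gcd_ab m ℓ
      rw [hcop, Nat.cast_one] at this
      linarith
    rw [e, zpow_sub, zpow_one, zpow_mul, zpow_natCast, pow_orderOf_eq_one, one_zpow, inv_one, mul_one]
  have hpow : (τ : G) ^ ℓ ^ n.factorization ℓ = 1 := by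
    have h1 : g ^ (n : ℤ) = 1 := by rw [zpow_natCast, hn, pow_orderOf_eq_one]
    have e : τ ^ ℓ ^ n.factorization ℓ = 1 := by
      rw [hτ, ← zpow_natCast, ← zpow_mul, mul_right_comm, ← Nat.cast_mul, hm,
        Nat.div_mul_cancel (Nat.ordProj_dvd n ℓ), zpow_mul, h1, one_zpow]
    simpa using congrArg Subtype.val e
  obtain ⟨⟨hρa, hρb⟩, hρc⟩ := UnitaryPerm.mem_torus.1 hρ
  obtain ⟨k, -, hk⟩ := (Nat.dvd_prime_pow hp).1 (orderOf_dvd_of_pow_eq_one hpow)
  refine ⟨τ, τ.2, ⟨ℓ, k, hp, fun e => ?_, hk⟩, ?_, ?_,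
    fun d hd hda => T.commute_of_image (k := τ) (by rw [hfτ]; exact hρc) hd hda, ?_⟩
  · have h2 : ρ * ρ = 1 := by rw [← pow_two, ← e, hℓ, pow_orderOf_eq_one]
    have := dd_eq_one T.setup (Subgroup.mem_inf.1 hρ).1 h2
    exact hp.ne_one (orderOf_eq_one_iff.2 this)
  · rw [← T.a_eq, ← T.f_smul, hfτ, hρa]
  · rw [← T.smul_t, ← T.f_smul, hfτ, hρb]
  · by_contra! hall
    refine hp.ne_one (orderOf_eq_one_iff.2 (Subtype.ext (Equiv.ext fun p => Subtype.ext ?_)))
    rw [← hfτ, T.f_apply]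
    exact hall p.1 ((C.pts_cent hu p.1).1 p.2)

variable {τ : G} (hτ : IsTau D pt u a b τ)
include hτ

theorem pts_tau (p : Ω) : (∃ d ∈ D, d ∈ cent τ ∧ pt d = p) ↔ τ • p = p := by
  refine ⟨fun ⟨d, hd, hdτ, e⟩ => e ▸ C.ch.fin.pc.commute_fix hd (mem_cent.1 hdτ).symm, fun hp => ?_⟩
  obtain ⟨d, hd, hdp⟩ := C.ch.fin.pc.exists_at p
  exact ⟨d, hd, mem_cent.2 (C.commute_fixed hτ.fix_a hτ.comm hp hd hdp).symm, hdp⟩

/-- On the fixed points of an involution it commutes with, `τ` fixes two points if one. -/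
theorem exists_fixed_pencil {w : G} (hw : IsFixInv Ω w) {c : Ω} (hwc : w • c = c)
    (hτc : τ • c = c) (hτw : Commute τ w) : ∃ p : Ω, w • p = p ∧ p ≠ c ∧ τ • p = p := by
  classical
  obtain ⟨ℓ, k, hℓ, hℓ2, hk⟩ := hτ.prime_pow
  haveI := Fact.mk hℓ
  haveI := Fintype.ofFinite {y : Ω // w • y = y ∧ y ≠ c}
  have hmaps : ∀ y : Ω, w • y = y ∧ y ≠ c ↔
      w • (MulAction.toPerm τ y) = MulAction.toPerm τ y ∧ MulAction.toPerm τ y ≠ c := fun y => by
    rw [MulAction.toPerm_apply, show w • τ • y = τ • w • y by rw [← mul_smul, ← hτw.eq, mul_smul],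
      smul_left_cancel_iff]
    exact and_congr_right fun _ => not_congr ⟨fun e => by rw [e, hτc],
      fun e => smul_left_cancel τ (e.trans hτc.symm)⟩
  let σ : Equiv.Perm {y : Ω // w • y = y ∧ y ≠ c} :=
    (MulAction.toPerm τ).subtypePerm fun y => (hmaps y).symm
  obtain ⟨y, hy⟩ := Equiv.Perm.exists_fixed_point_of_prime (p := ℓ) (n := k) (σ := σ) (by
      rw [← Nat.card_eq_fintype_card, C.ch.card_fix_ne hwc, C.card_fix w hw a, Nat.add_sub_cancel]
      obtain ⟨r, -, hr⟩ := C.ch.fin.exists_card_E a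
      rw [hr, ← pow_mul]
      exact fun hd => hℓ2 ((Nat.prime_dvd_prime_iff_eq hℓ Nat.prime_two).1 (hℓ.dvd_of_dvd_pow hd)))
    (by
      refine Equiv.ext fun y => Subtype.ext ?_
      have h1 : ∀ (n : ℕ) (y : {y : Ω // w • y = y ∧ y ≠ c}), ((σ ^ n) y).1 = τ ^ n • y.1 := by
        intro n
        induction n with
        | zero => intro y; simp
        | succ n ih =>
          intro y
          rw [pow_succ', pow_succ', Equiv.Perm.mul_apply, mul_smul, ← ih]
          rfl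
      rw [h1, ← hk, pow_orderOf_eq_one, one_smul]
      rfl)
  exact ⟨y.1, y.2.1, y.2.2, congrArg Subtype.val hy⟩

/-- `τ` fixes `q ^ 3 + 1` points. -/
theorem card_tau : Nat.card (PtSet D pt (cent τ)) = Nat.card (atPoint D pt a) ^ 3 + 1 := by
  classical
  have P := C.ch.fin.pc
  set E := atPoint D pt a with hE
  have hEu : ∀ e ∈ E, Commute e u ∧ e • a = a ∧ Commute e τ := fun e he => by
    rcases C.ch.fin.mem_E.1 he with rfl | ⟨hd, hda⟩
    · exact ⟨Commute.one_left u, one_smul G a, Commute.one_left τ⟩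
    · exact ⟨(C.ch.cent u hu e hd (by rw [hda, ha])).symm, hda ▸ P.smul_pt hd,
        (hτ.comm e hd hda).symm⟩
  have hz : ∀ e : E, ∃ z : Ω, (u * e.1) • z = z ∧ z ≠ a ∧ τ • z = z ∧ (e.1 = 1 → z = b) := fun e => by
    rcases C.ch.fin.mem_E.1 e.2 with he | ⟨hd, -⟩
    · exact ⟨b, by rw [he, mul_one, hb], hab.symm, hτ.fix_b, fun _ => rfl⟩
    · obtain ⟨hc1, hc2, hc3⟩ := hEu e e.2
      obtain ⟨z, h1, h2, h3⟩ := C.exists_fixed_pencil hu hab ha hb hτ (C.ch.isFixInv_mul hu hd hc1).1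
        (c := a) (by rw [mul_smul, hc2, ha]) hτ.fix_a (hτ.commute.mul_right hc3.symm)
      exact ⟨z, h1, h2, h3, fun he => absurd he (ne_one (P.inv _ hd))⟩
  choose z hz1 hz2 hz3 hz4 using hz
  obtain ⟨d₀, hd₀, hd₀b⟩ := P.exists_at b
  have hd₀τ : Commute τ d₀ := C.commute_fixed hτ.fix_a hτ.comm hτ.fix_b hd₀ hd₀b
  have hd₀u : Commute d₀ u := (C.ch.cent u hu d₀ hd₀ (by rw [hd₀b, hb])).symm
  have hbfix : (u * d₀) • b = b := by rw [mul_smul, ← hd₀b, P.smul_pt hd₀, hd₀b, hb]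
  obtain ⟨y, hy1, hy2, hy3⟩ := C.exists_fixed_pencil hu hab ha hb hτ
    (C.ch.isFixInv_mul hu hd₀ hd₀u).1 (c := b) hbfix hτ.fix_b (hτ.commute.mul_right hd₀τ)
  have huy : u • y ≠ y := fun e => hy2 (by
    rw [mul_smul] at hy1
    have h1 : d₀ • y = y := smul_left_cancel u (hy1.trans e.symm)
    rw [(P.fixed_iff d₀ hd₀ y).1 h1, hd₀b])
  have hya : y ≠ a := fun e => huy (by rw [e, ha])
  let pEE : E × E → Ω := fun p => p.2.1 • z p.1
  have hpEE : ∀ p : E × E, (u * p.1.1) • pEE p = pEE p ∧ τ • pEE p = pEE p ∧ pEE p ≠ a := by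
    rintro ⟨e, e'⟩
    obtain ⟨hc1, hc2, hc3⟩ := hEu e' e'.2
    have hee : Commute (u * e.1) e'.1 := hc1.symm.mul_left (C.ch.fin.commute_E e.2 e'.2)
    exact ⟨by rw [← mul_smul, hee.eq, mul_smul, hz1],
      by rw [← mul_smul, ← hc3.eq, mul_smul, hz3],
      fun h1 => hz2 e (smul_left_cancel e'.1 (h1.trans hc2.symm))⟩
  have hinj : Function.Injective pEE := by
    rintro ⟨e, e'⟩ ⟨k, k'⟩ heq
    have h1 := (hpEE (e, e')).1
    have h2 := (hpEE (k, k')).1
    rw [← heq] at h2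
    have hek : e = k := by
      refine Subtype.ext ?_
      by_contra hne
      have h3 : (e.1⁻¹ * k.1) • pEE (e, e') = pEE (e, e') := by
        rw [show e.1⁻¹ * k.1 = (u * e.1)⁻¹ * (u * k.1) by group, mul_smul, h2, inv_smul_eq_iff, h1]
      exact (hpEE (e, e')).2.2 (C.ch.fin.semiregular (mul_mem (inv_mem e.2) k.2)
        (fun h4 => hne (inv_mul_eq_one.1 h4)) h3)
    subst hek
    have h3 : (e'.1⁻¹ * k'.1) • z e = z e := by
      rw [mul_smul, inv_smul_eq_iff]; exact heq.symm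
    refine Prod.ext rfl (Subtype.ext ?_)
    by_contra hne
    exact hz2 e (C.ch.fin.semiregular (mul_mem (inv_mem e'.2) k'.2)
      (fun h4 => hne (inv_mul_eq_one.1 h4)) h3)
  have hypEE : ∀ p : E × E, pEE p ≠ y := by
    rintro p hp
    have h1 := (hpEE p).1
    rw [hp, mul_smul] at h1
    rcases C.ch.fin.mem_E.1 p.1.2 with he | ⟨hd, hda⟩
    · rw [he, one_smul] at h1; exact huy h1
    · have e1 : p.1.1 • y = u • y := by
        rw [← smul_left_cancel_iff u, h1, ← mul_smul, mul_self hu.1, one_smul]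
      have e2 : d₀ • y = u • y := by
        rw [mul_smul] at hy1
        rw [← smul_left_cancel_iff u, hy1, ← mul_smul, mul_self hu.1, one_smul]
      have := C.ch.swapper_unique hu huy hd hd₀ (hEu _ p.1.2).1 hd₀u e1 e2
      exact hab (by rw [← hda, this, hd₀b])
  let φ : Option (Option (E × E)) → PtSet D pt (cent τ) := fun o => o.elim
    ⟨a, (C.pts_tau hu hab ha hb hτ a).2 hτ.fix_a⟩
    fun o' => o'.elim ⟨y, (C.pts_tau hu hab ha hb hτ y).2 hy3⟩
      fun p => ⟨pEE p, (C.pts_tau hu hab ha hb hτ _).2 (hpEE p).2.1⟩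
  have hφ : Function.Injective φ := by
    rintro (_ | _ | p) (_ | _ | p') heq <;> have h1 := congrArg Subtype.val heq <;>
      simp only [φ, Option.elim] at h1
    · rfl
    · exact absurd h1.symm hya
    · exact absurd h1.symm (hpEE p').2.2
    · exact absurd h1 hya
    · rfl
    · exact absurd h1.symm (hypEE p')
    · exact absurd h1 (hpEE p).2.2
    · exact absurd h1 (hypEE p)
    · rw [hinj h1]
  have hle := Nat.card_le_card_of_injective φ hφ
  rw [Finite.card_option, Finite.card_option, Nat.card_prod] at hle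
  obtain ⟨w, hw, hwM, hwb⟩ := (C.pts_tau hu hab ha hb hτ b).2 hτ.fix_b
  obtain ⟨j, -, hj3, hj⟩ := C.ch.fin.exists_card_full (C.cent_ne_top hτ.fix_a hτ.ne_one)
    (fun d hd hda => mem_cent.2 (hτ.comm d hd hda).symm) hw hwM (by rw [hwb]; exact hab.symm)
  rw [hj, ← hE] at hle ⊢
  have hq : 4 ≤ Nat.card E := C.ch.fin.card_E_ge a
  have h3 : 3 ≤ j := by
    by_contra hlt
    have : Nat.card E ^ j ≤ Nat.card E ^ 2 := Nat.pow_le_pow_right (by omega) (by omega)
    rw [pow_two] at this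
    omega
  rw [show j = 3 by omega]

theorem frame_tau : Nonempty (Frame C.ch (cent τ) a b) :=
  Frame.exists_frame (C.cent_ne_top hτ.fix_a hτ.ne_one) hab
    (fun d hd hda => mem_cent.2 (hτ.comm d hd hda).symm)
    ((C.pts_tau hu hab ha hb hτ b).2 hτ.fix_b) (C.card_tau hu hab ha hb hτ)

/-- `u` moves a fixed point of `τ`. -/
theorem not_fix_tau : ¬ ∀ p : Ω, τ • p = p → u • p = p := fun hall => by
  have e : Nat.card (PtSet D pt (cent τ)) = Nat.card (FixSet Ω u) := by
    rw [C.card_tau hu hab ha hb hτ, C.card_fix u hu a]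
  obtain ⟨p, hp, hpτ⟩ := hτ.moves
  obtain ⟨⟨p', hp'⟩, hpp⟩ := ((Nat.bijective_iff_injective_and_card
    (fun p : PtSet D pt (cent τ) =>
      (⟨p.1, hall p.1 ((C.pts_tau hu hab ha hb hτ p.1).1 p.2)⟩ : FixSet Ω u))).2
    ⟨fun p p' h => Subtype.ext (congrArg Subtype.val h :), e⟩).2 ⟨p, hp⟩
  obtain rfl : p' = p := congrArg Subtype.val hpp
  exact hpτ ((C.pts_tau hu hab ha hb hτ p').1 hp')

/-- Nothing but `1` fixes the fixed points of `u` and of `τ` and squares to `1`. -/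
theorem eq_one_of_fix_both {k : G} (hk2 : k * k = 1) (hfu : ∀ p : Ω, u • p = p → k • p = p)
    (hfτ : ∀ p : Ω, τ • p = p → k • p = p) : k = 1 := by
  by_contra hk1
  have hk : IsFixInv Ω k := ⟨orderOf_of_sq hk2 hk1, a, b, hab, hfu a ha, hfu b hb⟩
  have e : Nat.card (FixSet Ω u) = Nat.card (FixSet Ω k) := by rw [C.card_fix u hu a, C.card_fix k hk a]
  have hsurj := ((Nat.bijective_iff_injective_and_card
    (fun p : FixSet Ω u => (⟨p.1, hfu p.1 p.2⟩ : FixSet Ω k))).2
    ⟨fun p p' h => Subtype.ext (congrArg Subtype.val h :), e⟩).2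
  refine C.not_fix_tau hu hab ha hb hτ fun p hp => ?_
  obtain ⟨⟨p', hp'⟩, hpp⟩ := hsurj ⟨p, hfτ p hp⟩
  obtain rfl : p' = p := congrArg Subtype.val hpp
  exact hp'

/-- What commutes with `u`, fixes `a`, `b`, centralises `E_a` and squares to the identity on
`Fix u` normalises `⟨τ⟩`, centralising it if it fixes `Fix u`. -/
theorem conj_tau {s : G} (hsu : Commute s u) (hsa : s • a = a) (hsb : s • b = b)
    (hsc : ∀ d ∈ D, pt d = a → Commute s d) (hs2 : ∀ p : Ω, u • p = p → (s * s) • p = p) :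
    (s * τ * s⁻¹ = τ ∨ s * τ * s⁻¹ = τ⁻¹) ∧
      ((∀ p : Ω, u • p = p → s • p = p) → s * τ * s⁻¹ = τ) := by
  obtain ⟨T⟩ := C.frame_fix hu hab ha hb
  have hsn : s ∈ Subgroup.normalizer (cent u : Set G) := Subgroup.le_normalizer (mem_cent.2 hsu)
  have hτ' : s * τ * s⁻¹ ∈ memSub D (cent u) := conj_mem_memSub C.ch.fin.pc.conj_mem hsn hτ.mem
  -- elements of odd order with the same image are equal
  have key : ∀ σ : memSub D (cent u), ((σ : G) = τ ∨ (σ : G) = τ⁻¹) →
      T.f ⟨_, hτ'⟩ = T.f σ → s * τ * s⁻¹ = σ := by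
    intro σ hσ hfσ
    set k : memSub D (cent u) := ⟨_, hτ'⟩ * σ⁻¹ with hk
    have hk1 : ∀ p : Ω, u • p = p → (k : G) • p = p := fun p hp => by
      have := T.f_smul k ⟨p, (C.pts_cent hu p).2 hp⟩
      rw [hk, map_mul, map_inv, hfσ, mul_inv_cancel, one_smul] at this
      exact this.symm
    have hkcomm : ∀ g ∈ memSub D (cent u), Commute g (k : G) := fun g hg => mem_cent.1 (((Subgroup.closure_le
      (cent (k : G))).2 fun d hd => mem_cent.2 (C.commute_of_fix_all hu hk1 hd.1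
        (C.ch.fin.pc.commute_fix hd.1 (mem_cent.1 hd.2).symm)).symm) hg)
    have hσo : Odd (orderOf (σ : G)) := by
      rcases hσ with e | e <;> rw [e]
      · exact hτ.odd
      · rw [orderOf_inv]; exact hτ.odd
    have hc : Commute (s * τ * s⁻¹) (σ : G) := by
      have h1 : s * τ * s⁻¹ = (k : G) * σ := by rw [hk]; simp
      rw [h1]
      exact (hkcomm σ σ.2).symm.mul_left (Commute.refl _)
    have hko : Odd (orderOf (k : G)) := by
      have h1 : (k : G) = s * τ * s⁻¹ * (σ : G)⁻¹ := rfl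
      rw [h1]
      refine Odd.of_dvd_nat ?_ hc.inv_right.orderOf_mul_dvd_mul_orderOf
      rw [orderOf_inv, orderOf_conj]
      exact hτ.odd.mul hσo
    have h2 := C.eq_one_of_odd hu (mem_cent.1 (memSub_le D _ k.2)) hk1 hko
    exact mul_inv_eq_one.1 h2
  set π := T.act s hsn
  have hπ : UnitaryPerm.IsTorusPerm T.R T.a' T.t π := T.torusPerm hsn hsa hsb hsc
  have hπ2 : π * π = 1 := T.act_mul_self hsn fun p => hs2 p.1 ((C.pts_cent hu p.1).1 p.2)
  have hρ : T.f ⟨τ, hτ.mem⟩ ∈ UnitaryPerm.torus T.R T.a' T.t := by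
    refine UnitaryPerm.mem_torus.2 ⟨⟨Subtype.ext ?_, Subtype.ext ?_⟩, fun x hx => ?_⟩
    · rw [T.f_smul, T.a_eq]; exact hτ.fix_a
    · rw [T.f_smul, T.smul_t]; exact hτ.fix_b
    · obtain ⟨d, hd, hda, rfl⟩ := T.member_of_ii hx
      rw [← map_mul, ← map_mul]
      exact congrArg T.f (Subtype.ext (hτ.comm d hd hda).eq.symm)
  have himg : π * ((T.f ⟨τ, hτ.mem⟩ : T.R) : Equiv.Perm _) * π⁻¹ =
      ((T.f ⟨_, hτ'⟩ : T.R) : Equiv.Perm _) := T.act_conj hsn ⟨τ, hτ.mem⟩
  have hone : π = 1 → s * τ * s⁻¹ = τ := fun e => key ⟨τ, hτ.mem⟩ (Or.inl rfl) (Subtype.ext (by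
    rw [← himg, e, one_mul, inv_one, mul_one]))
  refine ⟨?_, fun hfix => hone ((T.act_eq_one hsn).2 fun p => hfix p.1 ((C.pts_cent hu p.1).1 p.2))⟩
  by_cases hπ1 : π = 1
  · exact Or.inl (hone hπ1)
  · refine Or.inr (key ⟨τ, hτ.mem⟩⁻¹ (Or.inr rfl) (Subtype.ext ?_))
    rw [← himg, UnitaryPerm.inverts T.setup T.two T.cube hπ hπ2 hπ1 hρ, map_inv]
    rfl

theorem mem_normalizer_tau {s : G} (hsu : Commute s u) (hsa : s • a = a) (hsb : s • b = b)
    (hsc : ∀ d ∈ D, pt d = a → Commute s d) (hs2 : ∀ p : Ω, u • p = p → (s * s) • p = p) :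
    s ∈ Subgroup.normalizer (cent τ : Set G) :=
  mem_normalizer_cent (C.conj_tau hu hab ha hb hτ hsu hsa hsb hsc hs2).1

theorem u_mem_normalizer : u ∈ Subgroup.normalizer (cent τ : Set G) :=
  Subgroup.le_normalizer (mem_cent.2 hτ.commute.symm)

/-- The action of `u` on the fixed points of `τ`. -/
theorem act_u (T : Frame C.ch (cent τ) a b) :
    UnitaryPerm.IsTorusPerm T.R T.a' T.t (T.act u (C.u_mem_normalizer hu hab ha hb hτ)) ∧
      T.act u (C.u_mem_normalizer hu hab ha hb hτ) * T.act u (C.u_mem_normalizer hu hab ha hb hτ) = 1 ∧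
      T.act u (C.u_mem_normalizer hu hab ha hb hτ) ≠ 1 := by
  refine ⟨T.torusPerm _ ha hb fun d hd hda => C.ch.cent u hu d hd (by rw [hda, ha]),
    T.act_mul_self _ fun p => by rw [mul_self hu.1, one_smul], fun e => ?_⟩
  refine C.not_fix_tau hu hab ha hb hτ fun p hp => ?_
  exact (T.act_eq_one _).1 e ⟨p, (C.pts_tau hu hab ha hb hτ p).2 hp⟩

omit τ hτ in
/-- No second involution commutes with `u` and has its fixed points. -/
theorem eq_of_fix_inv {k : G} (hk2 : k * k = 1) (hk1 : k ≠ 1) (hku : Commute k u)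
    (hfix : ∀ p : Ω, u • p = p → k • p = p) : k = u := by
  obtain ⟨τ, hτ⟩ := C.exists_tau hu hab ha hb
  have hkc : ∀ d ∈ D, pt d = a → Commute k d := fun d hd hda =>
    C.commute_of_fix_all hu hfix hd (by rw [hda, ha])
  have hka := hfix a ha
  have hkb := hfix b hb
  have h1 := (C.conj_tau hu hab ha hb hτ hku hka hkb hkc fun p _ => by rw [hk2, one_smul]).2 hfix
  have hkn : k ∈ Subgroup.normalizer (cent τ : Set G) := mem_normalizer_cent (Or.inl h1)
  obtain ⟨T⟩ := C.frame_tau hu hab ha hb hτ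
  obtain ⟨hπu, hu2', hu1'⟩ := C.act_u hu hab ha hb hτ T
  have hπk : UnitaryPerm.IsTorusPerm T.R T.a' T.t (T.act k hkn) := T.torusPerm _ hka hkb hkc
  by_cases hk1' : T.act k hkn = 1
  · exact absurd (C.eq_one_of_fix_both hu hab ha hb hτ hk2 hfix fun p hp =>
      (T.act_eq_one hkn).1 hk1' ⟨p, (C.pts_tau hu hab ha hb hτ p).2 hp⟩) hk1
  have hc : Commute (T.act k hkn) (T.act u (C.u_mem_normalizer hu hab ha hb hτ)) :=
    (T.act_mul hkn _).symm.trans (by
      rw [← T.act_mul]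
      exact Equiv.ext fun p => Subtype.ext (by rw [T.act_apply, T.act_apply, hku.eq]))
  have he := UnitaryPerm.eq_of_commute T.setup T.two T.cube hπk
    (T.act_mul_self hkn fun p => by rw [hk2, one_smul]) hk1' hπu hu2' hu1' hc
  have h2 : k * u = 1 := by
    refine C.eq_one_of_fix_both hu hab ha hb hτ ?_ (fun p hp => by rw [mul_smul, hp, hfix p hp])
      fun p hp => ?_
    · rw [mul_assoc, ← mul_assoc u, ← hku.eq, mul_assoc k u, mul_self hu.1, mul_one, hk2]
    · have h3 : k • p = u • p := congrArg Subtype.val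
        (Equiv.congr_fun he ⟨p, (C.pts_tau hu hab ha hb hτ p).2 hp⟩)
      rw [mul_smul, ← smul_left_cancel_iff k, ← mul_smul k k, hk2, one_smul, h3]
  rw [eq_inv_of_mul_eq_one_left h2, inv_eq hu.1]

omit τ hτ in
/-- No element fixing `a`, `b` and centralising `E_a` squares to `u`. -/
theorem sq_ne_aux {s : G} (hsa : s • a = a) (hsb : s • b = b)
    (hsc : ∀ d ∈ D, pt d = a → Commute s d) : s * s ≠ u := by
  intro hs
  obtain ⟨τ, hτ⟩ := C.exists_tau hu hab ha hb
  have hsu : Commute s u := by rw [← hs]; exact (Commute.refl s).mul_right (Commute.refl s)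
  have hsn := C.mem_normalizer_tau hu hab ha hb hτ hsu hsa hsb hsc fun p hp => by rw [hs, hp]
  obtain ⟨T⟩ := C.frame_tau hu hab ha hb hτ
  obtain ⟨hπu, hu2', hu1'⟩ := C.act_u hu hab ha hb hτ T
  refine UnitaryPerm.false_of_sqrt T.setup T.two T.cube hπu hu2' hu1' (T.torusPerm hsn hsa hsb hsc) ?_
  rw [← T.act_mul]
  exact Equiv.ext fun p => Subtype.ext (by rw [T.act_apply, T.act_apply, hs])

omit hu hab ha hb τ hτ in
/-- No element fixing `a` and centralising `E_a` squares to an involution fixing two points. -/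
theorem sq_ne {w : G} (hw : IsFixInv Ω w) {s : G} (hsa : s • a = a)
    (hsc : ∀ d ∈ D, pt d = a → Commute s d) : s * s ≠ w := by
  classical
  intro hs
  have P := C.ch.fin.pc
  have hsw : Commute s w := by rw [← hs]; exact (Commute.refl s).mul_right (Commute.refl s)
  have hwa : w • a = a := by rw [← hs, mul_smul, hsa, hsa]
  obtain ⟨-, c, d, hcd, hc, hd⟩ := id hw
  obtain ⟨z, hz, hza⟩ : ∃ z, w • z = z ∧ z ≠ a := by
    by_cases h : c = a
    · exact ⟨d, hd, fun e => hcd (h.trans e.symm)⟩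
    · exact ⟨c, hc, h⟩
  by_cases hsz : s • z = z
  · exact C.sq_ne_aux hw hza.symm hwa hz hsa hsz hsc hs
  -- the swappers of `z` and `s • z`
  have hss : s • s • z = z := by rw [← mul_smul, hs, hz]
  have hwz : w • (s • z) = s • z := by rw [← mul_smul, ← hsw.eq, mul_smul, hz]
  let W := {t : G // t ∈ D ∧ t • z = s • z}
  have hWw : ∀ t : W, Commute t.1 w := fun t => by
    obtain ⟨e, he, hez⟩ := P.exists_at z
    have hew : Commute w e := C.ch.cent w hw e he (by rw [hez, hz])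
    have hte : Commute w (t.1 * e * t.1⁻¹) :=
      C.ch.cent w hw _ (P.conj_mem _ _ he) (by rw [P.pt_conj _ he, hez, t.2.2, hwz])
    have h1 := P.mid_unique he t.2.1 (P.conj_mem w _ t.2.1) (by rw [hez, t.2.2]; exact hsz) (by
      calc t.1 * e * t.1⁻¹ = w * (t.1 * e * t.1⁻¹) * w⁻¹ := by rw [hte.eq, mul_inv_cancel_right]
        _ = w * t.1 * (w⁻¹ * e * w) * t.1⁻¹ * w⁻¹ := by
            rw [show w⁻¹ * e * w = e by rw [mul_assoc, ← hew.eq, inv_mul_cancel_left]]; group
        _ = _ := by group)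
    exact (mul_inv_eq_iff_eq_mul.1 h1.symm).symm
  have hmap : ∀ t : W, s * t.1 * s⁻¹ ∈ D ∧ (s * t.1 * s⁻¹) • z = s • z := fun t => by
    refine ⟨P.conj_mem s _ t.2.1, ?_⟩
    rw [mul_smul, mul_smul, show s⁻¹ • z = s • z by rw [inv_smul_eq_iff, hss]]
    have : t.1 • (s • z) = z :=
      (congrArg (t.1 • ·) t.2.2.symm).trans (P.smul_smul_self t.2.1 z)
    rw [this]
  have hodd : Odd (Nat.card W) := by
    rw [show Nat.card W = _ from P.card_swap (Ne.symm hsz)]
    exact P.odd_card _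
  obtain ⟨t, ht⟩ := Bender.exists_fixed_of_odd hodd (fun t : W => (⟨_, hmap t⟩ : W)) fun t => Subtype.ext (by
    show s * (s * t.1 * s⁻¹) * s⁻¹ = t.1
    rw [show s * (s * t.1 * s⁻¹) * s⁻¹ = (s * s) * t.1 * (s * s)⁻¹ by group, hs, (hWw t).symm.eq,
      mul_inv_cancel_right])
  obtain ⟨t, htD, htz⟩ := t
  have hst : Commute s t := mul_inv_eq_iff_eq_mul.1 (congrArg Subtype.val ht)
  by_cases hta : pt t = a
  · have htc : ∀ f ∈ D, pt f = a → Commute (s * t) f := fun f hf hfa =>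
      (hsc f hf hfa).mul_left (C.ch.fin.comm t htD f hf (hta.trans hfa.symm))
    refine C.sq_ne_aux hw hza.symm hwa hz (s := s * t)
      (by rw [mul_smul, show t • a = a from hta ▸ P.smul_pt htD, hsa])
      (by rw [mul_smul, htz, hss]) htc ?_
    rw [mul_assoc, ← mul_assoc t, ← hst.eq, mul_assoc s t, mul_self (P.inv t htD), mul_one, hs]
  · exact C.sq_ne_aux hw (Ne.symm hta) hwa (P.commute_fix htD (hWw ⟨t, htD, htz⟩).symm) hsa
      (P.commute_fix htD hst) hsc hs

omit τ hτ in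
/-- Only `1` and `u` commute with `u` and fix its fixed points. -/
theorem eq_one_or_eq {g : G} (hgu : Commute g u) (hfix : ∀ p : Ω, u • p = p → g • p = p) :
    g = 1 ∨ g = u := by
  have hpow : ∀ n : ℕ, Commute (g ^ n) u ∧ ∀ p : Ω, u • p = p → g ^ n • p = p := fun n =>
    ⟨hgu.pow_left n, fun p hp => by
      induction n with
      | zero => simp
      | succ n ih => rw [pow_succ, mul_smul, hfix p hp, ih]⟩
  obtain ⟨m, o, ho, hn⟩ := Nat.exists_eq_two_pow_mul_odd (orderOf_pos g).ne'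
  have h1 : g ^ 2 ^ m = 1 := by
    refine C.eq_one_of_odd hu (hpow _).1 (hpow _).2 (ho.of_dvd_nat (orderOf_dvd_of_pow_eq_one ?_))
    rw [← pow_mul, ← hn, pow_orderOf_eq_one]
  have h2 : ∀ n : ℕ, g ^ n * g ^ n = 1 → g ^ n = 1 ∨ g ^ n = u := fun n hn2 =>
    or_iff_not_imp_left.2 fun hne => C.eq_of_fix_inv hu hab ha hb hn2 hne (hpow n).1 (hpow n).2
  obtain ⟨k, -, hk⟩ := (Nat.dvd_prime_pow Nat.prime_two).1 (orderOf_dvd_of_pow_eq_one h1)
  rcases k with _ | _ | k
  · exact Or.inl (orderOf_eq_one_iff.1 (by rw [hk, pow_zero]))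
  · exact Or.inr ((h2 1 (by rw [← pow_add, show 1 + 1 = orderOf g by rw [hk]; norm_num,
      pow_orderOf_eq_one])).elim
      (fun e => by
        rw [pow_one] at e
        rw [e, orderOf_one] at hk
        norm_num at hk)
      (fun e => (pow_one g).symm.trans e))
  · exfalso
    have hy : g ^ 2 ^ (k + 1) = u := by
      refine (h2 _ (by rw [← pow_add, ← two_mul, ← pow_succ', ← hk, pow_orderOf_eq_one])).resolve_left
        fun e => ?_
      have hd := orderOf_dvd_of_pow_eq_one e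
      rw [hk, Nat.pow_dvd_pow_iff_le_right (by norm_num)] at hd
      omega
    refine C.sq_ne (a := a) hu (s := g ^ 2 ^ k) ((hpow _).2 a ha)
      (fun d hd hda => C.commute_of_fix_all hu (hpow _).2 hd (by rw [hda, ha])) ?_
    rw [← pow_add, ← two_mul, ← pow_succ', hy]

end CubeHyp

end Cfsg.Agent.Aschbacher
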