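/-
The unitary case of the finish of the core-free criterion: no involution fixes `q ^ 3 + 1` points
(owner: helper40).

For `u` fixing `a`, `b` and `τ` in its torus, the elements `x` of `<D ∩ C(τ)>` inverted by `u` with
square in `E_a` normalise the group `Γ` of `C(u)` inducing `Q` on `Fix u` and centralise the deltas
of `τ` in it.  So for `g, g'` commuting deltas and `x, x'` with the same squares `g x` and `g' x'`
are commuting involutions, and share two fixed points: impossible.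

* `CubeHyp.false_of_pair` : the final argument
* `CubeHyp.false`, `FinishHyp.false_of_unitary` : the result
-/
import Cfsg.Agent.Lib.Aschbacher.CriterionUnitaryTau
import Cfsg.Agent.Lib.Aschbacher.CriterionCentral

set_option autoImplicit false
set_option linter.style.haveILetI false
set_option linter.unusedSectionVars false

namespace Cfsg.Agent.Aschbacher

open Cfsg Involution MulAction Cfsg.Agent.RankOne Cfsg.Agent.RankOne.Setup Cfsg.Agent.SuzukiRankOne

universe u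

variable {G : Type u} {Ω : Type u} [Group G] [MulAction G Ω] [Finite G] [Finite Ω]
  [FaithfulSMul G Ω] {D : Set G} {pt : G → Ω}

namespace CubeHyp

variable (C : CubeHyp G Ω D pt) {u : G} {a b : Ω}

/-- The elements commuting with `u` that induce `Q` on its fixed points. -/
def kerGroup (T : Frame C.ch (cent u) a b) : Subgroup G where
  carrier := {g | Commute g u ∧ ∀ hn : g ∈ Subgroup.normalizer (cent u : Set G),
    ∃ x ∈ T.Q, T.act g hn = ((x : T.R) : Equiv.Perm (PtSet D pt (cent u)))}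
  one_mem' := ⟨Commute.one_left u, fun _ => ⟨1, one_mem _, Equiv.ext fun p => Subtype.ext (by
    rw [T.act_apply, one_smul]; rfl)⟩⟩
  mul_mem' := fun {g g'} hg hg' => ⟨hg.1.mul_left hg'.1, fun _ => by
    obtain ⟨x, hx, ex⟩ := hg.2 (Subgroup.le_normalizer (mem_cent.2 hg.1))
    obtain ⟨x', hx', ex'⟩ := hg'.2 (Subgroup.le_normalizer (mem_cent.2 hg'.1))
    exact ⟨x * x', mul_mem hx hx', by rw [Subgroup.coe_mul, ← ex, ← ex', ← T.act_mul]⟩⟩
  inv_mem' := fun {g} hg => ⟨hg.1.inv_left, fun hn => by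
    obtain ⟨x, hx, ex⟩ := hg.2 (Subgroup.le_normalizer (mem_cent.2 hg.1))
    refine ⟨x⁻¹, inv_mem hx, ?_⟩
    rw [Subgroup.coe_inv, ← ex, eq_inv_iff_mul_eq_one, ← T.act_mul, T.act_eq_one]
    intro p
    rw [inv_mul_cancel, one_smul]⟩

variable (hu : IsFixInv Ω u) (hab : a ≠ b) (ha : u • a = a) (hb : u • b = b)
  (T : Frame C.ch (cent u) a b)
include C hu hab ha hb

omit hu hab ha hb in
theorem exists_image {g : G} (hg : g ∈ C.kerGroup T) :
    ∃ x ∈ T.Q, ∀ p : PtSet D pt (cent u), ((x • p : PtSet D pt (cent u)) : Ω) = g • p.1 := by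
  obtain ⟨x, hx, ex⟩ := hg.2 (Subgroup.le_normalizer (mem_cent.2 hg.1))
  refine ⟨x, hx, fun p => ?_⟩
  rw [← T.act_apply (Subgroup.le_normalizer (mem_cent.2 hg.1)) p, ex]
  rfl

omit hu hab ha hb in
theorem mem_kerGroup_of_image {k : memSub D (cent u)} (hk : T.f k ∈ T.Q) : (k : G) ∈ C.kerGroup T :=
  ⟨mem_cent.1 (memSub_le D _ k.2), fun hn => ⟨_, hk, (T.f_coe k hn).symm⟩⟩

theorem eq_of_same_image {g g' : G} (hg : Commute g u) (hg' : Commute g' u)
    (he : ∀ p : PtSet D pt (cent u), g • p.1 = g' • p.1) : g = g' ∨ g = g' * u := by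
  rcases C.eq_one_or_eq hu hab ha hb (hg'.inv_left.mul_left hg) (fun p hp => by
    rw [mul_smul, he ⟨p, (C.pts_cent hu p).2 hp⟩, inv_smul_smul]) with e | e
  · exact Or.inl (inv_mul_eq_one.1 e).symm
  · exact Or.inr (inv_mul_eq_iff_eq_mul.1 e)

omit hu hab ha hb in
theorem fix_a_of_mem {g : G} (hg : g ∈ C.kerGroup T) : g • a = a := by
  obtain ⟨x, hx, e⟩ := C.exists_image T hg
  rw [← T.a_eq, ← e, mem_stabilizer_iff.1 (T.setup.le hx)]

theorem comm_of_mem {g : G} (hg : g ∈ C.kerGroup T) {d : G} (hd : d ∈ D) (hda : pt d = a) :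
    Commute g d := by
  have P := C.ch.fin.pc
  obtain ⟨x, hx, ex⟩ := hg.2 (Subgroup.le_normalizer (mem_cent.2 hg.1))
  obtain ⟨k, rfl⟩ := T.f_surj x
  obtain ⟨hka, hkd⟩ := T.commute_of_mem_Q hx hd hda
  have hga := C.fix_a_of_mem T hg
  refine mul_inv_eq_iff_eq_mul.1 (C.ch.fin.eq_of_smul_eq (P.conj_mem g d hd) hd
    (by rw [P.pt_conj g hd, hda, hga]) (c := b) (by rw [P.pt_conj g hd, hda, hga]; exact hab.symm) ?_)
  -- `g` and `k` agree on the fixed points of `u`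
  have hagree : ∀ p : Ω, u • p = p → g • p = (k : G) • p := fun p hp => by
    rw [← T.act_apply (Subgroup.le_normalizer (mem_cent.2 hg.1)) ⟨p, (C.pts_cent hu p).2 hp⟩, ex,
      T.f_apply]
  have hkb : u • ((k : G)⁻¹ • b) = (k : G)⁻¹ • b := by
    rw [← mul_smul, ← ((mem_cent.1 (memSub_le D _ k.2)).inv_left).eq, mul_smul, hb]
  have hgb : g⁻¹ • b = (k : G)⁻¹ • b := by
    rw [inv_smul_eq_iff, hagree _ hkb, smul_inv_smul]
  have hdb : u • (d • (k : G)⁻¹ • b) = d • (k : G)⁻¹ • b := by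
    rw [← mul_smul, (C.ch.cent u hu d hd (by rw [hda, ha])).eq, mul_smul, hkb]
  calc (g * d * g⁻¹) • b = g • d • (k : G)⁻¹ • b := by rw [mul_smul, mul_smul, hgb]
    _ = (k : G) • d • (k : G)⁻¹ • b := hagree _ hdb
    _ = ((k : G) * d * (k : G)⁻¹) • b := by rw [mul_smul, mul_smul]
    _ = d • b := by rw [hkd.eq, mul_inv_cancel_right]

theorem mem_E_commute {e : G} (he : e ∈ atPoint D pt a) :
    e ∈ C.kerGroup T ∧ Commute e u ∧ e • a = a := by
  rcases C.ch.fin.mem_E.1 he with rfl | ⟨hd, hda⟩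
  · exact ⟨one_mem _, Commute.one_left u, one_smul G a⟩
  have hdu := (C.ch.cent u hu e hd (by rw [hda, ha])).symm
  have hea : e • a = a := hda ▸ C.ch.fin.pc.smul_pt hd
  refine ⟨C.mem_kerGroup_of_image T (k := ⟨e, Subgroup.subset_closure ⟨hd, T.full e hd hda⟩⟩) ?_,
    hdu, hea⟩
  refine UnitaryPerm.mem_Q_of_two T.setup (Subtype.ext ?_) (m := 1) ?_
  · rw [T.f_smul, T.a_eq, hea]
  · rw [pow_one, pow_two, ← map_mul, ← map_one T.f]
    exact congrArg T.f (Subtype.ext (mul_self (C.ch.fin.pc.inv e hd)))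

theorem u_mem : u ∈ C.kerGroup T :=
  ⟨Commute.refl u, fun hn => ⟨1, one_mem _, (T.act_eq_one hn).2 fun p => (C.pts_cent hu p.1).1 p.2⟩⟩

theorem commute_E_of_mem {g : G} (hg : g ∈ C.kerGroup T) {e : G} (he : e ∈ atPoint D pt a) :
    Commute g e := by
  rcases C.ch.fin.mem_E.1 he with rfl | ⟨hd, hda⟩
  · exact Commute.one_right g
  · exact C.comm_of_mem hu hab ha hb T hg hd hda

theorem eq_of_sq_one {g : G} (hg : g ∈ C.kerGroup T) (h2 : g * g = 1) :
    ∃ e ∈ atPoint D pt a, g = e ∨ g = e * u := by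
  obtain ⟨x, hx, e⟩ := C.exists_image T hg
  have hx2 : x * x = 1 := Subtype.ext (Equiv.ext fun p => Subtype.ext (by
    show ((x • x • p : PtSet D pt (cent u)) : Ω) = p.1
    rw [e, e, ← mul_smul, h2, one_smul]))
  obtain ⟨k, hk, hkx⟩ := T.exists_E hx hx2
  exact ⟨k, hk, C.eq_of_same_image hu hab ha hb hg.1 (mem_cent.1 (memSub_le D _ k.2)) fun p => by
    rw [← e, ← hkx, T.f_smul]⟩

/-- The squares in `Γ` lie in `E_a`. -/
theorem sq_mem {g : G} (hg : g ∈ C.kerGroup T) : g * g ∈ atPoint D pt a := by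
  set k := g * g with hk
  have hkm : k ∈ C.kerGroup T := mul_mem hg hg
  obtain ⟨x, hx, e⟩ := C.exists_image T hg
  have hx4 := (SetupU3.kernel_facts T.setup T.two T.cube hx).1
  have hk2 : k * k = 1 := by
    have h1 := C.eq_one_or_eq hu hab ha hb (hkm.1.mul_left hkm.1) fun p hp => by
      have h2 := congrArg (fun y : T.R =>
        ((y • (⟨p, (C.pts_cent hu p).2 hp⟩ : PtSet D pt (cent u)) : PtSet D pt (cent u)) : Ω)) hx4
      simp only [mul_smul, one_smul, e] at h2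
      rw [hk, mul_smul, mul_smul, mul_smul]
      exact h2
    exact h1.resolve_right (C.sq_ne hu (C.fix_a_of_mem T hkm)
      fun d hd hda => C.comm_of_mem hu hab ha hb T hkm hd hda)
  obtain ⟨e', he', h1 | h1⟩ := C.eq_of_sq_one hu hab ha hb T hkm hk2
  · rw [h1]; exact he'
  · exfalso
    have hw : IsFixInv Ω (e' * u) := by
      rcases C.ch.fin.mem_E.1 he' with rfl | ⟨hd, hda⟩
      · rwa [one_mul]
      · have hdu := (C.ch.cent u hu e' hd (by rw [hda, ha])).symm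
        rw [hdu.eq]
        exact (C.ch.isFixInv_mul hu hd hdu).1
    exact C.sq_ne hw (C.fix_a_of_mem T hg) (fun d hd hda => C.comm_of_mem hu hab ha hb T hg hd hda) h1

omit T
variable {τ : G} (hτ : IsTau D pt u a b τ)
include hτ

/-- No involution of `<D ∩ C(τ)>` fixes the fixed points of `τ`. -/
theorem eq_one_of_ker {k : G} (hk : k ∈ memSub D (cent τ)) (hk2 : k * k = 1)
    (hfix : ∀ p : Ω, τ • p = p → k • p = p) : k = 1 := by
  have main : ∀ k : G, k ∈ memSub D (cent τ) → k * k = 1 → (∀ p : Ω, τ • p = p → k • p = p) →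
      Commute k u → k = 1 := by
    intro k hk hk2 hfix hku
    by_contra hk1
    have hka := hfix a hτ.fix_a
    have hkb := hfix b hτ.fix_b
    have hkτ : Commute k τ := mem_cent.1 (memSub_le D _ hk)
    have hkc : ∀ d ∈ D, pt d = a → Commute k d := fun d hd hda =>
      (C.ch.cent k ⟨orderOf_of_sq hk2 hk1, a, b, hab, hka, hkb⟩ d hd (by rw [hda, hka]))
    obtain ⟨T⟩ := C.frame_fix hu hab ha hb
    have hkn : k ∈ Subgroup.normalizer (cent u : Set G) := Subgroup.le_normalizer (mem_cent.2 hku)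
    have hρ : T.f ⟨τ, hτ.mem⟩ ∈ UnitaryPerm.torus T.R T.a' T.t := by
      refine UnitaryPerm.mem_torus.2 ⟨⟨Subtype.ext ?_, Subtype.ext ?_⟩, fun x hx => ?_⟩
      · rw [T.f_smul, T.a_eq]; exact hτ.fix_a
      · rw [T.f_smul, T.smul_t]; exact hτ.fix_b
      · obtain ⟨d, hd, hda, rfl⟩ := T.member_of_ii hx
        rw [← map_mul, ← map_mul]
        exact congrArg T.f (Subtype.ext (hτ.comm d hd hda).eq.symm)
    have hρ1 : T.f ⟨τ, hτ.mem⟩ ≠ 1 := fun e => by
      obtain ⟨p, hp, hpτ⟩ := hτ.moves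
      have := T.f_smul ⟨τ, hτ.mem⟩ ⟨p, (C.pts_cent hu p).2 hp⟩
      rw [e, one_smul] at this
      exact hpτ this.symm
    have hπ1 := UnitaryPerm.eq_one_of_commute T.setup T.two T.cube (T.torusPerm hkn hka hkb hkc)
      (T.act_mul_self hkn fun p => by rw [hk2, one_smul]) hρ hρ1 (Equiv.ext fun p => Subtype.ext (by
        rw [Equiv.Perm.mul_apply, Equiv.Perm.mul_apply, T.act_apply, T.f_apply, T.f_apply,
          T.act_apply, ← mul_smul, hkτ.eq, mul_smul]))
    exact hk1 (C.eq_one_of_fix_both hu hab ha hb hτ hk2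
      (fun p hp => (T.act_eq_one hkn).1 hπ1 ⟨p, (C.pts_cent hu p).2 hp⟩) hfix)
  -- `k` commutes with `u * k * u`
  have hu2 := mul_self hu.1
  set k' := u * k * u⁻¹ with hk'
  have hk'm : k' ∈ memSub D (cent τ) :=
    conj_mem_memSub C.ch.fin.pc.conj_mem (C.u_mem_normalizer hu hab ha hb hτ) hk
  have hτfix : ∀ p : Ω, τ • p = p → τ • (u • p) = u • p := fun p hp => by
    rw [← mul_smul, hτ.commute.eq, mul_smul, hp]
  have hk'fix : ∀ p : Ω, τ • p = p → k' • p = p := fun p hp => by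
    rw [hk', mul_smul, mul_smul, inv_eq hu.1, hfix _ (hτfix p hp), ← mul_smul, hu2, one_smul]
  have hk'τ : ∀ p : Ω, (∃ d ∈ D, d ∈ cent τ ∧ pt d = p) → k' • p = p := fun p hp =>
    hk'fix p ((C.pts_tau hu hab ha hb hτ p).1 hp)
  have hk'c : ∀ d : G, d ∈ D ∧ d ∈ cent τ → Commute k' d := fun d hd => by
    have hpd := hk'τ (pt d) ⟨d, hd.1, hd.2, rfl⟩
    obtain ⟨c, hc, hcd⟩ : ∃ c, τ • c = c ∧ c ≠ pt d := by
      by_cases h : a = pt d
      · exact ⟨b, hτ.fix_b, fun e => hab (h.trans e.symm)⟩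
      · exact ⟨a, hτ.fix_a, h⟩
    refine mul_inv_eq_iff_eq_mul.1 (C.ch.fin.eq_of_smul_eq (C.ch.fin.pc.conj_mem k' d hd.1) hd.1
      (by rw [C.ch.fin.pc.pt_conj k' hd.1, hpd]) (c := c)
      (by rw [C.ch.fin.pc.pt_conj k' hd.1, hpd]; exact hcd) ?_)
    rw [mul_smul, mul_smul, inv_smul_eq_iff.2 (hk'fix c hc).symm, hk'fix]
    rw [← mul_smul, ← (mem_cent.1 hd.2).eq, mul_smul, hc]
  have hkk : Commute k k' := mem_cent.1 (((Subgroup.closure_le (cent k')).2 fun d hd =>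
    mem_cent.2 (hk'c d hd).symm) hk)
  have hk'2 : k' * k' = 1 := by
    rw [hk', show u * k * u⁻¹ * (u * k * u⁻¹) = u * (k * k) * u⁻¹ by group, hk2]; group
  have hprod : k * k' = 1 := by
    refine main (k * k') (mul_mem hk hk'm) ?_ (fun p hp => by rw [mul_smul, hk'fix p hp, hfix p hp]) ?_
    · rw [mul_assoc, ← mul_assoc k', ← hkk.eq, mul_assoc k k', hk'2, mul_one, hk2]
    · refine (mul_inv_eq_iff_eq_mul.1 ?_).symm
      calc u * (k * k') * u⁻¹ = (u * k * u⁻¹) * (u * k' * u⁻¹) := by group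
        _ = k' * k := by
            rw [← hk', show u * k' * u⁻¹ = k by
              rw [hk', show u * (u * k * u⁻¹) * u⁻¹ = (u * u) * k * (u * u)⁻¹ by group, hu2]; group]
        _ = k * k' := hkk.eq.symm
  refine main k hk hk2 hfix ?_
  have e : k' = k := (eq_inv_of_mul_eq_one_right hprod).trans (inv_eq_of_mul_eq_one_right hk2)
  exact (mul_inv_eq_iff_eq_mul.1 (hk'.symm.trans e)).symm

theorem eq_one_of_ker_pow {k : G} (hk : k ∈ memSub D (cent τ))
    (hfix : ∀ p : Ω, τ • p = p → k • p = p) {m : ℕ} (hm : k ^ 2 ^ m = 1) : k = 1 := by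
  induction m with
  | zero => simpa using hm
  | succ m ih =>
    refine ih (C.eq_one_of_ker hu hab ha hb hτ (pow_mem hk _) ?_ fun p hp => ?_)
    · rw [← pow_add, ← two_mul, ← pow_succ', hm]
    · exact Subgroup.pow_mem (stabilizer G p) (mem_stabilizer_iff.2 (hfix p hp)) _

/-- Inverted elements with prescribed squares that commute. -/
theorem exists_inverted_pair {e e' : G} (he : e ∈ atPoint D pt a) (he' : e' ∈ atPoint D pt a) :
    ∃ x x' : G, Commute x x' ∧ (∀ y, y = x ∨ y = x' → Commute y τ ∧ y • a = a ∧ u * y * u = y⁻¹ ∧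
      ∀ d ∈ atPoint D pt a, Commute y d) ∧ x * x = e ∧ x' * x' = e' := by
  obtain ⟨T⟩ := C.frame_tau hu hab ha hb hτ
  obtain ⟨hπ, hπ2, hπ1⟩ := C.act_u hu hab ha hb hτ T
  set π := T.act u (C.u_mem_normalizer hu hab ha hb hτ) with hπdef
  have hmem : ∀ d ∈ atPoint D pt a, d ∈ memSub D (cent τ) := fun d hd => by
    rcases C.ch.fin.mem_E.1 hd with rfl | ⟨hd', hda⟩
    · exact one_mem _
    · exact Subgroup.subset_closure ⟨hd', T.full d hd' hda⟩
  have single : ∀ e ∈ atPoint D pt a, ∃ (x : memSub D (cent τ)) (y : T.Q),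
      T.f x = ((y⁻¹ * UnitaryPerm.conjQ T.setup T.two T.cube hπ y : T.Q) : T.R) ∧
      (x : G) ^ 4 = 1 ∧ u * (x : G) * u = (x : G)⁻¹ ∧ (x : G) * (x : G) = e ∧ (x : G) • a = a ∧
      ∀ d ∈ atPoint D pt a, Commute (x : G) d := by
    intro e he
    have hea : e • a = a := by
      rcases C.ch.fin.mem_E.1 he with rfl | ⟨hd, hda⟩
      · exact one_smul G a
      · exact hda ▸ C.ch.fin.pc.smul_pt hd
    set ê : memSub D (cent τ) := ⟨e, hmem e he⟩ with hê
    have hfe : T.f ê • T.a' = T.a' := Subtype.ext (by rw [T.f_smul, T.a_eq, hea])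
    have hfe2 : T.f ê * T.f ê = 1 := by
      rw [← map_mul, ← map_one T.f]; exact congrArg T.f (Subtype.ext (C.ch.fin.sq_E he))
    obtain ⟨d, hd2, -, y, hy⟩ := UnitaryPerm.exists_delta T.setup T.two T.cube hπ hπ2 hπ1 hfe hfe2
    obtain ⟨g, hg⟩ := T.f_surj (y : T.R)
    have hun := C.u_mem_normalizer hu hab ha hb hτ
    obtain ⟨x₀, hx₀⟩ : ∃ x : memSub D (cent τ),
      x = g⁻¹ * ⟨u * g * u⁻¹, conj_mem_memSub C.ch.fin.pc.conj_mem hun g.2⟩ := ⟨_, rfl⟩
    have hfx₀ : T.f x₀ = (d : T.R) := by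
      rw [hx₀, map_mul, map_inv, hg, hy]
      refine Subtype.ext ?_
      show ((y : T.R) : Equiv.Perm _)⁻¹ *
          ((T.f ⟨u * g * u⁻¹, conj_mem_memSub C.ch.fin.pc.conj_mem hun g.2⟩ : T.R) : Equiv.Perm _) =
        ((y : T.R) : Equiv.Perm _)⁻¹ * (π * ((y : T.R) : Equiv.Perm _) * π⁻¹)
      rw [← T.act_conj hun g, hg]
    have hux₀ : u * (x₀ : G) * u = (x₀ : G)⁻¹ := by
      rw [hx₀]
      show u * ((g : G)⁻¹ * (u * g * u⁻¹)) * u = ((g : G)⁻¹ * (u * g * u⁻¹))⁻¹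
      rw [mul_inv_rev, inv_inv, show u * ((g : G)⁻¹ * (u * g * u⁻¹)) * u = u * (g : G)⁻¹ * u * g by group]
      rw [show (u * (g : G) * u⁻¹)⁻¹ * (g : G) = u * (g : G)⁻¹ * u⁻¹ * g by group, inv_eq hu.1]
    have hd4 := (SetupU3.kernel_facts T.setup T.two T.cube d.2).1
    have hdd : T.f (x₀ * x₀ * (x₀ * x₀)) = 1 := by simp only [map_mul, hfx₀]; exact hd4
    set k := x₀ * x₀ * (x₀ * x₀) with hk
    have hkfix : ∀ p : Ω, τ • p = p → (k : G) • p = p := fun p hp => by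
      have := T.f_smul k ⟨p, (C.pts_tau hu hab ha hb hτ p).2 hp⟩
      rw [hdd, one_smul] at this
      exact this.symm
    obtain ⟨m, o, ho, hord⟩ := Nat.exists_eq_two_pow_mul_odd (orderOf_pos (k : G)).ne'
    have hko : (k : G) ^ o = 1 :=
      C.eq_one_of_ker_pow hu hab ha hb hτ (pow_mem k.2 o)
        (fun p hp => Subgroup.pow_mem (stabilizer G p) (mem_stabilizer_iff.2 (hkfix p hp)) _) (m := m)
        (by rw [← pow_mul, mul_comm, ← hord, pow_orderOf_eq_one])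
    have hoo : ∃ i, o * o = 4 * i + 1 := by
      obtain ⟨i, rfl⟩ := ho
      exact ⟨i * i + i, by ring⟩
    obtain ⟨i, hi⟩ := hoo
    have hx4k : (x₀ : G) ^ 4 = (k : G) := by
      simp only [hk, Subgroup.coe_mul, pow_succ, pow_zero, one_mul, mul_assoc]
    refine ⟨x₀ ^ (o * o), y, ?_, ?_, ?_, ?_, ?_, ?_⟩
    · rw [← hy, map_pow, hfx₀, hi, pow_succ, pow_mul, show (d : T.R) ^ 4 = (d : T.R) * d * (d * d) by
        rw [pow_succ, pow_succ, pow_two]; group, hd4, one_pow, one_mul]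
    · rw [Subgroup.coe_pow, ← pow_mul, show o * o * 4 = 4 * o * o by ring, pow_mul, pow_mul]
      rw [hx4k, hko, one_pow]
    · rw [Subgroup.coe_pow, ← inv_pow, ← hux₀]
      have : u * (x₀ : G) * u = u * (x₀ : G) * u⁻¹ := by rw [inv_eq hu.1]
      rw [this, conj_pow, inv_eq hu.1]
    all_goals
      have hfx : T.f (x₀ ^ (o * o)) = (d : T.R) := by
        rw [map_pow, hfx₀, hi, pow_succ, pow_mul, show (d : T.R) ^ 4 = (d : T.R) * d * (d * d) by
          rw [pow_succ, pow_succ, pow_two]; group, hd4, one_pow, one_mul]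
      have hfQ : T.f (x₀ ^ (o * o)) ∈ T.Q := by rw [hfx]; exact d.2
    · set x := x₀ ^ (o * o) with hx
      have hxe : Commute (x : G) e := by
        rcases C.ch.fin.mem_E.1 he with rfl | ⟨hd', hda⟩
        · exact Commute.one_right _
        · exact (T.commute_of_mem_Q hfQ hd' hda).2
      have h4 : (x : G) ^ 4 = 1 := by
        rw [hx, Subgroup.coe_pow, ← pow_mul, show o * o * 4 = 4 * o * o by ring, pow_mul, pow_mul]
        rw [hx4k, hko, one_pow]
      have hz : (x : G) * x * e = 1 := by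
        refine C.eq_one_of_ker hu hab ha hb hτ (mul_mem (mul_mem x.2 x.2) (hmem e he)) ?_ fun p hp => ?_
        · calc (x : G) * x * e * ((x : G) * x * e) = (x : G) * x * (e * ((x : G) * x)) * e := by group
            _ = (x : G) * x * (((x : G) * x) * e) * e := by rw [(hxe.mul_left hxe).eq]
            _ = (x : G) ^ 4 * (e * e) := by rw [pow_succ, pow_succ, pow_two]; group
            _ = 1 := by rw [h4, C.ch.fin.sq_E he, one_mul]
        · have := T.f_smul (x * x * ê) ⟨p, (C.pts_tau hu hab ha hb hτ p).2 hp⟩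
          rw [map_mul, map_mul, hfx, hd2, hfe2, one_smul] at this
          exact this.symm
      rw [eq_inv_of_mul_eq_one_left hz]
      exact inv_eq_of_mul_eq_one_right (C.ch.fin.sq_E he)
    · rw [← T.a_eq, ← T.f_smul, mem_stabilizer_iff.1 (T.setup.le hfQ)]
    · intro d' hd'
      rcases C.ch.fin.mem_E.1 hd' with rfl | ⟨hd'', hda⟩
      · exact Commute.one_right _
      · exact (T.commute_of_mem_Q hfQ hd'' hda).2
  obtain ⟨x, y, hfx, hx4, hux, hxe, hxa, hxc⟩ := single e he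
  obtain ⟨x', y', hfx', hx4', hux', hxe', hxa', hxc'⟩ := single e' he'
  refine ⟨x, x', ?_, ?_, hxe, hxe'⟩
  · set c := x * x' * x⁻¹ * x'⁻¹ with hc
    have hfc : T.f c = 1 := by
      rw [hc, map_mul, map_mul, map_mul, map_inv, map_inv, hfx, hfx', ← Subgroup.coe_inv,
        ← Subgroup.coe_inv, ← Subgroup.coe_mul, ← Subgroup.coe_mul, ← Subgroup.coe_mul,
        (UnitaryKernel.commute_delta (UnitaryPerm.special T.setup T.two T.cube)
          (UnitaryPerm.conjQ_invol T.setup T.two T.cube hπ hπ2)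
          (UnitaryPerm.conjQ_sq T.setup T.two T.cube hπ) y y').eq, mul_inv_cancel_right, mul_inv_cancel]
      rfl
    have hcfix : ∀ p : Ω, τ • p = p → (c : G) • p = p := fun p hp => by
      have := T.f_smul c ⟨p, (C.pts_tau hu hab ha hb hτ p).2 hp⟩
      rw [hfc, one_smul] at this
      exact this.symm
    have hcc : ∀ d : G, d ∈ D ∧ d ∈ cent τ → Commute (c : G) d := fun d hd => by
      have hpd := hcfix (pt d) ((C.pts_tau hu hab ha hb hτ _).1 ⟨d, hd.1, hd.2, rfl⟩)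
      have := T.f_inj ⟨(c : G) * d * (c : G)⁻¹,
        mul_mem (mul_mem c.2 (Subgroup.subset_closure hd)) (inv_mem c.2)⟩
        ⟨d, Subgroup.subset_closure hd⟩ (C.ch.fin.pc.conj_mem _ _ hd.1) hd.1 (by
          rw [show (⟨(c : G) * d * (c : G)⁻¹, mul_mem (mul_mem c.2 (Subgroup.subset_closure hd))
            (inv_mem c.2)⟩ : memSub D (cent τ)) = c * ⟨d, Subgroup.subset_closure hd⟩ * c⁻¹ from rfl,
            map_mul, map_mul, map_inv, hfc, one_mul, inv_one, mul_one])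
      exact mul_inv_eq_iff_eq_mul.1 (congrArg Subtype.val this)
    have hcx : Commute (c : G) (x' : G) := (mem_cent.1 (((Subgroup.closure_le (cent (c : G))).2 fun d hd =>
      mem_cent.2 (hcc d hd).symm) x'.2)).symm
    have h1 : (c : G) * x' = x * x' * (x : G)⁻¹ := by rw [hc]; simp
    have hc4 : (c : G) ^ 2 ^ 2 = 1 := by
      have h2 : ((c : G) * x') ^ 4 = 1 := by rw [h1, conj_pow, hx4']; group
      rw [hcx.mul_pow, hx4', mul_one] at h2
      exact h2
    have hc1 := C.eq_one_of_ker_pow hu hab ha hb hτ c.2 hcfix hc4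
    rw [hc1, one_mul] at h1
    exact (mul_inv_eq_iff_eq_mul.1 h1.symm)
  · rintro z (rfl | rfl)
    exacts [⟨mem_cent.1 (memSub_le D _ x.2), hxa, hux, hxc⟩,
      ⟨mem_cent.1 (memSub_le D _ x'.2), hxa', hux', hxc'⟩]

/-- The deltas of `τ` in `Γ`. -/
def IsDelta (_hτ : IsTau D pt u a b τ) (T : Frame C.ch (cent u) a b) (g : G) : Prop :=
  ∃ g₀ ∈ C.kerGroup T, g = g₀⁻¹ * τ * g₀ * τ⁻¹

theorem delta_facts (T : Frame C.ch (cent u) a b) {g₀ : G} (hg₀ : g₀ ∈ C.kerGroup T) :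
    τ * g₀ * τ⁻¹ ∈ C.kerGroup T := by
  refine ⟨(hτ.commute.mul_left hg₀.1).mul_left hτ.commute.inv_left, fun hn => ?_⟩
  obtain ⟨x, hx, e⟩ := C.exists_image T hg₀
  have hρa : T.f ⟨τ, hτ.mem⟩ • T.a' = T.a' := Subtype.ext (by rw [T.f_smul, T.a_eq, hτ.fix_a])
  refine ⟨T.f ⟨τ, hτ.mem⟩ * x * (T.f ⟨τ, hτ.mem⟩)⁻¹, T.setup.conj_mem _ hρa x hx,
    Equiv.ext fun p => Subtype.ext ?_⟩
  show (τ * g₀ * τ⁻¹) • p.1 =
    ((T.f ⟨τ, hτ.mem⟩ * x * (T.f ⟨τ, hτ.mem⟩)⁻¹) • p : PtSet D pt (cent u)).1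
  rw [mul_smul (T.f _ * x), mul_smul (T.f _), T.f_smul, e, ← map_inv, T.f_smul, mul_smul, mul_smul]
  rfl

/-- Modulo the elements squaring to `1` every element of `Γ` is a delta of `τ`; and a delta commutes
with every `x` inverted by `u` with square in `E_a` that commutes with `τ` and `E_a`. -/
theorem delta_main (T : Frame C.ch (cent u) a b) :
    (∀ g ∈ C.kerGroup T, ∃ g', C.IsDelta hτ T g' ∧ g'⁻¹ * g * (g'⁻¹ * g) = 1) ∧
      (∀ g', C.IsDelta hτ T g' → g' ∈ C.kerGroup T) ∧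
      ∀ x : G, Commute x τ → x • a = a → u * x * u = x⁻¹ → x * x ∈ atPoint D pt a →
        (∀ d ∈ atPoint D pt a, Commute x d) → ∀ g', C.IsDelta hτ T g' → Commute x g' := by
  classical
  set Γ := C.kerGroup T with hΓ
  have hu2 := mul_self hu.1
  have hτf := hτ.mem
  have hin : ∀ g', C.IsDelta hτ T g' → g' ∈ Γ := by
    rintro g' ⟨g₀, hg₀, rfl⟩
    rw [show g₀⁻¹ * τ * g₀ * τ⁻¹ = g₀⁻¹ * (τ * g₀ * τ⁻¹) by group]
    exact mul_mem (inv_mem hg₀) (C.delta_facts hu hab ha hb hτ T hg₀)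
  let Z : Subgroup Γ :=
    { carrier := {g | g * g = 1}
      one_mem' := by simp
      mul_mem' := fun {g k} hg hk => by
        have hc : Commute g k := by
          obtain ⟨e, he, h1⟩ := C.eq_of_sq_one hu hab ha hb T g.2 (congrArg Subtype.val hg)
          have h2 : Commute (g : G) (k : G) := by
            rcases h1 with h1 | h1 <;> rw [h1]
            · exact (C.commute_E_of_mem hu hab ha hb T k.2 he).symm
            · exact (C.commute_E_of_mem hu hab ha hb T k.2 he).symm.mul_left k.2.1.symm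
          exact Subtype.ext h2.eq
        show g * k * (g * k) = 1
        rw [mul_assoc, ← mul_assoc k, ← hc.eq, mul_assoc g k, show k * k = 1 from hk, mul_one]
        exact hg
      inv_mem' := fun {g} hg => by
        show g⁻¹ * g⁻¹ = 1
        rw [← mul_inv_rev, show g * g = 1 from hg, inv_one] }
  have hcomm : ∀ z ∈ Z, ∀ w : G, Commute w u → (∀ d ∈ atPoint D pt a, Commute w d) →
      Commute ((z : Γ) : G) w := fun z hz w hwu hwE => by
    obtain ⟨e, he, h1⟩ := C.eq_of_sq_one hu hab ha hb T z.2 (congrArg Subtype.val hz)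
    rcases h1 with h1 | h1 <;> rw [h1]
    · exact (hwE e he).symm
    · exact (hwE e he).symm.mul_left hwu.symm
  have hS : UnitaryKernel.Special Z := by
    refine ⟨fun z hz w => Subtype.ext (hcomm z hz w w.2.1 fun d hd =>
      C.commute_E_of_mem hu hab ha hb T w.2 hd).eq, fun g => Subtype.ext ?_, fun _ hz => hz,
      fun _ hg => hg⟩
    exact C.ch.fin.sq_E (C.sq_mem hu hab ha hb T g.2)
  have hτE : ∀ d ∈ atPoint D pt a, Commute τ d := fun d hd => by
    rcases C.ch.fin.mem_E.1 hd with rfl | ⟨hd', hda⟩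
    · exact Commute.one_right τ
    · exact hτ.comm d hd' hda
  have hτi : ∀ g ∈ Γ, τ⁻¹ * g * τ ∈ Γ := fun g hg => by
    -- iterate
    have hpow : ∀ n : ℕ, τ ^ n * g * (τ ^ n)⁻¹ ∈ Γ := by
      intro n
      induction n with
      | zero => simpa using hg
      | succ n ih =>
        rw [pow_succ', show τ * τ ^ n * g * (τ * τ ^ n)⁻¹ = τ * (τ ^ n * g * (τ ^ n)⁻¹) * τ⁻¹ by group]
        exact C.delta_facts hu hab ha hb hτ T ih
    have h1 := hpow (orderOf τ - 1)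
    have h2 : τ ^ (orderOf τ - 1) = τ⁻¹ := by
      refine eq_inv_of_mul_eq_one_left ?_
      rw [← pow_succ, Nat.sub_add_cancel (orderOf_pos τ), pow_orderOf_eq_one]
    rwa [h2, inv_inv] at h1
  let ρ : Γ ≃* Γ :=
    { toFun := fun g => ⟨τ * g * τ⁻¹, C.delta_facts hu hab ha hb hτ T g.2⟩
      invFun := fun g => ⟨τ⁻¹ * g * τ, hτi g g.2⟩
      left_inv := fun g => Subtype.ext (by simp [mul_assoc])
      right_inv := fun g => Subtype.ext (by simp [mul_assoc])
      map_mul' := fun g k => Subtype.ext (by simp [mul_assoc]) }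
  have hρZ : ∀ z ∈ Z, ρ z = z := fun z hz => Subtype.ext (by
    show τ * (z : G) * τ⁻¹ = (z : G)
    rw [← (hcomm z hz τ hτ.commute hτE).eq, mul_inv_cancel_right])
  have hρa : T.f ⟨τ, hτ.mem⟩ ∈ UnitaryPerm.torus T.R T.a' T.t := by
    refine UnitaryPerm.mem_torus.2 ⟨⟨Subtype.ext ?_, Subtype.ext ?_⟩, fun x hx => ?_⟩
    · rw [T.f_smul, T.a_eq]; exact hτ.fix_a
    · rw [T.f_smul, T.smul_t]; exact hτ.fix_b
    · obtain ⟨d, hd, hda, rfl⟩ := T.member_of_ii hx
      rw [← map_mul, ← map_mul]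
      exact congrArg T.f (Subtype.ext (hτ.comm d hd hda).eq.symm)
  have hρ1 : T.f ⟨τ, hτ.mem⟩ ≠ 1 := fun e => by
    obtain ⟨p, hp, hpτ⟩ := hτ.moves
    have := T.f_smul ⟨τ, hτ.mem⟩ ⟨p, (C.pts_cent hu p).2 hp⟩
    rw [e, one_smul] at this
    exact hpτ this.symm
  have himg : ∀ g : Γ, ∃ y : T.Q, ∀ p : PtSet D pt (cent u),
      (((y : T.R) • p : PtSet D pt (cent u)) : Ω) = (g : G) • p.1 := fun g => by
    obtain ⟨y, hy, e⟩ := C.exists_image T g.2
    exact ⟨⟨y, hy⟩, e⟩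
  have hsqZ : ∀ (g : Γ) (y : T.Q), (∀ p : PtSet D pt (cent u),
      (((y : T.R) • p : PtSet D pt (cent u)) : Ω) = (g : G) • p.1) → y * y = 1 → g ∈ Z := by
    intro g y e hy
    show g * g = 1
    refine Subtype.ext ?_
    have h1 := C.eq_one_or_eq hu hab ha hb (g.2.1.mul_left g.2.1) fun p hp => by
      have h2 := congrArg (fun y : T.Q =>
        (((y : T.R) • (⟨p, (C.pts_cent hu p).2 hp⟩ : PtSet D pt (cent u)) : PtSet D pt (cent u)) : Ω)) hy
      simp only [Subgroup.coe_mul, Subgroup.coe_one, mul_smul, one_smul, e] at h2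
      rw [mul_smul]
      exact h2
    exact h1.resolve_right (C.sq_ne hu (C.fix_a_of_mem T g.2)
      fun d hd hda => C.comm_of_mem hu hab ha hb T g.2 hd hda)
  have hρ : ∀ g, g⁻¹ * ρ g ∈ Z → g ∈ Z := fun g hg => by
    obtain ⟨y, hy⟩ := himg g
    refine hsqZ g y hy (UnitaryPerm.fpf T.setup T.two T.cube hρa hρ1 y ?_)
    set w := y⁻¹ * UnitaryPerm.conjQ T.setup T.two T.cube (UnitaryPerm.torusPerm hρa) y with hw
    have e2 : ∀ p : PtSet D pt (cent u),
        (((w : T.R) • p : PtSet D pt (cent u)) : Ω) = ((g⁻¹ * ρ g : Γ) : G) • p.1 := by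
      intro p
      show _ = ((g : G)⁻¹ * (τ * (g : G) * τ⁻¹)) • p.1
      rw [hw, Subgroup.coe_mul, mul_smul, mul_smul, mul_smul, mul_smul]
      rw [eq_inv_smul_iff, ← hy, Subgroup.coe_inv, smul_inv_smul]
      show ((T.f ⟨τ, hτ.mem⟩ * (y : T.R) * (T.f ⟨τ, hτ.mem⟩)⁻¹) • p : PtSet D pt (cent u)).1 = _
      rw [mul_smul, mul_smul, T.f_smul, hy, ← map_inv, T.f_smul]
      rfl
    refine Subtype.ext (Subtype.ext (Equiv.ext fun p => Subtype.ext ?_))
    show (((w : T.R) • (w : T.R) • p : PtSet D pt (cent u)) : Ω) = p.1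
    rw [e2, e2, ← mul_smul, show ((g⁻¹ * ρ g : Γ) : G) * ((g⁻¹ * ρ g : Γ) : G) = 1 from
      congrArg Subtype.val hg, one_smul]
  refine ⟨fun g hg => ?_, hin, fun x hxτ hxa hux hx2 hxE g' hg' => ?_⟩
  · obtain ⟨g₀, z, hz, e⟩ := UnitaryKernel.exists_delta hS hρZ hρ ⟨g, hg⟩
    refine ⟨_, ⟨g₀, g₀.2, rfl⟩, ?_⟩
    have e' : g = (g₀ : G)⁻¹ * (τ * (g₀ : G) * τ⁻¹) * (z : G) := congrArg Subtype.val e
    have h1 : ((g₀ : G)⁻¹ * τ * g₀ * τ⁻¹)⁻¹ * g = (z : G) := by rw [e']; group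
    rw [h1]
    exact congrArg Subtype.val hz
  -- `x` normalises `Γ`
  have hxx : ∀ w : G, (∀ d ∈ atPoint D pt a, Commute w d) → x * x * w = w * (x * x) :=
    fun w hw => (hw _ hx2).eq.symm
  have hxu : x * u * x⁻¹ = x * x * u := by
    rw [mul_assoc, ← hux]
    have h1 : u * (u * x * u) = x * u := by rw [← mul_assoc, ← mul_assoc, hu2, one_mul]
    rw [h1, ← mul_assoc]
  have hcu : ∀ w : G, w ∈ Γ → Commute (x * w * x⁻¹) u := fun w hw => by
    have h1 : Commute (x * w * x⁻¹) (x * u * x⁻¹) := Commute.conj hw.1 x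
    rw [hxu] at h1
    have h2 : Commute (x * w * x⁻¹) (x * x) := by
      have := Commute.conj (C.commute_E_of_mem hu hab ha hb T hw hx2) x
      rwa [show x * (x * x) * x⁻¹ = x * x by group] at this
    have := h2.inv_right.mul_right h1
    rwa [inv_mul_cancel_left] at this
  have hdelta : ∀ g₀ : Γ, x * ((g₀ : G)⁻¹ * τ * g₀ * τ⁻¹) * x⁻¹ ∈ Γ := by
    intro g₀
    set g₁ := x * (g₀ : G) * x⁻¹ with hg₁
    have hg₁u : Commute g₁ u := hcu _ g₀.2
    have e : x * ((g₀ : G)⁻¹ * τ * g₀ * τ⁻¹) * x⁻¹ = g₁⁻¹ * τ * g₁ * τ⁻¹ := by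
      rw [hg₁]
      calc x * ((g₀ : G)⁻¹ * τ * g₀ * τ⁻¹) * x⁻¹
          = x * (g₀ : G)⁻¹ * x⁻¹ * (x * τ * x⁻¹) * (x * g₀ * x⁻¹) * (x * τ * x⁻¹)⁻¹ := by group
        _ = _ := by rw [hxτ.eq, mul_inv_cancel_right]; group
    have hm : g₁⁻¹ * τ * g₁ * τ⁻¹ ∈ memSub D (cent u) := by
      refine mul_mem ?_ (inv_mem hτf)
      have := conj_mem_memSub C.ch.fin.pc.conj_mem
        (Subgroup.le_normalizer (mem_cent.2 hg₁u.inv_left) :
          g₁⁻¹ ∈ Subgroup.normalizer (cent u : Set G)) hτf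
      rwa [inv_inv] at this
    have h4 : (g₁⁻¹ * τ * g₁ * τ⁻¹) ^ 2 ^ 2 = 1 := by
      have hm' := hin _ ⟨g₀, g₀.2, rfl⟩
      rw [← e, conj_pow, show ((g₀ : G)⁻¹ * τ * g₀ * τ⁻¹) ^ 2 ^ 2 = 1 from ?_]
      · group
      · rw [show (2 : ℕ) ^ 2 = 2 * 2 from rfl, pow_mul, pow_two, pow_two]
        exact C.ch.fin.sq_E (C.sq_mem hu hab ha hb T hm')
    rw [e]
    refine C.mem_kerGroup_of_image T (k := ⟨_, hm⟩) (UnitaryPerm.mem_Q_of_two T.setup ?_ (m := 2) ?_)
    · refine Subtype.ext ?_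
      rw [T.f_smul, T.a_eq]
      show (g₁⁻¹ * τ * g₁ * τ⁻¹) • a = a
      have h5 : g₁ ∈ stabilizer G a :=
        mul_mem (mul_mem (mem_stabilizer_iff.2 hxa) (mem_stabilizer_iff.2 (C.fix_a_of_mem T g₀.2)))
          (inv_mem (mem_stabilizer_iff.2 hxa))
      exact mul_mem (mul_mem (mul_mem (inv_mem h5) (mem_stabilizer_iff.2 hτ.fix_a)) h5)
        (inv_mem (mem_stabilizer_iff.2 hτ.fix_a))
    · rw [← map_pow, ← map_one T.f]
      exact congrArg T.f (Subtype.ext h4)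
  have hxΓ : ∀ g : Γ, x * (g : G) * x⁻¹ ∈ Γ := fun g => by
    obtain ⟨g₀, z, hz, e⟩ := UnitaryKernel.exists_delta hS hρZ hρ g
    have e' : (g : G) = (g₀ : G)⁻¹ * (τ * (g₀ : G) * τ⁻¹) * (z : G) := congrArg Subtype.val e
    rw [e', show x * ((g₀ : G)⁻¹ * (τ * (g₀ : G) * τ⁻¹) * (z : G)) * x⁻¹ =
      x * ((g₀ : G)⁻¹ * τ * g₀ * τ⁻¹) * x⁻¹ * (x * (z : G) * x⁻¹) by group]
    refine mul_mem (hdelta g₀) ?_
    obtain ⟨f, hf, h1⟩ := C.eq_of_sq_one hu hab ha hb T z.2 (congrArg Subtype.val hz)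
    have hxf : x * f * x⁻¹ = f := mul_inv_eq_iff_eq_mul.2 (hxE f hf).eq
    have hfΓ := (C.mem_E_commute hu hab ha hb T hf).1
    rcases h1 with h1 | h1 <;> rw [h1]
    · rwa [hxf]
    · rw [show x * (f * u) * x⁻¹ = x * f * x⁻¹ * (x * u * x⁻¹) by group, hxf, hxu]
      exact mul_mem hfΓ (mul_mem (C.mem_E_commute hu hab ha hb T hx2).1 (C.u_mem hu hab ha hb T))
  have hx2Γ : ∀ g : Γ, x * x * (g : G) * (x * x)⁻¹ = (g : G) := fun g => by
    rw [mul_inv_eq_iff_eq_mul]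
    exact (C.commute_E_of_mem hu hab ha hb T g.2 hx2).eq.symm
  have hxiΓ : ∀ g : Γ, x⁻¹ * (g : G) * x ∈ Γ := fun g => by
    have h1 := hxΓ g
    have e : x⁻¹ * (g : G) * x = x * (g : G) * x⁻¹ := by
      conv_lhs => rw [← hx2Γ g]
      group
    rwa [e]
  let σ : Γ ≃* Γ :=
    { toFun := fun g => ⟨x * g * x⁻¹, hxΓ g⟩
      invFun := fun g => ⟨x⁻¹ * g * x, hxiΓ g⟩
      left_inv := fun g => Subtype.ext (by simp [mul_assoc])
      right_inv := fun g => Subtype.ext (by simp [mul_assoc])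
      map_mul' := fun g k => Subtype.ext (by simp [mul_assoc]) }
  obtain ⟨g₀, hg₀, rfl⟩ := hg'
  have h := UnitaryKernel.sigma_delta hS (σ := σ) (ρ := ρ)
    (fun g => Subtype.ext (by
      show x * (x * (g : G) * x⁻¹) * x⁻¹ = (g : G)
      rw [show x * (x * (g : G) * x⁻¹) * x⁻¹ = x * x * (g : G) * (x * x)⁻¹ by group, hx2Γ]))
    (fun g => Subtype.ext (by
      show x * ((g : G) * (g : G)) * x⁻¹ = (g : G) * (g : G)
      rw [(hxE _ (C.sq_mem hu hab ha hb T g.2)).eq, mul_inv_cancel_right]))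
    hρZ hρ (fun g => Subtype.ext (by
      show x * (τ * (g : G) * τ⁻¹) * x⁻¹ = τ * (x * (g : G) * x⁻¹) * τ⁻¹
      calc x * (τ * (g : G) * τ⁻¹) * x⁻¹ = (x * τ) * (g : G) * (x * τ)⁻¹ := by group
        _ = _ := by rw [hxτ.eq]; group)) ⟨g₀, hg₀⟩
  have h' : x * (g₀⁻¹ * (τ * g₀ * τ⁻¹)) * x⁻¹ = g₀⁻¹ * (τ * g₀ * τ⁻¹) := congrArg Subtype.val h
  rw [show g₀⁻¹ * τ * g₀ * τ⁻¹ = g₀⁻¹ * (τ * g₀ * τ⁻¹) by group]
  exact mul_inv_eq_iff_eq_mul.1 h'

omit hu hab ha hb τ hτ in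
/-- Two commuting involutions fixing `a`, centralised by an `x` with `x * x ∈ E_a`, `x * x ≠ 1`, agree
modulo `E_a`: the last step. -/
theorem false_of_pair {v v' x : G} (hv : IsFixInv Ω v) (hv' : IsFixInv Ω v') (hc : Commute v v')
    (hva : v • a = a) (hv'a : v' • a = a) (hxv : Commute x v) (hxv' : Commute x v')
    (hxa : x • a = a) (hxx : x * x ∈ atPoint D pt a) (hxx1 : x * x ≠ 1)
    (hxE : ∀ d ∈ atPoint D pt a, Commute x d)
    (hne : ∀ e ∈ atPoint D pt a, v' ≠ v * e) : False := by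
  have P := C.ch.fin.pc
  -- replace `v'` so that it shares a second fixed point
  obtain ⟨w, z, hw, hwv, hxw, hwa, hvz, hwz, hza, hwne⟩ : ∃ w z, IsFixInv Ω w ∧ Commute w v ∧
      Commute x w ∧ w • a = a ∧ v • z = z ∧ w • z = z ∧ z ≠ a ∧ w ≠ v := by
    obtain ⟨-, c, d, hcd, hc', hd'⟩ := id hv
    obtain ⟨z, hz, hza⟩ : ∃ z, v • z = z ∧ z ≠ a := by
      by_cases h : c = a
      · exact ⟨d, hd', fun e => hcd (h.trans e.symm)⟩
      · exact ⟨c, hc', h⟩
    have hne1 : v' ≠ v := fun e => hne 1 (one_mem _) (by rw [e, mul_one])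
    by_cases hz' : v' • z = z
    · exact ⟨v', z, hv', hc.symm, hxv', hv'a, hz, hz', hza, hne1⟩
    obtain ⟨t, ht, htv', htz⟩ := C.ch.exists_swapper hv' hz'
    have hvz' : v • (v' • z) = v' • z := by rw [← mul_smul, hc.eq, mul_smul, hz]
    have htv : Commute t v := by
      have h1 := C.ch.swapper_unique hv' hz' ht (P.conj_mem v t ht) htv'
        ((hc.mul_left htv').mul_left hc.inv_left) htz
        (by rw [mul_smul, mul_smul, inv_smul_eq_iff.2 hz.symm, htz, hvz'])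
      exact (mul_inv_eq_iff_eq_mul.1 h1.symm).symm
    by_cases hta : pt t = a
    · have hte : t ∈ atPoint D pt a := C.ch.fin.mem_E.2 (Or.inr ⟨ht, hta⟩)
      refine ⟨v' * t, z, (C.ch.isFixInv_mul hv' ht htv').1, hc.symm.mul_left htv,
        hxv'.mul_right (hxE t hte), by rw [mul_smul, ← hta, P.smul_pt ht, hta, hv'a], hz,
        by rw [mul_smul, htz, ← mul_smul, mul_self hv'.1, one_smul], hza, fun e => hne t hte ?_⟩
      rw [← e, mul_assoc, mul_self (P.inv t ht), mul_one]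
    · exact ⟨v', pt t, hv', hc.symm, hxv', hv'a, P.commute_fix ht htv.symm, P.commute_fix ht htv'.symm,
        hta, hne1⟩
  obtain ⟨T⟩ := C.frame_fix hv hza.symm hva hvz
  have hwn : w ∈ Subgroup.normalizer (cent v : Set G) := Subgroup.le_normalizer (mem_cent.2 hwv)
  have hπ := T.torusPerm hwn hwa hwz fun d hd hda => C.ch.cent w hw d hd (by rw [hda, hwa])
  have hπ2 : T.act w hwn * T.act w hwn = 1 :=
    T.act_mul_self hwn fun p => by rw [mul_self hw.1, one_smul]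
  by_cases hπ1 : T.act w hwn = 1
  · rcases C.eq_one_or_eq hv hza.symm hva hvz hwv (fun p hp =>
      (T.act_eq_one hwn).1 hπ1 ⟨p, (C.pts_cent hv p).2 hp⟩) with e | e
    · exact ne_one hw.1 e
    · exact hwne e
  have hxz : v • (x • z) = x • z := by rw [← mul_smul, ← hxv.eq, mul_smul, hvz]
  obtain ⟨e, he, hxe⟩ := T.fix_block hwn hπ hπ2 hπ1 ⟨x • z, (C.pts_cent hv _).2 hxz⟩
    (fun h => hza (smul_left_cancel x (h.trans hxa.symm)))
    (by rw [← mul_smul, ← hxw.eq, mul_smul, hwz])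
  change x • z = e • z at hxe
  have hfix : (e⁻¹ * x) • z = z := by rw [mul_smul, hxe, inv_smul_smul]
  have hcex : Commute e⁻¹ x := (hxE e he).symm.inv_left
  have h2 : (x * x) • z = z := by
    have h3 : (e⁻¹ * x) * (e⁻¹ * x) = x * x := by
      calc (e⁻¹ * x) * (e⁻¹ * x) = e⁻¹ * (x * e⁻¹) * x := by group
        _ = (e⁻¹ * e⁻¹) * (x * x) := by rw [← hcex.eq]; group
        _ = x * x := by rw [← mul_inv_rev, C.ch.fin.sq_E he, inv_one, one_mul]
    rw [← h3, mul_smul, hfix, hfix]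
  exact hza (C.ch.fin.semiregular hxx hxx1 h2)

omit b hu hab ha hb τ hτ in
/-- **The unitary case.** -/
theorem false : False := by
  classical
  obtain ⟨u, hu⟩ := C.ch.exists_fixInv
  obtain ⟨-, a, b, hab, ha, hb⟩ := id hu
  obtain ⟨τ, hτ⟩ := C.exists_tau hu hab ha hb
  obtain ⟨T⟩ := C.frame_fix hu hab ha hb
  obtain ⟨hcover, hin, hcx⟩ := C.delta_main hu hab ha hb hτ T
  set E := atPoint D pt a
  set Γ := C.kerGroup T
  have hsq := fun g (hg : g ∈ Γ) => C.sq_mem hu hab ha hb T hg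
  have hcE := fun g (hg : g ∈ Γ) e (he : e ∈ E) => C.commute_E_of_mem hu hab ha hb T hg he
  -- `Γ` has at least `2 q ^ 3` elements
  have hq : 4 ≤ Nat.card E := C.ch.fin.card_E_ge a
  have hlift : ∀ y : T.Q, ∃ g ∈ Γ, ∀ p : PtSet D pt (cent u),
      g • p.1 = (((y : T.R) • p : PtSet D pt (cent u)) : Ω) := fun y => by
    obtain ⟨k, hk⟩ := T.f_surj (y : T.R)
    exact ⟨k, C.mem_kerGroup_of_image T (hk.symm ▸ y.2), fun p => by rw [← hk, T.f_smul]⟩
  choose L hL hLp using hlift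
  have hcard : 2 * Nat.card E ^ 3 ≤ Nat.card Γ := by
    have hQ : Nat.card T.Q = Nat.card E ^ 3 := by rw [T.cube, T.param_eq]
    rw [← hQ, mul_comm, show 2 = Nat.card Bool by simp, ← Nat.card_prod]
    refine Nat.card_le_card_of_injective
      (fun p : T.Q × Bool => (⟨if p.2 then L p.1 * u else L p.1, by
        split
        exacts [mul_mem (hL p.1) (C.u_mem hu hab ha hb T), hL p.1]⟩ : Γ)) ?_
    have himg : ∀ (y : T.Q) (s : Bool) (p : PtSet D pt (cent u)),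
        (if s then L y * u else L y) • p.1 = (((y : T.R) • p : PtSet D pt (cent u)) : Ω) := by
      intro y s p
      rw [← hLp y p]
      split
      · rw [mul_smul, (C.pts_cent hu p.1).1 p.2]
      · rfl
    intro p p' e
    have e' : (if p.2 then L p.1 * u else L p.1) = if p'.2 then L p'.1 * u else L p'.1 :=
      congrArg Subtype.val e
    have hy : p.1 = p'.1 := Subtype.ext (Subtype.ext (Equiv.ext fun z => Subtype.ext (by
      show (((p.1 : T.R) • z : PtSet D pt (cent u)) : Ω) = (((p'.1 : T.R) • z : PtSet D pt (cent u)) : Ω)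
      rw [← himg p.1 p.2, ← himg p'.1 p'.2, e'])))
    refine Prod.ext hy ?_
    rw [hy] at e'
    revert e'
    cases p.2 <;> cases p'.2 <;> intro h1 <;> simp only [Bool.false_eq_true, if_false, if_true] at h1 ⊢
    · exact absurd (left_eq_mul.1 h1) (ne_one hu.1)
    · exact absurd (mul_eq_left.1 h1) (ne_one hu.1)
  -- the elements squaring to `1`
  let Z := {g : Γ // g * g = 1}
  have hZ : Nat.card Z ≤ 2 * Nat.card E := by
    rw [mul_comm, show 2 = Nat.card Bool by simp, ← Nat.card_prod]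
    refine Nat.card_le_card_of_surjective
      (fun p : E × Bool => (⟨⟨if p.2 then p.1 * u else p.1, ?_⟩, ?_⟩ : Z)) ?_
    · split
      · exact mul_mem (C.mem_E_commute hu hab ha hb T p.1.2).1 (C.u_mem hu hab ha hb T)
      · exact (C.mem_E_commute hu hab ha hb T p.1.2).1
    · refine Subtype.ext ?_
      show (if p.2 then (p.1 : G) * u else p.1) * (if p.2 then (p.1 : G) * u else p.1) = 1
      split
      · rw [mul_assoc, ← mul_assoc u, ← (C.mem_E_commute hu hab ha hb T p.1.2).2.1.eq,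
          mul_assoc _ u u, mul_self hu.1, mul_one, C.ch.fin.sq_E p.1.2]
      · exact C.ch.fin.sq_E p.1.2
    · intro z
      obtain ⟨e, he, h1 | h1⟩ := C.eq_of_sq_one hu hab ha hb T z.1.2 (congrArg Subtype.val z.2)
      · exact ⟨(⟨e, he⟩, Bool.false), Subtype.ext (Subtype.ext (by simpa using h1.symm))⟩
      · exact ⟨(⟨e, he⟩, Bool.true), Subtype.ext (Subtype.ext (by simpa using h1.symm))⟩
  -- a delta `g` outside
  obtain ⟨k₁, hk₁⟩ : ∃ k : Γ, k * k ≠ 1 := by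
    by_contra! hall
    have h1 : Nat.card Γ ≤ Nat.card Z :=
      Nat.card_le_card_of_injective (fun k => (⟨k, hall k⟩ : Z)) fun k k' e => congrArg Subtype.val e
    have h3 : Nat.card E < Nat.card E ^ 3 := by
      calc Nat.card E = Nat.card E ^ 1 := (pow_one _).symm
        _ < _ := Nat.pow_lt_pow_right (by omega) (by norm_num)
    omega
  have hmul : ∀ g k : G, g ∈ Γ → k ∈ Γ → g⁻¹ * k * (g⁻¹ * k) = 1 →
      ∃ z : G, k = g * z ∧ z ∈ Γ ∧ z * z = 1 ∧ (∀ w ∈ Γ, Commute z w) := fun g k hg hk h2 => by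
    refine ⟨g⁻¹ * k, (mul_inv_cancel_left g k).symm, mul_mem (inv_mem hg) hk, h2, fun w hw => ?_⟩
    obtain ⟨e, he, h1 | h1⟩ := C.eq_of_sq_one hu hab ha hb T (mul_mem (inv_mem hg) hk) h2 <;> rw [h1]
    · exact (hcE w hw e he).symm
    · exact (hcE w hw e he).symm.mul_left hw.1.symm
  have hsqmul : ∀ g z : G, z * z = 1 → Commute z g → (g * z) * (g * z) = g * g := fun g z hz hc => by
    rw [mul_assoc, ← mul_assoc z, hc.eq, mul_assoc g z z, hz, mul_one]
  obtain ⟨g, hgd, hgk⟩ := hcover k₁ k₁.2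
  have hg := hin g hgd
  have hg2 : g * g ≠ 1 := fun h2 => by
    obtain ⟨z, ez, hz, hz2, hzc⟩ := hmul g k₁ hg k₁.2 hgk
    exact hk₁ (Subtype.ext (by
      show (k₁ : G) * k₁ = 1
      rw [ez, hsqmul g z hz2 (hzc g hg), h2]))
  -- the commutator with `g`
  have hcomE : ∀ k : Γ, g⁻¹ * (k : G)⁻¹ * g * k ∈ E := fun k => by
    rw [show g⁻¹ * (k : G)⁻¹ * g * k =
      (g * g)⁻¹ * ((g * (k : G)⁻¹) * (g * (k : G)⁻¹)) * ((k : G) * k) by group]
    exact mul_mem (mul_mem (inv_mem (hsq g hg)) (hsq _ (mul_mem hg (inv_mem k.2)))) (hsq k k.2)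
  let φ : Γ →* E := MonoidHom.mk' (fun k => ⟨_, hcomE k⟩) fun k k' => Subtype.ext (by
    show g⁻¹ * ((k : G) * k')⁻¹ * g * ((k : G) * k') =
      g⁻¹ * (k : G)⁻¹ * g * k * (g⁻¹ * (k' : G)⁻¹ * g * k')
    have h1 := (hcE k' k'.2 _ (hcomE k)).eq
    calc g⁻¹ * ((k : G) * k')⁻¹ * g * ((k : G) * k')
        = g⁻¹ * (k' : G)⁻¹ * g * (g⁻¹ * (k : G)⁻¹ * g * k) * k' := by group
      _ = g⁻¹ * (k' : G)⁻¹ * g * ((k' : G) * (g⁻¹ * (k : G)⁻¹ * g * k)) := by
          rw [mul_assoc _ _ (k' : G), h1]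
      _ = (g⁻¹ * (k' : G)⁻¹ * g * k') * (g⁻¹ * (k : G)⁻¹ * g * k) := by group
      _ = _ := (C.ch.fin.commute_E (hcomE k') (hcomE k)).eq)
  have hker : 2 * Nat.card E ^ 2 ≤ Nat.card φ.ker := by
    have h1 := φ.ker.card_mul_index
    rw [Subgroup.index_ker] at h1
    have h3 : 2 * Nat.card E ^ 3 ≤ Nat.card φ.ker * Nat.card E :=
      hcard.trans (h1.symm.le.trans (Nat.mul_le_mul_left _ (Subgroup.card_le_card_group _)))
    exact Nat.le_of_mul_le_mul_right (by rwa [mul_assoc, ← pow_succ]) (by omega : 0 < Nat.card E)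
  obtain ⟨k₂, hk₂, hk₂1, hk₂g⟩ : ∃ k : Γ, φ k = 1 ∧ k * k ≠ 1 ∧
      g⁻¹ * (k : G) * (g⁻¹ * (k : G)) ≠ 1 := by
    by_contra! hall
    have h1 : Nat.card φ.ker ≤ Nat.card (Z ⊕ Z) := by
      refine Nat.card_le_card_of_injective (fun k => if h : (k : Γ) * k = 1 then Sum.inl (⟨k, h⟩ : Z)
        else Sum.inr (⟨⟨g, hg⟩⁻¹ * k, Subtype.ext (hall k k.2 h)⟩ : Z)) fun k k' e => ?_
      simp only at e
      by_cases h : (k : Γ) * k = 1 <;> by_cases h' : (k' : Γ) * k' = 1 <;>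
        simp only [h, h', dif_pos, dif_neg, not_false_eq_true,
          Sum.inl.injEq, Sum.inr.injEq, reduceCtorEq] at e
      · exact Subtype.ext (congrArg Subtype.val e :)
      · exact Subtype.ext (mul_left_cancel (congrArg Subtype.val e :))
    rw [Nat.card_sum] at h1
    have h5 : 4 * Nat.card E ≤ Nat.card E ^ 2 := by rw [pow_two]; exact Nat.mul_le_mul_right _ hq
    omega
  obtain ⟨g', hg'd, hg'k⟩ := hcover k₂ k₂.2
  have hg' := hin g' hg'd
  obtain ⟨z, ez, hz, hz2, hzc⟩ := hmul g' k₂ hg' k₂.2 hg'k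
  have hg'2 : g' * g' ≠ 1 := fun h2 => hk₂1 (Subtype.ext (by
    show (k₂ : G) * k₂ = 1
    rw [ez, hsqmul g' z hz2 (hzc g' hg'), h2]))
  have hgg' : Commute g g' := by
    have h1 : g⁻¹ * (k₂ : G)⁻¹ * g * k₂ = 1 := congrArg Subtype.val hk₂
    have h2 : Commute g (k₂ : G) := by
      show g * (k₂ : G) = k₂ * g
      calc g * (k₂ : G) = (k₂ : G) * g * (g⁻¹ * (k₂ : G)⁻¹ * g * k₂) := by group
        _ = k₂ * g := by rw [h1, mul_one]
    have h3 : g' = (k₂ : G) * z⁻¹ := by rw [ez, mul_inv_cancel_right]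
    rw [h3]
    exact h2.mul_right (hzc g hg).inv_left.symm
  have hdiff : g⁻¹ * g' * (g⁻¹ * g') ≠ 1 := fun h2 => hk₂g (by
    rw [ez, ← mul_assoc g⁻¹, hsqmul _ z hz2 (hzc _ (mul_mem (inv_mem hg) hg')), h2])
  obtain ⟨x, x', hxx', hprop, hxe, hxe'⟩ :=
    C.exists_inverted_pair hu hab ha hb hτ (hsq g hg) (hsq g' hg')
  obtain ⟨hxτ, hxa, hux, hxE⟩ := hprop x (Or.inl rfl)
  obtain ⟨hxτ', hxa', hux', hxE'⟩ := hprop x' (Or.inr rfl)
  have hx2 : x * x ∈ E := by rw [hxe]; exact hsq g hg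
  have hx2' : x' * x' ∈ E := by rw [hxe']; exact hsq g' hg'
  have c1 := hcx x hxτ hxa hux hx2 hxE g hgd
  have c2 := hcx x hxτ hxa hux hx2 hxE g' hg'd
  have c3 := hcx x' hxτ' hxa' hux' hx2' hxE' g hgd
  have c4 := hcx x' hxτ' hxa' hux' hx2' hxE' g' hg'd
  -- elements commuting with and inverted by `u`
  have hinvol : ∀ y : G, Commute y u → u * y * u = y⁻¹ → y * y = 1 := fun y h1 h2 => by
    rw [← h1.eq, mul_assoc, mul_self hu.1, mul_one] at h2
    exact eq_inv_iff_mul_eq_one.1 h2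
  have hU : ∀ (g x : G), g ∈ Γ → g * g ≠ 1 → Commute x g → x • a = a → u * x * u = x⁻¹ →
      x * x = g * g → IsFixInv Ω (g * x) ∧ (g * x) • a = a := by
    intro g x hg hg2 hc hxa hux hxe
    have hva : (g * x) • a = a := by rw [mul_smul, hxa, C.fix_a_of_mem T hg]
    have hv2 : (g * x) * (g * x) = 1 := by
      rw [mul_assoc, ← mul_assoc x, hc.eq, mul_assoc g x x, hxe, ← mul_assoc g g]
      exact C.ch.fin.sq_E (hsq g hg)
    have hnE : g * x ∉ E := fun h => hg2 (by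
      have h1 : Commute x u := by
        have h2 := ((hg.1.inv_left).mul_left ((C.mem_E_commute hu hab ha hb T h).2.1))
        rwa [inv_mul_cancel_left] at h2
      rw [← hxe]
      exact hinvol x h1 hux)
    have hv1 : g * x ≠ 1 := fun e => hnE (e ▸ one_mem E)
    refine ⟨⟨orderOf_of_sq hv2 hv1, ?_⟩, hva⟩
    rcases C.ch.fin.pc.mem_or_two_fixed hab (orderOf_of_sq hv2 hv1) with hD | h
    · exact absurd (C.ch.fin.mem_E.2 (Or.inr ⟨hD, ((C.ch.fin.pc.fixed_iff _ hD a).1 hva).symm⟩)) hnE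
    · exact h
  obtain ⟨hv, hva⟩ := hU g x hg hg2 c1 hxa hux hxe
  obtain ⟨hv', hv'a⟩ := hU g' x' hg' hg'2 c4 hxa' hux' hxe'
  refine C.false_of_pair hv hv' ?_ hva hv'a (c1.mul_right (Commute.refl x))
    (c2.mul_right hxx') hxa hx2 (by rw [hxe]; exact hg2) hxE fun e he heq => ?_
  · exact ((hgg'.mul_right c3.symm).mul_left (c2.mul_right hxx'))
  refine hdiff ?_
  have hy : g⁻¹ * g' = x * e * x'⁻¹ := by
    rw [eq_mul_inv_iff_mul_eq, mul_assoc, heq]; group
  have h1 : Commute (g⁻¹ * g') u := hg.1.inv_left.mul_left hg'.1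
  refine hinvol _ h1 ?_
  have hu2 := mul_self hu.1
  have hue : u * e * u = e⁻¹ := by
    rw [← (C.mem_E_commute hu hab ha hb T he).2.1.eq, mul_assoc, hu2, mul_one,
      inv_eq_of_mul_eq_one_right (C.ch.fin.sq_E he)]
  have hux'i : u * x'⁻¹ * u = x' := by
    have h3 := congrArg (·⁻¹) hux'
    simp only [mul_inv_rev, inv_inv, inv_eq hu.1] at h3
    rw [mul_assoc, h3]
  calc u * (g⁻¹ * g') * u = (u * x * u) * (u * e * u) * (u * x'⁻¹ * u) := by
        rw [hy]
        simp only [mul_assoc]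
        rw [← mul_assoc u u, hu2, one_mul, ← mul_assoc u u, hu2, one_mul]
    _ = x⁻¹ * e⁻¹ * x' := by rw [hux, hue, hux'i]
    _ = (g⁻¹ * g')⁻¹ := by
        rw [hy]
        simp only [mul_inv_rev, inv_inv]
        have q1 : Commute e⁻¹ x' := (hxE' e he).symm.inv_left
        have q2 : Commute x⁻¹ x' := hxx'.inv_left
        have q3 : Commute x⁻¹ e⁻¹ := (hxE e he).inv_inv
        rw [mul_assoc x⁻¹, q1.eq, ← mul_assoc, q2.eq, mul_assoc, q3.eq]

end CubeHyp

/-- **No involution fixes `q ^ 3 + 1` points**, `q - 1` the number of members at a point. -/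
theorem FinishHyp.false_of_unitary (h : FinishHyp G Ω D pt) {v : G} (hv : IsFixInv Ω v)
    {x : Ω} (hf : Nat.card {p : Ω // v • p = p} =
      (Nat.card {d : G // d ∈ D ∧ pt d = x} + 1) ^ 3 + 1) : False := by
  have C : ChordHyp G Ω D pt :=
    ⟨h, fun w hw d hd hd' => (h.commute_of_fixInv hw hd' hd rfl).symm, ⟨v, hv⟩⟩
  obtain ⟨y, hy⟩ := h.exists_ne x
  refine CubeHyp.false ⟨C, fun w hw z => ?_⟩
  rw [← h.pc.card_atPoint h.comm hy] at hf
  rw [h.card_E_eq z x, ← hf]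
  have h1 := C.card_omega hw x
  have h2 := C.card_omega hv x
  have hq := h.card_E_ge x
  change Nat.card (FixSet Ω w) = Nat.card (FixSet Ω v)
  have key : ∀ {m f g : ℕ}, 1 ≤ m → g < f → 1 ≤ g → g + g * m * (g - 1) < f + f * m * (f - 1) := by
    intro m f g hm hlt hg
    have : g * m * (g - 1) ≤ f * m * (f - 1) :=
      Nat.mul_le_mul (Nat.mul_le_mul_right _ hlt.le) (by omega)
    omega
  have hpos : ∀ w : G, IsFixInv Ω w → 1 ≤ Nat.card (FixSet Ω w) := fun w hw => by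
    have := h.card_fix_two hw
    exact le_trans (by norm_num) this
  rcases lt_trichotomy (Nat.card (FixSet Ω w)) (Nat.card (FixSet Ω v)) with hlt | heq | hgt
  · have := key (m := Nat.card (atPoint D pt x) - 1) (by omega) hlt (hpos w hw)
    omega
  · exact heq
  · have := key (m := Nat.card (atPoint D pt x) - 1) (by omega) hgt (hpos v hv)
    omega

end Cfsg.Agent.Aschbacher
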