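/-
The linear case of the finish of Aschbacher's criterion, and the criterion (owner: helper2).

* `noLinearCase` : no involution fixes `q + 1` points
* `noUnitaryCase` : no involution fixes `q³ + 1` points
* `coreFreeCriterion` : the core-free criterion
-/
import Cfsg.Agent.Lib.Aschbacher.CriterionL2Square
import Cfsg.Agent.Lib.Aschbacher.CriterionL2Big
import Cfsg.Agent.Lib.Aschbacher.CriterionUnitary
import Cfsg.Agent.Lib.Aschbacher.CriterionFinish

set_option autoImplicit false
set_option linter.style.haveILetI false
set_option linter.unusedSectionVars false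

namespace Cfsg.Agent.Aschbacher

open Cfsg Involution MulAction

universe u

/-- The linear case is impossible. -/
theorem noLinearCase : NoLinearCase.{u} := by
  intro G _ _ Ω _ _ _ D pt C v hv a hva hf
  have S := C.blockHyp hv hf
  refine S.false_of_orbit_sq hv hva fun x y hyx => ?_
  obtain ⟨w, hw, hwx, hwy⟩ := C.exists_fixInv_at hyx.symm
  have hn := S.card_omega_eq hw x
  exact (S.card_orbit_cenAt hw hwx hwy hyx hn).resolve_right
    (S.card_orbit_ne_cube hw hwx hwy hyx hn)

/-- The unitary case is impossible. -/
theorem noUnitaryCase : NoUnitaryCase.{u} := by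
  intro G _ _ Ω _ _ _ D pt C v hv a hva hf
  obtain ⟨y, hy⟩ := C.fin.exists_ne a
  exact C.fin.false_of_unitary hv (x := a) (hf.trans (by rw [C.fin.pc.card_atPoint C.fin.comm hy]))

/-- **The core-free form of Aschbacher's criterion.** -/
theorem coreFreeCriterion : CoreFreeCriterion.{u} :=
  coreFreeCriterion_of_cases noLinearCase noUnitaryCase

end Cfsg.Agent.Aschbacher
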