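/-
The statements S1175, S1174, S1913 from the core-free criterion (owner: helper44); each statement
file is one line once `CoreFreeCriterion` is proved.
-/
import Cfsg.Agent.Lib.Aschbacher.Criterion

set_option autoImplicit false

namespace Cfsg.Agent.Aschbacher

open Cfsg

universe u

variable {G : Type u} [Group G] [Finite G]

/-- The statement of S1175, given the core-free criterion. -/
theorem s1175_of_criterion (hA : CoreFreeCriterion.{u}) [IsSimpleGroup G] (M : Subgroup G) (hM : M ≠ ⊤)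
    (z : G) (hz : orderOf z = 2) (hzM : z ∈ M)
    (h1 : ∃ S : Sylow 2 G, z ∈ S ∧ ∀ s ∈ S, Commute s z)
    (h2 : ∀ g : G, g * z * g⁻¹ ∈ M → g ∈ M)
    (h3 : ∀ g : G, Commute z (g * z * g⁻¹) → g * z * g⁻¹ ≠ z →
      Subgroup.centralizer ({z * (g * z * g⁻¹)} : Set G) ≤ M) :
    ∃ H : Subgroup G, IsStronglyEmbedded H :=
  let ⟨S, hzS, hSz⟩ := h1
  ⟨M, criterion_simple hA M hM z hz hzM S hzS hSz h2 h3⟩

/-- The statement of S1913, given the core-free criterion. -/
theorem s1913_of_criterion (hA : CoreFreeCriterion.{u}) (P : Sylow 2 G) (z : G) (hz2 : orderOf z = 2)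
    (hzP : z ∈ (Subgroup.center ↥(P : Subgroup G)).map (P : Subgroup G).subtype)
    (H : Subgroup G) (hH : H ≠ ⊤) (hi : ∀ g : G, z ∈ H.map (MulAut.conj g).toMonoidHom ↔ g ∈ H)
    (hii : ∀ u : G, orderOf u = 2 → u * z = z * u → ¬ Subgroup.centralizer ({u} : Set G) ≤ H →
      IsStronglyEmbedded (H.subgroupOf (Subgroup.closure {x : G | IsConj z x ∧ x * u = u * x}))) :
    IsStronglyEmbedded (H.subgroupOf (Subgroup.normalClosure ({z} : Set G))) := by
  obtain ⟨⟨y, hy⟩, hyc, rfl⟩ := hzP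
  refine criterion_local hA P y hz2 hy
    (fun s hs => congrArg Subtype.val (Subgroup.mem_center_iff.1 hyc ⟨s, hs⟩)) H hH (fun g => ?_) hii
  rw [← inv_mem_iff (x := g), ← hi g⁻¹]
  constructor
  · intro h
    exact ⟨g * y * g⁻¹, h, by simp [mul_assoc]⟩
  · rintro ⟨a, ha, e⟩
    simp only [MulEquiv.coe_toMonoidHom, MulAut.conj_apply, inv_inv, Subgroup.coe_subtype] at e
    rw [← e]
    simpa [mul_assoc] using ha

end Cfsg.Agent.Aschbacher
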