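/-
The unitary case of the core-free criterion, as the proposition of `CriterionFinish`
(owner: helper40).

* `noUnitaryCase` : no involution fixes `q³ + 1` points
-/
import Cfsg.Agent.Lib.Aschbacher.CriterionFinish
import Cfsg.Agent.Lib.Aschbacher.CriterionUnitary

set_option autoImplicit false

namespace Cfsg.Agent.Aschbacher

open Cfsg Involution

universe u

/-- **No involution fixes `q³ + 1` points.** -/
theorem noUnitaryCase : NoUnitaryCase.{u} := by
  intro G _ _ Ω _ _ _ D pt C v hv a _ hf
  obtain ⟨y, hy⟩ := C.fin.exists_ne a
  rw [C.fin.pc.card_atPoint C.fin.comm hy] at hf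
  exact C.fin.false_of_unitary hv (x := a) hf

end Cfsg.Agent.Aschbacher
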