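/-
The similitudes of the determinant on two by two matrices.
Main result: `det_similitude`.
-/
import Cfsg.Agent.EqLemmas

set_option autoImplicit false

namespace Cfsg.Agent.Aschbacher

open Matrix

variable {F : Type*} [Field F]

local notation "M₂" => Matrix (Fin 2) (Fin 2) F

/-- A linear similitude of the determinant on `2 × 2` matrices is `X ↦ αXβ` or `X ↦ αXᵀβ`. -/
theorem det_similitude (B : M₂ →ₗ[F] M₂) {c : F} (hc : c ≠ 0) (hB : ∀ X, (B X).det = c * X.det)
    (hinj : Function.Injective B) :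
    ∃ a b : GL (Fin 2) F, (∀ X, B X = (a : M₂) * X * (b : M₂)) ∨
      ∀ X, B X = (a : M₂) * Xᵀ * (b : M₂) := by
  classical
  have hu : IsUnit (B 1) := by
    rw [Matrix.isUnit_iff_isUnit_det, hB, Matrix.det_one, mul_one]
    exact IsUnit.mk0 _ hc
  set u : GL (Fin 2) F := hu.unit with hud
  have huv : (u : M₂) = B 1 := rfl
  set ui := ((u⁻¹ : GL (Fin 2) F) : M₂) with hui
  have huu : ui * (u : M₂) = 1 := Units.inv_mul u
  have huu' : (u : M₂) * ui = 1 := Units.mul_inv u
  let L : M₂ →ₗ[F] M₂ := (LinearMap.mulLeft F ui).comp B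
  have hLdet : ∀ X, (L X).det = X.det := fun X => by
    have h := congrArg Matrix.det huu
    rw [Matrix.det_mul, huv, hB, Matrix.det_one, mul_one] at h
    show (ui * B X).det = X.det
    rw [Matrix.det_mul, hB, ← mul_assoc, h, one_mul]
  have hL1 : L 1 = 1 := by show ui * B 1 = 1; rw [← huv]; exact huu
  set E := L !![1, 0; 0, 0] with hE
  have hEd : E.det = 0 := by rw [hE, hLdet]; simp [Matrix.det_fin_two]
  have hd1 : ∀ X : M₂, (X + 1).det = X.det + (X 0 0 + X 1 1) + 1 := fun X => by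
    simp [Matrix.det_fin_two]; ring
  have htr : ∀ X, (L X) 0 0 + (L X) 1 1 = X 0 0 + X 1 1 := fun X => by
    have h := hLdet (X + 1)
    rw [map_add, hL1, hd1, hd1, hLdet] at h
    linear_combination h
  have hEt : E 0 0 + E 1 1 = 1 := by rw [hE, htr]; simp
  have hEE : E * E = E := by
    rw [Matrix.det_fin_two] at hEd
    ext i j
    fin_cases i <;> fin_cases j <;> simp [Matrix.mul_apply, Fin.sum_univ_two]
    · linear_combination E 0 0 * hEt - hEd
    · linear_combination E 0 1 * hEt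
    · linear_combination E 1 0 * hEt
    · linear_combination E 1 1 * hEt - hEd
  obtain ⟨i, hi⟩ : ∃ i, E *ᵥ Pi.single i 1 ≠ 0 := by
    by_contra hcon
    simp only [not_exists, not_not] at hcon
    have : E = 0 := Matrix.ext_of_mulVec_single fun i => by rw [hcon, Matrix.zero_mulVec]
    rw [this] at hEt
    simp at hEt
  obtain ⟨j, hj⟩ : ∃ j, (1 - E) *ᵥ Pi.single j 1 ≠ 0 := by
    by_contra hcon
    simp only [not_exists, not_not] at hcon
    have : (1 - E) = 0 := Matrix.ext_of_mulVec_single fun i => by rw [hcon, Matrix.zero_mulVec]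
    rw [← sub_eq_zero.mp this] at hEd
    simp at hEd
  set v := E *ᵥ Pi.single i 1
  set w := (1 - E) *ᵥ Pi.single j 1
  have hv : E *ᵥ v = v := by rw [Matrix.mulVec_mulVec, hEE]
  have hw : E *ᵥ w = 0 := by rw [Matrix.mulVec_mulVec, mul_sub, mul_one, hEE, sub_self, Matrix.zero_mulVec]
  let A : M₂ := (Matrix.of ![v, w])ᵀ
  have hA : IsUnit A := by
    rw [← Matrix.linearIndependent_cols_iff_isUnit]
    show LinearIndependent F ![v, w]
    rw [LinearIndependent.pair_iff]
    intro x y hxy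
    have h1 := congrArg (fun z => E *ᵥ z) hxy
    simp only [Matrix.mulVec_add, Matrix.mulVec_smul, hv, hw, smul_zero, add_zero, Matrix.mulVec_zero] at h1
    have hx : x = 0 := (smul_eq_zero.mp h1).resolve_right hi
    rw [hx, zero_smul, zero_add] at hxy
    exact ⟨hx, (smul_eq_zero.mp hxy).resolve_right hj⟩
  set a := hA.unit with had
  have hav : (a : M₂) = A := rfl
  set ai := ((a⁻¹ : GL (Fin 2) F) : M₂) with hai
  have haa : ai * (a : M₂) = 1 := Units.inv_mul a
  have haa' : (a : M₂) * ai = 1 := Units.mul_inv a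
  have hEA : E * (a : M₂) = (a : M₂) * !![1, 0; 0, 0] := by
    rw [hav]
    have h0 := fun k => congrFun hv k
    have h1 := fun k => congrFun hw k
    simp only [Matrix.mulVec, dotProduct, Fin.sum_univ_two] at h0 h1
    ext k l
    fin_cases l <;> simp [A, Matrix.mul_apply, Fin.sum_univ_two, h0, h1]
  let L' : M₂ →ₗ[F] M₂ := ((LinearMap.mulRight F (a : M₂)).comp (LinearMap.mulLeft F ai)).comp L
  have hL'v : ∀ X, L' X = ai * L X * (a : M₂) := fun X => rfl
  have hback : ∀ X, B X = (u : M₂) * ((a : M₂) * L' X * ai) := fun X => by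
    rw [hL'v, show (a : M₂) * (ai * L X * (a : M₂)) * ai = ((a : M₂) * ai) * L X * ((a : M₂) * ai) by
      simp only [mul_assoc], haa', one_mul, mul_one]
    show B X = (u : M₂) * (ui * B X)
    rw [← mul_assoc, huu', one_mul]
  have hL'1 : L' 1 = 1 := by rw [hL'v, hL1, mul_one, haa]
  have hL'E : L' !![1, 0; 0, 0] = !![1, 0; 0, 0] := by
    rw [hL'v, ← hE, mul_assoc, hEA, ← mul_assoc, haa, one_mul]
  have hL'det : ∀ X, (L' X).det = X.det := fun X => by
    rw [hL'v, Matrix.det_mul, Matrix.det_mul, hLdet, mul_right_comm, ← Matrix.det_mul, haa, Matrix.det_one,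
      one_mul]
  have hL'tr : ∀ X, (L' X) 0 0 + (L' X) 1 1 = X 0 0 + X 1 1 := fun X => by
    have h := hL'det (X + 1)
    rw [map_add, hL'1, hd1, hd1, hL'det] at h
    linear_combination h
  have hoff : ∀ X : M₂, X 0 0 = 0 → X 1 1 = 0 → (L' X) 0 0 = 0 ∧ (L' X) 1 1 = 0 := fun X h0 h1 => by
    have h := hL'det (X + !![1, 0; 0, 0])
    rw [map_add, hL'E] at h
    have h' := hL'det X
    have ht := hL'tr X
    simp [Matrix.det_fin_two, h0, h1] at h h' ht
    have h11 : (L' X) 1 1 = 0 := by linear_combination h - h'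
    exact ⟨by linear_combination ht - h11, h11⟩
  have hne : ∀ X : M₂, L' X = 0 → X = 0 := fun X h => hinj (by rw [hback, h]; simp)
  have hexp : ∀ X : M₂, X = X 0 0 • !![1, 0; 0, 0] + X 1 1 • (1 - !![1, 0; 0, 0]) + X 0 1 • !![0, 1; 0, 0] +
      X 1 0 • !![0, 0; 1, 0] := fun X => by
    ext k l
    fin_cases k <;> fin_cases l <;> simp
  obtain ⟨hY0, hY1⟩ := hoff !![0, 1; 0, 0] rfl rfl
  obtain ⟨hZ0, hZ1⟩ := hoff !![0, 0; 1, 0] rfl rfl
  set Y := L' !![0, 1; 0, 0] with hY
  set Z := L' !![0, 0; 1, 0] with hZ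
  have hYd : Y 0 1 * Y 1 0 = 0 := by
    have h := hL'det !![0, 1; 0, 0]
    rw [← hY] at h
    simp [Matrix.det_fin_two, hY0, hY1] at h
    exact mul_eq_zero.mpr h
  have hZd : Z 0 1 * Z 1 0 = 0 := by
    have h := hL'det !![0, 0; 1, 0]
    rw [← hZ] at h
    simp [Matrix.det_fin_two, hZ0, hZ1] at h
    exact mul_eq_zero.mpr h
  have hYZ : (Y 0 1 + Z 0 1) * (Y 1 0 + Z 1 0) = 1 := by
    have h := hL'det (!![0, 1; 0, 0] + !![0, 0; 1, 0])
    rw [map_add, ← hY, ← hZ] at h
    simp [Matrix.det_fin_two, hY0, hY1, hZ0, hZ1] at h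
    linear_combination h
  have hform : ∀ X, L' X = !![X 0 0, X 0 1 * Y 0 1 + X 1 0 * Z 0 1; X 0 1 * Y 1 0 + X 1 0 * Z 1 0, X 1 1] := by
    intro X
    conv_lhs => rw [hexp X]
    rw [map_add, map_add, map_add, map_smul, map_smul, map_smul, map_smul, map_sub, hL'1, hL'E, ← hY, ← hZ]
    ext k l
    fin_cases k <;> fin_cases l <;> simp [hY0, hY1, hZ0, hZ1]
  rcases mul_eq_zero.mp hYd with h | h
  · have hZ10 : Z 1 0 = 0 := by
      rcases mul_eq_zero.mp hZd with h' | h'
      · rw [h, h'] at hYZ; simp at hYZ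
      · exact h'
    rw [h, hZ10, zero_add, add_zero] at hYZ
    have hd : Y 1 0 ≠ 0 := fun h0 => by rw [h0, mul_zero] at hYZ; exact zero_ne_one hYZ
    have hdd : IsUnit (!![1, 0; 0, Y 1 0] : M₂) := by
      rw [Matrix.isUnit_iff_isUnit_det]; simp [Matrix.det_fin_two, hd]
    have hdd' : IsUnit (!![1, 0; 0, Z 0 1] : M₂) := by
      rw [Matrix.isUnit_iff_isUnit_det]
      simp [Matrix.det_fin_two]
      exact fun h0 => by rw [h0, zero_mul] at hYZ; exact zero_ne_one hYZ
    refine ⟨u * a * hdd.unit, hdd'.unit * a⁻¹, Or.inr fun X => ?_⟩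
    have hL'X : L' X = (hdd.unit : M₂) * Xᵀ * (hdd'.unit : M₂) := by
      rw [hform]
      ext k l
      fin_cases k <;> fin_cases l <;> simp [IsUnit.unit_spec, Matrix.mul_apply, Matrix.vecMul, dotProduct, Fin.sum_univ_two, h, hZ10]
      · ring
      · linear_combination -X 1 1 * hYZ
    rw [hback, hL'X, Units.val_mul, Units.val_mul, Units.val_mul, ← hai]
    simp only [mul_assoc]
  · have hZ01 : Z 0 1 = 0 := by
      rcases mul_eq_zero.mp hZd with h' | h'
      · exact h'
      · rw [h, h'] at hYZ; simp at hYZ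
    rw [h, hZ01, zero_add, add_zero] at hYZ
    have hd : Y 0 1 ≠ 0 := fun h0 => by rw [h0, zero_mul] at hYZ; exact zero_ne_one hYZ
    have hdd : IsUnit (!![1, 0; 0, Z 1 0] : M₂) := by
      rw [Matrix.isUnit_iff_isUnit_det]
      simp [Matrix.det_fin_two]
      exact fun h0 => by rw [h0, mul_zero] at hYZ; exact zero_ne_one hYZ
    have hdd' : IsUnit (!![1, 0; 0, Y 0 1] : M₂) := by
      rw [Matrix.isUnit_iff_isUnit_det]; simp [Matrix.det_fin_two, hd]
    refine ⟨u * a * hdd.unit, hdd'.unit * a⁻¹, Or.inl fun X => ?_⟩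
    have hL'X : L' X = (hdd.unit : M₂) * X * (hdd'.unit : M₂) := by
      rw [hform]
      ext k l
      fin_cases k <;> fin_cases l <;> simp [IsUnit.unit_spec, Matrix.mul_apply, Matrix.vecMul, dotProduct, Fin.sum_univ_two, h, hZ01]
      · ring
      · linear_combination -X 1 1 * hYZ
    rw [hback, hL'X, Units.val_mul, Units.val_mul, Units.val_mul, ← hai]
    simp only [mul_assoc]

end Cfsg.Agent.Aschbacher
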