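/-
Type (plus or minus) of an even-dimensional quadratic space over a finite field.
Main results: `plusOn_iff_form`, `isometric_of_type`, `plus_perp`, `plus_sup`, `plus_of_isometric`,
`decomp_type`, `plus_iff_disc`.
-/
import Cfsg.Agent.Lib.Orth.Halves
import Cfsg.Agent.Lib.Orth.EvenSymp
import Cfsg.Agent.Lib.Orth.DecompTools
import Cfsg.Agent.Lib.OrthRank.Basic
import Cfsg.Agent.Lib.PrimeDim.OrthCases

set_option autoImplicit false
set_option linter.unusedSectionVars false

namespace Cfsg.Agent.Aschbacher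

open Matrix Module
open Cfsg.Agent.PrimeDim
open Cfsg.Agent.Orth (perpSub mem_perpSub IsPlusForm)
open QuadraticMap (polar)

variable {ι : Type} [Fintype ι] [DecidableEq ι] {F : Type*} [Field F] [Fintype F]
variable {Q : QuadraticForm F (ι → F)}

/-- Non-degeneracy in the form used by the orthogonal library. -/
abbrev ND (Q : QuadraticForm F (ι → F)) (W : Submodule F (ι → F)) : Prop :=
  ∀ x ∈ W, x ≠ 0 → ∃ y ∈ W, polar ⇑Q x y ≠ 0

theorem res_nondeg {W : Submodule F (ι → F)} (hW : ND Q W) :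
    (Q.comp W.subtype).polarBilin.Nondegenerate := by
  have key : ∀ x : W, (∀ y : W, polar ⇑Q (x : ι → F) y = 0) → x = 0 := fun x hx => by
    by_contra h
    obtain ⟨y, hy, hne⟩ := hW _ x.2 (fun h' => h (Subtype.ext h'))
    exact hne (hx ⟨y, hy⟩)
  refine ⟨fun x hx => key x fun y => hx y, fun y hy => key y fun x => ?_⟩
  rw [Orth.pl_comm]
  exact hy x

theorem exists_sub_finrank (V : Submodule F (ι → F)) {k : ℕ} (hk : k ≤ finrank F V) :
    ∃ V₁ ≤ V, finrank F V₁ = k := by
  let b := Module.finBasis F V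
  refine ⟨Submodule.span F (Set.range fun i : Fin k => ((b (Fin.castLE hk i)) : ι → F)),
    Submodule.span_le.2 ?_, ?_⟩
  · rintro _ ⟨i, rfl⟩; exact (b _).2
  · have hli : LinearIndependent F (fun i : Fin k => ((b (Fin.castLE hk i)) : ι → F)) :=
      (b.linearIndependent.comp _ (Fin.castLE_injective _)).map' V.subtype (Submodule.ker_subtype V)
    rw [finrank_span_eq_card hli, Fintype.card_fin]

theorem two_mul_le_of_singular {W U : Submodule F (ι → F)} (hW : ND Q W) (hle : U ≤ W)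
    (hU : ∀ u ∈ U, Q u = 0) : 2 * finrank F U ≤ finrank F W := by
  have h := Forms.two_mul_finrank_singular_le (Q.comp W.subtype) (res_nondeg hW) (U.comap W.subtype)
    (fun u hu => hU _ hu)
  rwa [(Submodule.comapSubtypeEquivOfLe hle).finrank_eq] at h

theorem plusOn_iff_form {W : Submodule F (ι → F)} (hW : ND Q W) :
    Geo.IsPlusTypeOn ⇑Q W ↔ IsPlusForm (Q.comp W.subtype) := by
  constructor
  · rintro ⟨U, hle, hU, hd⟩
    exact ⟨U.comap W.subtype, fun u hu => hU _ hu,
      by rw [(Submodule.comapSubtypeEquivOfLe hle).finrank_eq, hd]⟩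
  · rintro ⟨U, hU, hd⟩
    refine ⟨U.map W.subtype, Submodule.map_subtype_le _ _, ?_, ?_⟩
    · rintro _ ⟨u, hu, rfl⟩; exact hU u hu
    · have h1 := two_mul_le_of_singular hW (Submodule.map_subtype_le W U)
        (by rintro _ ⟨u, hu, rfl⟩; exact hU u hu)
      rw [(Submodule.equivMapOfInjective W.subtype W.injective_subtype U).finrank_eq.symm] at h1 ⊢
      omega

/-- Spaces of the same dimension and type are isometric. -/
theorem isometric_of_type {W W' : Submodule F (ι → F)} (hW : ND Q W) (hW' : ND Q W') {r : ℕ}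
    (hd : finrank F W = 2 * r) (hd' : finrank F W' = 2 * r) (hr : 0 < r)
    (h : Geo.IsPlusTypeOn ⇑Q W ↔ Geo.IsPlusTypeOn ⇑Q W') : Geo.AreIsometricFor ⇑Q W W' := by
  obtain ⟨k, rfl⟩ : ∃ k, r = k + 1 := ⟨r - 1, by omega⟩
  rw [plusOn_iff_form hW, plusOn_iff_form hW'] at h
  obtain ⟨ζ, -, hζ⟩ := Forms.exists_no_root (F := F)
  rcases Orth.classify_type _ (res_nondeg hW) hd hζ with ⟨h1, e, he⟩ | ⟨h1, e, he⟩ <;>
    rcases Orth.classify_type _ (res_nondeg hW') hd' hζ with ⟨h2, e', he'⟩ | ⟨h2, e', he'⟩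
  · exact ⟨e.symm.trans e', fun v => by
      show (Q.comp W'.subtype) (e' (e.symm v)) = (Q.comp W.subtype) v
      rw [he', ← he, e.apply_symm_apply]⟩
  · exact absurd (h.1 h1) h2
  · exact absurd (h.2 h2) h1
  · exact ⟨e.symm.trans e', fun v => by
      show (Q.comp W'.subtype) (e' (e.symm v)) = (Q.comp W.subtype) v
      rw [he', ← he, e.apply_symm_apply]⟩

/-- Orthogonal independent spaces add up. -/
theorem disjoint_of_orth {A B : Submodule F (ι → F)} (hA : ND Q A)
    (horth : ∀ a ∈ A, ∀ b ∈ B, polar ⇑Q a b = 0) : A ⊓ B = ⊥ := by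
  rw [Submodule.eq_bot_iff]
  rintro x ⟨hxA, hxB⟩
  by_contra h
  obtain ⟨y, hy, hne⟩ := hA x hxA h
  exact hne (by rw [Orth.pl_comm]; exact horth y hy x hxB)

theorem finrank_sup_orth {A B : Submodule F (ι → F)} (hA : ND Q A)
    (horth : ∀ a ∈ A, ∀ b ∈ B, polar ⇑Q a b = 0) :
    finrank F ↥(A ⊔ B) = finrank F A + finrank F B := by
  have h := Submodule.finrank_sup_add_finrank_inf_eq A B
  rw [disjoint_of_orth hA horth, finrank_bot, add_zero] at h
  exact h

theorem nd_sup {A B : Submodule F (ι → F)} (hA : ND Q A) (hB : ND Q B)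
    (horth : ∀ a ∈ A, ∀ b ∈ B, polar ⇑Q a b = 0) : ND Q (A ⊔ B) := by
  intro x hx h0
  obtain ⟨a, ha, b, hb, rfl⟩ := Submodule.mem_sup.1 hx
  by_cases ha0 : a = 0
  · subst ha0
    obtain ⟨y, hy, hne⟩ := hB b hb (by simpa using h0)
    exact ⟨y, Submodule.mem_sup_right hy, by rwa [zero_add]⟩
  · obtain ⟨y, hy, hne⟩ := hA a ha ha0
    refine ⟨y, Submodule.mem_sup_left hy, ?_⟩
    rwa [Orth.pl_add_left, show polar ⇑Q b y = 0 by rw [Orth.pl_comm]; exact horth y hy b hb, add_zero]

theorem plus_sup {A B : Submodule F (ι → F)} (hA : ND Q A)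
    (horth : ∀ a ∈ A, ∀ b ∈ B, polar ⇑Q a b = 0) (hpA : Geo.IsPlusTypeOn ⇑Q A)
    (hpB : Geo.IsPlusTypeOn ⇑Q B) : Geo.IsPlusTypeOn ⇑Q (A ⊔ B) := by
  obtain ⟨U, hU, hU0, hUd⟩ := hpA
  obtain ⟨V, hV, hV0, hVd⟩ := hpB
  refine ⟨U ⊔ V, sup_le_sup hU hV, fun x hx => ?_, ?_⟩
  · obtain ⟨u, hu, v, hv, rfl⟩ := Submodule.mem_sup.1 hx
    rw [Orth.Q_add, hU0 u hu, hV0 v hv, horth u (hU hu) v (hV hv), add_zero, add_zero]
  · have h := Submodule.finrank_sup_add_finrank_inf_eq U V
    rw [le_bot_iff.1 ((inf_le_inf hU hV).trans (disjoint_of_orth hA horth).le), finrank_bot,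
      add_zero] at h
    rw [h, finrank_sup_orth hA horth]
    omega

/-- Two orthogonal isometric spaces of even dimension span a space of plus type. -/
theorem plus_of_isometric {A B : Submodule F (ι → F)} (hA : ND Q A) {r : ℕ} (hd : finrank F A = 2 * r)
    (horth : ∀ a ∈ A, ∀ b ∈ B, polar ⇑Q a b = 0) (hiso : Geo.AreIsometricFor ⇑Q A B) :
    Geo.IsPlusTypeOn ⇑Q (A ⊔ B) := by
  obtain ⟨e, he⟩ := hiso
  obtain ⟨θ, hθ⟩ := Orth.exists_antiIsometry _ (res_nondeg hA) hd
  let L : A →ₗ[F] (ι → F) := A.subtype + B.subtype ∘ₗ e.toLinearMap ∘ₗ θ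
  have hL : ∀ w, L w = (w : ι → F) + (e (θ w) : ι → F) := fun _ => rfl
  have hinj : Function.Injective L := by
    rw [← LinearMap.ker_eq_bot, Submodule.eq_bot_iff]
    intro w hw
    rw [LinearMap.mem_ker, hL] at hw
    have hmem : (w : ι → F) ∈ A ⊓ B := ⟨w.2, by
      rw [eq_neg_of_add_eq_zero_left hw]; exact B.neg_mem (e (θ w)).2⟩
    rw [disjoint_of_orth hA horth, Submodule.mem_bot] at hmem
    exact Subtype.ext hmem
  refine ⟨LinearMap.range L, ?_, ?_, ?_⟩
  · rintro _ ⟨w, rfl⟩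
    rw [hL]
    exact add_mem (Submodule.mem_sup_left w.2) (Submodule.mem_sup_right (e (θ w)).2)
  · rintro _ ⟨w, rfl⟩
    rw [hL, Orth.Q_add, he, horth _ w.2 _ (e (θ w)).2, add_zero,
      show Q (θ w : ι → F) = -Q (w : ι → F) from hθ w, add_neg_cancel]
  · rw [LinearMap.finrank_range_of_inj hinj, finrank_sup_orth hA horth, ← e.finrank_eq, two_mul]

/-- Witt cancellation of a plus part. -/
theorem plus_perp (hQ : Q.polarBilin.Nondegenerate) {W : Submodule F (ι → F)} (hW : ND Q W)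
    (hpW : Geo.IsPlusTypeOn ⇑Q W) (hp : Geo.IsPlusTypeOn ⇑Q ⊤) :
    Geo.IsPlusTypeOn ⇑Q (perpSub Q W) := by
  obtain ⟨U, hUW, hU0, hUd⟩ := hpW
  obtain ⟨V, -, hV0, hVd⟩ := hp
  rw [finrank_top, Orth.finrank_space] at hVd
  have hWn : finrank F W ≤ Fintype.card ι := by
    simpa [Orth.finrank_space] using Submodule.finrank_le W
  obtain ⟨V₁, hV₁, hV₁d⟩ := exists_sub_finrank V (k := finrank F U) (by omega)
  obtain ⟨g, -, hg⟩ := OrthAct.exists_iso_map hQ (LinearEquiv.ofFinrankEq V₁ U hV₁d)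
    (fun x => by rw [hU0 _ (Submodule.coe_mem _), hV0 _ (hV₁ x.2)])
  set V' := V.map (Orth.ap g) with hV'
  have hUV : U ≤ V' := hg ▸ Submodule.map_mono hV₁
  have hV'0 : ∀ v ∈ V', Q v = 0 := by
    rintro _ ⟨v, hv, rfl⟩; rw [Orth.Q_ap, hV0 v hv]
  have hV'd : finrank F V' = finrank F V := Orth.finrank_map_ap g V
  have hWp : ND Q (perpSub Q W) := Orth.perpSub_nondeg hQ hW
  have hc : IsCompl W (perpSub Q W) := by
    refine IsCompl.of_eq ?_ ?_
    · exact disjoint_of_orth hW fun a ha b hb => hb a ha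
    · refine Submodule.eq_top_of_finrank_eq ?_
      rw [finrank_sup_orth (B := perpSub Q W) hW fun a ha b hb => hb a ha, Orth.finrank_perpSub hQ, Orth.finrank_space]
      omega
  -- the components of `V'` in the complement
  let π := Submodule.projection (perpSub Q W) W hc.symm
  have hπW : ∀ x, x - π x ∈ W := fun x => Submodule.sub_projection_mem _ x
  have hπP : ∀ x, π x ∈ perpSub Q W := fun x => Submodule.projection_apply_mem _ x
  have hkill : ∀ x ∈ V', ∀ u ∈ U, polar ⇑Q (x - π x) u = 0 := by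
    intro x hx u hu
    rw [Orth.pl_sub_left, OrthAct.polar_eq_zero_of_singular hV'0 hx (hUV hu),
      show polar ⇑Q (π x) u = 0 by rw [Orth.pl_comm]; exact hπP x u (hUW hu), sub_zero]
  -- `U` is its own orthogonal space inside `W`
  have hUmax : ∀ w ∈ W, (∀ u ∈ U, polar ⇑Q w u = 0) → w ∈ U := by
    set S := perpSub Q (perpSub Q W ⊔ U) with hS
    have horth : ∀ a ∈ perpSub Q W, ∀ b ∈ U, polar ⇑Q a b = 0 := fun a ha b hb => by
      rw [Orth.pl_comm]; exact ha b (hUW hb)
    have hSd : finrank F S = finrank F U := by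
      rw [hS, Orth.finrank_perpSub hQ, finrank_sup_orth hWp horth, Orth.finrank_perpSub hQ]
      omega
    have hle : U ≤ S := fun u hu => mem_perpSub.2 fun y hy => by
      obtain ⟨a, ha, b, hb, rfl⟩ := Submodule.mem_sup.1 hy
      rw [Orth.pl_add_left, horth a ha u hu, OrthAct.polar_eq_zero_of_singular hU0 hb hu, add_zero]
    intro w hw hperp
    rw [Submodule.eq_of_le_of_finrank_eq hle hSd.symm]
    refine mem_perpSub.2 fun y hy => ?_
    obtain ⟨a, ha, b, hb, rfl⟩ := Submodule.mem_sup.1 hy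
    rw [Orth.pl_add_left, show polar ⇑Q a w = 0 by rw [Orth.pl_comm]; exact ha w hw,
      show polar ⇑Q b w = 0 by rw [Orth.pl_comm]; exact hperp b hb, add_zero]
  have hmem : ∀ x ∈ V', x - π x ∈ U := fun x hx => hUmax _ (hπW x) (hkill x hx)
  have hker : ∀ x ∈ V', π x = 0 → x ∈ U := fun x hx h0 => by simpa [h0] using hmem x hx
  refine ⟨V'.map π, ?_, ?_, ?_⟩
  · rintro _ ⟨x, -, rfl⟩; exact hπP x
  · rintro _ ⟨x, hx, rfl⟩
    have h1 := hV'0 x hx
    have h2 : x = (x - π x) + π x := (sub_add_cancel x _).symm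
    rw [h2, Orth.Q_add, hU0 _ (hmem x hx), show polar ⇑Q (x - π x) (π x) = 0 from hπP x _ (hπW x),
      zero_add, add_zero] at h1
    exact h1
  · have h1 : finrank F ↥(V'.map π) ≥ finrank F V' - finrank F U := by
      have h := LinearMap.finrank_range_add_finrank_ker (π.domRestrict V')
      rw [LinearMap.range_domRestrict] at h
      have h2 : finrank F ↥(LinearMap.ker (π.domRestrict V')) ≤ finrank F U := by
        refine le_trans ?_ (Submodule.finrank_mono
          (show (LinearMap.ker (π.domRestrict V')).map V'.subtype ≤ U by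
            rintro _ ⟨x, hx, rfl⟩; exact hker x x.2 hx))
        rw [(Submodule.equivMapOfInjective V'.subtype V'.injective_subtype _).finrank_eq.symm]
      omega
    have h2 : 2 * finrank F ↥(V'.map π) ≤ finrank F ↥(perpSub Q W) := by
      refine two_mul_le_of_singular hWp ?_ ?_
      · rintro _ ⟨x, -, rfl⟩; exact hπP x
      · rintro _ ⟨x, hx, rfl⟩
        have h3 := hV'0 x hx
        rw [← sub_add_cancel x (π x), Orth.Q_add, hU0 _ (hmem x hx),
          show polar ⇑Q (x - π x) (π x) = 0 from hπP x _ (hπW x), zero_add, add_zero] at h3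
        exact h3
    rw [Orth.finrank_perpSub hQ] at h2 ⊢
    omega

theorem perp_eq_of_top (hQ : Q.polarBilin.Nondegenerate) {A B : Submodule F (ι → F)} (hA : ND Q A)
    (horth : ∀ a ∈ A, ∀ b ∈ B, polar ⇑Q a b = 0) (htop : A ⊔ B = ⊤) : perpSub Q A = B := by
  refine (Submodule.eq_of_le_of_finrank_eq
    (show B ≤ perpSub Q A from fun b hb a ha => horth a ha b hb) ?_).symm
  have h := finrank_sup_orth hA horth
  rw [htop, finrank_top, Orth.finrank_space] at h
  rw [Orth.finrank_perpSub hQ]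
  omega

section Decomp

variable {t m : ℕ} {D : Fin t → Submodule F (ι → F)}

theorem member_nd (hD : Geo.IsOrthogonalMDecomposition ⇑Q m D) (i : Fin t) : ND Q (D i) :=
  Orth.nondegOn_of_geo (hD.decomp.nondegenerate i)

theorem orth_biSup (hD : Geo.IsOrthogonalMDecomposition ⇑Q m D) {i : Fin t} {s : Finset (Fin t)}
    (hi : i ∉ s) : ∀ a ∈ D i, ∀ b ∈ ⨆ j ∈ s, D j, polar ⇑Q a b = 0 := by
  intro a ha b hb
  have hle : (⨆ j ∈ s, D j) ≤ LinearMap.ker (Q.polarBilin a) :=
    iSup₂_le fun j hj b hb => hD.decomp.orthogonal i j (fun h => hi (h ▸ hj)) a ha b hb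
  exact hle hb

theorem nd_biSup (hD : Geo.IsOrthogonalMDecomposition ⇑Q m D) :
    ∀ s : Finset (Fin t), ND Q (⨆ j ∈ s, D j) := by
  classical
  intro s
  induction s using Finset.induction_on with
  | empty =>
    intro x hx h0
    simp at hx
    exact absurd hx h0
  | @insert i s hi ih =>
    rw [Finset.iSup_insert]
    exact nd_sup (member_nd hD i) ih (orth_biSup hD hi)

theorem plus_even_biSup (hD : Geo.IsOrthogonalMDecomposition ⇑Q m D) {r : ℕ} (hm : m = 2 * r) :
    ∀ (k : ℕ) (s : Finset (Fin t)), s.card = 2 * k → Geo.IsPlusTypeOn ⇑Q (⨆ j ∈ s, D j) := by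
  classical
  intro k
  induction k with
  | zero =>
    intro s hs
    rw [Finset.card_eq_zero.1 hs]
    have h0 : (⨆ j ∈ (∅ : Finset (Fin t)), D j) = ⊥ := by simp
    exact ⟨⊥, bot_le, fun w hw => by rw [Submodule.mem_bot] at hw; rw [hw, QuadraticMap.map_zero],
      by rw [h0, finrank_bot, mul_zero]⟩
  | succ k ih =>
    intro s hs
    obtain ⟨a, ha⟩ := Finset.card_pos.1 (show 0 < s.card by omega)
    obtain ⟨b, hb⟩ := Finset.card_pos.1 (show 0 < (s.erase a).card by
      rw [Finset.card_erase_of_mem ha]; omega)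
    set s' := (s.erase a).erase b with hs'
    have hab : a ≠ b := fun h => by rw [h] at hb; simp at hb
    have has' : a ∉ s' := by simp [hs']
    have hbs' : b ∉ s' := by simp [hs']
    have hcard : s'.card = 2 * k := by
      rw [hs', Finset.card_erase_of_mem hb, Finset.card_erase_of_mem ha]; omega
    have hs_eq : s = insert a (insert b s') := by
      rw [hs', Finset.insert_erase hb, Finset.insert_erase ha]
    rw [hs_eq, Finset.iSup_insert, Finset.iSup_insert, ← sup_assoc]
    refine plus_sup (nd_sup (member_nd hD a) (member_nd hD b) (hD.decomp.orthogonal a b hab)) ?_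
      (plus_of_isometric (member_nd hD a) ((hD.decomp.decomp.finrank_eq a).trans hm)
        (hD.decomp.orthogonal a b hab) (hD.isometric a b)) (ih s' hcard)
    intro x hx y hy
    obtain ⟨u, hu, v, hv, rfl⟩ := Submodule.mem_sup.1 hx
    rw [Orth.pl_add_left, orth_biSup hD has' u hu y hy, orth_biSup hD hbs' v hv y hy, add_zero]

/-- The type of an orthogonal decomposition into isometric members of even dimension. -/
theorem decomp_type (hQ : Q.polarBilin.Nondegenerate) (hD : Geo.IsOrthogonalMDecomposition ⇑Q m D)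
    (hm : Even m) (i : Fin t) :
    Geo.IsPlusTypeOn ⇑Q ⊤ ↔ Even t ∨ Geo.IsPlusTypeOn ⇑Q (D i) := by
  classical
  obtain ⟨r, rfl⟩ := hm
  have hr : r + r = 2 * r := by omega
  have htop : (⨆ j ∈ (Finset.univ : Finset (Fin t)), D j) = ⊤ := by
    simpa using hD.decomp.decomp.iSup_eq_top
  rcases Nat.even_or_odd t with ht | ht
  · obtain ⟨k, hk⟩ := ht
    refine ⟨fun _ => .inl ⟨k, hk⟩, fun _ => ?_⟩
    rw [← htop]
    exact plus_even_biSup hD hr k _ (by simp; omega)
  · obtain ⟨k, hk⟩ := ht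
    set s := (Finset.univ : Finset (Fin t)).erase i
    have hi : i ∉ s := by simp [s]
    have hs : Geo.IsPlusTypeOn ⇑Q (⨆ j ∈ s, D j) := plus_even_biSup hD hr k s (by
      simp [s]; omega)
    have hsup : D i ⊔ (⨆ j ∈ s, D j) = ⊤ := by
      rw [← htop, ← Finset.insert_erase (Finset.mem_univ i), Finset.iSup_insert]
    have horth := orth_biSup hD hi
    constructor
    · intro hp
      have h := plus_perp hQ (nd_biSup hD s) hs hp
      rw [perp_eq_of_top hQ (nd_biSup hD s) (fun a ha b hb => by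
        rw [Orth.pl_comm]; exact horth b hb a ha) (by rw [sup_comm, hsup])] at h
      exact .inr h
    · rintro (h | h)
      · exact absurd h (Nat.not_even_iff_odd.2 ⟨k, hk⟩)
      · rw [← hsup]
        exact plus_sup (member_nd hD i) horth h hs

end Decomp

section Disc

theorem det_gram_reindex {κ : Type} [Fintype κ] [DecidableEq κ] (φ : κ ≃ ι) (P : QuadraticForm F (κ → F))
    (e : (κ → F) ≃ₗ[F] (ι → F)) (he : ∀ v, Q (e v) = P v) :
    IsSquare ((gramQ Q).det * (Orth.gram ⇑P).det) := by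
  let b : Basis ι F (ι → F) := ((Pi.basisFun F κ).map e).reindex φ
  have h1 : OrthRank.gram Q b = (Orth.gram ⇑P).submatrix φ.symm φ.symm := by
    ext i j
    simp only [OrthRank.gram, Matrix.of_apply, Matrix.submatrix_apply, Orth.gram, b,
      Basis.reindex_apply, Basis.map_apply, Pi.basisFun_apply]
    simp only [polar, ← map_add, he]
  have h2 : OrthRank.gram Q (Pi.basisFun F ι) = gramQ Q := by
    ext i j; simp [OrthRank.gram, gramQ, Geo.gramMatrix]
  have h := OrthRank.isSquare_gram_det_mul (Q := Q) (Pi.basisFun F ι) b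
  rwa [h1, h2, Matrix.det_submatrix_equiv_self] at h

/-- In odd characteristic the discriminant decides the type. -/
theorem plus_iff_disc (hQ : Q.polarBilin.Nondegenerate) (h2 : (2 : F) ≠ 0) {k : ℕ} (hk : 1 ≤ k)
    (hn : Fintype.card ι = 2 * k) :
    Geo.IsPlusTypeOn ⇑Q ⊤ ↔ IsSquare ((-1) ^ k * (gramQ Q).det) := by
  classical
  obtain ⟨j, rfl⟩ : ∃ j, k = j + 1 := ⟨k - 1, by omega⟩
  have hdim : finrank F (ι → F) = 2 * (j + 1) := by rw [Orth.finrank_space, hn]
  have hplus : Geo.IsPlusTypeOn ⇑Q ⊤ ↔ IsPlusForm Q := by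
    constructor
    · rintro ⟨U, -, hU, hd⟩
      exact ⟨U, hU, by rw [finrank_top] at hd; omega⟩
    · rintro ⟨U, hU, hd⟩
      refine ⟨U, le_top, hU, ?_⟩
      have := Forms.two_mul_finrank_singular_le Q hQ U hU
      rw [finrank_top]; omega
  have hdet : (gramQ Q).det ≠ 0 := gramQ_det Q hQ
  obtain ⟨ζ, hroot, hζ⟩ := Forms.exists_no_root (F := F)
  rw [hplus]
  rcases Orth.classify_type Q hQ hdim hζ with ⟨h1, e, he⟩ | ⟨h1, e, he⟩
  · refine iff_of_true h1 ?_
    obtain ⟨s, hs⟩ := det_gram_reindex (Fintype.equivOfCardEq (by simp; omega)) (Forms.qfPlus (j + 1) F) e he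
    rw [Forms.qfPlus_eq,
      Orth.det_gram_quadPlus] at hs
    exact ⟨s, by rw [← hs, mul_comm]⟩
  · refine iff_of_false h1 fun hsq => ?_
    obtain ⟨s, hs⟩ := det_gram_reindex (Fintype.equivOfCardEq (by simp; omega)) (Forms.qfMinus j F 1 ζ) e he
    rw [Forms.qfMinus_eq,
      Orth.det_gram_quadMinus] at hs
    obtain ⟨a, ha⟩ := hsq
    have ha0 : a ≠ 0 := fun h => by
      rw [h, mul_zero] at ha
      exact mul_ne_zero (pow_ne_zero _ (neg_ne_zero.2 one_ne_zero)) hdet ha
    have hd : (1 : F) * 1 - 4 * ζ = (s / a) ^ 2 := by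
      rw [div_pow, eq_div_iff (pow_ne_zero _ ha0), sq s, ← hs, sq a, ← ha]
      ring
    refine hroot ((-1 + s / a) / 2) ?_
    have h4 : (4 : F) ≠ 0 := by
      rw [show (4 : F) = 2 * 2 by norm_num]; exact mul_ne_zero h2 h2
    field_simp
    field_simp at hd
    linear_combination -hd

end Disc

end Cfsg.Agent.Aschbacher
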