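/-
Invariant forms of spanning groups, and subfield groups.
Main results: `irred_of_span`, `formOutcome_of_trace` (trace condition gives a similarity group),
`trace_inv_of_form`, `subfield_of_trace`.
-/
import Cfsg.Agent.Lib.PrimeDim.Clifford
import Cfsg.Agent.Lib.AltRank.Basic

set_option autoImplicit false

namespace Cfsg.Agent.Aschbacher

open Matrix
open Cfsg.Agent.PrimeDim

variable {ι : Type} [Fintype ι] [DecidableEq ι] {F : Type*} [Field F]

theorem comm_of_span {S : Set (Matrix ι ι F)} (hS : Submodule.span F S = ⊤) (M : Matrix ι ι F)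
    (hM : ∀ s ∈ S, M * s = s * M) : ∀ X, M * X = X * M := by
  intro X
  have hX : X ∈ Submodule.span F S := by rw [hS]; trivial
  induction hX using Submodule.span_induction with
  | mem x hx => exact hM x hx
  | zero => simp
  | add p q _ _ hp hq => rw [mul_add, add_mul, hp, hq]
  | smul r p _ hp => rw [Matrix.mul_smul, Matrix.smul_mul, hp]

theorem scalar_of_span {S : Set (Matrix ι ι F)} (hS : Submodule.span F S = ⊤) (M : Matrix ι ι F)
    (hM : ∀ s ∈ S, M * s = s * M) : ∃ c : F, M = c • 1 := by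
  obtain ⟨c, hc⟩ := Matrix.mem_range_scalar_of_commute_single (M := M)
    (fun i j _ => (comm_of_span hS M hM _).symm)
  exact ⟨c, by rw [← hc, Matrix.smul_one_eq_diagonal]; rfl⟩

theorem irred_of_span {S : Set (Matrix ι ι F)} (hS : Submodule.span F S = ⊤) : Geo.ActsIrreducibly S := by
  intro W hW
  by_cases hb : W = ⊥
  · exact Or.inl hb
  right
  obtain ⟨w, hw, hw0⟩ := Submodule.exists_mem_ne_zero_of_ne_bot hb
  have hall : ∀ X : Matrix ι ι F, X *ᵥ w ∈ W := by
    intro X
    have hX : X ∈ Submodule.span F S := by rw [hS]; trivial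
    induction hX using Submodule.span_induction with
    | mem x hx => exact (mapsTo_iff_mulVec x W).mp (hW x hx) w hw
    | zero => simp
    | add p q _ _ hp hq => rw [Matrix.add_mulVec]; exact W.add_mem hp hq
    | smul r p _ hp => rw [Matrix.smul_mulVec]; exact W.smul_mem r hp
  obtain ⟨k, hk⟩ : ∃ k, w k ≠ 0 := Function.ne_iff.mp hw0
  refine eq_top_iff.mpr fun v _ => ?_
  have := hall (Matrix.vecMulVec v (Pi.single k ((w k)⁻¹)))
  rwa [Matrix.vecMulVec_mulVec, single_dotProduct, inv_mul_cancel₀ hk, MulOpposite.op_one, one_smul] at this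

theorem absIrred_of_span {S : Set (Matrix ι ι F)} (hS : Submodule.span F S = ⊤) :
    Geo.ActsAbsolutelyIrreducibly S := ⟨irred_of_span hS, fun M hM => scalar_of_span hS M hM⟩

/-! ### Gram matrices -/

theorem formOfGram_eq (σ : F → F) (G : Matrix ι ι F) (x y : ι → F) :
    Geo.formOfGram σ G x y = x ⬝ᵥ (G *ᵥ (σ ∘ y)) := by
  simp [Geo.formOfGram, dotProduct, Matrix.mulVec, Finset.mul_sum, mul_assoc]

theorem comp_mulVec (σ : F →+* F) (A : Matrix ι ι F) (v : ι → F) :
    σ ∘ (A *ᵥ v) = A.map σ *ᵥ (σ ∘ v) := funext fun i => RingHom.map_mulVec σ A v i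

theorem formOfGram_mulVec (σ : F →+* F) (G A : Matrix ι ι F) (x y : ι → F) :
    Geo.formOfGram σ G (A *ᵥ x) (A *ᵥ y) = Geo.formOfGram σ (Aᵀ * G * A.map σ) x y := by
  rw [formOfGram_eq, formOfGram_eq, comp_mulVec, Matrix.mulVec_mulVec, ← Matrix.vecMul_transpose,
    ← Matrix.dotProduct_mulVec, Matrix.mulVec_mulVec, mul_assoc]

theorem formOfGram_single (σ : F →+* F) (G : Matrix ι ι F) (a b : ι) :
    Geo.formOfGram σ G (Pi.single a 1) (Pi.single b 1) = G a b := by
  have : σ ∘ (Pi.single b 1 : ι → F) = Pi.single b 1 := by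
    ext i; by_cases h : i = b <;> simp [h]
  rw [formOfGram_eq, this]
  simp

theorem formOfGram_nondegenerate (σ : F →+* F) {G : Matrix ι ι F} (hG : IsUnit G.det) :
    Geo.IsNondegenerateForm (Geo.formOfGram σ G) := by
  intro v hv
  have hσv : σ ∘ v ≠ 0 := by
    intro h
    exact hv (funext fun i => σ.injective (by simpa using congrFun h i))
  constructor
  · obtain ⟨a, ha⟩ : ∃ a, (G *ᵥ (σ ∘ v)) a ≠ 0 := by
      refine Function.ne_iff.mp fun h => hσv ?_
      exact Matrix.mulVec_injective_iff_isUnit.mpr ((Matrix.isUnit_iff_isUnit_det G).mpr hG)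
        (h.trans (Matrix.mulVec_zero G).symm)
    exact ⟨Pi.single a 1, by rw [formOfGram_eq, single_dotProduct, one_mul]; exact ha⟩
  · obtain ⟨a, ha⟩ : ∃ a, (v ᵥ* G) a ≠ 0 := by
      refine Function.ne_iff.mp fun h => hv ?_
      exact Matrix.vecMul_injective_iff_isUnit.mpr ((Matrix.isUnit_iff_isUnit_det G).mpr hG)
        (h.trans (Matrix.zero_vecMul G).symm)
    refine ⟨Pi.single a 1, ?_⟩
    have : σ ∘ (Pi.single a 1 : ι → F) = Pi.single a 1 := by
      ext i; by_cases h : i = a <;> simp [h]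
    rw [formOfGram_eq, Matrix.dotProduct_mulVec, this, dotProduct_single, mul_one]
    exact ha

theorem formOfGram_bilinear (G : Matrix ι ι F) : Geo.IsBilinearForm (Geo.formOfGram (RingHom.id F) G) := by
  refine ⟨?_, ?_, ?_, ?_⟩ <;> intros <;>
    simp [formOfGram_eq, Matrix.mulVec_add, Matrix.mulVec_smul]

/-- `G` is invariant under every element of `P`. -/
def Inv (σ : F →+* F) (P : Subgroup (GL ι F)) (G : Matrix ι ι F) : Prop :=
  ∀ x ∈ P, (x : Matrix ι ι F)ᵀ * G * (x : Matrix ι ι F).map σ = G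

theorem Inv.trace_inv {σ : F →+* F} {P : Subgroup (GL ι F)} {G : Matrix ι ι F} (h : Inv σ P G)
    (hG : IsUnit G.det) {x : GL ι F} (hx : x ∈ P) :
    ((x⁻¹ : GL ι F) : Matrix ι ι F).trace = σ (x : Matrix ι ι F).trace := by
  obtain ⟨X, hX⟩ : ∃ X : Matrix ι ι F, X = (x : Matrix ι ι F) := ⟨_, rfl⟩
  obtain ⟨Y, hY⟩ : ∃ Y : Matrix ι ι F, Y = ((x⁻¹ : GL ι F) : Matrix ι ι F) := ⟨_, rfl⟩
  have hYX : X * Y = 1 := by rw [hX, hY, Units.mul_inv]
  have h1 := h x hx
  rw [← hX] at h1
  have h2 : X.map σ = G⁻¹ * (Yᵀ * G) := by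
    have h3 : G * X.map σ = Yᵀ * G := by
      calc G * X.map σ = (X * Y)ᵀ * G * X.map σ := by rw [hYX]; simp
        _ = Yᵀ * (Xᵀ * G * X.map σ) := by rw [Matrix.transpose_mul]; simp [mul_assoc]
        _ = Yᵀ * G := by rw [h1]
    rw [← h3, Matrix.nonsing_inv_mul_cancel_left _ _ hG]
  rw [← hX, ← hY]
  calc Y.trace = (Yᵀ).trace := (Matrix.trace_transpose Y).symm
    _ = (G⁻¹ * (Yᵀ * G)).trace := by
      rw [Matrix.trace_mul_comm, mul_assoc, Matrix.mul_nonsing_inv _ hG, mul_one]
    _ = σ X.trace := by rw [← h2]; exact (AddMonoidHom.map_trace σ.toAddMonoidHom X).symm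

theorem inv_gramMatrix {σ : F →+* F} {P : Subgroup (GL ι F)} {f : (ι → F) → (ι → F) → F}
    {G : Matrix ι ι F} (hf : ∀ u v, f u v = Geo.formOfGram σ G u v)
    (hP : Geo.FixesForm (Geo.matrixSet P) f) : Inv σ P G := by
  intro x hx
  ext a b
  have := hP _ (mem_matrixSet hx) (Pi.single a 1) (Pi.single b 1)
  rwa [hf, hf, formOfGram_mulVec, formOfGram_single, formOfGram_single] at this

theorem eq_formOfGram (σ : F →+* F) {f : (ι → F) → (ι → F) → F}
    (hal : ∀ x y v, f (x + y) v = f x v + f y v) (hsl : ∀ (c : F) (x v : ι → F), f (c • x) v = c * f x v)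
    (har : ∀ v x y, f v (x + y) = f v x + f v y) (hsr : ∀ (c : F) (v x : ι → F), f v (c • x) = σ c * f v x)
    (u v : ι → F) : f u v = Geo.formOfGram σ (Geo.gramMatrix f) u v := by
  let L : (ι → F) → (ι → F) →ₗ[F] F := fun v =>
    { toFun := fun x => f x v, map_add' := fun x y => hal x y v, map_smul' := fun c x => hsl c x v }
  let R : (ι → F) → (ι → F) →ₛₗ[σ] F := fun u =>
    { toFun := fun x => f u x, map_add' := har u, map_smul' := fun c x => hsr c u x }
  have hu : u = ∑ a, u a • (Pi.single a 1 : ι → F) := by ext i; simp [Finset.sum_apply, Pi.single_apply]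
  have hv : v = ∑ b, v b • (Pi.single b 1 : ι → F) := by ext i; simp [Finset.sum_apply, Pi.single_apply]
  have h1 : f u v = ∑ a, u a * f (Pi.single a 1) v := by
    conv_lhs => rw [hu]
    show L v _ = _
    rw [map_sum]
    exact Finset.sum_congr rfl fun a _ => by rw [map_smul]; rfl
  have h2 : ∀ a, f (Pi.single a 1) v = ∑ b, σ (v b) * f (Pi.single a 1) (Pi.single b 1) := by
    intro a
    conv_lhs => rw [hv]
    show R _ _ = _
    rw [map_sum]
    exact Finset.sum_congr rfl fun b _ => by rw [map_smulₛₗ]; rfl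
  rw [h1]
  simp only [h2, Geo.formOfGram, Geo.gramMatrix, Finset.mul_sum]
  exact Finset.sum_congr rfl fun a _ => Finset.sum_congr rfl fun b _ => by ring

theorem det_gramMatrix_ne_zero (σ : F →+* F) {f : (ι → F) → (ι → F) → F} {G : Matrix ι ι F}
    (hf : ∀ u v, f u v = Geo.formOfGram σ G u v) (hnd : Geo.IsNondegenerateForm f) : IsUnit G.det := by
  rw [isUnit_iff_ne_zero]
  intro h0
  obtain ⟨v, hv, hGv⟩ := Matrix.exists_vecMul_eq_zero_iff.mpr h0
  obtain ⟨x, hx⟩ := (hnd v hv).2
  rw [hf, formOfGram_eq, Matrix.dotProduct_mulVec, hGv, zero_dotProduct] at hx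
  exact hx rfl

/-- A fixed form gives the trace condition. -/
theorem trace_inv_of_form (σ : F →+* F) {f : (ι → F) → (ι → F) → F}
    (hal : ∀ x y v, f (x + y) v = f x v + f y v) (hsl : ∀ (c : F) (x v : ι → F), f (c • x) v = c * f x v)
    (har : ∀ v x y, f v (x + y) = f v x + f v y) (hsr : ∀ (c : F) (v x : ι → F), f v (c • x) = σ c * f v x)
    (hnd : Geo.IsNondegenerateForm f) {P : Subgroup (GL ι F)} (hP : Geo.FixesForm (Geo.matrixSet P) f) :
    ∀ x ∈ P, ((x⁻¹ : GL ι F) : Matrix ι ι F).trace = σ (x : Matrix ι ι F).trace := fun _ hx =>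
  (inv_gramMatrix (eq_formOfGram σ hal hsl har hsr) hP).trace_inv
    (det_gramMatrix_ne_zero σ (eq_formOfGram σ hal hsl har hsr) hnd) hx

theorem trace_inv_of_symplectic {f : (ι → F) → (ι → F) → F} (hf : Geo.IsSymplecticForm f)
    {P : Subgroup (GL ι F)} (hP : Geo.FixesForm (Geo.matrixSet P) f) :
    ∀ x ∈ P, ((x⁻¹ : GL ι F) : Matrix ι ι F).trace = (x : Matrix ι ι F).trace :=
  trace_inv_of_form (RingHom.id F) hf.bilinear.add_left hf.bilinear.smul_left hf.bilinear.add_right
    hf.bilinear.smul_right hf.nondegenerate hP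

theorem trace_inv_of_quad {Q : (ι → F) → F} (hQ : Geo.IsNondegenerateQuadraticForm Q)
    {P : Subgroup (GL ι F)} (hP : Geo.FixesQuadForm (Geo.matrixSet P) Q) :
    ∀ x ∈ P, ((x⁻¹ : GL ι F) : Matrix ι ι F).trace = (x : Matrix ι ι F).trace :=
  trace_inv_of_form (RingHom.id F) hQ.polar_bilinear.add_left hQ.polar_bilinear.smul_left
    hQ.polar_bilinear.add_right hQ.polar_bilinear.smul_right hQ.nondegenerate
    (fun s hs u v => by simp only [QuadraticMap.polar, ← Matrix.mulVec_add, hP s hs])

theorem trace_inv_of_unitary {σ : F ≃+* F} {f : (ι → F) → (ι → F) → F} (hf : Geo.IsUnitaryForm σ f)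
    {P : Subgroup (GL ι F)} (hP : Geo.FixesForm (Geo.matrixSet P) f) :
    ∀ x ∈ P, ((x⁻¹ : GL ι F) : Matrix ι ι F).trace = σ (x : Matrix ι ι F).trace := by
  refine trace_inv_of_form (σ : F →+* F) hf.add_left hf.smul_left ?_ ?_ hf.nondegenerate hP
  · intro v x y
    rw [hf.herm, hf.add_left, map_add, ← hf.herm, ← hf.herm]
  · intro c v x
    rw [hf.herm, hf.smul_left, map_mul, ← hf.herm]
    rfl

/-! ### From the trace condition to a similarity group -/

/-- The trace condition gives an invariant Gram matrix with `(σ G)ᵀ = c G`. -/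
theorem exists_inv_gram [Nonempty ι] {P : Subgroup (GL ι F)}
    (hP : Submodule.span F (Geo.matrixSet P) = ⊤) (σ : F →+* F) (hσ : ∀ a, σ (σ a) = a)
    (htr : ∀ x ∈ P, ((x⁻¹ : GL ι F) : Matrix ι ι F).trace = σ (x : Matrix ι ι F).trace) :
    ∃ (G : Matrix ι ι F) (c : F), IsUnit G.det ∧ Inv σ P G ∧ (G.map σ)ᵀ = c • G ∧ c * σ c = 1 := by
  classical
  let h0 : P →* Matrix ι ι F :=
    { toFun := fun x => (((x : GL ι F)⁻¹ : GL ι F) : Matrix ι ι F)ᵀ.map σ
      map_one' := by simp
      map_mul' := fun x y => by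
        simp only [Subgroup.coe_mul, _root_.mul_inv_rev, Units.val_mul, Matrix.transpose_mul, Matrix.map_mul] }
  have hθ : ∀ x : P, (h0.toHomUnits x : Matrix ι ι F) = (((x : GL ι F)⁻¹ : GL ι F) : Matrix ι ι F)ᵀ.map σ :=
    fun _ => rfl
  obtain ⟨B, hB⟩ := exists_intertwiner hP h0.toHomUnits (fun x => by
    rw [hθ]
    have h1 : ((((x : GL ι F)⁻¹ : GL ι F) : Matrix ι ι F)ᵀ.map σ).trace
        = σ ((((x : GL ι F)⁻¹ : GL ι F) : Matrix ι ι F)ᵀ).trace :=
      (AddMonoidHom.map_trace σ.toAddMonoidHom _).symm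
    rw [h1, Matrix.trace_transpose, htr _ x.2, hσ])
  set G : Matrix ι ι F := (B : Matrix ι ι F).map σ with hGdef
  have hmm : ∀ A : Matrix ι ι F, (A.map σ).map σ = A := fun A => by ext i j; simp [hσ]
  have hG : IsUnit G.det := by
    rw [hGdef, ← RingHom.mapMatrix_apply, ← RingHom.map_det]
    exact (Matrix.GeneralLinearGroup.det B).isUnit.map σ
  have hinv : Inv σ P G := by
    intro x hx
    obtain ⟨X, hX⟩ : ∃ X : Matrix ι ι F, X = (x : Matrix ι ι F) := ⟨_, rfl⟩
    obtain ⟨Y, hY⟩ : ∃ Y : Matrix ι ι F, Y = ((x⁻¹ : GL ι F) : Matrix ι ι F) := ⟨_, rfl⟩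
    have h1 : Yᵀ.map σ * (B : Matrix ι ι F) = (B : Matrix ι ι F) * X := by
      have := congrArg (fun g : GL ι F => ((g * B : GL ι F) : Matrix ι ι F)) (hB ⟨x, hx⟩)
      simp only [Units.val_mul, hθ, inv_mul_cancel_right] at this
      rwa [← hX, ← hY] at this
    have h2 : Yᵀ * G = G * X.map σ := by
      have := congrArg (fun A : Matrix ι ι F => A.map σ) h1
      simpa only [Matrix.map_mul, hmm] using this
    rw [← hX, mul_assoc, ← h2, ← mul_assoc, ← Matrix.transpose_mul, hX, hY, Units.inv_mul,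
      Matrix.transpose_one, one_mul]
  have hinv' : Inv σ P (G.map σ)ᵀ := by
    intro x hx
    have := congrArg (fun A : Matrix ι ι F => (A.map σ)ᵀ) (hinv x hx)
    simp only [Matrix.map_mul, Matrix.transpose_mul, hmm, Matrix.transpose_map, Matrix.transpose_transpose]
      at this
    rw [mul_assoc]
    exact this
  obtain ⟨c, hc⟩ := invariant_unique (scalar_of_span hP) σ hG hinv hinv'
  refine ⟨G, c, hG, hinv, hc, ?_⟩
  have h2 := congrArg (fun A : Matrix ι ι F => (A.map σ)ᵀ) hc
  simp only [Matrix.transpose_map, hmm, Matrix.transpose_transpose] at h2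
  rw [show (c • G).map σ = σ c • G.map σ by ext i j; simp, Matrix.transpose_smul, hc, smul_smul] at h2
  obtain ⟨i⟩ := ‹Nonempty ι›
  obtain ⟨j, hj⟩ : ∃ j, G i j ≠ 0 := by
    by_contra hcon
    simp only [not_exists, not_not] at hcon
    exact hG.ne_zero (Matrix.det_eq_zero_of_row_eq_zero i hcon)
  have h3 := congrFun (congrFun h2 i) j
  simp only [Matrix.smul_apply, smul_eq_mul] at h3
  exact mul_right_cancel₀ hj (by rw [mul_comm c, ← h3, one_mul])

/-- The normaliser of a spanning group acts by similarities on its invariant form. -/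
theorem similarity_of_inv [Nonempty ι] {H P : Subgroup (GL ι F)}
    (hP : Submodule.span F (Geo.matrixSet P) = ⊤) (hn : NormBy H P) {σ : F →+* F} {G : Matrix ι ι F}
    (hG : IsUnit G.det) (hinv : Inv σ P G) {h : GL ι F} (hh : h ∈ H) :
    ∃ c : Fˣ, ∀ u v, Geo.formOfGram σ G ((h : Matrix ι ι F) *ᵥ u) ((h : Matrix ι ι F) *ᵥ v)
      = (c : F) * Geo.formOfGram σ G u v := by
  obtain ⟨A, hA⟩ : ∃ A : Matrix ι ι F, A = (h : Matrix ι ι F) := ⟨_, rfl⟩
  have hinv' : Inv σ P (Aᵀ * G * A.map σ) := by
    intro x hx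
    obtain ⟨X, hX⟩ : ∃ X : Matrix ι ι F, X = (x : Matrix ι ι F) := ⟨_, rfl⟩
    have h1 := hinv _ (hn h hh x hx)
    have e : ((h * x * h⁻¹ : GL ι F) : Matrix ι ι F) * A = A * X := by
      rw [hA, hX, ← Units.val_mul, ← Units.val_mul, inv_mul_cancel_right]
    rw [← hX]
    calc Xᵀ * (Aᵀ * G * A.map σ) * X.map σ = (A * X)ᵀ * G * (A * X).map σ := by
          rw [Matrix.transpose_mul, Matrix.map_mul]; simp [mul_assoc]
      _ = Aᵀ * (((h * x * h⁻¹ : GL ι F) : Matrix ι ι F)ᵀ * G *
            ((h * x * h⁻¹ : GL ι F) : Matrix ι ι F).map σ) * A.map σ := by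
          rw [← e, Matrix.transpose_mul, Matrix.map_mul]; simp [mul_assoc]
      _ = Aᵀ * G * A.map σ := by rw [h1]
  obtain ⟨c, hc⟩ := invariant_unique (scalar_of_span hP) σ hG hinv hinv'
  have hdA : IsUnit A.det := by rw [hA]; exact (Matrix.GeneralLinearGroup.det h).isUnit
  have hc0 : c ≠ 0 := by
    rintro rfl
    have := congrArg Matrix.det hc
    rw [zero_smul, Matrix.det_zero, Matrix.det_mul, Matrix.det_mul, Matrix.det_transpose] at this
    have h' : IsUnit (A.map σ).det := by rw [← RingHom.mapMatrix_apply, ← RingHom.map_det]; exact hdA.map σ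
    exact ((hdA.mul hG).mul h').ne_zero this
  refine ⟨Units.mk0 c hc0, fun u v => ?_⟩
  rw [← hA, formOfGram_mulVec, hc, formOfGram_eq, formOfGram_eq, Matrix.smul_mulVec, dotProduct_smul,
    smul_eq_mul]
  rfl

/-- Some non-degenerate form has `H` among its similarities. -/
def FormOutcome (H : Subgroup (GL ι F)) : Prop :=
  (∃ f : (ι → F) → (ι → F) → F, Geo.IsSymplecticForm f ∧ H ≤ Geo.similarityGroup f) ∨
  (Odd (Nat.card F) ∧ ∃ Q : (ι → F) → F, Geo.IsNondegenerateQuadraticForm Q ∧ H ≤ Geo.quadSimilarityGroup Q) ∨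
  (∃ (σ : F ≃+* F) (f : (ι → F) → (ι → F) → F), Geo.IsUnitaryForm σ f ∧ H ≤ Geo.similarityGroup f)

theorem odd_card_of_two_ne_zero [Finite F] (h2 : (2 : F) ≠ 0) : Odd (Nat.card F) := by
  have : Fintype F := Fintype.ofFinite F
  rw [Nat.card_eq_fintype_card, Nat.odd_iff]
  refine FiniteField.odd_card_of_char_ne_two fun h => h2 ?_
  rw [← Nat.cast_ofNat, ← h, ringChar.Nat.cast_ringChar]

/-- The trace condition on a normalised spanning group gives a similarity group. -/
theorem formOutcome_of_trace [Finite F] (hι : 2 ≤ Fintype.card ι) {H P : Subgroup (GL ι F)}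
    (hP : Submodule.span F (Geo.matrixSet P) = ⊤) (hn : NormBy H P) (σ : F ≃+* F)
    (hσ : ∀ a, σ (σ a) = a)
    (htr : ∀ x ∈ P, ((x⁻¹ : GL ι F) : Matrix ι ι F).trace = σ (x : Matrix ι ι F).trace) :
    FormOutcome H := by
  classical
  have : Nonempty ι := Fintype.card_pos_iff.mp (by omega)
  have : Fintype F := Fintype.ofFinite F
  obtain ⟨G, c, hG, hinv, hGT, hc⟩ := exists_inv_gram hP (σ : F →+* F) hσ htr
  by_cases hσ1 : σ = RingEquiv.refl F
  · subst hσ1
    have hid : ((RingEquiv.refl F : F ≃+* F) : F →+* F) = RingHom.id F := RingHom.ext fun _ => rfl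
    rw [hid] at hinv hc hGT
    have hGT' : Gᵀ = c • G := by simpa using hGT
    have hcc : c = 1 ∨ c = -1 := mul_self_eq_one_iff.mp (by simpa using hc)
    set f := Geo.formOfGram (RingHom.id F) G with hf
    have hsim : H ≤ Geo.similarityGroup f := fun h hh => similarity_of_inv hP hn hG hinv hh
    have hswap : ∀ u v, f v u = c * f u v := by
      intro u v
      simp only [hf, formOfGram_eq, RingHom.coe_id, Function.id_comp]
      rw [Matrix.dotProduct_mulVec, dotProduct_comm, ← Matrix.mulVec_transpose, hGT', Matrix.smul_mulVec,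
        dotProduct_smul, smul_eq_mul]
    have hnd : Geo.IsNondegenerateForm f := formOfGram_nondegenerate _ hG
    have hb : Geo.IsBilinearForm f := formOfGram_bilinear G
    by_cases h2 : (2 : F) = 0
    · left
      have hchar : CharP F 2 := CharTwo.of_one_ne_zero_of_two_eq_zero one_ne_zero h2
      have hc1 : c = 1 := hcc.elim id fun h => by rw [h, CharTwo.neg_eq]
      have hdiag : ∀ v, f v v = 0 := by
        by_contra hne
        simp only [not_forall] at hne
        obtain ⟨v₀, hv₀⟩ := hne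
        let T : (ι → F) →+ F :=
          { toFun := fun v => f v v
            map_zero' := by simp [hf, formOfGram_eq]
            map_add' := fun u v => by
              rw [hb.add_left, hb.add_right, hb.add_right, hswap u v, hc1, one_mul]
              have : f u v + f u v = 0 := CharTwo.add_self_eq_zero _
              linear_combination this }
        have hT : ∀ v, T v = f v v := fun _ => rfl
        let W : Submodule F (ι → F) :=
          { carrier := {v | f v v = 0}
            zero_mem' := (hT 0).symm.trans (map_zero T)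
            add_mem' := fun {u v} hu hv => by
              show f (u + v) (u + v) = 0
              rw [← hT, map_add, hT, hT, show f u u = 0 from hu, show f v v = 0 from hv, add_zero]
            smul_mem' := fun a v hv => by
              show f (a • v) (a • v) = 0
              rw [hb.smul_left, hb.smul_right, show f v v = 0 from hv, mul_zero, mul_zero] }
        rcases irred_of_span hP W (by
          rintro _ ⟨x, hx, rfl⟩
          rw [mapsTo_iff_mulVec]
          intro w hw
          show f ((x : Matrix ι ι F) *ᵥ w) ((x : Matrix ι ι F) *ᵥ w) = 0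
          rw [hf, formOfGram_mulVec, hinv x hx]
          exact hw) with hW | hW
        · obtain ⟨i, j, hij⟩ := Fintype.exists_pair_of_one_lt_card (show 1 < Fintype.card ι by omega)
          obtain ⟨s, hs⟩ := FiniteField.isSquare_of_char_two (ringChar.eq_iff.mpr hchar) (f (Pi.single i 1) (Pi.single i 1))
          obtain ⟨t, ht⟩ := FiniteField.isSquare_of_char_two (ringChar.eq_iff.mpr hchar) (f (Pi.single j 1) (Pi.single j 1))
          have hi : (Pi.single i 1 : ι → F) ∉ W := by
            rw [hW, Submodule.mem_bot]; simp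
          have hs0 : s ≠ 0 := fun h => hi (by
            show f (Pi.single i 1) (Pi.single i 1) = 0
            rw [hs, h, mul_zero])
          have hmem : t • (Pi.single i 1 : ι → F) + s • Pi.single j 1 ∈ W := by
            show f _ _ = 0
            rw [← hT, map_add, hT, hT, hb.smul_left, hb.smul_right, hb.smul_left, hb.smul_right, hs, ht]
            have := CharTwo.add_self_eq_zero (t * s * (t * s))
            linear_combination this
          rw [hW, Submodule.mem_bot] at hmem
          exact hs0 (by simpa [hij, hij.symm] using congrFun hmem j)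
        · exact hv₀ (show v₀ ∈ W from hW ▸ trivial)
      exact ⟨f, ⟨hb, fun v w => by rw [hswap w v, hc1, one_mul, CharTwo.neg_eq], hdiag, hnd⟩, hsim⟩
    · rcases hcc with rfl | rfl
      · right; left
        have hsymm : ∀ u v, f v u = f u v := fun u v => by rw [hswap, one_mul]
        have hpol : ∀ u v, QuadraticMap.polar (fun v => f v v) u v = 2 * f u v := by
          intro u v
          simp only [QuadraticMap.polar, hb.add_left, hb.add_right, hsymm u v]
          ring
        refine ⟨odd_card_of_two_ne_zero h2, fun v => f v v, ⟨fun a v => ?_, ⟨?_, ?_, ?_, ?_⟩, ?_⟩,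
          fun h hh => ?_⟩
        · rw [hb.smul_left, hb.smul_right]; ring
        · intro x y v; simp only [hpol, hb.add_left, mul_add]
        · intro a x v; simp only [hpol, hb.smul_left]; ring
        · intro v x y; simp only [hpol, hb.add_right, mul_add]
        · intro a v x; simp only [hpol, hb.smul_right]; ring
        · intro v hv
          obtain ⟨⟨x, hx⟩, ⟨y, hy⟩⟩ := hnd v hv
          exact ⟨⟨x, by rw [hpol]; exact mul_ne_zero h2 hx⟩, ⟨y, by rw [hpol]; exact mul_ne_zero h2 hy⟩⟩
        · obtain ⟨d, hd⟩ := hsim hh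
          exact ⟨d, fun v => hd v v⟩
      · left
        refine ⟨f, ⟨hb, fun v w => by rw [hswap w v]; ring, fun v => ?_, hnd⟩, hsim⟩
        have h1 : f v v + f v v = 0 := by
          have := hswap v v
          linear_combination this
        rw [← two_mul] at h1
        exact (mul_eq_zero.mp h1).resolve_left h2
  · right; right
    obtain ⟨a, ha, hac⟩ : ∃ a : F, a ≠ 0 ∧ σ a * c = a := by
      have hfix : ∀ e : F, σ (e + c * σ e) * c = e + c * σ e := by
        intro e
        have hc' : c * σ c = 1 := hc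
        rw [map_add, map_mul, hσ]
        linear_combination e * hc'
      by_cases h1 : (1 : F) + c * σ 1 = 0
      · obtain ⟨e, he⟩ : ∃ e, σ e ≠ e := by
          by_contra hcon
          simp only [not_exists, not_not] at hcon
          exact hσ1 (RingEquiv.ext hcon)
        refine ⟨e + c * σ e, fun h => he ?_, hfix e⟩
        rw [map_one, mul_one] at h1
        linear_combination -h + σ e * h1
      · exact ⟨_, h1, hfix 1⟩
    set G₁ := a • G with hG₁
    have hG₁u : IsUnit G₁.det := by
      rw [hG₁, Matrix.det_smul]; exact (IsUnit.mk0 a ha).pow _ |>.mul hG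
    have hG₁T : (G₁.map (σ : F →+* F))ᵀ = G₁ := by
      rw [hG₁, show (a • G).map (σ : F →+* F) = σ a • G.map (σ : F →+* F) by ext i j; simp,
        Matrix.transpose_smul, hGT, smul_smul, hac]
    have hinv₁ : Inv (σ : F →+* F) P G₁ := fun x hx => by
      rw [hG₁, Matrix.mul_smul, Matrix.smul_mul, hinv x hx]
    refine ⟨σ, Geo.formOfGram (σ : F →+* F) G₁, ⟨hσ1, hσ, ?_, ?_, ?_, formOfGram_nondegenerate _ hG₁u⟩,
      fun h hh => similarity_of_inv hP hn hG₁u hinv₁ hh⟩
    · intro x y v; simp [formOfGram_eq, add_dotProduct]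
    · intro d x v; simp [formOfGram_eq]
    · intro v w
      simp only [Geo.formOfGram, map_sum]
      rw [Finset.sum_comm]
      refine Finset.sum_congr rfl fun a _ => Finset.sum_congr rfl fun b _ => ?_
      have : G₁ b a = σ (G₁ a b) := (congrFun (congrFun hG₁T b) a).symm
      simp only [RingEquiv.coe_toRingHom, map_mul, hσ, this]
      ring

/-- Without symplectic forms in odd dimension. -/
theorem not_symplectic_of_odd (hodd : Odd (Fintype.card ι)) (f : (ι → F) → (ι → F) → F) :
    ¬ Geo.IsSymplecticForm f := by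
  intro hf
  have hG := det_gramMatrix_ne_zero (RingHom.id F)
    (eq_formOfGram (RingHom.id F) hf.bilinear.add_left hf.bilinear.smul_left hf.bilinear.add_right
      hf.bilinear.smul_right) hf.nondegenerate
  have hskew : (Geo.gramMatrix f)ᵀ = -Geo.gramMatrix f := by
    ext i j
    exact hf.skew _ _
  by_cases h2 : (2 : F) = 0
  · have : CharP F 2 := CharTwo.of_one_ne_zero_of_two_eq_zero one_ne_zero h2
    refine hG.ne_zero (AltRank.det_eq_zero_of_odd _ ?_ (fun i => hf.alternating _) hodd)
    show _ = _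
    rw [hskew]
    ext i j
    simp [CharTwo.neg_eq]
  · have := congrArg Matrix.det hskew
    rw [Matrix.det_transpose, Matrix.det_neg, hodd.neg_one_pow] at this
    have h3 : (2 : F) * (Geo.gramMatrix f).det = 0 := by linear_combination this
    exact hG.ne_zero ((mul_eq_zero.mp h3).resolve_left h2)

/-! ### Subfields -/

/-- `H` lies in a subfield group of prime index. -/
def SubfieldOutcome (H : Subgroup (GL ι F)) : Prop :=
  ∃ (F₀ : Subfield F) (r : ℕ) (P : GL ι F), r.Prime ∧ Nat.card F = Nat.card F₀ ^ r ∧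
    F₀ ≠ ⊤ ∧ H ≤ Geo.subfieldSubgroup F₀ P

theorem exists_prime_index [Finite F] {F₀ : Subfield F} (h : F₀ ≠ ⊤) :
    ∃ (F₁ : Subfield F) (r : ℕ), r.Prime ∧ Nat.card F = Nat.card F₁ ^ r ∧ F₁ ≠ ⊤ ∧ F₀ ≤ F₁ := by
  classical
  have : Fintype F := Fintype.ofFinite F
  have : Finite F₀ := inferInstance
  set q₀ := Nat.card F₀
  set k := Module.finrank F₀ F with hk
  have hcard : Nat.card F = q₀ ^ k := Module.natCard_eq_pow_finrank
  have hk1 : k ≠ 1 := by
    intro h1
    refine h (eq_top_iff.mpr fun x _ => ?_)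
    have hinj : Function.Injective (F₀.subtype) := Subtype.val_injective
    have : Function.Surjective (F₀.subtype) :=
      ((Nat.bijective_iff_injective_and_card _).mpr ⟨hinj, by rw [hcard, h1, pow_one]⟩).2
    obtain ⟨y, rfl⟩ := this x
    exact y.2
  set r := k.minFac
  have hr : r.Prime := Nat.minFac_prime hk1
  obtain ⟨l, hl⟩ := Nat.minFac_dvd k
  obtain ⟨p, a, hp, ha, hpa⟩ : ∃ p a : ℕ, p.Prime ∧ q₀ = p ^ a ∧ CharP F p := by
    have : Fintype F₀ := Fintype.ofFinite F₀
    obtain ⟨p, hpc⟩ := CharP.exists F₀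
    obtain ⟨a, hp, ha⟩ := FiniteField.card F₀ p
    exact ⟨p, a, hp, by rw [show q₀ = Fintype.card F₀ from Nat.card_eq_fintype_card, ha],
      (F₀.subtype.charP_iff_charP p).mp hpc⟩
  haveI := Fact.mk hp
  let F₁ : Subfield F :=
    { carrier := {x | x ^ q₀ ^ l = x}
      mul_mem' := fun {x y} hx hy => by
        show (x * y) ^ _ = _
        rw [mul_pow, show x ^ q₀ ^ l = x from hx, show y ^ q₀ ^ l = y from hy]
      one_mem' := one_pow _
      zero_mem' := zero_pow (pow_ne_zero _ (Nat.card_pos (α := F₀)).ne')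
      add_mem' := fun {x y} hx hy => by
        show (x + y) ^ _ = _
        rw [show q₀ ^ l = p ^ (a * l) by rw [ha, pow_mul], add_pow_char_pow]
        rw [← show q₀ ^ l = p ^ (a * l) by rw [ha, pow_mul],
          show x ^ q₀ ^ l = x from hx, show y ^ q₀ ^ l = y from hy]
      neg_mem' := fun {x} hx => by
        show (-x) ^ _ = _
        rw [show q₀ ^ l = p ^ (a * l) by rw [ha, pow_mul], ← zero_sub x,
          sub_pow_char_pow, zero_pow (pow_ne_zero _ hp.ne_zero),
          ← show q₀ ^ l = p ^ (a * l) by rw [ha, pow_mul],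
          show x ^ q₀ ^ l = x from hx]
      inv_mem' := fun x hx => by
        show x⁻¹ ^ _ = _
        rw [inv_pow, show x ^ q₀ ^ l = x from hx] }
  have hle : F₀ ≤ F₁ := by
    intro x hx
    show x ^ q₀ ^ l = x
    have : Fintype F₀ := Fintype.ofFinite F₀
    have h1 : (⟨x, hx⟩ : F₀) ^ q₀ ^ l = ⟨x, hx⟩ := by
      rw [show q₀ = Fintype.card F₀ from Nat.card_eq_fintype_card, FiniteField.pow_card_pow]
    exact congrArg Subtype.val h1
  have hcard1 : Nat.card F₁ = q₀ ^ l := by
    have hq0 : 1 < q₀ := Finite.one_lt_card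
    have hl0 : 0 < l := Nat.pos_of_ne_zero fun h0 => by
      rw [h0, mul_zero] at hl
      exact (Module.finrank_pos (R := F₀) (M := F)).ne' hl
    have hQ : 1 < q₀ ^ l := Nat.one_lt_pow hl0.ne' hq0
    set d := q₀ ^ l - 1 with hd
    have hker : Nat.card (powMonoidHom d : Fˣ →* Fˣ).ker = d := by
      rw [IsCyclic.card_powMonoidHom_ker, Nat.card_units, hcard, hl, mul_comm, pow_mul]
      exact Nat.gcd_eq_right (Nat.sub_one_dvd_pow_sub_one _ _)
    let e : F₁ ≃ Option (powMonoidHom d : Fˣ →* Fˣ).ker :=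
      { toFun := fun x => if h : (x : F) = 0 then none else some ⟨Units.mk0 (x : F) h, by
          refine Units.ext ?_
          have h1 : (x : F) ^ q₀ ^ l = x := x.2
          rw [show q₀ ^ l = d + 1 by omega, pow_succ] at h1
          show (x : F) ^ d = 1
          exact mul_right_cancel₀ h (h1.trans (one_mul _).symm)⟩
        invFun := fun y => match y with
          | none => 0
          | some u => ⟨((u : Fˣ) : F), by
              have : ((u : Fˣ) : F) ^ d = 1 := congrArg Units.val (MonoidHom.mem_ker.mp u.2)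
              show _ ^ q₀ ^ l = _
              rw [show q₀ ^ l = d + 1 by omega, pow_succ, this, one_mul]⟩
        left_inv := fun x => by
          by_cases h : (x : F) = 0
          · simp only [dif_pos h]; exact Subtype.ext h.symm
          · simp only [dif_neg h]; exact Subtype.ext rfl
        right_inv := fun y => by
          rcases y with _ | u
          · simp
          · simp only [dif_neg (Units.ne_zero (u : Fˣ))]
            exact congrArg some (Subtype.ext (Units.ext rfl)) }
    have : Fintype (powMonoidHom d : Fˣ →* Fˣ).ker := Fintype.ofFinite _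
    rw [Nat.card_congr e, Nat.card_eq_fintype_card, Fintype.card_option, ← Nat.card_eq_fintype_card, hker]
    omega
  refine ⟨F₁, r, hr, by rw [hcard, hcard1, ← pow_mul, mul_comm l, ← hl], fun htop => ?_, hle⟩
  have h1 : Nat.card F₁ = Nat.card F := by
    rw [htop]; exact Nat.card_congr Subfield.topEquiv.toEquiv
  rw [hcard1, hcard, hl] at h1
  have := Nat.pow_right_injective (Finite.one_lt_card (α := F₀)) h1
  have hl0 : l ≠ 0 := fun h0 => by
    rw [h0, mul_zero] at hl
    exact (Module.finrank_pos (R := F₀) (M := F)).ne' hl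
  nlinarith [hr.two_le, Nat.pos_of_ne_zero hl0]

theorem subfield_of_realisable [Nonempty ι] [Finite F] {H P : Subgroup (GL ι F)}
    (hP : Submodule.span F (Geo.matrixSet P) = ⊤) (hn : NormBy H P) {F₀ : Subfield F} (h : F₀ ≠ ⊤)
    (hr : Geo.RealisableOver F₀ (Geo.matrixSet P)) : SubfieldOutcome H := by
  obtain ⟨F₁, r, hr', hcard, htop, hle⟩ := exists_prime_index h
  obtain ⟨B, hB⟩ := hr
  exact ⟨F₁, r, B⁻¹, hr', hcard, htop, fun g hg => mem_subfieldSubgroup_of_normalizes hP
    (fun x hx i j => hle (by simpa [cj_apply] using hB _ (mem_matrixSet hx) i j)) (hn g hg)⟩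

theorem subfield_of_trace [Nonempty ι] [Finite F] {H P : Subgroup (GL ι F)}
    (hP : Submodule.span F (Geo.matrixSet P) = ⊤) (hn : NormBy H P) {F₀ : Subfield F} (h : F₀ ≠ ⊤)
    (htr : ∀ x ∈ P, (x : Matrix ι ι F).trace ∈ F₀) : SubfieldOutcome H :=
  subfield_of_realisable hP hn h (realisableOver_of_trace hP (scalar_of_span hP) F₀ htr)

end Cfsg.Agent.Aschbacher
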