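/-
Normalised commutative subalgebras of a primitive irreducible group.
Main results: `NormAlg`, `Primitive`, `NoField`, `field_of_comm` (a normalised commutative algebra is a field),
`exists_prime_degree` (and then one of prime degree is normalised), `eq_scalar_of_comm`, `eq_bot_or_top`.
-/
import Cfsg.Agent.Lib.PrimeDim.Clifford

set_option autoImplicit false

namespace Cfsg.Agent.Aschbacher

open Matrix
open Cfsg.Agent.PrimeDim

variable {ι : Type} [Fintype ι] [DecidableEq ι] {F : Type*} [Field F]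

/-- `H` normalises the subalgebra `A`. -/
def NormAlg (H : Subgroup (GL ι F)) (A : Subalgebra F (Matrix ι ι F)) : Prop :=
  ∀ h ∈ H, ∀ a ∈ A, cj h a ∈ A

/-- `H` preserves no decomposition into subspaces of equal dimension. -/
def Primitive (H : Subgroup (GL ι F)) : Prop :=
  ∀ (m t : ℕ) (D : Fin t → Submodule F (ι → F)), Geo.IsMDecomposition m D → ¬ H ≤ Geo.decompositionStabilizer D

/-- `H` normalises no field of prime degree. -/
def NoField (H : Subgroup (GL ι F)) : Prop :=
  ∀ (r : ℕ) (K : Subalgebra F (Matrix ι ι F)), r.Prime → r ∣ Fintype.card ι → Geo.IsFieldSubalgebra r K →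
    ¬ H ≤ Geo.subalgebraNormalizer K

theorem cj_one (a : Matrix ι ι F) : cj (1 : GL ι F) a = a := by simp [cj_apply]

theorem NormAlg.le_normalizer {H : Subgroup (GL ι F)} {A : Subalgebra F (Matrix ι ι F)} (hA : NormAlg H A) :
    H ≤ Geo.subalgebraNormalizer A := by
  intro h hh k
  refine ⟨fun hk => hA h hh k hk, fun hk => ?_⟩
  have := hA h⁻¹ (inv_mem hh) _ hk
  rwa [← cj_apply, cj_inv_cj] at this

theorem normAlg_alg {H N : Subgroup (GL ι F)} (h : NormBy H N) : NormAlg H (alg N) :=
  fun g hg _ ha => cj_mem_alg (h g hg) ha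

theorem eq_bot_or_top {H : Subgroup (GL ι F)} (hirr : Geo.ActsIrreducibly (Geo.matrixSet H))
    (W : Submodule F (ι → F)) (hW : ∀ h ∈ H, ∀ w ∈ W, (h : Matrix ι ι F) *ᵥ w ∈ W) : W = ⊥ ∨ W = ⊤ := by
  refine hirr W ?_
  rintro _ ⟨h, hh, rfl⟩
  exact (mapsTo_iff_mulVec _ W).mpr (hW h hh)

/-- Orthogonal primitive idempotents of a commutative algebra, permuted transitively by `H`. -/
structure Idems (H : Subgroup (GL ι F)) (A : Subalgebra F (Matrix ι ι F)) {t : ℕ} (m : ℕ)
    (e : Fin t → Matrix ι ι F) : Prop where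
  mem : ∀ i, e i ∈ A
  idem : ∀ i, e i * e i = e i
  ne_zero : ∀ i, e i ≠ 0
  ortho : ∀ i j, i ≠ j → e i * e j = 0
  atom : ∀ i, ∀ f ∈ A, f * f = f → f * e i = 0 ∨ f * e i = e i
  sum_eq : ∑ i, e i = 1
  perm : ∀ h ∈ H, ∀ i, ∃ j, cj h (e i) = e j
  trans : ∀ i j, ∃ h ∈ H, cj h (e i) = e j
  decomp : Geo.IsMDecomposition m fun i => LinearMap.range (Matrix.toLin' (e i))
  le_stab : H ≤ Geo.decompositionStabilizer fun i => LinearMap.range (Matrix.toLin' (e i))

/-- A commutative algebra normalised by an irreducible group is a field or has a system of idempotents. -/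
theorem field_or_idems [Finite F] [Nonempty ι] {H : Subgroup (GL ι F)}
    (hirr : Geo.ActsIrreducibly (Geo.matrixSet H)) {A : Subalgebra F (Matrix ι ι F)}
    (hA : NormAlg H A) (hcA : ∀ x ∈ A, ∀ y ∈ A, x * y = y * x) :
    (∀ x ∈ A, x ≠ 0 → ∃ y ∈ A, x * y = 1) ∨ ∃ (m t : ℕ) (e : Fin t → Matrix ι ι F), Idems H A m e := by
  classical
  have : Finite (Matrix ι ι F) := inferInstanceAs (Finite (ι → ι → F))
  have hred : ∀ a ∈ A, IsNilpotent a → a = 0 := by
    intro a ha hnil
    let s : Finset (Matrix ι ι F) := (Set.toFinite {b | b ∈ A ∧ IsNilpotent b}).toFinset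
    have hs : ∀ b, b ∈ s ↔ b ∈ A ∧ IsNilpotent b := fun b => Set.Finite.mem_toFinset _
    obtain ⟨v, hv, hvs⟩ := exists_common_kernel s (fun b hb => ((hs b).mp hb).2)
      (fun b hb c hc' => hcA b ((hs b).mp hb).1 c ((hs c).mp hc').1)
    let U : Submodule F (ι → F) := ⨅ b ∈ s, LinearMap.ker (Matrix.toLin' b)
    have hU : ∀ w, w ∈ U ↔ ∀ b ∈ s, b *ᵥ w = 0 := by intro w; simp [U]
    rcases eq_bot_or_top hirr U (fun h hh w hw => by
      rw [hU] at hw ⊢
      intro b hb
      have hb' : cj h⁻¹ b ∈ s :=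
        (hs _).mpr ⟨hA _ (inv_mem hh) _ ((hs b).mp hb).1, ((hs b).mp hb).2.map (cj h⁻¹)⟩
      have h1 := mulVec_cj h (cj h⁻¹ b) w
      rw [cj_cj_inv, hw _ hb', Matrix.mulVec_zero] at h1
      exact h1) with h | h
    · exact absurd ((Submodule.mem_bot F).mp (h ▸ (hU v).mpr hvs)) hv
    · refine Matrix.ext_of_mulVec_single fun i => ?_
      rw [Matrix.zero_mulVec]
      exact (hU _).mp (by rw [h]; trivial) a ((hs a).mpr ⟨ha, hnil⟩)
  by_cases hex' : ∃ (m t : ℕ) (e : Fin t → Matrix ι ι F), Idems H A m e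
  · exact Or.inr hex'
  left
  have hfield : ∀ f ∈ A, f * f = f → f = 0 ∨ f = 1 := by
    intro f₀ hf₀A hf₀i
    by_contra hne
    simp only [not_or] at hne
    obtain ⟨hf₀0, hf₀1⟩ := hne
    let rk : Matrix ι ι F → ℕ := fun f => Module.finrank F (LinearMap.range (Matrix.toLin' f))
    have hex : ∃ k, ∃ f ∈ A, f * f = f ∧ f ≠ 0 ∧ rk f = k := ⟨_, f₀, hf₀A, hf₀i, hf₀0, rfl⟩
    obtain ⟨a, haA, hai, ha0, hak⟩ := Nat.find_spec hex
    have hatom : ∀ f ∈ A, f * f = f → f * a = 0 ∨ f * a = a := by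
      intro f hf hfi
      by_cases h0 : f * a = 0
      · exact Or.inl h0
      right
      have hidem : f * a * (f * a) = f * a := by
        calc f * a * (f * a) = f * (a * f) * a := by simp [mul_assoc]
          _ = f * (f * a) * a := by rw [hcA a haA f hf]
          _ = f * f * (a * a) := by simp [mul_assoc]
          _ = f * a := by rw [hfi, hai]
      have hle : LinearMap.range (Matrix.toLin' (f * a)) ≤ LinearMap.range (Matrix.toLin' a) := by
        rw [← hcA a haA f hf, Matrix.toLin'_mul]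
        exact LinearMap.range_comp_le_range _ _
      have hge : rk a ≤ rk (f * a) := hak ▸ Nat.find_min' hex ⟨_, mul_mem hf haA, hidem, h0, rfl⟩
      have heq := Submodule.eq_of_le_of_finrank_le hle hge
      refine Matrix.ext_of_mulVec_single fun i => ?_
      obtain ⟨w, hw⟩ : a *ᵥ Pi.single i 1 ∈ LinearMap.range (Matrix.toLin' (f * a)) := heq ▸ ⟨_, rfl⟩
      rw [Matrix.toLin'_apply] at hw
      calc (f * a) *ᵥ Pi.single i 1 = f *ᵥ ((f * a) *ᵥ w) := by rw [hw, Matrix.mulVec_mulVec]
        _ = a *ᵥ Pi.single i 1 := by rw [Matrix.mulVec_mulVec, ← mul_assoc, hfi, hw]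
    let O : Finset (Matrix ι ι F) := (Set.toFinite ((fun h => cj h a) '' (H : Set (GL ι F)))).toFinset
    have hO : ∀ o, o ∈ O ↔ ∃ h ∈ H, cj h a = o := fun o => by simp [O]
    have hOA : ∀ o ∈ O, o ∈ A ∧ o * o = o ∧ rk o = rk a ∧ (∀ f ∈ A, f * f = f → f * o = 0 ∨ f * o = o) := by
      intro o ho
      obtain ⟨h, hh, rfl⟩ := (hO o).mp ho
      refine ⟨hA h hh a haA, by rw [← map_mul, hai], ?_, ?_⟩
      · show Module.finrank F _ = Module.finrank F _
        rw [← stab_map (rfl : cj h a = cj h a), finrank_map_gl]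
      · intro f hf hfi
        rcases hatom (cj h⁻¹ f) (hA _ (inv_mem hh) f hf) (by rw [← map_mul, hfi]) with h1 | h1
        · left
          have := congrArg (cj h) h1
          rwa [map_mul, cj_cj_inv, map_zero] at this
        · right
          have := congrArg (cj h) h1
          rwa [map_mul, cj_cj_inv] at this
    have hortho : ∀ o ∈ O, ∀ o' ∈ O, o ≠ o' → o * o' = 0 := by
      intro o ho o' ho' hne
      rcases (hOA o' ho').2.2.2 o (hOA o ho).1 (hOA o ho).2.1 with h | h
      · exact h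
      rcases (hOA o ho).2.2.2 o' (hOA o' ho').1 (hOA o' ho').2.1 with h' | h'
      · rw [hcA o (hOA o ho).1 o' (hOA o' ho').1]; exact h'
      · exact absurd (by rw [← h', ← hcA o (hOA o ho).1 o' (hOA o' ho').1, h]) hne
    have hperm : ∀ h ∈ H, ∀ o ∈ O, cj h o ∈ O := by
      intro h hh o ho
      obtain ⟨k, hk, rfl⟩ := (hO o).mp ho
      exact (hO _).mpr ⟨h * k, mul_mem hh hk, (cj_cj h k a).symm⟩
    set s := ∑ o ∈ O, o with hs
    have haO : a ∈ O := (hO a).mpr ⟨1, one_mem H, cj_one a⟩
    have hos : ∀ o ∈ O, o * s = o := by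
      intro o ho
      rw [hs, Finset.mul_sum, Finset.sum_eq_single o (fun y hy hyo => hortho o ho y hy (Ne.symm hyo))
        (fun h => absurd ho h)]
      exact (hOA o ho).2.1
    have hcjs : ∀ h ∈ H, cj h s = s := by
      intro h hh
      rw [hs, map_sum]
      refine Finset.sum_bij' (fun o _ => cj h o) (fun o _ => cj h⁻¹ o) (fun o ho => hperm h hh o ho)
        (fun o ho => hperm h⁻¹ (inv_mem hh) o ho) ?_ ?_ ?_
      · intro o _; exact cj_inv_cj h o
      · intro o _; exact cj_cj_inv h o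
      · intro o _; rfl
    have hs1 : s = 1 := by
      rcases eq_bot_or_top hirr (LinearMap.range (Matrix.toLin' s)) (by
        rintro h hh _ ⟨u, rfl⟩
        refine ⟨(h : Matrix ι ι F) *ᵥ u, ?_⟩
        simp only [Matrix.toLin'_apply]
        conv_lhs => rw [← hcjs h hh]
        exact mulVec_cj h s u) with h | h
      · exfalso
        have hz : s = 0 := Matrix.toLin'.injective (by rw [map_zero]; exact LinearMap.range_eq_bot.1 h)
        have := hos a haO
        rw [hz, mul_zero] at this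
        exact ha0 this.symm
      · refine Matrix.ext_of_mulVec_single fun i => ?_
        obtain ⟨u, hu⟩ : Pi.single i 1 ∈ LinearMap.range (Matrix.toLin' s) := h ▸ Submodule.mem_top
        rw [Matrix.toLin'_apply] at hu
        have hss : s * s = s := by
          calc s * s = ∑ o ∈ O, o * s := by rw [hs, Finset.sum_mul]
            _ = s := Finset.sum_congr rfl hos
        rw [← hu, Matrix.mulVec_mulVec, hss, Matrix.one_mulVec]
    let e := O.equivFin
    let D : Fin O.card → Submodule F (ι → F) := fun i => LinearMap.range (Matrix.toLin' (e.symm i).1)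
    have hO2 : 2 ≤ O.card := by
      by_contra hlt
      have h1 : O = {a} := Finset.eq_singleton_iff_unique_mem.2
        ⟨haO, fun x hx => Finset.card_le_one.1 (by omega) x hx a haO⟩
      have ha1 : a = 1 := by rw [← hs1, hs, h1, Finset.sum_singleton]
      rcases hatom f₀ hf₀A hf₀i with h | h <;> rw [ha1, mul_one] at h
      · exact hf₀0 h
      · exact hf₀1 h
    have hdec : Geo.IsMDecomposition (rk a) D := by
      refine ⟨hO2, ?_, fun i => (hOA _ (e.symm i).2).2.2.1, ?_, ?_⟩
      · refine Nat.pos_of_ne_zero fun h => ha0 (Matrix.toLin'.injective ?_)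
        rw [map_zero]
        exact LinearMap.range_eq_bot.1 (Submodule.finrank_eq_zero.1 h)
      · intro i
        rw [disjoint_iff_inf_le]
        rintro v ⟨hv1, hv2⟩
        have hle : (⨆ j ≠ i, D j) ≤ LinearMap.ker (Matrix.toLin' (e.symm i).1) := by
          refine iSup₂_le fun j hj => ?_
          rintro _ ⟨u, rfl⟩
          rw [LinearMap.mem_ker, Matrix.toLin'_apply, Matrix.toLin'_apply, Matrix.mulVec_mulVec,
            hortho _ (e.symm i).2 _ (e.symm j).2 (fun h => hj (e.symm.injective (Subtype.ext h.symm))),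
            Matrix.zero_mulVec]
        obtain ⟨u, rfl⟩ := hv1
        have := hle hv2
        rw [LinearMap.mem_ker, Matrix.toLin'_apply, Matrix.toLin'_apply, Matrix.mulVec_mulVec,
          (hOA _ (e.symm i).2).2.1] at this
        rw [Matrix.toLin'_apply, this]
        exact Submodule.zero_mem _
      · rw [eq_top_iff]
        intro v _
        have : v = ∑ o ∈ O, o *ᵥ v := by rw [← Matrix.sum_mulVec, ← hs, hs1, Matrix.one_mulVec]
        rw [this]
        refine Submodule.sum_mem _ fun x hx => Submodule.mem_iSup_of_mem (e ⟨x, hx⟩) ?_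
        exact ⟨v, by simp⟩
    refine hex' ⟨rk a, O.card, fun i => (e.symm i).1, fun i => (hOA _ (e.symm i).2).1,
      fun i => (hOA _ (e.symm i).2).2.1, fun i h0 => ?_, fun i j hij => hortho _ (e.symm i).2 _ (e.symm j).2
        (fun h => hij (e.symm.injective (Subtype.ext h))), fun i => (hOA _ (e.symm i).2).2.2.2, ?_,
      fun h hh i => ⟨e ⟨_, hperm h hh _ (e.symm i).2⟩, by simp⟩, fun i j => ?_, hdec, fun h hh => ?_⟩
    · have h0' : ((e.symm i).1 : Matrix ι ι F) = 0 := h0
      refine Nat.pos_iff_ne_zero.mp hdec.pos (((hOA _ (e.symm i).2).2.2.1).symm.trans ?_)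
      simp [rk, h0']
    · rw [← hs1, hs, ← Equiv.sum_comp e]
      simp only [Equiv.symm_apply_apply]
      exact Finset.sum_coe_sort O fun o => o
    · obtain ⟨k, hk, hke⟩ := (hO _).mp (e.symm i).2
      obtain ⟨l, hl, hle⟩ := (hO _).mp (e.symm j).2
      refine ⟨l * k⁻¹, mul_mem hl (inv_mem hk), ?_⟩
      rw [← hle, ← cj_cj, ← hke, cj_inv_cj]
    let σ : O ≃ O :=
      { toFun := fun o => ⟨cj h o.1, hperm h hh o.1 o.2⟩
        invFun := fun o => ⟨cj h⁻¹ o.1, hperm h⁻¹ (inv_mem hh) o.1 o.2⟩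
        left_inv := fun o => Subtype.ext (cj_inv_cj h o.1)
        right_inv := fun o => Subtype.ext (cj_cj_inv h o.1) }
    refine ⟨(e.symm.trans σ).trans e, fun i => ?_⟩
    simp only [D, Equiv.trans_apply, Equiv.symm_apply_apply]
    exact stab_map rfl
  intro x hx hx0
  obtain ⟨m, hm, hidem⟩ := exists_isIdempotent_pow x
  rcases hfield _ (pow_mem hx m) hidem with h | h
  · exact absurd (hred x hx ⟨m, h⟩) hx0
  · exact ⟨x ^ (m - 1), pow_mem hx _, by rw [← pow_succ', show m - 1 + 1 = m by omega, h]⟩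

/-- A commutative algebra normalised by an irreducible primitive group is a field. -/
theorem field_of_comm [Finite F] [Nonempty ι] {H : Subgroup (GL ι F)}
    (hirr : Geo.ActsIrreducibly (Geo.matrixSet H)) (hprim : Primitive H) {A : Subalgebra F (Matrix ι ι F)}
    (hA : NormAlg H A) (hcA : ∀ x ∈ A, ∀ y ∈ A, x * y = y * x) :
    ∀ x ∈ A, x ≠ 0 → ∃ y ∈ A, x * y = 1 :=
  (field_or_idems hirr hA hcA).resolve_right fun ⟨_, _, _, h⟩ => hprim _ _ _ h.decomp h.le_stab

/-- A field subalgebra of degree more than one contains one of prime degree, with the same normaliser. -/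
theorem exists_prime_degree [Finite F] [Nonempty ι] {A : Subalgebra F (Matrix ι ι F)}
    (hcA : ∀ x ∈ A, ∀ y ∈ A, x * y = y * x) (hinv : ∀ x ∈ A, x ≠ 0 → ∃ y ∈ A, x * y = 1)
    (hd : Module.finrank F A ≠ 1) :
    ∃ (r : ℕ) (K : Subalgebra F (Matrix ι ι F)), r.Prime ∧ r ∣ Fintype.card ι ∧ K ≤ A ∧
      Geo.IsFieldSubalgebra r K ∧ (∀ H : Subgroup (GL ι F), NormAlg H A → NormAlg H K) ∧
      ∀ τ : Matrix ι ι F → Matrix ι ι F, (∀ x ∈ A, τ x ∈ A) → (∀ x (k : ℕ), τ (x ^ k) = τ x ^ k) →
        ∀ x ∈ K, τ x ∈ K := by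
  classical
  have : Finite (Matrix ι ι F) := inferInstanceAs (Finite (ι → ι → F))
  have : Fintype F := Fintype.ofFinite F
  have hF : IsField A := ⟨exists_pair_ne _, fun x y => Subtype.ext (hcA _ x.2 _ y.2), fun {x} hx => by
    obtain ⟨y, hy, h⟩ := hinv _ x.2 (fun h => hx (Subtype.ext h))
    exact ⟨⟨y, hy⟩, Subtype.ext h⟩⟩
  letI : Field A := hF.toField
  have : Fintype A := Fintype.ofFinite A
  set R := Module.finrank F A with hR
  set r := R.minFac with hr
  have hrp : r.Prime := Nat.minFac_prime hd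
  have hrR : r ∣ R := Nat.minFac_dvd R
  set q := Fintype.card F with hq
  have hq1 : 1 < q := Fintype.one_lt_card
  let σ : A →ₐ[F] A := (FiniteField.frobeniusAlgHom F A) ^ r
  have hσ : ∀ x : A, σ x = x ^ q ^ r := fun x => by
    show ((FiniteField.frobeniusAlgHom F A) ^ r) x = _
    rw [AlgHom.coe_pow, FiniteField.coe_frobeniusAlgHom, pow_iterate]
  let K₀ : Subalgebra F A := AlgHom.equalizer σ (AlgHom.id F A)
  have hK₀ : ∀ x : A, x ∈ K₀ ↔ x ^ q ^ r = x := fun x => by
    rw [AlgHom.mem_equalizer, hσ]; rfl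
  let K : Subalgebra F (Matrix ι ι F) := K₀.map A.val
  have memK : ∀ x, x ∈ K ↔ x ∈ A ∧ x ^ q ^ r = x := by
    intro x
    constructor
    · rintro ⟨y, hy, rfl⟩
      refine ⟨y.2, ?_⟩
      have := congrArg Subtype.val ((hK₀ y).mp hy)
      simpa using this
    · rintro ⟨hxA, hx⟩
      exact ⟨⟨x, hxA⟩, (hK₀ _).mpr (Subtype.ext (by simpa using hx)), rfl⟩
  have hqr : 1 ≤ q ^ r := Nat.one_le_pow _ _ (by omega)
  have hcardK : Nat.card K = q ^ r := by
    have e1 : Nat.card K = Nat.card K₀ :=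
      (Nat.card_congr (Subalgebra.equivMapOfInjective K₀ A.val Subtype.val_injective).toEquiv).symm
    rw [e1]
    set d := q ^ r - 1 with hd'
    have hker : Nat.card (powMonoidHom d : Aˣ →* Aˣ).ker = d := by
      rw [IsCyclic.card_powMonoidHom_ker]
      have hA1 : Nat.card Aˣ = q ^ R - 1 := by
        rw [Nat.card_units, hR, Module.natCard_eq_pow_finrank (K := F), Nat.card_eq_fintype_card]
      rw [hA1]
      obtain ⟨t, ht⟩ := hrR
      apply Nat.gcd_eq_right
      rw [hd', ht, pow_mul]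
      exact Nat.sub_one_dvd_pow_sub_one (q ^ r) t
    have hd0 : d ≠ 0 := by
      have : q ≤ q ^ r := Nat.le_self_pow hrp.ne_zero q
      omega
    let e : K₀ ≃ Option (powMonoidHom d : Aˣ →* Aˣ).ker :=
      { toFun := fun x => if h : (x : A) = 0 then none else some ⟨Units.mk0 (x : A) h, by
          refine Units.ext ?_
          have h1 := (hK₀ x).mp x.2
          rw [show q ^ r = d + 1 by omega, pow_succ] at h1
          show (x : A) ^ d = 1
          exact mul_right_cancel₀ h (h1.trans (one_mul _).symm)⟩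
        invFun := fun y => match y with
          | none => 0
          | some u => ⟨((u : Aˣ) : A), (hK₀ _).mpr (by
              have : ((u : Aˣ) : A) ^ d = 1 := congrArg Units.val (MonoidHom.mem_ker.mp u.2)
              rw [show q ^ r = d + 1 by omega, pow_succ, this, one_mul])⟩
        left_inv := fun x => by
          by_cases h : (x : A) = 0
          · simp only [dif_pos h]; exact Subtype.ext h.symm
          · simp only [dif_neg h]; exact Subtype.ext rfl
        right_inv := fun y => by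
          rcases y with _ | u
          · simp
          · simp only [dif_neg (Units.ne_zero (u : Aˣ))]
            exact congrArg some (Subtype.ext (Units.ext rfl)) }
    have : Fintype (powMonoidHom d : Aˣ →* Aˣ).ker := Fintype.ofFinite _
    rw [Nat.card_congr e, Nat.card_eq_fintype_card, Fintype.card_option, ← Nat.card_eq_fintype_card, hker]
    omega
  have hKr : Module.finrank F K = r := by
    have := Module.natCard_eq_pow_finrank (K := F) (V := K)
    rw [hcardK, Nat.card_eq_fintype_card, ← hq] at this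
    exact (Nat.pow_right_injective hq1 this).symm
  have hdvd : r ∣ Fintype.card ι := hrR.trans (finrank_dvd_of_field hcA hinv)
  refine ⟨r, K, hrp, hdvd, fun x hx => ((memK x).mp hx).1,
    ⟨fun x hx y hy => hcA x ((memK x).mp hx).1 y ((memK y).mp hy).1, ?_, hKr⟩, ?_, ?_⟩
  · intro x hx hx0
    obtain ⟨hxA, hxq⟩ := (memK x).mp hx
    refine ⟨x ^ (q ^ r - 2), pow_mem hx _, ?_⟩
    obtain ⟨y, -, hxy⟩ := hinv x hxA hx0
    have h2 : 2 ≤ q ^ r := le_trans (by omega) (Nat.le_self_pow hrp.ne_zero q)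
    have h1 : x ^ (q ^ r - 1) * x = x := by rw [← pow_succ, Nat.sub_add_cancel hqr, hxq]
    rw [← pow_succ', show q ^ r - 2 + 1 = q ^ r - 1 by omega]
    calc x ^ (q ^ r - 1) = x ^ (q ^ r - 1) * x * y := by rw [mul_assoc, hxy, mul_one]
      _ = 1 := by rw [h1, hxy]
  · intro H hH h hh a ha
    obtain ⟨haA, haq⟩ := (memK a).mp ha
    exact (memK _).mpr ⟨hH h hh a haA, by rw [← map_pow, haq]⟩
  · intro τ hτA hτp x hx
    obtain ⟨hxA, hxq⟩ := (memK x).mp hx
    exact (memK _).mpr ⟨hτA x hxA, by rw [← hτp, hxq]⟩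

/-- Without decompositions and fields, a normalised commutative algebra consists of scalars. -/
theorem eq_scalar_of_comm [Finite F] [Nonempty ι] {H : Subgroup (GL ι F)}
    (hirr : Geo.ActsIrreducibly (Geo.matrixSet H)) (hprim : Primitive H) (hnf : NoField H)
    {A : Subalgebra F (Matrix ι ι F)} (hA : NormAlg H A) (hcA : ∀ x ∈ A, ∀ y ∈ A, x * y = y * x) :
    ∀ x ∈ A, ∃ c : F, x = c • 1 := by
  have hinv := field_of_comm hirr hprim hA hcA
  by_contra hcon
  obtain ⟨r, K, hr, hdvd, -, hK, hnorm, -⟩ := exists_prime_degree hcA hinv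
    (fun h => hcon fun x hx => eq_smul_one_of_finrank_eq_one h hx)
  exact hnf r K hr hdvd hK (hnorm H hA).le_normalizer

/-- An abelian normalised subgroup consists of scalars. -/
theorem le_scalars_of_abelian [Finite F] [Nonempty ι] {H : Subgroup (GL ι F)}
    (hirr : Geo.ActsIrreducibly (Geo.matrixSet H)) (hprim : Primitive H) (hnf : NoField H)
    {A : Subgroup (GL ι F)} (hA : NormBy H A) (hc : ∀ x ∈ A, ∀ y ∈ A, x * y = y * x) :
    A ≤ Geo.scalars ι F := by
  intro x hx
  obtain ⟨c, hc'⟩ := eq_scalar_of_comm hirr hprim hnf (normAlg_alg hA) (alg_comm hc) _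
    (Algebra.subset_adjoin (mem_matrixSet hx))
  exact smul_one_mem_scalars hc'

end Cfsg.Agent.Aschbacher
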