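/-
Normalised algebras with scalar centre are central simple: tensor decompositions.
Main results: `algEquiv_matrix`, `Tensor`, `Tensor.swap`, `tensor_or_top` (a normalised non-scalar
algebra is everything or gives a tensor decomposition).
-/
import Cfsg.Agent.Lib.Aschbacher.Field

set_option autoImplicit false

namespace Cfsg.Agent.Aschbacher

open Matrix
open scoped Kronecker
open Cfsg.Agent.PrimeDim

variable {ι : Type} [Fintype ι] [DecidableEq ι] {F : Type*} [Field F]

/-- An algebra normalised by an irreducible group has trivial Jacobson radical. -/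
theorem jacobson_eq_bot [Finite F] [Nonempty ι] {N : Subgroup (GL ι F)}
    (hirr : Geo.ActsIrreducibly (Geo.matrixSet N)) {A : Subalgebra F (Matrix ι ι F)} (hA : NormAlg N A) :
    Ring.jacobson A = ⊥ := by
  classical
  have : Finite (Matrix ι ι F) := inferInstanceAs (Finite (ι → ι → F))
  set J := Ring.jacobson A with hJ
  have hinv : ∀ (h : GL ι F) (hh : h ∈ N), ∀ a : A, a ∈ J → (⟨cj h a, hA h hh a a.2⟩ : A) ∈ J := by
    intro h hh a ha
    let f : A →+* A :=
      { toFun := fun a => ⟨cj h a, hA h hh a a.2⟩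
        map_one' := Subtype.ext (map_one (cj h))
        map_mul' := fun a b => Subtype.ext (map_mul (cj h) _ _)
        map_zero' := Subtype.ext (map_zero (cj h))
        map_add' := fun a b => Subtype.ext (map_add (cj h) _ _) }
    haveI : RingHomSurjective f :=
      ⟨fun b => ⟨⟨cj h⁻¹ b, hA _ (inv_mem hh) b b.2⟩, Subtype.ext (cj_cj_inv h (b : Matrix ι ι F))⟩⟩
    exact Ring.le_comap_jacobson f ha
  obtain ⟨v, hv, hJv⟩ : ∃ v : ι → F, v ≠ 0 ∧ ∀ a ∈ J, (a : Matrix ι ι F) *ᵥ v = 0 := by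
    by_contra hcon
    simp only [not_exists, not_and, not_forall, exists_prop] at hcon
    obtain ⟨k, hk⟩ := (IsSemiprimaryRing.isNilpotent : IsNilpotent (Ring.jacobson A))
    obtain ⟨v, hv⟩ := exists_ne (0 : ι → F)
    have hall : ∀ k : ℕ, ∃ a ∈ J ^ k, (a : Matrix ι ι F) *ᵥ v ≠ 0 := by
      intro k
      induction k with
      | zero => exact ⟨1, by rw [Submodule.pow_zero, Ideal.one_eq_top]; exact Submodule.mem_top, by simpa using hv⟩
      | succ k ih =>
        obtain ⟨a, ha, hav⟩ := ih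
        obtain ⟨b, hb, hbv⟩ := hcon _ hav
        refine ⟨b * a, ?_, ?_⟩
        · rw [Ideal.IsTwoSided.pow_succ]; exact Ideal.mul_mem_mul hb ha
        · rw [Subalgebra.coe_mul, ← Matrix.mulVec_mulVec]; exact hbv
    obtain ⟨a, ha, hav⟩ := hall k
    rw [← hJ] at hk
    rw [hk] at ha
    have ha0 : a = 0 := by simpa using ha
    rw [ha0] at hav
    exact hav (by simp)
  let W : Submodule F (ι → F) := ⨅ a : J, LinearMap.ker (Matrix.toLin' ((a : A) : Matrix ι ι F))
  have hW : ∀ w, w ∈ W ↔ ∀ a ∈ J, (a : Matrix ι ι F) *ᵥ w = 0 := by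
    intro w
    simp only [W, Submodule.mem_iInf, LinearMap.mem_ker, Matrix.toLin'_apply]
    exact ⟨fun h a ha => h ⟨a, ha⟩, fun h a => h a.1 a.2⟩
  rcases eq_bot_or_top hirr W (fun h hh w hw => by
    rw [hW] at hw ⊢
    intro a ha
    have h1 := mulVec_cj h (cj h⁻¹ (a : Matrix ι ι F)) w
    rw [cj_cj_inv] at h1
    have h2 : cj h⁻¹ (a : Matrix ι ι F) *ᵥ w = 0 := hw _ (hinv h⁻¹ (inv_mem hh) a ha)
    rw [h1, h2, Matrix.mulVec_zero]) with h | h
  · exact absurd ((Submodule.mem_bot F).mp (h ▸ (hW v).mpr hJv)) hv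
  · rw [eq_bot_iff]
    intro a ha
    refine (Submodule.mem_bot A).mpr (Subtype.ext (Matrix.ext_of_mulVec_single fun i => ?_))
    rw [(hW _).mp (h ▸ Submodule.mem_top) a ha]
    exact (Matrix.zero_mulVec _).symm

/-- An algebra normalised by an irreducible group, with scalar centre, is a matrix algebra. -/
theorem algEquiv_matrix [Finite F] [Nonempty ι] {N : Subgroup (GL ι F)}
    (hirr : Geo.ActsIrreducibly (Geo.matrixSet N)) {A : Subalgebra F (Matrix ι ι F)} (hA : NormAlg N A)
    (hcen : ∀ x ∈ A, (∀ y ∈ A, x * y = y * x) → ∃ c : F, x = c • 1) :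
    ∃ d : ℕ, 0 < d ∧ Nonempty (Matrix (Fin d) (Fin d) F ≃ₐ[F] A) := by
  classical
  have : Finite (Matrix ι ι F) := inferInstanceAs (Finite (ι → ι → F))
  have : IsSemisimpleRing A := IsArtinianRing.isSemisimpleRing_iff_jacobson.mpr (jacobson_eq_bot hirr hA)
  obtain ⟨n, D, d, hD, hDalg, hDfin, hd, ⟨e⟩⟩ := IsSemisimpleRing.exists_algEquiv_pi_matrix_divisionRing_finite F A
  have hcA : ∀ z : A, (∀ y : A, z * y = y * z) → ∃ c : F, z = algebraMap F A c := by
    intro z hz
    obtain ⟨c, hc⟩ := hcen z z.2 (fun y hy => congrArg Subtype.val (hz ⟨y, hy⟩))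
    exact ⟨c, Subtype.ext (by rw [hc, ← Algebra.algebraMap_eq_smul_one]; rfl)⟩
  rcases Nat.lt_or_ge 1 n with hn1 | hn1
  · exfalso
    let i : Fin n := ⟨0, by omega⟩
    let j : Fin n := ⟨1, hn1⟩
    have hij : j ≠ i := by simp [i, j]
    let u : ∀ k, Matrix (Fin (d k)) (Fin (d k)) (D k) := Pi.single i 1
    obtain ⟨c, hc⟩ := hcA (e.symm u) (fun y => e.injective (by
      rw [map_mul, map_mul, AlgEquiv.apply_symm_apply]
      funext k
      rcases eq_or_ne k i with rfl | hk
      · simp [u]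
      · simp [u, hk]))
    have hc' : u = algebraMap F _ c := by rw [← e.commutes, ← hc, AlgEquiv.apply_symm_apply]
    have h1 := congrFun hc' i
    have h2 := congrFun hc' j
    simp only [u, Pi.algebraMap_apply, Pi.single_eq_same, Pi.single_eq_of_ne hij] at h1 h2
    have := hd i
    have := hd j
    have hc0 : c = 0 := (algebraMap F (Matrix (Fin (d j)) (Fin (d j)) (D j))).injective (by rw [map_zero, ← h2])
    rw [hc0, map_zero] at h1
    exact one_ne_zero h1
  rcases Nat.eq_zero_or_pos n with hn0 | hn0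
  · exfalso
    subst hn0
    have : (1 : A) = 0 := e.injective (funext fun i => i.elim0)
    exact one_ne_zero this
  obtain rfl : n = 1 := by omega
  let e' : A ≃ₐ[F] Matrix (Fin (d 0)) (Fin (d 0)) (D 0) :=
    e.trans (AlgEquiv.ofBijective (Pi.evalAlgHom F (fun k => Matrix (Fin (d k)) (Fin (d k)) (D k)) 0)
      ⟨fun x y h => funext fun k => by rw [Fin.fin_one_eq_zero k]; exact h,
        fun x => ⟨Pi.single 0 x, by simp⟩⟩)
  have : Finite (D 0) := Module.finite_of_finite F
  have := hd 0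
  have hcent : Function.Surjective (algebraMap F (D 0)) := by
    intro x
    have hcommD : ∀ a c : D 0, a * c = c * a := fun a c => (littleWedderburn (D 0)).mul_comm a c
    obtain ⟨c, hc⟩ := hcA (e'.symm (Matrix.scalar (Fin (d 0)) x)) (fun y => e'.injective (by
      rw [map_mul, map_mul, AlgEquiv.apply_symm_apply]
      exact (Matrix.scalar_commute x (fun r => hcommD x r) _)))
    have h3 : Matrix.scalar (Fin (d 0)) x = algebraMap F (Matrix (Fin (d 0)) (Fin (d 0)) (D 0)) c := by
      rw [← e'.commutes, ← hc, AlgEquiv.apply_symm_apply]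
    have h4 := congrFun (congrFun h3 0) 0
    exact ⟨c, by simpa [Matrix.algebraMap_matrix_apply] using h4.symm⟩
  let eD : F ≃ₐ[F] D 0 := AlgEquiv.ofBijective (Algebra.ofId F (D 0)) ⟨(algebraMap F (D 0)).injective, hcent⟩
  exact ⟨d 0, NeZero.pos _, ⟨(e'.trans eD.symm.mapMatrix).symm⟩⟩

/-- `X ⊗ Y` with rows and columns indexed through `e`. -/
def tens {d t : ℕ} (e : ι ≃ Fin d × Fin t) (X : Matrix (Fin d) (Fin d) F) (Y : Matrix (Fin t) (Fin t) F) :
    Matrix ι ι F :=
  Matrix.reindexAlgEquiv F F e.symm (X ⊗ₖ Y)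

theorem tens_apply {d t : ℕ} (e : ι ≃ Fin d × Fin t) (X : Matrix (Fin d) (Fin d) F)
    (Y : Matrix (Fin t) (Fin t) F) (a b : ι) :
    tens e X Y a b = X (e a).1 (e b).1 * Y (e a).2 (e b).2 := by
  simp [tens]

theorem tens_mul {d t : ℕ} (e : ι ≃ Fin d × Fin t) (X X' : Matrix (Fin d) (Fin d) F)
    (Y Y' : Matrix (Fin t) (Fin t) F) : tens e X Y * tens e X' Y' = tens e (X * X') (Y * Y') := by
  rw [tens, tens, tens, ← map_mul, Matrix.mul_kronecker_mul]

theorem tens_one {d t : ℕ} (e : ι ≃ Fin d × Fin t) : tens e (1 : Matrix (Fin d) (Fin d) F) 1 = 1 := by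
  rw [tens, Matrix.one_kronecker_one, map_one]

theorem mem_tensorProductSubgroup_iff {d t : ℕ} (e : ι ≃ Fin d × Fin t) (P g : GL ι F) :
    g ∈ Geo.tensorProductSubgroup d t e P ↔ ∃ (a : GL (Fin d) F) (b : GL (Fin t) F),
      (g : Matrix ι ι F) = cj P (tens e (a : Matrix (Fin d) (Fin d) F) (b : Matrix (Fin t) (Fin t) F)) := by
  constructor
  · rintro ⟨_, ⟨k, ⟨a, b, hk⟩, rfl⟩, rfl⟩
    refine ⟨a, b, ?_⟩
    simp [Geo.glReindex, cj_apply, tens, hk]
  · rintro ⟨a, b, hg⟩
    let k : GL (Fin d × Fin t) F :=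
      ⟨(a : Matrix (Fin d) (Fin d) F) ⊗ₖ (b : Matrix (Fin t) (Fin t) F),
        ((a⁻¹ : GL (Fin d) F) : Matrix (Fin d) (Fin d) F) ⊗ₖ ((b⁻¹ : GL (Fin t) F) : Matrix (Fin t) (Fin t) F),
        by rw [← Matrix.mul_kronecker_mul]; simp, by rw [← Matrix.mul_kronecker_mul]; simp⟩
    refine ⟨Geo.glReindex e.symm k, ⟨k, ⟨a, b, rfl⟩, rfl⟩, ?_⟩
    apply Units.ext
    rw [hg]
    simp [Geo.glReindex, cj_apply, tens, k]

theorem tensorProductSubgroup_swap {d t : ℕ} (e : ι ≃ Fin d × Fin t) (P : GL ι F) :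
    Geo.tensorProductSubgroup d t e P = Geo.tensorProductSubgroup t d (e.trans (Equiv.prodComm _ _)) P := by
  ext g
  rw [mem_tensorProductSubgroup_iff, mem_tensorProductSubgroup_iff]
  have key : ∀ (X : Matrix (Fin d) (Fin d) F) (Y : Matrix (Fin t) (Fin t) F),
      tens (e.trans (Equiv.prodComm _ _)) Y X = tens e X Y := fun X Y => by
    ext a b
    simp [tens_apply, mul_comm]
  exact ⟨fun ⟨a, b, h⟩ => ⟨b, a, by rw [key]; exact h⟩, fun ⟨a, b, h⟩ => ⟨b, a, by rw [← key]; exact h⟩⟩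

/-- An embedded matrix algebra is `M_d ⊗ 1` in some basis. -/
theorem exists_tens_form [Nonempty ι] {d : ℕ} (hd : 0 < d)
    (φ : Matrix (Fin d) (Fin d) F →ₐ[F] Matrix ι ι F) :
    ∃ t : ℕ, d * t = Fintype.card ι ∧
      ∀ e : ι ≃ Fin d × Fin t, ∃ P : GL ι F, ∀ X, φ X = cj P (tens e X 1) := by
  classical
  let o : Fin d := ⟨0, hd⟩
  let U : Submodule F (ι → F) := LinearMap.range (Matrix.toLin' (φ (single o o 1)))
  let t := Module.finrank F U
  let w : Module.Basis (Fin t) F U := Module.finBasis F U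
  let b : Fin d × Fin t → ι → F := fun p => φ (single p.1 o 1) *ᵥ (w p.2 : ι → F)
  have hU : ∀ u ∈ U, φ (single o o 1) *ᵥ u = u := by
    rintro _ ⟨v, rfl⟩
    rw [Matrix.toLin'_apply, Matrix.mulVec_mulVec, ← map_mul, single_mul_single_same, one_mul]
  have hproj : ∀ (j : Fin d) (p : Fin d × Fin t),
      φ (single o j 1) *ᵥ b p = if j = p.1 then (w p.2 : ι → F) else 0 := by
    intro j p
    show φ (single o j 1) *ᵥ (φ (single p.1 o 1) *ᵥ _) = _
    rw [Matrix.mulVec_mulVec, ← map_mul]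
    split
    · next h => subst h; rw [single_mul_single_same, one_mul]; exact hU _ (w p.2).2
    · next h => rw [single_mul_single_of_ne _ _ _ _ h, map_zero, Matrix.zero_mulVec]
  have hind : LinearIndependent F b := by
    rw [Fintype.linearIndependent_iff]
    intro c hc p
    have h1 := congrArg (φ (single o p.1 1) *ᵥ ·) hc
    simp only [Matrix.mulVec_sum, Matrix.mulVec_smul, hproj, Matrix.mulVec_zero, smul_ite, smul_zero,
      Fintype.sum_prod_type] at h1
    rw [Finset.sum_eq_single p.1 (fun i _ hi => by simp [Ne.symm hi]) (by simp)] at h1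
    simp only [if_true] at h1
    refine Fintype.linearIndependent_iff.mp w.linearIndependent (fun k => c (p.1, k)) ?_ p.2
    apply Subtype.ext
    simpa using h1
  have hspan : ⊤ ≤ Submodule.span F (Set.range b) := by
    intro v _
    have hsum : v = ∑ i, φ (single i i 1) *ᵥ v := by
      rw [← Matrix.sum_mulVec, ← map_sum]
      have : (∑ i : Fin d, single i i (1 : F)) = 1 := by
        ext x y
        rw [Matrix.sum_apply, Finset.sum_eq_single x]
        · simp [Matrix.single, Matrix.one_apply]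
        · intro z _ hz; simp [Matrix.single, hz]
        · simp
      rw [this, map_one, Matrix.one_mulVec]
    rw [hsum]
    refine Submodule.sum_mem _ fun i _ => ?_
    have hmem : φ (single o i 1) *ᵥ v ∈ U :=
      ⟨φ (single o i 1) *ᵥ v, by
        rw [Matrix.toLin'_apply, Matrix.mulVec_mulVec, ← map_mul, single_mul_single_same, one_mul]⟩
    have hrep : _ = φ (single o i 1) *ᵥ v := congrArg Subtype.val (w.sum_repr ⟨_, hmem⟩)
    have : φ (single i i 1) *ᵥ v = φ (single i o 1) *ᵥ (φ (single o i 1) *ᵥ v) := by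
      rw [Matrix.mulVec_mulVec, ← map_mul, single_mul_single_same, one_mul]
    rw [this, ← hrep, AddSubmonoidClass.coe_finsetSum, Matrix.mulVec_sum]
    refine Submodule.sum_mem _ fun k _ => ?_
    rw [Submodule.coe_smul, Matrix.mulVec_smul]
    exact Submodule.smul_mem _ _ (Submodule.subset_span ⟨(i, k), rfl⟩)
  have hcard : d * t = Fintype.card ι := by
    have := Module.finrank_eq_card_basis (Module.Basis.mk hind hspan)
    rw [Module.finrank_fintype_fun_eq_card, Fintype.card_prod, Fintype.card_fin, Fintype.card_fin] at this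
    exact this.symm
  refine ⟨t, hcard, fun e => ?_⟩
  let P₀ : Matrix ι ι F := Matrix.of fun x a => b (e a) x
  have hu : IsUnit P₀ := by
    rw [← Matrix.linearIndependent_cols_iff_isUnit]
    exact hind.comp e e.injective
  have hP₀ : ∀ x c, P₀ x c = b (e c) x := fun _ _ => rfl
  refine ⟨hu.unit, fun X => ?_⟩
  have hmain : φ X * P₀ = P₀ * tens e X 1 := by
    ext x a
    have h1 : (φ X * P₀) x a = (φ X *ᵥ b (e a)) x := rfl
    have hX : X * single (e a).1 o 1 = ∑ j, X j (e a).1 • single j o (1 : F) := by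
      ext y z
      rw [Matrix.sum_apply]
      rcases eq_or_ne z o with rfl | hz
      · rw [Matrix.mul_single_apply_same, mul_one, Finset.sum_eq_single y]
        · simp [Matrix.single]
        · intro j _ hj; simp [Matrix.single, hj]
        · simp
      · rw [Matrix.mul_single_apply_of_ne _ _ _ _ _ hz]
        simp [Matrix.single, Ne.symm hz]
    have h2 : φ X *ᵥ b (e a) = ∑ j, X j (e a).1 • b (j, (e a).2) := by
      show φ X *ᵥ (φ _ *ᵥ _) = _
      rw [Matrix.mulVec_mulVec, ← map_mul, hX, map_sum, Matrix.sum_mulVec]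
      simp only [map_smul, Matrix.smul_mulVec]
      rfl
    rw [h1, h2, Matrix.mul_apply, ← e.symm.sum_comp, Fintype.sum_prod_type, Finset.sum_apply]
    refine Finset.sum_congr rfl fun j _ => ?_
    rw [Finset.sum_eq_single (e a).2]
    · rw [hP₀, tens_apply, Equiv.apply_symm_apply, Matrix.one_apply_eq, mul_one, Pi.smul_apply, smul_eq_mul,
        mul_comm]
    · intro k _ hk
      rw [tens_apply, Equiv.apply_symm_apply, Matrix.one_apply_ne hk, mul_zero, mul_zero]
    · simp
  rw [cj_apply, IsUnit.unit_spec, ← hmain, mul_assoc, hu.mul_val_inv, mul_one]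

/-- A matrix commuting with `M_d ⊗ 1` lies in `1 ⊗ M_t`. -/
theorem exists_eq_one_tens {d t : ℕ} (hd : 0 < d) (e : ι ≃ Fin d × Fin t) {M : Matrix ι ι F}
    (hM : ∀ X, M * tens e X 1 = tens e X 1 * M) :
    ∃ Y : Matrix (Fin t) (Fin t) F, M = tens e 1 Y := by
  classical
  let o : Fin d := ⟨0, hd⟩
  let f : Fin d → Fin t → ι := fun i k => e.symm (i, k)
  refine ⟨Matrix.of fun k l => M (f o k) (f o l), ?_⟩
  have key : ∀ (X : Matrix (Fin d) (Fin d) F) (i j : Fin d) (k l : Fin t),
      ∑ z, M (f i k) (f z l) * X z j = ∑ z, X i z * M (f z k) (f j l) := by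
    intro X i j k l
    have := congrFun (congrFun (hM X) (f i k)) (f j l)
    rw [Matrix.mul_apply, Matrix.mul_apply, ← e.symm.sum_comp, ← e.symm.sum_comp, Fintype.sum_prod_type,
      Fintype.sum_prod_type] at this
    refine Eq.trans (Eq.trans ?_ this) ?_
    · refine Finset.sum_congr rfl fun z _ => ?_
      rw [Finset.sum_eq_single l]
      · rw [tens_apply, Equiv.apply_symm_apply, Equiv.apply_symm_apply, Matrix.one_apply_eq, mul_one]
      · intro y _ hy
        rw [tens_apply, Equiv.apply_symm_apply, Equiv.apply_symm_apply, Matrix.one_apply_ne hy, mul_zero,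
          mul_zero]
      · simp
    · refine Finset.sum_congr rfl fun z _ => ?_
      rw [Finset.sum_eq_single k]
      · rw [tens_apply, Equiv.apply_symm_apply, Equiv.apply_symm_apply, Matrix.one_apply_eq, mul_one]
      · intro y _ hy
        rw [tens_apply, Equiv.apply_symm_apply, Equiv.apply_symm_apply, Matrix.one_apply_ne (Ne.symm hy),
          mul_zero, zero_mul]
      · simp
  have hdiag : ∀ i j k l, i ≠ j → M (f i k) (f j l) = 0 := by
    intro i j k l hij
    have := key (single j j 1) i j k l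
    rw [Finset.sum_eq_single j (fun z _ hz => by simp [Matrix.single, Ne.symm hz]) (by simp)] at this
    simpa [Matrix.single, Ne.symm hij] using this
  have hsame : ∀ i k l, M (f i k) (f i l) = M (f o k) (f o l) := by
    intro i k l
    have := key (single i o 1) i o k l
    rw [Finset.sum_eq_single i (fun z _ hz => by simp [Matrix.single, Ne.symm hz]) (by simp),
      Finset.sum_eq_single o (fun z _ hz => by simp [Matrix.single, Ne.symm hz]) (by simp)] at this
    simpa [Matrix.single] using this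
  ext a b
  have ha : f (e a).1 (e a).2 = a := by simp [f]
  have hb : f (e b).1 (e b).2 = b := by simp [f]
  rw [tens_apply]
  conv_lhs => rw [← ha, ← hb]
  by_cases hab : (e a).1 = (e b).1
  · rw [hab, hsame]; simp
  · rw [hdiag _ _ _ _ hab]; simp [Matrix.one_apply_ne hab]

/-- The normaliser of an embedded matrix algebra preserves the tensor decomposition. -/
theorem normAlg_tensor [Nonempty ι] {d t : ℕ} (hd : 0 < d) (e : ι ≃ Fin d × Fin t) (P : GL ι F)
    {A : Subalgebra F (Matrix ι ι F)} (φ : Matrix (Fin d) (Fin d) F ≃ₐ[F] A)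
    (hφ : ∀ X, (φ X : Matrix ι ι F) = cj P (tens e X 1)) {H : Subgroup (GL ι F)} (hA : NormAlg H A) :
    H ≤ Geo.tensorProductSubgroup d t e P := by
  classical
  have : Nonempty (Fin d) := ⟨⟨0, hd⟩⟩
  intro g hg
  let f : A →ₐ[F] A := ((cj g).comp A.val).codRestrict A (fun a => hA g hg a a.2)
  let ψ : Matrix (Fin d) (Fin d) F →ₐ[F] Matrix (Fin d) (Fin d) F :=
    φ.symm.toAlgHom.comp (f.comp φ.toAlgHom)
  have hψ : ∀ X, cj g (cj P (tens e X 1)) = cj P (tens e (ψ X) 1) := by
    intro X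
    rw [← hφ X, ← hφ (ψ X)]
    show _ = ((φ (φ.symm (f (φ X))) : A) : Matrix ι ι F)
    rw [AlgEquiv.apply_symm_apply]
    rfl
  obtain ⟨a, ha⟩ := exists_conj (RingHom.id F) ψ.toRingHom (fun c => by
    show ψ (c • 1) = _
    rw [map_smul, map_one]; rfl)
  have ha' : ∀ X, ψ X = cj a X := fun X => by
    have := ha X
    simpa using this
  have hu : IsUnit (tens e (a : Matrix (Fin d) (Fin d) F) (1 : Matrix (Fin t) (Fin t) F)) :=
    ⟨⟨tens e (a : Matrix (Fin d) (Fin d) F) 1, tens e ((a⁻¹ : GL (Fin d) F) : Matrix (Fin d) (Fin d) F) 1,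
      by rw [tens_mul, Units.mul_inv, one_mul, tens_one],
      by rw [tens_mul, Units.inv_mul, one_mul, tens_one]⟩, rfl⟩
  set a₁ : GL ι F := hu.unit with ha₁
  have ha₁v : (a₁ : Matrix ι ι F) = tens e (a : Matrix (Fin d) (Fin d) F) 1 := hu.unit_spec
  have ha₁i : ((a₁⁻¹ : GL ι F) : Matrix ι ι F) = tens e ((a⁻¹ : GL (Fin d) F) : Matrix (Fin d) (Fin d) F) 1 := by
    refine Units.inv_eq_of_mul_eq_one_right ?_
    rw [ha₁v, tens_mul, Units.mul_inv, one_mul, tens_one]
  let g' : GL ι F := a₁⁻¹ * (P⁻¹ * g * P)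
  obtain ⟨Y, hY⟩ := exists_eq_one_tens hd e (M := (g' : Matrix ι ι F)) (fun X => by
    rw [← cj_eq_self_iff]
    show cj g' (tens e X 1) = tens e X 1
    rw [← cj_cj a₁⁻¹, ← cj_cj (P⁻¹ * g), ← cj_cj P⁻¹, hψ, cj_inv_cj, ha', cj_apply a, cj_apply a₁⁻¹, inv_inv, ha₁i,
      ha₁v, tens_mul, tens_mul]
    simp [mul_assoc])
  obtain ⟨Y', hY'⟩ := exists_eq_one_tens hd e (M := ((g'⁻¹ : GL ι F) : Matrix ι ι F)) (fun X => by
    have h1 : (g' : Matrix ι ι F) * tens e X 1 = tens e X 1 * (g' : Matrix ι ι F) := by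
      rw [hY, tens_mul, tens_mul]; simp
    exact (Commute.units_inv_left (u := g') h1).eq)
  obtain ⟨j⟩ := ‹Nonempty (Fin d)›
  have hone : ∀ Z : Matrix (Fin t) (Fin t) F, tens e 1 Z = 1 → Z = 1 := by
    intro Z hZ
    ext k l
    have := congrFun (congrFun hZ (e.symm (j, k))) (e.symm (j, l))
    simpa [tens_apply, Matrix.one_apply] using this
  let b : GL (Fin t) F := ⟨Y, Y',
    hone _ (by rw [← one_mul (1 : Matrix (Fin d) (Fin d) F), ← tens_mul, ← hY, ← hY', Units.mul_inv]),
    hone _ (by rw [← one_mul (1 : Matrix (Fin d) (Fin d) F), ← tens_mul, ← hY, ← hY', Units.inv_mul])⟩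
  rw [mem_tensorProductSubgroup_iff]
  refine ⟨a, b, ?_⟩
  have hgeq : g = P * (a₁ * g') * P⁻¹ := by simp [g', mul_assoc]
  have h2 : ((a₁ * g' : GL ι F) : Matrix ι ι F)
      = tens e (a : Matrix (Fin d) (Fin d) F) (b : Matrix (Fin t) (Fin t) F) := by
    rw [Units.val_mul, ha₁v, hY, tens_mul, mul_one, one_mul]
  rw [hgeq, cj_apply, Units.val_mul, Units.val_mul, h2]

/-- `H` preserves tensor decompositions of a given shape, for every indexing. -/
def Tensor (H : Subgroup (GL ι F)) (d t : ℕ) : Prop :=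
  d * t = Fintype.card ι ∧ ∀ e : ι ≃ Fin d × Fin t, ∃ P : GL ι F, H ≤ Geo.tensorProductSubgroup d t e P

theorem Tensor.swap {H : Subgroup (GL ι F)} {d t : ℕ} (h : Tensor H d t) : Tensor H t d := by
  refine ⟨by rw [mul_comm]; exact h.1, fun e => ?_⟩
  obtain ⟨P, hP⟩ := h.2 (e.trans (Equiv.prodComm _ _))
  exact ⟨P, by rwa [tensorProductSubgroup_swap e P]⟩

/-- A normalised algebra with scalar centre gives a tensor decomposition. -/
theorem tensor_of_normAlg [Finite F] [Nonempty ι] {H N : Subgroup (GL ι F)}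
    (hirr : Geo.ActsIrreducibly (Geo.matrixSet N)) {A : Subalgebra F (Matrix ι ι F)} (hNA : NormAlg N A)
    (hA : NormAlg H A) (hcen : ∀ x ∈ A, (∀ y ∈ A, x * y = y * x) → ∃ c : F, x = c • 1) :
    ∃ d t : ℕ, Nonempty (Matrix (Fin d) (Fin d) F ≃ₐ[F] A) ∧ Tensor H d t := by
  obtain ⟨d, hd, ⟨φ⟩⟩ := algEquiv_matrix hirr hNA hcen
  obtain ⟨t, ht, hform⟩ := exists_tens_form hd (A.val.comp φ.toAlgHom)
  refine ⟨d, t, ⟨φ⟩, ht, fun e => ?_⟩
  obtain ⟨P, hP⟩ := hform e
  exact ⟨P, normAlg_tensor hd e P φ hP hA⟩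

/-- Without decompositions and fields, a normalised algebra is scalar, everything, or a tensor factor. -/
theorem tensor_or_top [Finite F] [Nonempty ι] {H : Subgroup (GL ι F)}
    (hirr : Geo.ActsIrreducibly (Geo.matrixSet H)) (hprim : Primitive H) (hnf : NoField H)
    {A : Subalgebra F (Matrix ι ι F)} (hA : NormAlg H A) (hns : ∃ x ∈ A, ∀ c : F, x ≠ c • 1) :
    A = ⊤ ∨ ∃ d t : ℕ, 2 ≤ d ∧ 2 ≤ t ∧ Tensor H d t := by
  classical
  let C : Subalgebra F (Matrix ι ι F) := A ⊓ Subalgebra.centralizer F (A : Set (Matrix ι ι F))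
  have hC : ∀ x, x ∈ C ↔ x ∈ A ∧ ∀ y ∈ A, y * x = x * y := by
    intro x
    simp [C, Subalgebra.mem_centralizer_iff]
  have hCn : NormAlg H C := by
    intro h hh a ha
    obtain ⟨haA, hac⟩ := (hC a).mp ha
    refine (hC _).mpr ⟨hA h hh a haA, fun y hy => ?_⟩
    have h1 := congrArg (cj h) (hac _ (hA h⁻¹ (inv_mem hh) y hy))
    rwa [map_mul, map_mul, cj_cj_inv] at h1
  have hcen : ∀ x ∈ A, (∀ y ∈ A, x * y = y * x) → ∃ c : F, x = c • 1 := fun x hx hc =>
    eq_scalar_of_comm hirr hprim hnf hCn (fun u hu v hv => ((hC v).mp hv).2 u ((hC u).mp hu).1) x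
      ((hC x).mpr ⟨hx, fun y hy => (hc y hy).symm⟩)
  obtain ⟨d, t, ⟨φ⟩, hT⟩ := tensor_of_normAlg hirr hA hA hcen
  have hrank : Module.finrank F A = d * d := by
    rw [← φ.toLinearEquiv.finrank_eq, Module.finrank_matrix]
    simp
  have hd0 : 0 < d := by
    refine Nat.pos_of_ne_zero fun h => ?_
    have h1 := hT.1
    rw [h, zero_mul] at h1
    exact Fintype.card_ne_zero h1.symm
  rcases Nat.lt_or_ge d 2 with hd | hd
  · exfalso
    obtain ⟨x, hx, hxs⟩ := hns
    obtain ⟨c, hc⟩ := eq_smul_one_of_finrank_eq_one (by rw [hrank, show d = 1 by omega]) hx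
    exact hxs c hc
  rcases Nat.lt_or_ge t 2 with ht | ht
  · left
    have hdn : d = Fintype.card ι := by
      rcases (show t = 0 ∨ t = 1 by omega) with h | h
      · exact absurd (by rw [← hT.1, h, mul_zero]) Fintype.card_ne_zero
      · rw [← hT.1, h, mul_one]
    apply Algebra.toSubmodule_eq_top.mp
    refine Submodule.eq_top_of_finrank_eq ?_
    show Module.finrank F A = _
    rw [hrank, Module.finrank_matrix, hdn]
    simp
  · exact Or.inr ⟨d, t, hd, ht, hT⟩

end Cfsg.Agent.Aschbacher
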