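/-
Adjoints for a sesquilinear form given by a Gram matrix, and the algebras of normal subgroups of similarities.
Main results: `Herm`, `Sim`, `adj` and its rules, `adj_mem_alg`.
-/
import Cfsg.Agent.Lib.Aschbacher.Forms
import Cfsg.Agent.Lib.Aschbacher.Simple

set_option autoImplicit false

namespace Cfsg.Agent.Aschbacher

open Matrix
open Cfsg.Agent.PrimeDim

variable {ι : Type} [Fintype ι] [DecidableEq ι] {F : Type*} [Field F]

/-- A non-degenerate σ-sesquilinear form with `f(v, u) = ε σ(f(u, v))`, given by its Gram matrix. -/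
structure Herm (σ : F →+* F) (Φ : Matrix ι ι F) : Prop where
  invol : ∀ a, σ (σ a) = a
  det : IsUnit Φ.det
  symm : ∃ ε : F, ε ≠ 0 ∧ (Φ.map σ)ᵀ = ε • Φ

/-- All members are similarities. -/
def Sim (σ : F →+* F) (Φ : Matrix ι ι F) (G : Subgroup (GL ι F)) : Prop :=
  ∀ g ∈ G, ∃ c : F, c ≠ 0 ∧ (g : Matrix ι ι F)ᵀ * Φ * (g : Matrix ι ι F).map σ = c • Φ

/-- The adjoint for the form with Gram matrix `Φ`. -/
noncomputable def adj (σ : F →+* F) (Φ X : Matrix ι ι F) : Matrix ι ι F := (Φ⁻¹ * Xᵀ * Φ).map σ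

variable {σ : F →+* F} {Φ : Matrix ι ι F}

theorem map_smul' (c : F) (X : Matrix ι ι F) : (c • X).map σ = σ c • X.map σ := by ext i j; simp

theorem map_inv' {X : Matrix ι ι F} (h : IsUnit X.det) : (X.map σ)⁻¹ = X⁻¹.map σ := by
  refine Matrix.inv_eq_right_inv ?_
  rw [← Matrix.map_mul, Matrix.mul_nonsing_inv _ h, Matrix.map_one _ (map_zero _) (map_one _)]

theorem Herm.map_map (h : Herm σ Φ) (X : Matrix ι ι F) : (X.map σ).map σ = X := by
  ext i j; simp [h.invol]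

theorem Herm.mul_adj_map (h : Herm σ Φ) (X : Matrix ι ι F) : Φ * (adj σ Φ X).map σ = Xᵀ * Φ := by
  rw [adj, h.map_map, mul_assoc, Matrix.mul_nonsing_inv_cancel_left _ _ h.det]

theorem form_adj (h : Herm σ Φ) (X : Matrix ι ι F) (u v : ι → F) :
    Geo.formOfGram σ Φ (X *ᵥ u) v = Geo.formOfGram σ Φ u (adj σ Φ X *ᵥ v) := by
  rw [formOfGram_eq, formOfGram_eq, comp_mulVec, Matrix.mulVec_mulVec, h.mul_adj_map, ← Matrix.vecMul_transpose,
    ← Matrix.dotProduct_mulVec, Matrix.mulVec_mulVec]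

theorem adj_mul (h : Herm σ Φ) (X Y : Matrix ι ι F) : adj σ Φ (X * Y) = adj σ Φ Y * adj σ Φ X := by
  rw [adj, adj, adj, ← Matrix.map_mul, Matrix.transpose_mul]
  simp [mul_assoc, Matrix.mul_nonsing_inv_cancel_left _ _ h.det]

theorem adj_one (h : Herm σ Φ) : adj σ Φ (1 : Matrix ι ι F) = 1 := by
  rw [adj, Matrix.transpose_one, mul_one, Matrix.nonsing_inv_mul _ h.det,
    Matrix.map_one _ (map_zero _) (map_one _)]

theorem adj_add (X Y : Matrix ι ι F) : adj σ Φ (X + Y) = adj σ Φ X + adj σ Φ Y := by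
  rw [adj, adj, adj, Matrix.transpose_add, mul_add, add_mul, Matrix.map_add]
  exact map_add σ

theorem adj_smul (c : F) (X : Matrix ι ι F) : adj σ Φ (c • X) = σ c • adj σ Φ X := by
  rw [adj, adj, Matrix.transpose_smul, Matrix.mul_smul, Matrix.smul_mul, map_smul']

theorem adj_zero : adj σ Φ (0 : Matrix ι ι F) = 0 := by ext i j; simp [adj]

theorem adj_pow (h : Herm σ Φ) (X : Matrix ι ι F) (k : ℕ) : adj σ Φ (X ^ k) = adj σ Φ X ^ k := by
  induction k with
  | zero => rw [pow_zero, pow_zero, adj_one h]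
  | succ k ih => rw [pow_succ, adj_mul h, ih, pow_succ']

theorem adj_adj (h : Herm σ Φ) (X : Matrix ι ι F) : adj σ Φ (adj σ Φ X) = X := by
  obtain ⟨ε, hε, hs⟩ := h.symm
  have h1 : Φ.map σ = ε • Φᵀ := by
    rw [← Matrix.transpose_smul, ← hs, Matrix.transpose_transpose]
  have hdσ : IsUnit (Φ.map σ).det := by
    rw [← RingHom.mapMatrix_apply, ← RingHom.map_det]; exact h.det.map σ
  have h2 : (adj σ Φ X)ᵀ = (Φ.map σ)ᵀ * X.map σ * ((Φ.map σ)⁻¹)ᵀ := by
    rw [adj, map_inv' h.det]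
    simp [Matrix.map_mul, Matrix.transpose_mul, Matrix.transpose_map, mul_assoc]
  rw [adj, h2, hs, Matrix.transpose_nonsing_inv, hs]
  have h3 : (ε • Φ)⁻¹ = ε⁻¹ • Φ⁻¹ := by
    refine Matrix.inv_eq_right_inv ?_
    rw [Matrix.smul_mul, Matrix.mul_smul, smul_smul, mul_inv_cancel₀ hε, one_smul,
      Matrix.mul_nonsing_inv _ h.det]
  rw [h3]
  simp only [Matrix.mul_smul, Matrix.smul_mul, smul_smul, inv_mul_cancel₀ hε, one_smul]
  rw [show Φ⁻¹ * (Φ * X.map σ * Φ⁻¹) * Φ = X.map σ by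
    simp [mul_assoc, Matrix.nonsing_inv_mul _ h.det, Matrix.nonsing_inv_mul_cancel_left _ _ h.det]]
  exact h.map_map X

theorem adj_of_sim (h : Herm σ Φ) {G : Subgroup (GL ι F)} (hG : Sim σ Φ G) {g : GL ι F} (hg : g ∈ G) :
    ∃ c : F, c ≠ 0 ∧ adj σ Φ (g : Matrix ι ι F) = c • ((g⁻¹ : GL ι F) : Matrix ι ι F) := by
  obtain ⟨c, hc, hgc⟩ := hG g hg
  refine ⟨σ c, (map_ne_zero σ).mpr hc, ?_⟩
  have h1 : (g : Matrix ι ι F).map σ * ((g⁻¹ : GL ι F) : Matrix ι ι F).map σ = 1 := by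
    rw [← Matrix.map_mul, Units.mul_inv, Matrix.map_one _ (map_zero _) (map_one _)]
  have h2 : (g : Matrix ι ι F)ᵀ * Φ = c • (Φ * ((g⁻¹ : GL ι F) : Matrix ι ι F).map σ) := by
    calc (g : Matrix ι ι F)ᵀ * Φ
        = ((g : Matrix ι ι F)ᵀ * Φ * (g : Matrix ι ι F).map σ) * ((g⁻¹ : GL ι F) : Matrix ι ι F).map σ := by
          rw [mul_assoc ((g : Matrix ι ι F)ᵀ * Φ), h1, mul_one]
      _ = _ := by rw [hgc, Matrix.smul_mul]
  rw [adj, mul_assoc, h2, Matrix.mul_smul, Matrix.nonsing_inv_mul_cancel_left _ _ h.det, map_smul', h.map_map]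

theorem adj_cj [Nonempty ι] (h : Herm σ Φ) {G : Subgroup (GL ι F)} (hG : Sim σ Φ G) {g : GL ι F} (hg : g ∈ G)
    (X : Matrix ι ι F) : adj σ Φ (cj g X) = cj g (adj σ Φ X) := by
  obtain ⟨c, hc, hgc⟩ := adj_of_sim h hG hg
  obtain ⟨d, hd, hgd⟩ := adj_of_sim h hG (inv_mem hg)
  rw [inv_inv] at hgd
  have hdc : d * c = 1 := by
    have h1 := congrArg (adj σ Φ) (Units.mul_inv g)
    rw [adj_mul h, hgd, hgc, adj_one h, Matrix.smul_mul, Matrix.mul_smul, smul_smul, Units.mul_inv] at h1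
    obtain ⟨i⟩ := ‹Nonempty ι›
    simpa using congrFun (congrFun h1 i) i
  rw [cj_apply, adj_mul h, adj_mul h, hgc, hgd, cj_apply, Matrix.smul_mul, Matrix.mul_smul, Matrix.mul_smul,
    smul_smul, hdc, one_smul, mul_assoc]

/-- The algebra of a subgroup of similarities is closed under adjoints. -/
theorem adj_mem_alg (h : Herm σ Φ) {G M : Subgroup (GL ι F)} (hG : Sim σ Φ G) (hM : M ≤ G) {X : Matrix ι ι F}
    (hX : X ∈ alg M) : adj σ Φ X ∈ alg M := by
  induction hX using Algebra.adjoin_induction with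
  | mem y hy =>
    obtain ⟨g, hg, rfl⟩ := hy
    obtain ⟨c, -, hgc⟩ := adj_of_sim h hG (hM hg)
    change adj σ Φ (g : Matrix ι ι F) ∈ _
    rw [hgc]
    exact Subalgebra.smul_mem _ (Algebra.subset_adjoin (mem_matrixSet (inv_mem hg))) c
  | algebraMap c =>
    rw [Algebra.algebraMap_eq_smul_one, adj_smul, adj_one h]
    exact Subalgebra.smul_mem _ (one_mem _) _
  | add a b _ _ ha hb => rw [adj_add]; exact add_mem ha hb
  | mul a b _ _ ha hb => rw [adj_mul h]; exact mul_mem hb ha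

end Cfsg.Agent.Aschbacher
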