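/-
The class-two case: symplectic-type groups.
Main results: `Good`, `Good.span`, `classTwo_outcome` (a form, a subfield, or symplectic-type data).
-/
import Cfsg.Agent.Lib.Aschbacher.Simple
import Cfsg.Agent.Lib.Aschbacher.Forms
import Cfsg.Agent.Lib.PrimeDim.Trichotomy

set_option autoImplicit false

namespace Cfsg.Agent.Aschbacher

open Matrix
open scoped commutatorElement
open Cfsg.Agent.PrimeDim

variable {ι : Type} [Fintype ι] [DecidableEq ι] {F : Type*} [Field F]

/-- `G` contains the scalars and avoids classes 1–4. -/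
structure Good (G : Subgroup (GL ι F)) : Prop where
  scal : Geo.scalars ι F ≤ G
  irr : Geo.ActsIrreducibly (Geo.matrixSet G)
  span : ∀ M : Subgroup (GL ι F), M ≤ G → NormBy G M → (∃ x ∈ M, x ∉ Geo.scalars ι F) →
    Submodule.span F (Geo.matrixSet M) = ⊤

theorem span_eq_toSubmodule (M : Subgroup (GL ι F)) :
    Submodule.span F (Geo.matrixSet M) = Subalgebra.toSubmodule (alg M) := by
  have hQs : ((M.toSubmonoid.map (Units.coeHom (Matrix ι ι F))) : Set (Matrix ι ι F)) = Geo.matrixSet M := rfl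
  show _ = Subalgebra.toSubmodule (Algebra.adjoin F (Geo.matrixSet M))
  rw [← hQs, Algebra.adjoin_eq_span, Submonoid.closure_eq]

/-- Without decompositions, fields and tensor structures the group is good. -/
theorem good_of_primitive [Finite F] [Nonempty ι] {G : Subgroup (GL ι F)} (hs : Geo.scalars ι F ≤ G)
    (hirr : Geo.ActsIrreducibly (Geo.matrixSet G)) (hprim : Primitive G) (hnf : NoField G)
    (hT : ∀ d t : ℕ, 2 ≤ d → 2 ≤ t → ¬ Tensor G d t) : Good G := by
  refine ⟨hs, hirr, fun M _ hM hns => ?_⟩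
  rw [span_eq_toSubmodule, Algebra.toSubmodule_eq_top]
  rcases tensor_or_top hirr hprim hnf (normAlg_alg hM)
      (by
        obtain ⟨x, hx, hxs⟩ := hns
        exact ⟨(x : Matrix ι ι F), Algebra.subset_adjoin (mem_matrixSet hx),
          fun c hc => hxs (smul_one_mem_scalars hc)⟩) with h | ⟨d, t, hd, ht, hT'⟩
  · exact h
  · exact absurd hT' (hT d t hd ht)

/-- An abelian normal subgroup of a good group is scalar. -/
theorem Good.abelian [Nonempty ι] {G : Subgroup (GL ι F)} (hG : Good G) {A : Subgroup (GL ι F)}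
    (hle : A ≤ G) (hA : NormBy G A) (hc : ∀ x ∈ A, ∀ y ∈ A, x * y = y * x) : A ≤ Geo.scalars ι F := by
  intro x hx
  by_contra hxs
  obtain ⟨c, hc'⟩ := scalar_of_span (hG.span A hle hA ⟨x, hx, hxs⟩) (x : Matrix ι ι F) (by
    rintro _ ⟨y, hy, rfl⟩
    exact congrArg Units.val (hc x hx y hy))
  exact hxs (smul_one_mem_scalars hc')

/-- Powers of a product of two elements commuting up to `c`. -/
theorem pow_mul_of_twisted {X Y : Matrix ι ι F} {c : F} (h : Y * X = c • (X * Y)) :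
    ∀ k : ℕ, (X * Y) ^ k = c ^ (k.choose 2) • (X ^ k * Y ^ k) := by
  have hk : ∀ k : ℕ, Y ^ k * X = c ^ k • (X * Y ^ k) := by
    intro k
    induction k with
    | zero => simp
    | succ k ih =>
      rw [pow_succ', mul_assoc, ih, Matrix.mul_smul, ← mul_assoc, h, Matrix.smul_mul, smul_smul, mul_assoc,
        ← pow_succ' Y, ← pow_succ]
  intro k
  induction k with
  | zero => simp
  | succ k ih =>
    calc (X * Y) ^ (k + 1) = c ^ (k.choose 2) • (X ^ k * Y ^ k) * (X * Y) := by rw [pow_succ, ih]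
      _ = c ^ (k.choose 2) • (X ^ k * (Y ^ k * X) * Y) := by rw [Matrix.smul_mul]; simp [mul_assoc]
      _ = (c ^ (k.choose 2) * c ^ k) • (X ^ (k + 1) * Y ^ (k + 1)) := by
        rw [hk, Matrix.mul_smul, Matrix.smul_mul, smul_smul, pow_succ X, pow_succ Y]
        simp [mul_assoc]
      _ = c ^ ((k + 1).choose 2) • (X ^ (k + 1) * Y ^ (k + 1)) := by
        rw [← pow_add, show (k + 1).choose 2 = k.choose 2 + k by
          rw [Nat.choose_succ_succ', Nat.choose_one_right, add_comm]]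

theorem smul_one_inj [Nonempty ι] {a b : F} (h : a • (1 : Matrix ι ι F) = b • 1) : a = b := by
  obtain ⟨i⟩ := ‹Nonempty ι›
  simpa using congrFun (congrFun h i) i

/-- The scalar matrix `a` as an invertible matrix. -/
def sc (ι : Type) [Fintype ι] [DecidableEq ι] {F : Type*} [Field F] : Fˣ →* GL ι F :=
  Units.map (Matrix.scalar ι : F →+* Matrix ι ι F).toMonoidHom

theorem sc_val (a : Fˣ) : ((sc ι a : GL ι F) : Matrix ι ι F) = (a : F) • 1 := by
  simp [sc, Matrix.smul_one_eq_diagonal]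

theorem sc_mem (a : Fˣ) : sc ι a ∈ Geo.scalars ι F := ⟨a, rfl⟩

theorem sc_inj [Nonempty ι] {a b : Fˣ} (h : sc ι a = sc ι b) : a = b := by
  have := congrArg (fun g : GL ι F => (g : Matrix ι ι F)) h
  simp only [sc_val] at this
  exact Units.ext (smul_one_inj this)

/-- In a cyclic group of units: products of non-squares are squares. -/
theorem isSquare_or_neg [Finite F] (h : ¬ IsSquare (-1 : F)) {c : F} (hc : c ≠ 0) :
    IsSquare c ∨ IsSquare (-c) := by
  classical
  obtain ⟨g, hg⟩ := IsCyclic.exists_generator (α := Fˣ)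
  obtain ⟨i, hi⟩ := mem_powers_iff_mem_zpowers.mpr (hg (Units.mk0 c hc))
  obtain ⟨j, hj⟩ := mem_powers_iff_mem_zpowers.mpr (hg (-1))
  rcases Nat.even_or_odd i with ⟨k, hk⟩ | hodd
  · left
    refine ⟨((g ^ k : Fˣ) : F), ?_⟩
    rw [← Units.val_mul, ← pow_add, ← hk]
    exact (congrArg Units.val hi).symm
  · rcases Nat.even_or_odd j with ⟨k, hk⟩ | hoddj
    · refine absurd ⟨((g ^ k : Fˣ) : F), ?_⟩ h
      rw [← Units.val_mul, ← pow_add, ← hk]
      simpa using (congrArg Units.val hj).symm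
    · right
      obtain ⟨k, hk⟩ := hodd.add_odd hoddj
      refine ⟨((g ^ k : Fˣ) : F), ?_⟩
      rw [← Units.val_mul, ← pow_add, ← hk, pow_add, Units.val_mul]
      have h1 : ((g ^ i : Fˣ) : F) = c := congrArg Units.val hi
      have h2 : ((g ^ j : Fˣ) : F) = -1 := by simpa using congrArg Units.val hj
      rw [h1, h2, mul_neg, mul_one]

/-- Data of a minimal non-scalar normal subgroup of class two. -/
structure ClassTwo (G N : Subgroup (GL ι F)) : Prop where
  good : Good G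
  le : N ≤ G
  norm : NormBy G N
  scal : Geo.scalars ι F ≤ N
  nonscalar : ∃ x ∈ N, x ∉ Geo.scalars ι F
  min : ∀ M ≤ N, NormBy G M → Geo.scalars ι F ≤ M → (∃ x ∈ M, x ∉ Geo.scalars ι F) → M = N
  comm : ∀ x ∈ N, ∀ y ∈ N, ⁅x, y⁆ ∈ Geo.scalars ι F

variable {G N : Subgroup (GL ι F)}

theorem ClassTwo.twist (h : ClassTwo G N) {x y : GL ι F} (hx : x ∈ N) (hy : y ∈ N) :
    ∃ c : F, c ≠ 0 ∧ cj x (y : Matrix ι ι F) = c • (y : Matrix ι ι F) := by
  obtain ⟨c, hc⟩ := (Geo.mem_scalars_iff _).mp (h.comm x hx y hy)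
  refine ⟨c, c.ne_zero, ?_⟩
  rw [cj_coe]
  have : x * y * x⁻¹ = ⁅x, y⁆ * y := by simp [commutatorElement_def, mul_assoc]
  rw [this, Units.val_mul, hc, Matrix.smul_mul, one_mul]

theorem ClassTwo.mem_scalars_of_central [Finite F] [Nonempty ι] (h : ClassTwo G N) {x : GL ι F}
    (hx : x ∈ N) (hc : ∀ y ∈ N, x * y = y * x) : x ∈ Geo.scalars ι F := by
  let C : Subgroup (GL ι F) := N ⊓ Subgroup.centralizer (N : Set (GL ι F))
  have hC : NormBy G C := by
    intro g hg a ha
    refine Subgroup.mem_inf.mpr ⟨h.norm g hg a ha.1, Subgroup.mem_centralizer_iff.mpr fun y hy => ?_⟩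
    have h1 := h.norm g⁻¹ (inv_mem hg) y hy
    rw [inv_inv] at h1
    have h2 := Subgroup.mem_centralizer_iff.mp ha.2 _ h1
    calc y * (g * a * g⁻¹) = g * ((g⁻¹ * y * g) * a) * g⁻¹ := by simp [mul_assoc]
      _ = g * (a * (g⁻¹ * y * g)) * g⁻¹ := by rw [h2]
      _ = g * a * g⁻¹ * y := by simp [mul_assoc]
  exact h.good.abelian (inf_le_left.trans h.le) hC
    (fun a ha b hb => (Subgroup.mem_centralizer_iff.mp ha.2 b hb.1).symm)
    (Subgroup.mem_inf.mpr ⟨hx, Subgroup.mem_centralizer_iff.mpr fun y hy => (hc y hy).symm⟩)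

/-- `N` modulo scalars is elementary abelian. -/
theorem ClassTwo.exists_prime [Finite F] [Nonempty ι] (h : ClassTwo G N) :
    ∃ r : ℕ, r.Prime ∧ ∀ x ∈ N, x ^ r ∈ Geo.scalars ι F := by
  classical
  have : Finite (Matrix ι ι F) := inferInstanceAs (Finite (ι → ι → F))
  obtain ⟨x₀, hx₀, hx₀s⟩ := h.nonscalar
  let q := QuotientGroup.mk' (Geo.scalars ι F)
  have hq : ∀ x, q x = 1 ↔ x ∈ Geo.scalars ι F := fun x => QuotientGroup.eq_one_iff x
  have hk : orderOf (q x₀) ≠ 1 := fun hh => hx₀s ((hq x₀).mp (orderOf_eq_one_iff.mp hh))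
  set r := (orderOf (q x₀)).minFac
  have hr : r.Prime := Nat.minFac_prime hk
  obtain ⟨l, hl⟩ := Nat.minFac_dvd (orderOf (q x₀))
  have hcomm : ∀ x ∈ N, ∀ y ∈ N, Commute (q x) (q y) := fun x hx y hy => by
    rw [← commutatorElement_eq_one_iff_commute, ← map_commutatorElement]
    exact (hq _).mpr (h.comm x hx y hy)
  let M : Subgroup (GL ι F) :=
    { carrier := {x | x ∈ N ∧ x ^ r ∈ Geo.scalars ι F}
      mul_mem' := fun {a b} ha hb => ⟨mul_mem ha.1 hb.1, (hq _).mp (by
        rw [map_pow, map_mul, (hcomm a ha.1 b hb.1).mul_pow, ← map_pow, ← map_pow,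
          (hq _).mpr ha.2, (hq _).mpr hb.2, one_mul])⟩
      one_mem' := ⟨one_mem _, by rw [one_pow]; exact one_mem _⟩
      inv_mem' := fun {a} ha => ⟨inv_mem ha.1, by rw [inv_pow]; exact inv_mem ha.2⟩ }
  have hMN : M = N := by
    refine h.min M (fun x hx => hx.1) ?_ (fun x hx => ⟨h.scal hx, pow_mem hx r⟩) ⟨x₀ ^ l, ⟨pow_mem hx₀ l, ?_⟩, ?_⟩
    · intro g hg a ha
      exact ⟨h.norm g hg a ha.1, by rw [conj_pow]; exact Geo.scalars_normal.conj_mem _ ha.2 g⟩
    · rw [← pow_mul, ← hq, map_pow, mul_comm, ← hl, pow_orderOf_eq_one]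
    · intro hs
      rw [← hq, map_pow] at hs
      have hd := orderOf_dvd_of_pow_eq_one hs
      have hl0 : 0 < l := Nat.pos_of_ne_zero fun h0 => by
        rw [h0, mul_zero] at hl
        exact (orderOf_pos (q x₀)).ne' hl
      have := Nat.le_of_dvd hl0 hd
      rw [hl] at this
      nlinarith [hr.two_le]
  exact ⟨r, hr, fun x hx => (hMN.symm ▸ hx : x ∈ M).2⟩

theorem ClassTwo.twist_pow [Nonempty ι] (h : ClassTwo G N) {r : ℕ}
    (hr : ∀ x ∈ N, x ^ r ∈ Geo.scalars ι F) {x y : GL ι F} (hy : y ∈ N) {c : F}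
    (hc : cj x (y : Matrix ι ι F) = c • (y : Matrix ι ι F)) : c ^ r = 1 := by
  obtain ⟨a, ha⟩ := (Geo.mem_scalars_iff _).mp (hr y hy)
  rw [Units.val_pow_eq_pow_val] at ha
  have h1 := congrArg (· ^ r) hc
  simp only [← map_pow, smul_pow, ha, map_smul, map_one] at h1
  refine smul_one_inj (ι := ι) (smul_right_injective (Matrix ι ι F) a.ne_zero ?_)
  show (a : F) • (c ^ r • (1 : Matrix ι ι F)) = (a : F) • ((1 : F) • 1)
  rw [one_smul, smul_comm, ← h1]

theorem ClassTwo.exists_root [Finite F] [Nonempty ι] (h : ClassTwo G N) {r : ℕ} (hr : r.Prime)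
    (hrp : ∀ x ∈ N, x ^ r ∈ Geo.scalars ι F) {x : GL ι F} (hx : x ∈ N) (hxs : x ∉ Geo.scalars ι F) :
    ∃ y ∈ N, ∃ c : F, IsPrimitiveRoot c r ∧ cj y (x : Matrix ι ι F) = c • (x : Matrix ι ι F) := by
  by_contra hcon
  refine hxs (h.mem_scalars_of_central hx fun y hy => ?_)
  obtain ⟨c, -, hc2⟩ := h.twist hy hx
  by_cases h1 : c = 1
  · rw [h1, one_smul, cj_eq_self_iff] at hc2
    exact Units.ext hc2.symm
  · refine absurd ⟨y, hy, c, ?_, hc2⟩ hcon
    have := IsPrimitiveRoot.orderOf c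
    rwa [orderOf_eq_prime (hp := ⟨hr⟩) (h.twist_pow hrp hx hc2) h1] at this

theorem ClassTwo.trace_eq_zero [Finite F] [Nonempty ι] (h : ClassTwo G N) {x : GL ι F} (hx : x ∈ N)
    (hxs : x ∉ Geo.scalars ι F) : (x : Matrix ι ι F).trace = 0 := by
  obtain ⟨r, hr, hrp⟩ := h.exists_prime
  obtain ⟨y, hy, c, hc, hxy⟩ := h.exists_root hr hrp hx hxs
  have h1 : (cj y (x : Matrix ι ι F)).trace = (x : Matrix ι ι F).trace := by
    rw [cj_apply, Matrix.trace_mul_cycle, ← Units.val_mul, inv_mul_cancel, Units.val_one, one_mul]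
  rw [hxy, Matrix.trace_smul, smul_eq_mul] at h1
  rcases mul_eq_zero.mp (show (c - 1) * (x : Matrix ι ι F).trace = 0 by
    rw [sub_mul, one_mul, h1, sub_self]) with h | h
  · exact absurd (sub_eq_zero.mp h) (hc.ne_one hr.one_lt)
  · exact h

/-- The index of the scalars is the square of the dimension, a power of `r`. -/
theorem ClassTwo.card_quotient [Finite F] [Nonempty ι] (h : ClassTwo G N) (hι : 2 ≤ Fintype.card ι) {r : ℕ}
    (hr : r.Prime) (hrp : ∀ x ∈ N, x ^ r ∈ Geo.scalars ι F) :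
    Nat.card (N ⧸ (Geo.scalars ι F).subgroupOf N) = Fintype.card ι * Fintype.card ι ∧
      ∃ m, 1 ≤ m ∧ Fintype.card ι = r ^ m := by
  classical
  have : Finite (Matrix ι ι F) := inferInstanceAs (Finite (ι → ι → F))
  set S' := (Geo.scalars ι F).subgroupOf N with hS'
  have : Fintype (N ⧸ S') := Fintype.ofFinite _
  let s : N ⧸ S' → N := Quotient.out
  have hs : ∀ q, (s q : N ⧸ S') = q := fun q => QuotientGroup.out_eq' q
  choose χ hχ0 hχ using fun (x y : N) => h.twist x.2 y.2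
  have huniq : ∀ (a b : F) (y : N),
      a • ((y : GL ι F) : Matrix ι ι F) = b • ((y : GL ι F) : Matrix ι ι F) → a = b := fun a b y hab => by
    refine smul_one_inj (ι := ι) ?_
    have := congrArg (fun M => M * (((y : GL ι F)⁻¹ : GL ι F) : Matrix ι ι F)) hab
    simpa [Matrix.smul_mul] using this
  let ψ : N ⧸ S' → N →* F := fun q =>
    { toFun := fun y => χ y (s q)
      map_one' := huniq _ _ (s q) (by rw [← hχ, one_smul]; simp [cj_apply])
      map_mul' := fun y y' => huniq _ _ (s q) (by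
        rw [← hχ, Subgroup.coe_mul, ← cj_cj, hχ, map_smul, hχ, smul_smul, mul_comm]) }
  have hψinj : Function.Injective ψ := by
    intro q q' hqq
    rw [← hs q, ← hs q']
    refine QuotientGroup.eq.mpr (Subgroup.mem_subgroupOf.mpr
      (h.mem_scalars_of_central ((s q)⁻¹ * s q').2 fun y hy => Units.ext ?_))
    have hq : χ ⟨y, hy⟩ (s q) = χ ⟨y, hy⟩ (s q') := DFunLike.congr_fun hqq ⟨y, hy⟩
    set A : Matrix ι ι F := ((s q : GL ι F) : Matrix ι ι F) with hA
    set D : Matrix ι ι F := ((((s q)⁻¹ * s q' : N) : GL ι F) : Matrix ι ι F) with hD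
    have hAD : A * D = ((s q' : GL ι F) : Matrix ι ι F) := by
      rw [hA, hD, Subgroup.coe_mul, Subgroup.coe_inv, ← Units.val_mul, mul_inv_cancel_left]
    have h4 := congrArg (cj y) hAD
    rw [map_mul, hA, hχ ⟨y, hy⟩ (s q), hχ ⟨y, hy⟩ (s q'), ← hq, Matrix.smul_mul] at h4
    have h5 := smul_right_injective _ (hχ0 ⟨y, hy⟩ (s q)) h4
    rw [Units.val_mul, Units.val_mul]
    refine ((cj_eq_self_iff _ _).mp ?_).symm
    refine (s q : GL ι F).isUnit.mul_left_cancel ?_
    rw [← hA, hAD]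
    exact h5
  have hind : LinearIndependent F fun q => ((s q : GL ι F) : Matrix ι ι F) := by
    rw [Fintype.linearIndependent_iff]
    intro a ha q
    have hAB : ∀ i j, a q * ((s q : GL ι F) : Matrix ι ι F) i j = 0 := by
      intro i j
      have hl := (linearIndependent_monoidHom N F).comp ψ hψinj
      refine Fintype.linearIndependent_iff.mp hl (fun r => a r * ((s r : GL ι F) : Matrix ι ι F) i j) ?_ q
      funext y
      simp only [Finset.sum_apply, Pi.smul_apply, Function.comp_apply, smul_eq_mul, Pi.zero_apply]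
      have h2 := congrFun (congrFun (congrArg (cj (y : GL ι F)) ha) i) j
      simp only [map_sum, map_smul, map_zero, hχ, Matrix.sum_apply, Matrix.smul_apply, smul_eq_mul,
        Matrix.zero_apply] at h2
      rw [← h2]
      refine Finset.sum_congr rfl fun r _ => ?_
      show a r * _ * χ y (s r) = _
      ring
    by_contra hq
    exact (s q : GL ι F).ne_zero (Matrix.ext fun i j => (mul_eq_zero.mp (hAB i j)).resolve_left hq)
  have hspan : Submodule.span F (Set.range fun q => ((s q : GL ι F) : Matrix ι ι F)) = ⊤ := by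
    rw [eq_top_iff, ← h.good.span N h.le h.norm h.nonscalar, Submodule.span_le]
    rintro _ ⟨x, hx, rfl⟩
    have hmem : (s ((⟨x, hx⟩ : N) : N ⧸ S'))⁻¹ * ⟨x, hx⟩ ∈ S' := QuotientGroup.eq.mp (hs _)
    obtain ⟨c, hc⟩ := (Geo.mem_scalars_iff _).mp (Subgroup.mem_subgroupOf.mp hmem)
    have : (x : Matrix ι ι F) = (c : F) • ((s ((⟨x, hx⟩ : N) : N ⧸ S') : GL ι F) : Matrix ι ι F) := by
      have e : x = (s ((⟨x, hx⟩ : N) : N ⧸ S') : GL ι F) *
          (((s ((⟨x, hx⟩ : N) : N ⧸ S'))⁻¹ * ⟨x, hx⟩ : N) : GL ι F) := by simp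
      conv_lhs => rw [e, Units.val_mul, hc, Matrix.mul_smul, mul_one]
    show (x : Matrix ι ι F) ∈ _
    rw [this]
    exact Submodule.smul_mem _ _ (Submodule.subset_span ⟨_, rfl⟩)
  have hcard : Nat.card (N ⧸ S') = Fintype.card ι * Fintype.card ι := by
    rw [Nat.card_eq_fintype_card, ← finrank_span_eq_card hind, hspan, finrank_top, Module.finrank_matrix]
    simp
  refine ⟨hcard, ?_⟩
  have : Fact r.Prime := ⟨hr⟩
  have hp : IsPGroup r (N ⧸ S') := by
    intro g
    refine ⟨1, ?_⟩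
    obtain ⟨x, rfl⟩ := QuotientGroup.mk_surjective g
    rw [pow_one, ← QuotientGroup.mk_pow, QuotientGroup.eq_one_iff, Subgroup.mem_subgroupOf]
    exact hrp _ x.2
  obtain ⟨j, hj⟩ := IsPGroup.iff_card.mp hp
  rw [hcard] at hj
  obtain ⟨m, -, hm⟩ := (Nat.dvd_prime_pow hr).mp (Dvd.intro _ hj)
  exact ⟨m, Nat.pos_of_ne_zero fun h0 => by rw [h0, pow_zero] at hm; omega, hm⟩

/-- After scaling by scalars, elements of `N` have `r`-th power one, given enough roots. -/
theorem ClassTwo.exists_scale [Finite F] [Nonempty ι] (h : ClassTwo G N) {r : ℕ} (hr : r.Prime)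
    (hrp : ∀ x ∈ N, x ^ r ∈ Geo.scalars ι F)
    (hroot : ∀ c : F, c ^ r = 1 → ∃ b : F, c ^ (r.choose 2) = b ^ r) :
    ∀ x ∈ N, ∃ z ∈ Geo.scalars ι F, (x * z) ^ r = 1 := by
  classical
  have htw : ∀ a ∈ N, ∀ b ∈ N, ∃ c : F, c ^ r = 1 ∧
      (b : Matrix ι ι F) * a = c • ((a : Matrix ι ι F) * b) := by
    intro a ha b hb
    obtain ⟨c, -, hc⟩ := h.twist hb ha
    refine ⟨c, h.twist_pow hrp ha hc, ?_⟩
    calc (b : Matrix ι ι F) * a = cj b (a : Matrix ι ι F) * b := by simp [cj_apply, mul_assoc]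
      _ = _ := by rw [hc, Matrix.smul_mul]
  let M : Subgroup (GL ι F) :=
    { carrier := {x | x ∈ N ∧ ∃ a : F, a ≠ 0 ∧ (x : Matrix ι ι F) ^ r = a ^ r • 1}
      mul_mem' := fun {u v} hu hv => by
        obtain ⟨hu1, a, ha0, ha⟩ := hu
        obtain ⟨hv1, b, hb0, hb⟩ := hv
        obtain ⟨c, hc, hcuv⟩ := htw u hu1 v hv1
        obtain ⟨d, hd⟩ := hroot c hc
        have hd0 : d ≠ 0 := by
          rintro rfl
          rw [zero_pow hr.ne_zero] at hd
          refine pow_ne_zero _ (fun h0 => ?_) hd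
          rw [h0, zero_pow hr.ne_zero] at hc
          exact zero_ne_one hc
        refine ⟨mul_mem hu1 hv1, d * a * b, mul_ne_zero (mul_ne_zero hd0 ha0) hb0, ?_⟩
        rw [Units.val_mul, pow_mul_of_twisted hcuv, ha, hb, hd, Matrix.smul_mul, one_mul, smul_smul, smul_smul,
          mul_pow, mul_pow]
      one_mem' := ⟨one_mem _, 1, one_ne_zero, by simp⟩
      inv_mem' := fun {u} hu => by
        obtain ⟨hu1, a, ha0, ha⟩ := hu
        refine ⟨inv_mem hu1, a⁻¹, inv_ne_zero ha0, ?_⟩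
        rw [← Units.val_pow_eq_pow_val, inv_pow]
        refine Units.inv_eq_of_mul_eq_one_right ?_
        rw [Units.val_pow_eq_pow_val, ha, Matrix.smul_mul, one_mul, smul_smul, inv_pow,
          mul_inv_cancel₀ (pow_ne_zero _ ha0), one_smul] }
  have hMn : NormBy G M := by
    rintro g hg u ⟨hu1, a, ha0, ha⟩
    refine ⟨h.norm g hg u hu1, a, ha0, ?_⟩
    rw [← cj_coe, ← map_pow, ha, map_smul, map_one]
  have hSM : Geo.scalars ι F ≤ M := by
    intro z hz
    obtain ⟨a, ha⟩ := (Geo.mem_scalars_iff _).mp hz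
    exact ⟨h.scal hz, a, a.ne_zero, by rw [ha, smul_pow, one_pow]⟩
  have hMN : M = N := by
    by_contra hne
    have hMs : ∀ x ∈ M, x ∈ Geo.scalars ι F := fun x hx => by
      by_contra hxs
      exact hne (h.min M (fun y hy => hy.1) hMn hSM ⟨x, hx, hxs⟩)
    obtain ⟨g, hg⟩ := IsCyclic.exists_generator (α := Fˣ)
    have hval : ∀ x ∈ N, ∃ i : ℕ, (x : Matrix ι ι F) ^ r = ((g ^ i : Fˣ) : F) • 1 := by
      intro x hx
      obtain ⟨a, ha⟩ := (Geo.mem_scalars_iff _).mp (hrp x hx)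
      obtain ⟨i, hi⟩ := mem_powers_iff_mem_zpowers.mpr (hg a)
      exact ⟨i, by rw [← Units.val_pow_eq_pow_val, ha]; exact congrArg (· • (1 : Matrix ι ι F)) (congrArg Units.val hi).symm⟩
    obtain ⟨x₀, hx₀, hx₀s⟩ := h.nonscalar
    obtain ⟨y₀, hy₀, c₀, hc₀, hxy⟩ := h.exists_root hr hrp hx₀ hx₀s
    obtain ⟨i, hi⟩ := hval x₀ hx₀
    obtain ⟨j, hj⟩ := hval y₀ hy₀
    have hir : ¬ r ∣ i := by
      rintro ⟨k, rfl⟩
      refine hx₀s (hMs _ ⟨hx₀, ((g ^ k : Fˣ) : F), Units.ne_zero _, ?_⟩)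
      rw [hi, ← Units.val_pow_eq_pow_val, ← pow_mul, mul_comm]
    obtain ⟨k, hk⟩ : ∃ k : ℕ, r ∣ j + i * k := by
      haveI := Fact.mk hr
      refine ⟨(-(j : ZMod r) * (i : ZMod r)⁻¹).val, (CharP.cast_eq_zero_iff (ZMod r) r _).mp ?_⟩
      have hi0 : (i : ZMod r) ≠ 0 := fun h0 => hir ((CharP.cast_eq_zero_iff (ZMod r) r _).mp h0)
      rw [Nat.cast_add, Nat.cast_mul, ZMod.natCast_zmod_val, mul_comm (i : ZMod r), mul_assoc,
        inv_mul_cancel₀ hi0, mul_one, add_neg_cancel]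
    have hxk : x₀ ^ k ∈ N := pow_mem hx₀ k
    obtain ⟨c, hc, hcuv⟩ := htw y₀ hy₀ _ hxk
    obtain ⟨d, hd⟩ := hroot c hc
    obtain ⟨l, hl⟩ := hk
    have hd0 : d ≠ 0 := by
      rintro rfl
      rw [zero_pow hr.ne_zero] at hd
      refine pow_ne_zero _ (fun h0 => ?_) hd
      rw [h0, zero_pow hr.ne_zero] at hc
      exact zero_ne_one hc
    have hmem : y₀ * x₀ ^ k ∈ M := by
      refine ⟨mul_mem hy₀ hxk, d * ((g ^ l : Fˣ) : F), mul_ne_zero hd0 (Units.ne_zero _), ?_⟩
      have hxkr : ((x₀ ^ k : GL ι F) : Matrix ι ι F) ^ r = ((g ^ (i * k) : Fˣ) : F) • 1 := by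
        rw [Units.val_pow_eq_pow_val, ← pow_mul, mul_comm k r, pow_mul, hi, smul_pow, one_pow,
          ← Units.val_pow_eq_pow_val, ← pow_mul]
      rw [Units.val_mul, pow_mul_of_twisted hcuv, hd, hj, hxkr, Matrix.smul_mul, one_mul, smul_smul, smul_smul,
        mul_pow, mul_assoc, ← Units.val_mul, ← pow_add, hl, ← Units.val_pow_eq_pow_val, ← pow_mul,
        mul_comm l r]
    have h1 : y₀ * x₀ = x₀ * y₀ := by
      have hcomm := (scalars_central (hMs _ hmem) x₀)
      have : x₀ * y₀ * x₀ ^ k = y₀ * x₀ * x₀ ^ k := by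
        calc x₀ * y₀ * x₀ ^ k = y₀ * x₀ ^ k * x₀ := by rw [mul_assoc]; exact hcomm
          _ = y₀ * x₀ * x₀ ^ k := by rw [mul_assoc, mul_assoc, (Commute.self_pow x₀ k).eq]
      exact (mul_right_cancel this).symm
    rw [(cj_eq_self_iff y₀ _).mpr (congrArg Units.val h1)] at hxy
    refine hc₀.ne_one hr.one_lt (smul_one_inj (ι := ι) ?_).symm
    have := congrArg (fun A => A * ((x₀⁻¹ : GL ι F) : Matrix ι ι F)) hxy
    simpa using this
  intro x hx
  obtain ⟨-, a, ha0, ha⟩ : x ∈ M := hMN.symm ▸ hx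
  refine ⟨sc ι (Units.mk0 a ha0)⁻¹, sc_mem _, Units.ext ?_⟩
  rw [Units.val_pow_eq_pow_val, Units.val_mul, sc_val, Matrix.mul_smul, mul_one, smul_pow, ha, smul_smul,
    Units.val_inv_eq_inv_val, Units.val_mk0, ← mul_pow, inv_mul_cancel₀ ha0, one_pow, one_smul, Units.val_one]

/-- The root exponent for the prime `r`. -/
def expo (r : ℕ) : ℕ := r * Nat.gcd 2 r

theorem expo_two : expo 2 = 4 := rfl

theorem expo_odd {r : ℕ} (hr : Odd r) : expo r = r := by
  rw [expo, Nat.coprime_two_left.mpr hr, mul_one]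

theorem dvd_expo (r : ℕ) : r ∣ expo r := Dvd.intro _ rfl

theorem pow_choose_expo {r : ℕ} (hr : r.Prime) {c : F} (hc : c ^ r = 1) : c ^ ((expo r).choose 2) = 1 := by
  rcases hr.eq_two_or_odd' with rfl | hodd
  · rw [expo_two, show Nat.choose 4 2 = 2 * 3 from rfl, pow_mul, hc, one_pow]
  · rw [expo_odd hodd]
    have h2 : 2 < r := lt_of_le_of_ne hr.two_le fun h => by rw [← h] at hodd; exact absurd hodd (by decide)
    obtain ⟨t, ht⟩ := hr.dvd_choose_self two_ne_zero h2
    rw [ht, pow_mul, hc, one_pow]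

/-- The elements of `N` of order dividing `expo r`. -/
theorem ClassTwo.exists_R [Nonempty ι] (h : ClassTwo G N) {r : ℕ} (hr : r.Prime)
    (hrp : ∀ x ∈ N, x ^ r ∈ Geo.scalars ι F) :
    ∃ R : Subgroup (GL ι F), ∀ x, x ∈ R ↔ x ∈ N ∧ x ^ expo r = 1 := by
  refine ⟨{ carrier := {x | x ∈ N ∧ x ^ expo r = 1}
            mul_mem' := fun {a b} ha hb => ⟨mul_mem ha.1 hb.1, ?_⟩
            one_mem' := ⟨one_mem _, one_pow _⟩
            inv_mem' := fun {a} ha => ⟨inv_mem ha.1, by rw [inv_pow, ha.2, inv_one]⟩ }, fun x => Iff.rfl⟩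
  obtain ⟨c, -, hc⟩ := h.twist hb.1 ha.1
  have hc1 : c ^ r = 1 := h.twist_pow hrp ha.1 hc
  have e : (b : Matrix ι ι F) * a = c • ((a : Matrix ι ι F) * b) := by
    calc (b : Matrix ι ι F) * a = cj b (a : Matrix ι ι F) * b := by simp [cj_apply, mul_assoc]
      _ = _ := by rw [hc, Matrix.smul_mul]
  apply Units.ext
  rw [Units.val_pow_eq_pow_val, Units.val_mul, pow_mul_of_twisted e, pow_choose_expo hr hc1, one_smul,
    ← Units.val_pow_eq_pow_val, ← Units.val_pow_eq_pow_val, ha.2, hb.2, Units.val_one, one_mul]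

/-- The fields of characteristic `p` inside `F`. -/
theorem exists_subfield_of_pow [Finite F] {p f d : ℕ} [Fact p.Prime] [CharP F p]
    (hF : Nat.card F = p ^ f) (hd : 0 < d) (hdf : d < f) :
    ∃ E : Subfield F, E ≠ ⊤ ∧ ∀ x, x ∈ E ↔ x ^ p ^ d = x := by
  classical
  let E : Subfield F := (iterateFrobenius F p d).eqLocusField (RingHom.id F)
  refine ⟨E, fun htop => ?_, fun x => Iff.rfl⟩
  obtain ⟨g, hg⟩ := IsCyclic.exists_ofOrder_eq_natCard (α := Fˣ)
  have hg1 : ((g : Fˣ) : F) ^ p ^ d = (g : F) := (htop ▸ Subfield.mem_top _ : ((g : Fˣ) : F) ∈ E)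
  have h1 : g ^ (p ^ d - 1) = 1 := by
    have hpd : p ^ d - 1 + 1 = p ^ d := Nat.sub_add_cancel (Nat.one_le_pow _ _ (Fact.out : p.Prime).pos)
    apply Units.ext
    rw [← hpd, pow_succ] at hg1
    rw [Units.val_pow_eq_pow_val, Units.val_one]
    exact mul_right_cancel₀ g.ne_zero (hg1.trans (one_mul _).symm)
  have h2 := orderOf_dvd_of_pow_eq_one h1
  rw [hg, Nat.card_units, hF] at h2
  have hlt : p ^ d < p ^ f := Nat.pow_lt_pow_right (Fact.out : p.Prime).one_lt hdf
  have hpos : 2 ≤ p ^ d := le_trans (Fact.out : p.Prime).two_le (Nat.le_self_pow hd.ne' p)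
  have := Nat.le_of_dvd (by omega) h2
  omega

/-- The involutory power of Frobenius inverts `z`-th roots of unity. -/
theorem exists_conjugation [Finite F] {p f z r : ℕ} [Fact p.Prime] [CharP F p] (hr : r.Prime)
    (hz : z = expo r) (hF : Nat.card F = p ^ f) (hf : Even f) (hzf : z ∣ p ^ f - 1)
    (hmin : ∀ d, 0 < d → d < f → ¬ z ∣ p ^ d - 1) :
    ∃ σ : F ≃+* F, (∀ a, σ (σ a) = a) ∧ ∀ a : F, a ^ z = 1 → σ a = a⁻¹ := by
  classical
  obtain ⟨h, hfh⟩ := hf
  have hp : p.Prime := Fact.out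
  have hf0 : 0 < f := by
    refine Nat.pos_of_ne_zero fun h0 => ?_
    subst h0
    rw [pow_zero] at hF
    exact absurd hF (Finite.one_lt_card (α := F)).ne'
  have hh : z ∣ p ^ h + 1 := by
    have hnd : ¬ z ∣ p ^ h - 1 := hmin h (by omega) (by omega)
    rcases hr.eq_two_or_odd' with rfl | hodd
    · rw [expo_two] at hz
      subst hz
      have hpodd : p % 2 = 1 := by
        rcases hp.eq_two_or_odd with rfl | hh'
        · exfalso
          have h2 : 2 ∣ 2 ^ f := dvd_pow_self 2 hf0.ne'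
          have h3 : 1 ≤ 2 ^ f := Nat.one_le_two_pow
          have h4 : 2 ∣ 2 ^ f - 1 := (show 2 ∣ 4 by norm_num).trans hzf
          omega
        · exact hh'
      have h5 : p ^ h % 2 = 1 := by simp [Nat.pow_mod, hpodd]
      omega
    · rw [expo_odd hodd] at hz
      subst hz
      have hprod : (p ^ h - 1) * (p ^ h + 1) = p ^ f - 1 := by
        rw [hfh, pow_add, mul_comm, ← Nat.mul_self_sub_mul_self_eq]
      rcases hr.dvd_mul.mp (hprod ▸ hzf) with h' | h'
      · exact absurd h' hnd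
      · exact h'
  have hinj : Function.Bijective (iterateFrobenius F p h) :=
    Finite.injective_iff_bijective.mp (iterateFrobenius F p h).injective
  refine ⟨RingEquiv.ofBijective _ hinj, fun a => ?_, fun a ha => ?_⟩
  · show iterateFrobenius F p h (iterateFrobenius F p h a) = a
    rw [iterateFrobenius_def, iterateFrobenius_def, ← pow_mul, ← pow_add, ← hfh, ← hF]
    exact (have := Fintype.ofFinite F; by rw [Nat.card_eq_fintype_card, FiniteField.pow_card])
  · show iterateFrobenius F p h a = a⁻¹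
    rw [iterateFrobenius_def]
    refine eq_inv_of_mul_eq_one_left ?_
    rw [← pow_succ]
    obtain ⟨t, ht⟩ := hh
    rw [ht, pow_mul, ha, one_pow]

/-- The data of the symplectic-type subgroup of a class-two minimal normal subgroup; `z` is the order of
its centre and `w` generates the roots of unity in it. -/
structure SympData (G : Subgroup (GL ι F)) (r m z p f : ℕ) (R : Subgroup (GL ι F)) : Prop where
  prime : r.Prime
  pos : 1 ≤ m
  card_eq : Fintype.card ι = r ^ m
  le : R ≤ G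
  norm : NormBy G R
  span : Submodule.span F (Geo.matrixSet R) = ⊤
  sympType : Geo.IsSymplecticTypeGroup r R
  card_center : Nat.card (Subgroup.center R) = z
  card_group : Nat.card R = Fintype.card ι * Fintype.card ι * z
  kind : (Odd r ∧ z = r) ∨ (r = 2 ∧ z = 4 ∧ IsSquare (-1 : F)) ∨ (r = 2 ∧ z = 2 ∧ ¬ IsSquare (-1 : F))
  charP : p.Prime ∧ CharP F p ∧ Nat.card F = p ^ f ∧ z ∣ p ^ f - 1 ∧ r ≠ p
  trace : ∀ x ∈ R, (x ∉ Geo.scalars ι F ∧ (x : Matrix ι ι F).trace = 0 ∧
      ((x⁻¹ : GL ι F) : Matrix ι ι F).trace = 0) ∨ ∃ a : F, a ^ z = 1 ∧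
      (x : Matrix ι ι F).trace = a * Fintype.card ι ∧
      ((x⁻¹ : GL ι F) : Matrix ι ι F).trace = a⁻¹ * Fintype.card ι
  comm : ∀ x ∈ R, ∀ y ∈ R, ⁅x, y⁆ ∈ Geo.scalars ι F

/-- A class-two minimal normal subgroup gives a group of symplectic type. -/
theorem ClassTwo.sympData [Fintype F] (hι : 3 ≤ Fintype.card ι) (h : ClassTwo G N) :
    ∃ (r m z p f : ℕ) (R : Subgroup (GL ι F)), SympData G r m z p f R := by
  classical
  have : Nonempty ι := Fintype.card_pos_iff.mp (by omega)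
  have : Finite (Matrix ι ι F) := inferInstanceAs (Finite (ι → ι → F))
  obtain ⟨r, hr, hrp⟩ := h.exists_prime
  obtain ⟨hcardQ, m, hm1, hm⟩ := h.card_quotient (by omega) hr hrp
  obtain ⟨x₀, hx₀, hx₀s⟩ := h.nonscalar
  obtain ⟨-, -, ζ, hζ, -⟩ := h.exists_root hr hrp hx₀ hx₀s
  obtain ⟨R, hR⟩ := h.exists_R hr hrp
  have hRn : NormBy G R := fun g hg x hx => by
    rw [hR] at hx ⊢
    exact ⟨h.norm g hg x hx.1, by rw [conj_pow, hx.2, mul_one, mul_inv_cancel]⟩
  have hscale : ∀ x ∈ N, ∃ z ∈ Geo.scalars ι F, x * z ∈ R := by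
    intro x hx
    by_cases hcase : r = 2 ∧ ¬ IsSquare (-1 : F)
    · obtain ⟨rfl, hns⟩ := hcase
      obtain ⟨a, ha⟩ := (Geo.mem_scalars_iff _).mp (hrp x hx)
      have key : ∀ b : F, b ≠ 0 → (a : F) ^ 2 = b ^ 4 → ∃ z ∈ Geo.scalars ι F, x * z ∈ R := by
        intro b hb hab
        refine ⟨sc ι (Units.mk0 b hb)⁻¹, sc_mem _, ?_⟩
        refine (hR _).mpr ⟨mul_mem hx (h.scal (sc_mem _)), Units.ext ?_⟩
        rw [Units.val_pow_eq_pow_val, Units.val_mul, sc_val, Matrix.mul_smul, mul_one, smul_pow, expo_two,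
          show (x : Matrix ι ι F) ^ 4 = ((x ^ 2 : GL ι F) : Matrix ι ι F) ^ 2 by
            rw [Units.val_pow_eq_pow_val, ← pow_mul], ha, smul_pow, one_pow, smul_smul, hab,
          Units.val_inv_eq_inv_val, Units.val_mk0, ← mul_pow, inv_mul_cancel₀ hb, one_pow, one_smul,
          Units.val_one]
      rcases isSquare_or_neg hns a.ne_zero with ⟨b, hb⟩ | ⟨b, hb⟩
      · exact key b (fun h0 => a.ne_zero (by rw [hb, h0, mul_zero])) (by rw [hb]; ring)
      · exact key b (fun h0 => a.ne_zero (neg_eq_zero.mp (by rw [hb, h0, mul_zero])))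
          (by linear_combination ((-(a : F)) + b * b) * hb)
    · obtain ⟨z, hz, hzx⟩ := h.exists_scale hr hrp (fun c hc => by
        rcases hr.eq_two_or_odd' with rfl | hodd
        · simp only [true_and, not_not] at hcase
          have hcc : c * c = 1 := by rw [← sq]; exact hc
          rcases mul_self_eq_one_iff.mp hcc with rfl | rfl
          · exact ⟨1, by simp⟩
          · obtain ⟨b, hb⟩ := hcase
            exact ⟨b, by rw [show Nat.choose 2 2 = 1 from rfl, pow_one, hb, sq]⟩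
        · refine ⟨1, ?_⟩
          have := pow_choose_expo hr hc
          rwa [expo_odd hodd, ← one_pow r] at this) x hx
      refine ⟨z, hz, (hR _).mpr ⟨mul_mem hx (h.scal hz), ?_⟩⟩
      rw [expo, pow_mul, hzx, one_pow]
  have hspanR : Submodule.span F (Geo.matrixSet R) = ⊤ := by
    rw [eq_top_iff, ← h.good.span N h.le h.norm h.nonscalar, Submodule.span_le]
    rintro _ ⟨x, hx, rfl⟩
    obtain ⟨z, hz, hzx⟩ := hscale x hx
    obtain ⟨a, ha⟩ := (Geo.mem_scalars_iff _).mp (inv_mem hz)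
    have : (x : Matrix ι ι F) = (a : F) • ((x * z : GL ι F) : Matrix ι ι F) := by
      calc (x : Matrix ι ι F) = (((x * z) * z⁻¹ : GL ι F) : Matrix ι ι F) := by rw [mul_inv_cancel_right]
        _ = _ := by rw [Units.val_mul _ z⁻¹, ha, Matrix.mul_smul, mul_one]
    show (x : Matrix ι ι F) ∈ _
    rw [this]
    exact Submodule.smul_mem _ _ (Submodule.subset_span (mem_matrixSet hzx))
  have htrace : ∀ x ∈ R, (x ∉ Geo.scalars ι F ∧ (x : Matrix ι ι F).trace = 0 ∧
      ((x⁻¹ : GL ι F) : Matrix ι ι F).trace = 0) ∨ ∃ a : F, a ^ expo r = 1 ∧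
      (x : Matrix ι ι F).trace = a * Fintype.card ι ∧
      ((x⁻¹ : GL ι F) : Matrix ι ι F).trace = a⁻¹ * Fintype.card ι := by
    intro x hx
    by_cases hxs : x ∈ Geo.scalars ι F
    · right
      obtain ⟨a, rfl⟩ := hxs
      have hxa : Units.map (Matrix.scalar ι : F →+* Matrix ι ι F).toMonoidHom a = sc ι a := rfl
      rw [hxa] at hx ⊢
      refine ⟨a, ?_, ?_, ?_⟩
      · have := ((hR _).mp hx).2
        rw [← map_pow, ← map_one (sc ι (F := F))] at this
        simpa using congrArg Units.val (sc_inj this)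
      · rw [sc_val, Matrix.trace_smul, Matrix.trace_one, smul_eq_mul]
      · rw [← map_inv, sc_val, Matrix.trace_smul, Matrix.trace_one, smul_eq_mul, Units.val_inv_eq_inv_val]
    · left
      exact ⟨hxs, h.trace_eq_zero ((hR x).mp hx).1 hxs,
        h.trace_eq_zero (inv_mem ((hR x).mp hx).1) (fun h' => hxs (by simpa using inv_mem h'))⟩
  obtain ⟨z, w, hw, hkind⟩ : ∃ (z : ℕ) (w : Fˣ), orderOf w = z ∧
      ((Odd r ∧ z = r) ∨ (r = 2 ∧ z = 4 ∧ IsSquare (-1 : F)) ∨ (r = 2 ∧ z = 2 ∧ ¬ IsSquare (-1 : F))) := by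
    rcases hr.eq_two_or_odd' with rfl | hodd
    · have hζ2 : ζ * ζ = 1 := by rw [← sq]; exact hζ.pow_eq_one
      have hne : (-1 : F) ≠ 1 := fun h1 => hζ.ne_one one_lt_two (by
        rcases mul_self_eq_one_iff.mp hζ2 with h2 | h2
        · exact h2
        · rw [h2, h1])
      haveI : Fact (Nat.Prime 2) := ⟨Nat.prime_two⟩
      by_cases hsq : IsSquare (-1 : F)
      · obtain ⟨b, hb⟩ := hsq
        have hb0 : b ≠ 0 := fun h0 => by rw [h0, mul_zero] at hb; exact one_ne_zero (neg_eq_zero.mp hb)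
        refine ⟨4, Units.mk0 b hb0, ?_, Or.inr (Or.inl ⟨rfl, rfl, b, hb⟩)⟩
        refine (orderOf_eq_prime_pow (p := 2) (n := 1) ?_ ?_).trans rfl
        · intro h1
          exact hne (by rw [hb, ← sq]; simpa using congrArg Units.val h1)
        · apply Units.ext
          simp only [Units.val_pow_eq_pow_val, Units.val_mk0, Units.val_one]
          norm_num
          linear_combination ((1 : F) - b * b) * hb
      · exact ⟨2, -1, orderOf_eq_prime (by simp) (fun h1 => hne (by simpa using congrArg Units.val h1)),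
          Or.inr (Or.inr ⟨rfl, rfl, hsq⟩)⟩
    · refine ⟨r, Units.mk0 ζ (hζ.ne_zero hr.ne_zero), ?_, Or.inl ⟨hodd, rfl⟩⟩
      refine orderOf_eq_prime (hp := ⟨hr⟩) (Units.ext (by simpa using hζ.pow_eq_one)) fun h1 => ?_
      exact hζ.ne_one hr.one_lt (by simpa using congrArg Units.val h1)
  have hroot : ∀ u : Fˣ, u ^ expo r = 1 ↔ u ∈ Subgroup.zpowers w := by
    have hze : z ∣ expo r := by
      rcases hkind with ⟨-, rfl⟩ | ⟨rfl, rfl, -⟩ | ⟨rfl, rfl, -⟩
      · exact dvd_expo _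
      · exact dvd_rfl
      · exact dvd_expo 2
    intro u
    refine ⟨fun hu => ?_, fun hu => ?_⟩
    · have hle : Subgroup.zpowers w ≤ (powMonoidHom z : Fˣ →* Fˣ).ker := by
        rw [Subgroup.zpowers_le, MonoidHom.mem_ker]
        show w ^ z = 1
        rw [← hw]; exact pow_orderOf_eq_one w
      rw [Subgroup.eq_of_le_of_card_ge hle (by
        rw [IsCyclic.card_powMonoidHom_ker, Nat.card_zpowers, hw]
        exact Nat.gcd_le_right _ (by rw [← hw]; exact orderOf_pos w))]
      show u ^ z = 1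
      rcases hkind with ⟨hodd, rfl⟩ | ⟨rfl, rfl, -⟩ | ⟨rfl, rfl, hns⟩
      · rwa [expo_odd hodd] at hu
      · exact hu
      · rw [expo_two] at hu
        have h4 : ((u : F) * u) * ((u : F) * u) = 1 := by
          rw [← Units.val_mul, ← Units.val_mul, ← Units.val_one, ← hu]; congr 1; simp [pow_succ, mul_assoc]
        apply Units.ext
        rcases mul_self_eq_one_iff.mp h4 with h' | h'
        · simpa [sq] using h'
        · exact absurd ⟨(u : F), h'.symm⟩ hns
    · obtain ⟨k, rfl⟩ := hu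
      obtain ⟨t, ht⟩ := hze
      show (w ^ k) ^ expo r = 1
      have hwk : (w ^ k) ^ z = 1 := by
        rw [← zpow_natCast, ← _root_.zpow_mul, mul_comm, _root_.zpow_mul, zpow_natCast, ← hw,
          pow_orderOf_eq_one, _root_.one_zpow]
      rw [ht, pow_mul, hwk, one_pow]
  obtain ⟨p, hpc⟩ := CharP.exists F
  obtain ⟨⟨f, hf0⟩, hp, hf⟩ := FiniteField.card F p
  simp only [PNat.mk_coe] at hf
  have : Fact p.Prime := ⟨hp⟩
  have hFc : Nat.card F = p ^ f := by rw [Nat.card_eq_fintype_card, hf]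
  have hzf : z ∣ p ^ f - 1 := by
    have := orderOf_dvd_natCard w
    rwa [hw, Nat.card_units, hFc] at this
  have hrp' : r ≠ p := by
    rintro rfl
    have hrz : r ∣ z := by
      rcases hkind with ⟨-, rfl⟩ | ⟨rfl, rfl, -⟩ | ⟨rfl, rfl, -⟩ <;> norm_num
    have h1 : r ∣ r ^ f - 1 := hrz.trans hzf
    have h2 : r ∣ r ^ f := dvd_pow_self r hf0.ne'
    have h3 := Nat.dvd_sub h2 h1
    rw [Nat.sub_sub_self (Nat.one_le_pow _ _ hr.pos)] at h3
    exact hr.one_lt.ne' (Nat.dvd_one.mp h3)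
  have hcen : ∀ x : R, x ∈ Subgroup.center R ↔ (x : GL ι F) ∈ Geo.scalars ι F := by
    intro x
    rw [Subgroup.mem_center_iff]
    constructor
    · intro hx
      obtain ⟨c, hc⟩ := scalar_of_span hspanR ((x : GL ι F) : Matrix ι ι F) (by
        rintro _ ⟨y, hy, rfl⟩
        exact congrArg Units.val (congrArg Subtype.val (hx ⟨y, hy⟩)).symm)
      exact smul_one_mem_scalars hc
    · intro hx y
      exact Subtype.ext (scalars_central hx _)
  let j₀ : Subgroup.zpowers w →* R :=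
    { toFun := fun a => ⟨sc ι (a : Fˣ), (hR _).mpr ⟨h.scal (sc_mem _), by
        rw [← map_pow, (hroot _).mpr a.2, map_one]⟩⟩
      map_one' := Subtype.ext (by simp)
      map_mul' := fun a b => Subtype.ext (by simp) }
  have hj₀ : Function.Injective j₀ := fun a b hab => Subtype.ext (sc_inj (congrArg Subtype.val hab))
  have hrange : Subgroup.center R = j₀.range := by
    ext x
    rw [hcen]
    constructor
    · rintro ⟨a, ha⟩
      have hxa : (x : GL ι F) = sc ι a := ha.symm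
      have h1 := ((hR _).mp x.2).2
      rw [hxa, ← map_pow, ← map_one (sc ι (F := F))] at h1
      have h2 : a ^ expo r = 1 := sc_inj h1
      have hmem : a ∈ Subgroup.zpowers w := (hroot a).mp h2
      exact ⟨⟨a, hmem⟩, Subtype.ext hxa.symm⟩
    · rintro ⟨a, rfl⟩
      exact sc_mem _
  have hcardZ : Nat.card (Subgroup.center R) = z := by
    rw [hrange, ← Nat.card_congr (MonoidHom.ofInjective hj₀).toEquiv, Nat.card_zpowers, hw]
  have hexp' : ∀ x : R, x ^ expo r = 1 := fun x => Subtype.ext ((hR _).mp x.2).2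
  have hpG : IsPGroup r R := fun x => by
    refine ⟨2, ?_⟩
    rcases hr.eq_two_or_odd' with rfl | hodd
    · have := hexp' x; rwa [expo_two] at this
    · have := hexp' x
      rw [expo_odd hodd] at this
      rw [sq, pow_mul, this, one_pow]
  have hexp : Monoid.exponent R = expo r := by
    refine Nat.dvd_antisymm (Monoid.exponent_dvd_of_forall_pow_eq_one hexp') ?_
    have h1 := Monoid.order_dvd_exponent (j₀ ⟨w, Subgroup.mem_zpowers w⟩)
    rw [orderOf_injective j₀ hj₀, Subgroup.orderOf_mk, hw] at h1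
    rcases hkind with ⟨hodd, rfl⟩ | ⟨rfl, rfl, -⟩ | ⟨rfl, rfl, hns⟩
    · rwa [expo_odd hodd]
    · exact h1
    · rw [expo_two]
      by_contra h4
      have h2 : Monoid.exponent R ∣ 2 ^ 2 := by simpa [expo_two] using
        Monoid.exponent_dvd_of_forall_pow_eq_one hexp'
      obtain ⟨k, hk, hk'⟩ := (Nat.dvd_prime_pow Nat.prime_two).mp h2
      have hk2 : Monoid.exponent R ∣ 2 := by
        rw [hk']
        rcases Nat.lt_or_ge k 2 with hlt | hge
        · exact (pow_dvd_pow 2 (by omega : k ≤ 1))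
        · exact absurd (show 4 ∣ Monoid.exponent R by rw [hk', show k = 2 by omega]; norm_num) h4
      have hsq : ∀ x : R, x * x = 1 := fun x => by
        rw [← sq]; exact Monoid.exponent_dvd_iff_forall_pow_eq_one.mp hk2 x
      obtain ⟨x, hx, hxs⟩ : ∃ x ∈ R, x ∉ Geo.scalars ι F := by
        obtain ⟨z', hz', hzx⟩ := hscale x₀ hx₀
        exact ⟨_, hzx, fun hc => hx₀s (by simpa using mul_mem hc (inv_mem hz'))⟩
      obtain ⟨c, hc⟩ := scalar_of_span hspanR (x : Matrix ι ι F) (by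
        rintro _ ⟨y, hy, rfl⟩
        have hinv : ∀ v : R, v⁻¹ = v := fun v => inv_eq_of_mul_eq_one_right (hsq v)
        have h' : (⟨x, hx⟩ : R) * ⟨y, hy⟩ = ⟨y, hy⟩ * ⟨x, hx⟩ := by
          conv_lhs => rw [← hinv (_ * _), _root_.mul_inv_rev, hinv, hinv]
        exact congrArg Units.val (congrArg Subtype.val h'))
      exact hxs (smul_one_mem_scalars hc)
  have hcardR : Nat.card R = Fintype.card ι * Fintype.card ι * z := by
    let φ : R →* N ⧸ (Geo.scalars ι F).subgroupOf N :=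
      (QuotientGroup.mk' _).comp (Subgroup.inclusion (fun x hx => ((hR x).mp hx).1))
    have hφk : φ.ker = Subgroup.center R := by
      ext x
      rw [MonoidHom.mem_ker, hcen]
      exact (QuotientGroup.eq_one_iff _).trans Subgroup.mem_subgroupOf
    have hφs : Function.Surjective φ := by
      intro q
      obtain ⟨⟨x, hx⟩, rfl⟩ := QuotientGroup.mk_surjective q
      obtain ⟨z, hz, hzx⟩ := hscale x hx
      refine ⟨⟨x * z, hzx⟩, QuotientGroup.eq.mpr (Subgroup.mem_subgroupOf.mpr ?_)⟩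
      show (x * z)⁻¹ * x ∈ _
      rw [_root_.mul_inv_rev, inv_mul_cancel_right]
      exact inv_mem hz
    rw [Subgroup.card_eq_card_quotient_mul_card_subgroup φ.ker,
      Nat.card_congr (QuotientGroup.quotientKerEquivOfSurjective φ hφs).toEquiv, hcardQ, hφk, hcardZ]
  refine ⟨r, m, z, p, f, R, ⟨hr, hm1, hm, fun x hx => h.le ((hR x).mp hx).1, hRn, hspanR, ⟨hr, hpG, ?_, hexp⟩,
    hcardZ, hcardR, hkind, ⟨hp, hpc, hFc, hzf, hrp'⟩, fun x hx => ?_,
    fun x hx y hy => h.comm x ((hR x).mp hx).1 y ((hR y).mp hy).1⟩⟩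
  · intro A hA hAc
    have hle : A.map R.subtype ≤ Geo.scalars ι F := by
      refine h.good.abelian ?_ ?_ ?_
      · rintro _ ⟨b, hb, rfl⟩
        exact h.le ((hR _).mp b.2).1
      · rintro g hg _ ⟨b, hb, rfl⟩
        let φ : R ≃* R :=
          { toFun := fun y => ⟨g * y * g⁻¹, hRn g hg y y.2⟩
            invFun := fun y => ⟨g⁻¹ * y * g, by simpa using hRn g⁻¹ (inv_mem hg) y y.2⟩
            left_inv := fun y => Subtype.ext (by simp [mul_assoc])
            right_inv := fun y => Subtype.ext (by simp [mul_assoc])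
            map_mul' := fun y y' => Subtype.ext (by simp [mul_assoc]) }
        exact ⟨φ b, (Subgroup.characteristic_iff_map_eq.mp hA φ) ▸ ⟨b, hb, rfl⟩, rfl⟩
      · rintro _ ⟨b, hb, rfl⟩ _ ⟨b', hb', rfl⟩
        exact congrArg Subtype.val (congrArg Subtype.val (hAc.is_comm.comm (⟨b, hb⟩ : A) ⟨b', hb'⟩))
    haveI : IsCyclic (Geo.scalars ι F) := isCyclic_of_surjective
      (Units.map (Matrix.scalar ι : F →+* Matrix ι ι F).toMonoidHom).rangeRestrict
      (MonoidHom.rangeRestrict_surjective _)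
    exact isCyclic_of_injective
      ((Subgroup.inclusion hle).comp (R.subtype.subgroupMap A))
      ((Subgroup.inclusion_injective hle).comp
        (fun a b hab => Subtype.ext (Subtype.ext (by simpa using congrArg Subtype.val hab))))
  · rcases htrace x hx with h1 | ⟨a, ha, h1, h2⟩
    · exact Or.inl h1
    · have ha0 : a ≠ 0 := fun h0 => by
        rw [h0, expo, zero_pow (Nat.mul_pos hr.pos (Nat.gcd_pos_of_pos_left _ two_pos)).ne'] at ha
        exact zero_ne_one ha
      refine Or.inr ⟨a, ?_, h1, h2⟩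
      obtain ⟨k, hk⟩ := (hroot (Units.mk0 a ha0)).mp (Units.ext (by simpa using ha))
      have h3 : (Units.mk0 a ha0) ^ z = 1 := by
        rw [← hk, ← zpow_natCast, ← _root_.zpow_mul, mul_comm, _root_.zpow_mul, zpow_natCast, ← hw,
          pow_orderOf_eq_one, _root_.one_zpow]
      simpa using congrArg Units.val h3

/-- A class-two minimal normal subgroup gives a form, a subfield, or symplectic-type data. -/
theorem classTwo_outcome [Fintype F] (hι : 3 ≤ Fintype.card ι) (h : ClassTwo G N) :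
    FormOutcome G ∨ SubfieldOutcome G ∨ ∃ (r : ℕ) (R : Subgroup (GL ι F)) (m : ℕ),
      1 ≤ m ∧ Fintype.card ι = r ^ m ∧ Geo.IsLinearSymplecticTypeData r R ∧ NormBy G R := by
  classical
  have : Nonempty ι := Fintype.card_pos_iff.mp (by omega)
  obtain ⟨r, m, z, p, f, R, hD⟩ := h.sympData hι
  obtain ⟨hp, hpc, hFc, hzf, hrp'⟩ := hD.charP
  have : Fact p.Prime := ⟨hp⟩
  have hf : Fintype.card F = p ^ f := by rw [← Nat.card_eq_fintype_card, hFc]
  rcases hD.kind with ⟨hodd, hz⟩ | ⟨hr2, hz, -⟩ | ⟨hr2, hz, hns⟩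
  rotate_left 2
  · left
    refine formOutcome_of_trace (by omega) hD.span hD.norm (RingEquiv.refl F) (fun _ => rfl) fun x hx => ?_
    rcases hD.trace x hx with ⟨-, h1, h2⟩ | ⟨a, ha, h1, h2⟩
    · rw [h1, h2]; rfl
    · rw [h1, h2]
      show a⁻¹ * _ = a * _
      rw [inv_eq_of_mul_eq_one_right (show a * a = 1 by rw [← sq, ← ha, hz])]
  all_goals
    have hze : z = expo r := by
      first
        | rw [hz, expo_odd hodd]
        | rw [hz, hr2]; rfl
    by_cases hmin : ∀ d, 0 < d → d < f → ¬ z ∣ p ^ d - 1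
    swap
    · right; left
      simp only [not_forall, not_not] at hmin
      obtain ⟨d, hd0, hdf, hd⟩ := hmin
      obtain ⟨E, hE, hEmem⟩ := exists_subfield_of_pow (F := F) hFc hd0 hdf
      refine subfield_of_trace hD.span hD.norm hE fun x hx => ?_
      rcases hD.trace x hx with ⟨-, h1, -⟩ | ⟨a, ha, h1, -⟩
      · rw [h1]; exact zero_mem E
      · rw [h1, hEmem, mul_pow]
        obtain ⟨t, ht⟩ := hd
        have hpd : p ^ d - 1 + 1 = p ^ d := Nat.sub_add_cancel (Nat.one_le_pow _ _ hp.pos)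
        have hnd : ((Fintype.card ι : ℕ) : F) ^ p ^ d = Fintype.card ι := by
          rw [← iterateFrobenius_def p d, map_natCast]
        rw [hnd, ← hpd, pow_succ, ht, pow_mul, ha, one_pow, one_mul]
    rcases Nat.even_or_odd f with hfe | hfo
    · left
      obtain ⟨σ, hσ, hσz⟩ := exists_conjugation (F := F) hD.prime hze hFc hfe hzf hmin
      refine formOutcome_of_trace (by omega) hD.span hD.norm σ hσ fun x hx => ?_
      rcases hD.trace x hx with ⟨-, h1, h2⟩ | ⟨a, ha, h1, h2⟩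
      · rw [h1, h2, map_zero]
      · rw [h1, h2, map_mul, hσz a ha, map_natCast]
    right; right
    refine ⟨r, R, m, hD.pos, hD.card_eq, ⟨hD.sympType, absIrred_of_span hD.span,
      ⟨p, f, hrp', ⟨hp, hpc, hf, hD.card_center.symm ▸ hzf, hD.card_center.symm ▸ hmin⟩, ?_⟩⟩, hD.norm⟩
    first
      | (refine Or.inl ⟨hodd, hfo, hD.card_center.trans hz, m, hD.pos, ?_⟩
         rw [hD.card_group, hD.card_eq, hz, show 1 + 2 * m = m + m + 1 by ring, pow_add, pow_add]; ring)
      | (subst hr2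
         refine Or.inr (Or.inl ⟨rfl, ?_, hD.card_center.trans hz, ?_, m, ?_⟩)
         · by_contra hf1
           refine hmin 2 two_pos (by rcases hfo with ⟨k, hk⟩; omega) ?_
           have hpodd : p % 2 = 1 := hp.eq_two_or_odd.resolve_left (fun h' => hrp' h'.symm)
           obtain ⟨k, rfl⟩ : ∃ k, p = 2 * k + 1 := ⟨p / 2, by omega⟩
           exact ⟨k * k + k, by rw [show (2 * k + 1) ^ 2 = 4 * (k * k + k) + 1 by ring, hz]; omega⟩
         · rw [hD.card_eq]
           rcases Nat.lt_or_ge m 2 with hm2 | hm2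
           · have := hD.pos; rw [hD.card_eq, show m = 1 by omega] at hι; omega
           · calc 4 = 2 ^ 2 := rfl
               _ ≤ 2 ^ m := Nat.pow_le_pow_right two_pos hm2
         · rw [hD.card_group, hD.card_eq, hz, show (2 + 2 * m) = m + m + 2 by ring, pow_add, pow_add]; ring)

end Cfsg.Agent.Aschbacher
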