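/-
The perfect case: a core, a tensor-induced structure, or a form.
Main results: `trace_inv_closure`, `Wreath`, `perfect_outcome`.
-/
import Cfsg.Agent.Lib.Aschbacher.SympType

set_option autoImplicit false

namespace Cfsg.Agent.Aschbacher

open Matrix
open scoped commutatorElement Kronecker
open Cfsg.Agent.PrimeDim

variable {ι : Type} [Fintype ι] [DecidableEq ι] {F : Type*} [Field F]

theorem cj_alg_map (g : GL ι F) {D : Subgroup (GL ι F)} {a : Matrix ι ι F} (ha : a ∈ alg D) :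
    cj g a ∈ alg (D.map (MulAut.conj g).toMonoidHom) := by
  induction ha using Algebra.adjoin_induction with
  | mem x hx =>
    obtain ⟨y, hy, rfl⟩ := hx
    rw [cj_coe]
    exact Algebra.subset_adjoin (mem_matrixSet ⟨y, hy, rfl⟩)
  | algebraMap r => rw [AlgHom.commutes]; exact Subalgebra.algebraMap_mem _ r
  | add p q _ _ hp hq => rw [map_add]; exact add_mem hp hq
  | mul p q _ _ hp hq => rw [map_mul]; exact mul_mem hp hq

theorem commute_alg {D : Subgroup (GL ι F)} {A a : Matrix ι ι F}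
    (h : ∀ x ∈ D, A * (x : Matrix ι ι F) = (x : Matrix ι ι F) * A) (ha : a ∈ alg D) : A * a = a * A := by
  refine (Algebra.commute_of_mem_adjoin_of_forall_mem_commute ha ?_).eq
  rintro _ ⟨x, hx, rfl⟩
  exact h x hx

/-- Traces factor over an embedded matrix algebra and its centraliser. -/
theorem trace_mul_of_commute {d : ℕ} (o : Fin d) (φ : Matrix (Fin d) (Fin d) F →ₐ[F] Matrix ι ι F)
    {X : Matrix ι ι F} (hX : ∀ a, φ a * X = X * φ a) (a : Matrix (Fin d) (Fin d) F) :
    (φ a * X).trace = a.trace * (φ (single o o 1) * X).trace := by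
  induction a using Matrix.induction_on' with
  | h_zero => simp
  | h_add p q hp hq => rw [map_add, add_mul, trace_add, hp, hq, trace_add, add_mul]
  | h_std_basis i j c =>
    have hc : single i j c = c • single i j (1 : F) := by simp
    rw [hc, map_smul, Matrix.smul_mul, trace_smul, trace_smul, smul_eq_mul, smul_eq_mul, mul_assoc]
    congr 1
    have h1 : single i j (1 : F) = single i o 1 * single o j 1 := by rw [single_mul_single_same, one_mul]
    rw [h1, map_mul, mul_assoc, Matrix.trace_mul_comm, mul_assoc, ← hX, ← mul_assoc, ← map_mul]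
    by_cases hij : j = i
    · subst hij
      rw [single_mul_single_same, one_mul, single_mul_single_same, one_mul, Matrix.trace_single_eq_same, one_mul]
    · rw [single_mul_single_of_ne _ _ _ _ hij, map_zero, zero_mul, trace_zero, single_mul_single_same, one_mul,
        Matrix.trace_single_eq_of_ne _ _ _ (Ne.symm hij), zero_mul]

/-- Commuting perfect subgroups inside copies of `M₂` generate a group with real traces. -/
theorem trace_inv_closure (T : Finset (Subgroup (GL ι F)))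
    (hperf : ∀ D ∈ T, ⁅D, D⁆ = D)
    (hcomm : ∀ D ∈ T, ∀ D' ∈ T, D ≠ D' → ∀ x ∈ D, ∀ y ∈ D', x * y = y * x)
    (hφ : ∀ D ∈ T, ∃ φ : Matrix (Fin 2) (Fin 2) F →ₐ[F] Matrix ι ι F, Function.Injective φ ∧
      (∀ x ∈ D, ∃ a, φ a = (x : Matrix ι ι F)) ∧ ∀ a, φ a ∈ alg D) :
    ∀ X : Matrix ι ι F, (∀ D ∈ T, ∀ x ∈ D, X * (x : Matrix ι ι F) = (x : Matrix ι ι F) * X) →
      ∀ u ∈ Subgroup.closure (⋃ D ∈ T, (D : Set (GL ι F))),
        (((u⁻¹ : GL ι F) : Matrix ι ι F) * X).trace = ((u : Matrix ι ι F) * X).trace := by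
  classical
  induction T using Finset.induction with
  | empty =>
    intro X _ u hu
    have : u = 1 := by simpa using hu
    subst this
    simp
  | @insert D T hDT ih =>
    intro X hX u hu
    set K := Subgroup.closure (⋃ E ∈ T, (E : Set (GL ι F))) with hK
    have hDK : ∀ a ∈ D, ∀ v ∈ K, a * v = v * a := by
      intro a ha v hv
      induction hv using Subgroup.closure_induction with
      | mem y hy =>
        simp only [Set.mem_iUnion] at hy
        obtain ⟨E, hE, hy⟩ := hy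
        exact hcomm D (Finset.mem_insert_self _ _) E (Finset.mem_insert_of_mem hE)
          (fun h => hDT (h ▸ hE)) a ha y hy
      | one => simp
      | mul b c _ _ hb hc => rw [← mul_assoc, hb, mul_assoc, hc, mul_assoc]
      | inv b _ hb => exact (show Commute a b from hb).inv_right.eq
    have hdec : ∃ a ∈ D, ∃ v ∈ K, a * v = u := by
      rw [Finset.set_biUnion_insert] at hu
      induction hu using Subgroup.closure_induction with
      | mem y hy =>
        rcases hy with hy | hy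
        · exact ⟨y, hy, 1, one_mem _, mul_one y⟩
        · exact ⟨1, one_mem _, y, Subgroup.subset_closure hy, one_mul y⟩
      | one => exact ⟨1, one_mem _, 1, one_mem _, one_mul _⟩
      | mul b c _ _ hb hc =>
        obtain ⟨a, ha, v, hv, rfl⟩ := hb
        obtain ⟨a', ha', v', hv', rfl⟩ := hc
        refine ⟨a * a', mul_mem ha ha', v * v', mul_mem hv hv', ?_⟩
        rw [mul_assoc a a', ← mul_assoc a' v, hDK a' ha' v hv]
        simp [mul_assoc]
      | inv b _ hb =>
        obtain ⟨a, ha, v, hv, rfl⟩ := hb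
        exact ⟨a⁻¹, inv_mem ha, v⁻¹, inv_mem hv,
          by rw [_root_.mul_inv_rev, hDK _ (inv_mem ha) _ (inv_mem hv)]⟩
    obtain ⟨a, ha, v, hv, rfl⟩ := hdec
    obtain ⟨φ, hφinj, hφD, hφalg⟩ := hφ D (Finset.mem_insert_self _ _)
    have hDX : ∀ Y : Matrix ι ι F, (∀ x ∈ D, Y * (x : Matrix ι ι F) = (x : Matrix ι ι F) * Y) →
        ∀ b, φ b * Y = Y * φ b := fun Y hY b => (commute_alg hY (hφalg b)).symm
    have hXD := fun x hx => hX D (Finset.mem_insert_self _ _) x hx
    have hvX : ∀ w ∈ K, ∀ b, φ b * ((w : Matrix ι ι F) * X) = ((w : Matrix ι ι F) * X) * φ b := fun w hw =>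
      hDX _ fun x hx => by
        have hxw : (w : Matrix ι ι F) * x = (x : Matrix ι ι F) * w :=
          (congrArg Units.val (hDK x hx w hw)).symm
        rw [mul_assoc, hXD x hx, ← mul_assoc, hxw, mul_assoc]
    have htr2 : ∀ x ∈ D, ∃ b c, φ b = (x : Matrix ι ι F) ∧ φ c = ((x⁻¹ : GL ι F) : Matrix ι ι F) ∧
        c.trace = b.trace := by
      have key : ∀ x ∈ ⁅D, D⁆, ∀ b, φ b = (x : Matrix ι ι F) → b.det = 1 := by
        intro x hx
        rw [Subgroup.commutator_def] at hx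
        induction hx using Subgroup.closure_induction with
        | mem x hx =>
          obtain ⟨y, hy, z, hz, rfl⟩ := hx
          intro b hb
          obtain ⟨y₁, hy₁⟩ := hφD y hy
          obtain ⟨z₁, hz₁⟩ := hφD z hz
          obtain ⟨y₂, hy₂⟩ := hφD _ (inv_mem hy)
          obtain ⟨z₂, hz₂⟩ := hφD _ (inv_mem hz)
          have hy12 : y₁ * y₂ = 1 := hφinj (by rw [map_mul, hy₁, hy₂, Units.mul_inv, map_one])
          have hz12 : z₁ * z₂ = 1 := hφinj (by rw [map_mul, hz₁, hz₂, Units.mul_inv, map_one])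
          have : b = y₁ * z₁ * y₂ * z₂ := hφinj (by
            rw [hb, commutatorElement_def, map_mul, map_mul, map_mul, hy₁, hy₂, hz₁, hz₂, Units.val_mul,
              Units.val_mul, Units.val_mul])
          rw [this, det_mul, det_mul, det_mul]
          have e1 : y₁.det * y₂.det = 1 := by rw [← det_mul, hy12, det_one]
          have e2 : z₁.det * z₂.det = 1 := by rw [← det_mul, hz12, det_one]
          linear_combination (z₁.det * z₂.det) * e1 + e2
        | one =>
          intro b hb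
          have : b = 1 := hφinj (by rw [hb, map_one, Units.val_one])
          rw [this, det_one]
        | mul y z hy hz hy' hz' =>
          intro b hb
          obtain ⟨y₁, hy₁⟩ := hφD y (commutator_le_self D (by rw [Subgroup.commutator_def]; exact hy))
          obtain ⟨z₁, hz₁⟩ := hφD z (commutator_le_self D (by rw [Subgroup.commutator_def]; exact hz))
          have : b = y₁ * z₁ := hφinj (by rw [hb, map_mul, hy₁, hz₁, Units.val_mul])
          rw [this, det_mul, hy' _ hy₁, hz' _ hz₁, mul_one]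
        | inv y hy hy' =>
          intro b hb
          obtain ⟨y₁, hy₁⟩ := hφD y (commutator_le_self D (by rw [Subgroup.commutator_def]; exact hy))
          have : y₁ * b = 1 := hφinj (by rw [map_mul, hy₁, hb, Units.mul_inv, map_one])
          have := congrArg det this
          rwa [det_mul, hy' _ hy₁, one_mul, det_one] at this
      intro x hx
      obtain ⟨b, hb⟩ := hφD x hx
      obtain ⟨c, hc⟩ := hφD _ (inv_mem hx)
      refine ⟨b, c, hb, hc, ?_⟩
      have hbc : b * c = 1 := hφinj (by rw [map_mul, hb, hc, Units.mul_inv, map_one])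
      have hdet : b.det = 1 := key x (by rw [hperf D (Finset.mem_insert_self _ _)]; exact hx) b hb
      have hc' : c = b.adjugate := by
        calc c = b.det • c := by rw [hdet, one_smul]
          _ = b.adjugate * b * c := by rw [Matrix.adjugate_mul, Matrix.smul_mul, one_mul]
          _ = b.adjugate := by rw [mul_assoc, hbc, mul_one]
      rw [hc', Matrix.adjugate_fin_two, Matrix.trace_fin_two, Matrix.trace_fin_two]
      simp [add_comm]
    obtain ⟨b, c, hb, hc, hbc⟩ := htr2 a ha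
    set E := φ (single (0 : Fin 2) 0 1)
    have hEK : ∀ w ∈ K, E * (w : Matrix ι ι F) = (w : Matrix ι ι F) * E := fun w hw =>
      hDX _ (fun x hx => congrArg Units.val (hDK x hx w hw).symm) _
    have ih' := ih (fun E hE => hperf E (Finset.mem_insert_of_mem hE))
      (fun E hE E' hE' => hcomm E (Finset.mem_insert_of_mem hE) E' (Finset.mem_insert_of_mem hE'))
      (fun E hE => hφ E (Finset.mem_insert_of_mem hE)) (E * X) (fun F' hF' y hy => by
        rw [mul_assoc, hX F' (Finset.mem_insert_of_mem hF') y hy, ← mul_assoc,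
          hEK y (Subgroup.subset_closure (Set.mem_biUnion hF' hy)), mul_assoc]) v hv
    calc ((((a * v)⁻¹ : GL ι F) : Matrix ι ι F) * X).trace
        = (φ c * (((v⁻¹ : GL ι F) : Matrix ι ι F) * X)).trace := by
          rw [_root_.mul_inv_rev, ← hDK _ (inv_mem ha) _ (inv_mem hv), Units.val_mul, hc, mul_assoc]
      _ = c.trace * (((v⁻¹ : GL ι F) : Matrix ι ι F) * (E * X)).trace := by
          rw [trace_mul_of_commute 0 φ (hvX _ (inv_mem hv)), ← mul_assoc, hEK _ (inv_mem hv), mul_assoc]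
      _ = b.trace * ((v : Matrix ι ι F) * (E * X)).trace := by rw [hbc, ih']
      _ = ((φ b) * ((v : Matrix ι ι F) * X)).trace := by
          rw [trace_mul_of_commute 0 φ (hvX _ hv), ← mul_assoc E, hEK _ hv, mul_assoc]
      _ = (((a * v : GL ι F) : Matrix ι ι F) * X).trace := by rw [hb, Units.val_mul, mul_assoc]

/-- A perfect spanning normal subgroup has traces equal to those of inverses. -/
def TraceReal (G : Subgroup (GL ι F)) : Prop :=
  ∃ P : Subgroup (GL ι F), P ≤ G ∧ NormBy G P ∧ ⁅P, P⁆ = P ∧ Submodule.span F (Geo.matrixSet P) = ⊤ ∧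
    ∀ x ∈ P, ((x⁻¹ : GL ι F) : Matrix ι ι F).trace = (x : Matrix ι ι F).trace

theorem TraceReal.formOutcome [Finite F] (hι : 2 ≤ Fintype.card ι) {G : Subgroup (GL ι F)} (h : TraceReal G) :
    FormOutcome G :=
  let ⟨_, _, hn, _, hs, htr⟩ := h
  formOutcome_of_trace hι hs hn (RingEquiv.refl F) (fun _ => rfl) htr

/-- `G` preserves a decomposition into two equal tensor factors, possibly swapping them. -/
def Wreath (G : Subgroup (GL ι F)) (d : ℕ) : Prop :=
  3 ≤ d ∧ d * d = Fintype.card ι ∧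
    ∀ e : ι ≃ (Fin 2 → Fin d), ∃ P : GL ι F, G ≤ Geo.tensorWreathSubgroup d 2 e P

theorem tensor_le_wreath {d : ℕ} (e : ι ≃ (Fin 2 → Fin d)) (P : GL ι F) :
    Geo.tensorProductSubgroup d d (e.trans (finTwoArrowEquiv (Fin d))) P ≤ Geo.tensorWreathSubgroup d 2 e P := by
  rintro _ ⟨_, ⟨k, ⟨a, b, hk⟩, rfl⟩, rfl⟩
  refine ⟨_, ⟨Geo.glReindex (finTwoArrowEquiv (Fin d)).symm k, Subgroup.subset_closure (Or.inl ⟨![a, b], ?_⟩),
    rfl⟩, ?_⟩
  · intro x y
    simp [Geo.glReindex, hk, Fin.prod_univ_two]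
  · refine congrArg _ (Units.ext ?_)
    ext x y
    simp [Geo.glReindex]

/-- The swap of two equal tensor factors. -/
theorem exists_swap {d : ℕ} (e : ι ≃ (Fin 2 → Fin d)) (P : GL ι F) :
    ∃ s ∈ Geo.tensorWreathSubgroup d 2 e P,
      (∀ X Y : Matrix (Fin d) (Fin d) F,
        cj s (cj P (tens (e.trans (finTwoArrowEquiv (Fin d))) X Y)) =
          cj P (tens (e.trans (finTwoArrowEquiv (Fin d))) Y X)) ∧
      ∀ g ∈ Geo.tensorWreathSubgroup d 2 e P,
        g ∈ Geo.tensorProductSubgroup d d (e.trans (finTwoArrowEquiv (Fin d))) P ∨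
          s * g ∈ Geo.tensorProductSubgroup d d (e.trans (finTwoArrowEquiv (Fin d))) P := by
  classical
  let σ : Equiv.Perm (Fin 2) := Equiv.swap 0 1
  let S₀ : Matrix (Fin 2 → Fin d) (Fin 2 → Fin d) F := fun x y => if y = x ∘ σ then 1 else 0
  have hσσ : ∀ x : Fin 2 → Fin d, (x ∘ σ) ∘ σ = x := fun x => funext fun i => by simp [σ]
  have hS : S₀ * S₀ = 1 := by
    ext x y
    rw [Matrix.mul_apply, Finset.sum_eq_single (x ∘ σ)]
    · simp only [S₀, if_true, one_mul, hσσ, Matrix.one_apply]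
      exact if_congr ⟨fun h => h.symm, fun h => h.symm⟩ rfl rfl
    · intro z _ hz; simp [S₀, hz]
    · simp
  let s₀ : GL (Fin 2 → Fin d) F := ⟨S₀, S₀, hS, hS⟩
  let s₁ : GL ι F := Geo.glReindex e.symm s₀
  suffices hswap : ∀ X Y : Matrix (Fin d) (Fin d) F,
      cj (P * s₁ * P⁻¹) (cj P (tens (e.trans (finTwoArrowEquiv (Fin d))) X Y)) =
        cj P (tens (e.trans (finTwoArrowEquiv (Fin d))) Y X) by
    refine ⟨P * s₁ * P⁻¹, ⟨s₁, ⟨s₀, Subgroup.subset_closure (Or.inr ⟨σ, fun x y => rfl⟩), rfl⟩, rfl⟩, hswap, ?_⟩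
    set e' := e.trans (finTwoArrowEquiv (Fin d))
    set T := Geo.tensorProductSubgroup d d e' P
    set s := P * s₁ * P⁻¹ with hs_def
    have hs2 : s * s = 1 := by
      have h1 : s₁ * s₁ = 1 := by
        rw [← map_mul, show s₀ * s₀ = 1 from Units.ext hS, map_one]
      calc s * s = P * (s₁ * s₁) * P⁻¹ := by simp [hs_def, mul_assoc]
        _ = 1 := by rw [h1, mul_one, mul_inv_cancel]
    have hsi : s⁻¹ = s := inv_eq_of_mul_eq_one_right hs2
    have hss : ∀ g ∈ T, s * g * s⁻¹ ∈ T := by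
      intro g hg
      obtain ⟨a, b, hab⟩ := (mem_tensorProductSubgroup_iff e' P g).mp hg
      exact (mem_tensorProductSubgroup_iff e' P _).mpr ⟨b, a, by rw [← cj_coe, hab, hswap]⟩
    rintro _ ⟨_, ⟨g, hg, rfl⟩, rfl⟩
    induction hg using Subgroup.closure_induction with
    | mem g hg =>
      rcases hg with ⟨gs, hgs⟩ | ⟨τ, hτ⟩
      · left
        refine ⟨_, ⟨Geo.glReindex (finTwoArrowEquiv (Fin d)) g, ⟨gs 0, gs 1, ?_⟩, rfl⟩, ?_⟩
        · ext x y
          simp [Geo.glReindex, hgs, Fin.prod_univ_two]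
        · refine congrArg _ (Units.ext ?_)
          ext x y
          have hη : ∀ z : Fin 2 → Fin d, ![z 0, z 1] = z := fun z => funext fun i => by
            fin_cases i <;> rfl
          simp [Geo.glReindex, e', hη]
      · rcases (show ∀ τ : Equiv.Perm (Fin 2), τ = 1 ∨ τ = Equiv.swap 0 1 by decide) τ with rfl | rfl
        · left
          have : g = 1 := Units.ext (by
            ext x y
            rw [hτ x y, Units.val_one, Matrix.one_apply]
            exact if_congr ⟨fun h => h.symm, fun h => h.symm⟩ rfl rfl)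
          rw [this, map_one, map_one]
          exact one_mem T
        · right
          have : g = s₀ := Units.ext (by ext x y; exact hτ x y)
          have h' : (MulAut.conj P).toMonoidHom ((Geo.glReindex e.symm).toMonoidHom g) = s := by rw [this]; rfl
          rw [h', hs2]
          exact one_mem T
    | one => left; rw [map_one, map_one]; exact one_mem T
    | mul a b _ _ ha hb =>
      rw [map_mul, map_mul]
      set x := (MulAut.conj P).toMonoidHom ((Geo.glReindex e.symm).toMonoidHom a)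
      set y := (MulAut.conj P).toMonoidHom ((Geo.glReindex e.symm).toMonoidHom b)
      rcases ha with hx | hx <;> rcases hb with hy | hy
      · exact Or.inl (mul_mem hx hy)
      · exact Or.inr (by
          have : s * (x * y) = (s * x * s⁻¹) * (s * y) := by simp [mul_assoc]
          rw [this]; exact mul_mem (hss x hx) hy)
      · exact Or.inr (by rw [← mul_assoc]; exact mul_mem hx hy)
      · exact Or.inl (by
          have : x * y = (s * (s * x) * s⁻¹) * (s * y) := by
            simp [mul_assoc, ← mul_assoc s s, hs2]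
          rw [this]; exact mul_mem (hss _ hx) hy)
    | inv a _ ha =>
      rw [map_inv, map_inv]
      set x := (MulAut.conj P).toMonoidHom ((Geo.glReindex e.symm).toMonoidHom a)
      rcases ha with hx | hx
      · exact Or.inl (inv_mem hx)
      · right
        have : s * x⁻¹ = s * (s * x)⁻¹ * s⁻¹ := by
          rw [_root_.mul_inv_rev, hsi]; simp [mul_assoc, hs2]
        rw [this]; exact hss _ (inv_mem hx)
  intro X Y
  rw [cj_cj, inv_mul_cancel_right, ← cj_cj]
  congr 1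
  have hs1 : ∀ a b : ι, (s₁ : Matrix ι ι F) a b = if e b = e a ∘ σ then 1 else 0 := fun a b => by
    simp [s₁, s₀, S₀, Geo.glReindex]
    rfl
  have hs2 : ((s₁⁻¹ : GL ι F) : Matrix ι ι F) = (s₁ : Matrix ι ι F) := by
    rw [← map_inv]; rfl
  rw [cj_apply, hs2]
  ext a b
  rw [Matrix.mul_apply, Finset.sum_eq_single (e.symm (e b ∘ σ))]
  · rw [Matrix.mul_apply, Finset.sum_eq_single (e.symm (e a ∘ σ))]
    · simp only [hs1, Equiv.apply_symm_apply, if_true, one_mul, hσσ, mul_one]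
      rw [tens_apply, tens_apply]
      simp [σ, mul_comm]
    · intro z _ hz
      rw [hs1, if_neg, zero_mul]
      exact fun h => hz (by rw [← h, Equiv.symm_apply_apply])
    · simp
  · intro z _ hz
    rw [hs1 z b, if_neg, mul_zero]
    exact fun h => hz (by rw [h, hσσ, Equiv.symm_apply_apply])
  · simp

theorem tens_add {d t : ℕ} (e : ι ≃ Fin d × Fin t) (X : Matrix (Fin d) (Fin d) F)
    (Y Y' : Matrix (Fin t) (Fin t) F) : tens e X (Y + Y') = tens e X Y + tens e X Y' := by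
  ext a b
  simp [tens_apply, mul_add]

theorem tens_smul {d t : ℕ} (e : ι ≃ Fin d × Fin t) (c : F) (X : Matrix (Fin d) (Fin d) F)
    (Y : Matrix (Fin t) (Fin t) F) : tens e X (c • Y) = c • tens e X Y := by
  ext a b
  simp [tens_apply, mul_left_comm]

theorem tens_one_inj {d t : ℕ} (hd : 0 < d) (e : ι ≃ Fin d × Fin t) {Y Y' : Matrix (Fin t) (Fin t) F}
    (h : tens e (1 : Matrix (Fin d) (Fin d) F) Y = tens e 1 Y') : Y = Y' := by
  ext k l
  have := congrFun (congrFun h (e.symm (⟨0, hd⟩, k))) (e.symm (⟨0, hd⟩, l))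
  rw [tens_apply, tens_apply, Equiv.apply_symm_apply, Equiv.apply_symm_apply, Matrix.one_apply_eq, one_mul,
    one_mul] at this
  exact this

/-- A second matrix algebra centralising the first lies in the second factor. -/
theorem exists_second_factor [Nonempty ι] {d t : ℕ} (hd : 0 < d) (e : ι ≃ Fin d × Fin t) (P : GL ι F)
    (φ₁ φ₂ : Matrix (Fin d) (Fin d) F →ₐ[F] Matrix ι ι F) (h₁ : ∀ X, φ₁ X = cj P (tens e X 1))
    (hc : ∀ X Y, φ₂ X * φ₁ Y = φ₁ Y * φ₂ X) :
    ∃ ψ : Matrix (Fin d) (Fin d) F →ₐ[F] Matrix (Fin t) (Fin t) F, ∀ X, φ₂ X = cj P (tens e 1 (ψ X)) := by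
  have hex : ∀ X, ∃ Y, cj P⁻¹ (φ₂ X) = tens e 1 Y := fun X =>
    exists_eq_one_tens hd e fun Z => by
      have := congrArg (cj P⁻¹) (hc X Z)
      rwa [map_mul, map_mul, h₁, cj_inv_cj] at this
  choose ψ hψ using hex
  refine ⟨{ toFun := ψ, map_one' := ?_, map_mul' := fun X Y => ?_, map_zero' := ?_,
            map_add' := fun X Y => ?_, commutes' := fun c => ?_ }, fun X => ?_⟩
  · refine tens_one_inj hd e ?_
    rw [← hψ, map_one, map_one, tens_one]
  · refine tens_one_inj hd e ?_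
    rw [← hψ, map_mul, map_mul, hψ, hψ, tens_mul, one_mul]
  · refine tens_one_inj hd e ?_
    rw [← hψ, map_zero, map_zero]
    ext a b; simp [tens_apply]
  · refine tens_one_inj hd e ?_
    rw [← hψ, map_add, map_add, hψ, hψ, tens_add]
  · refine tens_one_inj hd e ?_
    rw [← hψ, AlgHom.commutes, AlgHom.commutes, Algebra.algebraMap_eq_smul_one, Algebra.algebraMap_eq_smul_one,
      tens_smul, tens_one]
  · show φ₂ X = cj P (tens e 1 (ψ X))
    rw [← hψ, cj_cj_inv]

theorem mem_normalizer_of_cj {A : Subalgebra F (Matrix ι ι F)} {g : GL ι F}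
    (h1 : ∀ a ∈ A, cj g a ∈ A) (h2 : ∀ a ∈ A, cj g⁻¹ a ∈ A) : g ∈ Geo.subalgebraNormalizer A := by
  intro k
  refine ⟨fun hk => h1 k hk, fun hk => ?_⟩
  have := h2 _ hk
  rwa [← cj_apply, cj_inv_cj] at this

theorem normAlg_subalgebraNormalizer (A : Subalgebra F (Matrix ι ι F)) :
    NormAlg (Geo.subalgebraNormalizer A) A := fun g hg a ha => by
  rw [cj_apply]; exact (hg a).mp ha

set_option maxHeartbeats 1600000 in
/-- A minimal non-scalar normal subgroup that is not of class two. -/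
theorem perfect_outcome [Finite F] (hι : 2 ≤ Fintype.card ι) (hι' : Fintype.card ι < 18)
    {G N : Subgroup (GL ι F)} (hG : Good G) (hle : N ≤ G) (hnorm : NormBy G N)
    (hscal : Geo.scalars ι F ≤ N)
    (hmin : ∀ M ≤ N, NormBy G M → Geo.scalars ι F ≤ M → (∃ x ∈ M, x ∉ Geo.scalars ι F) → M = N)
    (hnc : ∃ x ∈ N, ∃ y ∈ N, ⁅x, y⁆ ∉ Geo.scalars ι F) :
    TraceReal G ∨ (∃ d, Wreath G d) ∨ ∃ P, IsCore G P := by
  classical
  have : Nonempty ι := Fintype.card_pos_iff.mp (by omega)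
  have : Finite (Matrix ι ι F) := inferInstanceAs (Finite (ι → ι → F))
  have : Finite (GL ι F) := Finite.of_injective Units.val Units.val_injective
  let S := Geo.scalars ι F
  have hcommsup : ∀ M : Subgroup (GL ι F), ⁅M ⊔ S, M ⊔ S⁆ ≤ ⁅M, M⁆ := by
    intro M
    rw [Subgroup.commutator_le]
    intro a ha b hb
    obtain ⟨m, hm, z, hz, rfl⟩ := Subgroup.mem_sup_of_normal_right.mp ha
    obtain ⟨m', hm', z', hz', rfl⟩ := Subgroup.mem_sup_of_normal_right.mp hb
    rw [commutator_mul_scalar hz hz' m m']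
    exact Subgroup.commutator_mem_commutator hm hm'
  have hsupNorm : ∀ M, NormBy G M → NormBy G (M ⊔ S) := by
    intro M hM h hh x hx
    obtain ⟨m, hm, z, hz, rfl⟩ := Subgroup.mem_sup_of_normal_right.mp hx
    rw [conj_mul_scalar hz h m]
    exact mul_mem (Subgroup.mem_sup_left (hM h hh m hm)) (Subgroup.mem_sup_right hz)
  set P := ⁅N, N⁆ with hP
  have hPle : P ≤ N := commutator_le_self N
  have hPnorm : NormBy G P := hnorm.commutator
  obtain ⟨x₁, hx₁, y₁, hy₁, hxy₁⟩ := hnc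
  have hPns : ∃ x ∈ P, x ∉ S := ⟨_, Subgroup.commutator_mem_commutator hx₁ hy₁, hxy₁⟩
  have hgen : ∀ K : Subgroup (GL ι F), K ≤ P → NormBy G K → (∃ x ∈ K, x ∉ S) → P ≤ ⁅K, K⁆ := by
    intro K hKP hKn hKs
    have hKN : K ⊔ S = N := hmin _ (sup_le (hKP.trans hPle) hscal) (hsupNorm K hKn) le_sup_right
      (let ⟨x, hx, hxs⟩ := hKs; ⟨x, Subgroup.mem_sup_left hx, hxs⟩)
    rw [hP, ← hKN]
    exact hcommsup K
  have hperf : ⁅P, P⁆ = P := le_antisymm (commutator_le_self P) (hgen P le_rfl hPnorm hPns)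
  have hspanP := hG.span P (hPle.trans hle) hPnorm hPns
  let 𝒮 : Set (Subgroup (GL ι F)) := {M | M ≤ P ∧ NormBy P M ∧ P ⊓ S ≤ M ∧ ∃ x ∈ M, x ∉ S}
  have hP𝒮 : P ∈ 𝒮 := ⟨le_rfl, fun h hh x hx => mul_mem (mul_mem hh hx) (inv_mem hh), inf_le_left, hPns⟩
  have hex : ∃ k, ∃ M ∈ 𝒮, Nat.card M = k := ⟨_, P, hP𝒮, rfl⟩
  obtain ⟨M, hM, hMk⟩ := Nat.find_spec hex
  have heq : ∀ L ∈ 𝒮, L ≤ M → L = M := fun L hL hLM =>
    Subgroup.eq_of_le_of_card_ge hLM (hMk ▸ Nat.find_min' hex ⟨L, hL, rfl⟩)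
  let C : GL ι F → Subgroup (GL ι F) := fun h => M.map (MulAut.conj h).toMonoidHom
  have hconj : ∀ h ∈ G, C h ∈ 𝒮 ∧ (∀ L ∈ 𝒮, L ≤ C h → L = C h) := by
    intro h hh
    refine ⟨⟨?_, ?_, ?_, ?_⟩, ?_⟩
    · rintro _ ⟨m, hm, rfl⟩; exact hPnorm h hh m (hM.1 hm)
    · rintro g hg _ ⟨m, hm, rfl⟩
      have hg' := hPnorm h⁻¹ (inv_mem hh) g hg
      refine ⟨h⁻¹ * g * h⁻¹⁻¹ * m * (h⁻¹ * g * h⁻¹⁻¹)⁻¹, hM.2.1 _ hg' m hm, ?_⟩
      simp [mul_assoc]
    · intro x hx
      refine ⟨x, hM.2.2.1 hx, ?_⟩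
      simp [MulAut.conj_apply, scalars_central hx.2 h]
    · obtain ⟨x, hx, hxs⟩ := hM.2.2.2
      refine ⟨h * x * h⁻¹, ⟨x, hx, rfl⟩, fun hc => hxs ?_⟩
      have := (Geo.scalars_normal (ι := ι) (F := F)).conj_mem _ hc h⁻¹
      simpa [mul_assoc] using this
    · intro L hL hLM
      refine Subgroup.eq_of_le_of_card_ge hLM ?_
      rw [Subgroup.card_map_of_injective (MulEquiv.injective _), hMk]
      exact Nat.find_min' hex ⟨L, hL, rfl⟩
  have hinterS : ∀ A ∈ 𝒮, ∀ B ∈ 𝒮, (∀ L ∈ 𝒮, L ≤ A → L = A) → (∀ L ∈ 𝒮, L ≤ B → L = B) → A ≠ B →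
      ∀ a ∈ A, ∀ b ∈ B, ⁅a, b⁆ ∈ S := by
    intro A hA B hB hA' hB' hne a ha b hb
    by_contra hns
    have hmem : ⁅a, b⁆ ∈ A ⊓ B := by
      refine ⟨?_, ?_⟩
      · rw [commutatorElement_def, mul_assoc a b, mul_assoc a]
        exact A.mul_mem ha (hA.2.1 b (hB.1 hb) _ (A.inv_mem ha))
      · rw [commutatorElement_def]
        exact B.mul_mem (hB.2.1 a (hA.1 ha) b hb) (B.inv_mem hb)
    have hI : A ⊓ B ∈ 𝒮 := ⟨inf_le_left.trans hA.1,
      fun g hg x hx => ⟨hA.2.1 g hg x hx.1, hB.2.1 g hg x hx.2⟩, le_inf hA.2.2.1 hB.2.2.1, _, hmem, hns⟩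
    exact hne ((hA' _ hI inf_le_left).symm.trans (hB' _ hI inf_le_right))
  have hCnorm : ∀ g ∈ G, ∀ h : GL ι F, (C h).map (MulAut.conj g).toMonoidHom = C (g * h) := fun g _ h => by
    simp only [C, Subgroup.map_map]
    congr 1
    ext x
    simp [mul_assoc]
  have hclosureNorm : ∀ T : Set (GL ι F), (∀ g ∈ G, ∀ x ∈ T, g * x * g⁻¹ ∈ T) →
      NormBy G (Subgroup.closure T) := by
    intro T hT g hg x hx
    induction hx using Subgroup.closure_induction with
    | mem a ha => exact Subgroup.subset_closure (hT g hg a ha)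
    | one => simp
    | mul a b _ _ ha hb =>
      have : g * (a * b) * g⁻¹ = (g * a * g⁻¹) * (g * b * g⁻¹) := by simp [mul_assoc]
      rw [this]; exact mul_mem ha hb
    | inv a _ ha =>
      have : g * a⁻¹ * g⁻¹ = (g * a * g⁻¹)⁻¹ := by simp [mul_assoc]
      rw [this]; exact inv_mem ha
  by_cases hclass : ∀ a ∈ M, ∀ b ∈ M, ⁅a, b⁆ ∈ S
  · exfalso
    let T : Set (GL ι F) := ⋃ h ∈ G, (C h : Set (GL ι F))
    have hTcomm : ∀ a ∈ T, ∀ b ∈ T, ⁅a, b⁆ ∈ S := by
      intro a ha b hb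
      simp only [T, Set.mem_iUnion] at ha hb
      obtain ⟨g, hg, ha⟩ := ha
      obtain ⟨k, hk, hb⟩ := hb
      by_cases he : C g = C k
      · rw [← he] at hb
        obtain ⟨a', ha', rfl⟩ := ha
        obtain ⟨b', hb', rfl⟩ := hb
        rw [← map_commutatorElement]
        exact (Geo.scalars_normal (ι := ι) (F := F)).conj_mem _ (hclass a' ha' b' hb') g
      · exact hinterS _ (hconj g hg).1 _ (hconj k hk).1 (hconj g hg).2 (hconj k hk).2 he a ha b hb
    have hKP : Subgroup.closure T ≤ P := by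
      rw [Subgroup.closure_le]
      intro a ha
      simp only [T, Set.mem_iUnion] at ha
      obtain ⟨g, hg, ha⟩ := ha
      exact (hconj g hg).1.1 ha
    have hKn : NormBy G (Subgroup.closure T) := hclosureNorm T fun g hg x hx => by
      simp only [T, Set.mem_iUnion] at hx ⊢
      obtain ⟨k, hk, hx⟩ := hx
      exact ⟨g * k, mul_mem hg hk, hCnorm g hg k ▸ ⟨x, hx, rfl⟩⟩
    obtain ⟨x, hx, hxs⟩ := hM.2.2.2
    have h2 : P ≤ S := (hgen _ hKP hKn ⟨x, Subgroup.subset_closure (by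
        simp only [T, Set.mem_iUnion]
        exact ⟨1, one_mem G, x, hx, by simp⟩), hxs⟩).trans
      (Subgroup.commutator_le.mpr (commutator_closure_scalar hTcomm))
    obtain ⟨y, hy, hys⟩ := hPns
    exact hys (h2 hy)
  simp only [not_forall, exists_prop] at hclass
  obtain ⟨a₀, ha₀, b₀, hb₀, hab₀⟩ := hclass
  set D := ⁅M, M⁆ with hD
  have hDM' : D ≤ M := commutator_le_self M
  have hDns : ∃ x ∈ D, x ∉ S := ⟨_, Subgroup.commutator_mem_commutator ha₀ hb₀, hab₀⟩
  have hDnorm : NormBy P D := NormBy.commutator hM.2.1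
  have hDM : D ⊔ (P ⊓ S) = M := by
    refine heq _ ⟨sup_le (hDM'.trans hM.1) inf_le_left, ?_, le_sup_right, ?_⟩
      (sup_le hDM' hM.2.2.1)
    · intro g hg x hx
      have hle2 : D ⊔ (P ⊓ S) ≤ Subgroup.comap (MulAut.conj g).toMonoidHom (D ⊔ (P ⊓ S)) := by
        refine sup_le (fun d hd => ?_) (fun z hz => ?_)
        · exact Subgroup.mem_sup_left (hDnorm g hg d hd)
        · refine Subgroup.mem_sup_right ?_
          show g * z * g⁻¹ ∈ P ⊓ S
          rw [scalars_central hz.2 g, mul_assoc, mul_inv_cancel, mul_one]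
          exact hz
      exact hle2 hx
    · exact let ⟨x, hx, hxs⟩ := hDns; ⟨x, Subgroup.mem_sup_left hx, hxs⟩
  have hDperf : ⁅D, D⁆ = D := by
    refine le_antisymm (commutator_le_self D) ?_
    conv_lhs => rw [hD, ← hDM]
    exact (Subgroup.commutator_mono (sup_le_sup_left inf_le_right _) (sup_le_sup_left inf_le_right _)).trans
      (hcommsup D)
  let E : GL ι F → Subgroup (GL ι F) := fun h => D.map (MulAut.conj h).toMonoidHom
  have hE1 : E 1 = D := by
    ext x
    simp [E]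
  have hEC : ∀ g, E g ≤ C g := fun g => Subgroup.map_mono hDM'
  have hEperf : ∀ g, ⁅E g, E g⁆ = E g := fun g => by rw [← Subgroup.map_commutator, hDperf]
  have hEcomm : ∀ g ∈ G, ∀ k ∈ G, E g ≠ E k → ∀ x ∈ E g, ∀ y ∈ E k, x * y = y * x := by
    intro g hg k hk hne x hx
    have hCne : C g ≠ C k := fun h => hne (by
      have : ⁅C g, C g⁆ = ⁅C k, C k⁆ := by rw [h]
      simp only [C, ← Subgroup.map_commutator] at this
      exact this)
    exact commute_of_perfect (hEperf k) fun y hy =>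
      hinterS _ (hconj g hg).1 _ (hconj k hk).1 (hconj g hg).2 (hconj k hk).2 hCne x (hEC g hx) y (hEC k hy)
  let 𝒟 : Finset (Subgroup (GL ι F)) := (Set.toFinite (E '' (G : Set (GL ι F)))).toFinset
  have h𝒟 : ∀ X, X ∈ 𝒟 ↔ ∃ g ∈ G, E g = X := fun X => by simp [𝒟]
  let T : Set (GL ι F) := ⋃ X ∈ 𝒟, (X : Set (GL ι F))
  have hTmem : ∀ g ∈ G, ∀ x ∈ E g, x ∈ T := fun g hg x hx =>
    Set.mem_biUnion ((h𝒟 _).mpr ⟨g, hg, rfl⟩) hx
  have hTn : ∀ g ∈ G, ∀ x ∈ T, g * x * g⁻¹ ∈ T := by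
    intro g hg x hx
    simp only [T, Set.mem_iUnion] at hx
    obtain ⟨X, hX, hx⟩ := hx
    obtain ⟨k, hk, rfl⟩ := (h𝒟 X).mp hX
    obtain ⟨y, hy, rfl⟩ := hx
    exact hTmem (g * k) (mul_mem hg hk) _ ⟨y, hy, by simp [mul_assoc]⟩
  set K := Subgroup.closure T with hK
  have hKn : NormBy G K := hclosureNorm T hTn
  have hKP : K ≤ P := by
    rw [hK, Subgroup.closure_le]
    intro a ha
    simp only [T, Set.mem_iUnion] at ha
    obtain ⟨X, hX, ha⟩ := ha
    obtain ⟨g, hg, rfl⟩ := (h𝒟 X).mp hX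
    exact (hconj g hg).1.1 (hEC g ha)
  have hKns : ∃ x ∈ K, x ∉ S := by
    obtain ⟨x, hx, hxs⟩ := hDns
    exact ⟨x, Subgroup.subset_closure (hTmem 1 (one_mem G) x (hE1.symm ▸ hx)), hxs⟩
  have hPK : P ≤ K := (hgen K hKP hKn hKns).trans (commutator_le_self K)
  have hspanK := hG.span K (hKP.trans (hPle.trans hle)) hKn hKns
  have hscalarOf : ∀ A : Matrix ι ι F, (∀ g ∈ G, ∀ x ∈ E g, A * (x : Matrix ι ι F) = (x : Matrix ι ι F) * A) →
      ∃ c : F, A = c • 1 := by
    intro A hA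
    refine scalar_of_span hspanK A ?_
    rintro _ ⟨x, hx, rfl⟩
    show A * (x : Matrix ι ι F) = (x : Matrix ι ι F) * A
    induction hx using Subgroup.closure_induction with
    | mem y hy =>
      simp only [T, Set.mem_iUnion] at hy
      obtain ⟨X, hX, hy⟩ := hy
      obtain ⟨g, hg, rfl⟩ := (h𝒟 X).mp hX
      exact hA g hg y hy
    | one => simp
    | mul b c _ _ hb hc => rw [Units.val_mul, ← mul_assoc, hb, mul_assoc, hc, mul_assoc]
    | inv b _ hb => exact (Commute.units_inv_right (show Commute A (b : Matrix ι ι F) from hb)).eq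
  by_cases hone : ∀ g ∈ G, E g = D
  · right; right
    have hDn : NormBy G D := fun g hg x hx => hone g hg ▸ ⟨x, hx, rfl⟩
    have hspanD := hG.span D ((hDM'.trans hM.1).trans (hPle.trans hle)) hDn hDns
    have hcontain : ∀ L ∈ 𝒮, M ≤ L := by
      intro L hL
      have hI : L ⊓ M ∈ 𝒮 := by
        refine ⟨inf_le_right.trans hM.1, fun g hg x hx => ⟨hL.2.1 g hg x hx.1, hM.2.1 g hg x hx.2⟩,
          le_inf hL.2.2.1 hM.2.2.1, ?_⟩
        by_contra hc
        simp only [not_exists, not_and, not_not] at hc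
        obtain ⟨l, hl, hls⟩ := hL.2.2.2
        refine hls (mem_scalars_of_centralizes (absIrred_of_span hspanD)
          (commute_of_perfect hDperf fun x hx => hc _ ⟨?_, ?_⟩))
        · rw [commutatorElement_def, mul_assoc l x, mul_assoc l]
          exact L.mul_mem hl (hL.2.1 x (hM.1 (hDM' hx)) _ (L.inv_mem hl))
        · rw [commutatorElement_def]
          exact M.mul_mem (hM.2.1 l (hL.1 hl) x (hDM' hx)) (M.inv_mem (hDM' hx))
      exact (heq _ hI inf_le_right) ▸ inf_le_left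
    have hMP : M = P := by
      refine le_antisymm hM.1 ((hgen D (hDM'.trans hM.1) hDn hDns).trans ?_)
      rw [hDperf]; exact hDM'
    refine ⟨P, hPle.trans hle, hPnorm, hperf,
      isSimpleGroup_quotient P _ hPns fun L h1 h2 h3 h4 => hMP ▸ hcontain L ⟨h1, h2, h3, h4⟩,
      not_comm_quotient P _ hPns hperf, ?_, absIrred_of_span hspanP, hspanP⟩
    intro h _ hh
    refine mem_scalars_of_centralizes (absIrred_of_span hspanP) (commute_of_perfect hperf fun x hx => ?_)
    rw [commutatorElement_def]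
    exact hh x hx
  simp only [not_forall, exists_prop] at hone
  obtain ⟨g₁, hg₁, hne₁⟩ := hone
  have hcen : ∀ x ∈ alg D, (∀ y ∈ alg D, x * y = y * x) → ∃ c : F, x = c • 1 := by
    intro x hx hc
    refine hscalarOf x fun g hg y hy => ?_
    by_cases hgD : E g = D
    · exact hc _ (Algebra.subset_adjoin (mem_matrixSet (hgD ▸ hy)))
    · exact (commute_alg (fun z hz => congrArg Units.val
        (hEcomm g hg 1 (one_mem G) (hE1.symm ▸ hgD) y hy z (hE1.symm ▸ hz))) hx).symm
  have hNPD : NormAlg P (alg D) := normAlg_alg hDnorm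
  obtain ⟨d, hd0, ⟨φ⟩⟩ := algEquiv_matrix (irred_of_span hspanP) hNPD hcen
  let φ₀ : Matrix (Fin d) (Fin d) F →ₐ[F] Matrix ι ι F := (alg D).val.comp φ.toAlgHom
  have hφ₀inj : Function.Injective φ₀ := Subtype.val_injective.comp φ.injective
  have hφ₀D : ∀ x ∈ D, ∃ a, φ₀ a = (x : Matrix ι ι F) := fun x hx =>
    ⟨φ.symm ⟨_, Algebra.subset_adjoin (mem_matrixSet hx)⟩, by simp [φ₀]⟩
  let Φ : GL ι F → Matrix (Fin d) (Fin d) F →ₐ[F] Matrix ι ι F := fun g => (cj g).comp φ₀
  have hΦalg : ∀ g a, Φ g a ∈ alg (E g) := fun g a => cj_alg_map g (φ a).2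
  have hΦD : ∀ g, ∀ x ∈ E g, ∃ a, Φ g a = (x : Matrix ι ι F) := by
    rintro g _ ⟨y, hy, rfl⟩
    obtain ⟨a, ha⟩ := hφ₀D y hy
    exact ⟨a, by show cj g (φ₀ a) = _; rw [ha, cj_coe]; rfl⟩
  have hΦinj : ∀ g, Function.Injective (Φ g) := fun g a b h => hφ₀inj (by
    have := congrArg (cj g⁻¹) h
    simpa [Φ, cj_inv_cj] using this)
  have hd2 : 2 ≤ d := by
    by_contra hlt
    obtain ⟨x, hx, hxs⟩ := hDns
    obtain ⟨a, ha⟩ := hφ₀D x hx
    have : a = (a ⟨0, hd0⟩ ⟨0, hd0⟩) • 1 := by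
      ext i j
      obtain rfl : d = 1 := by omega
      rw [Fin.fin_one_eq_zero i, Fin.fin_one_eq_zero j]; simp
    rw [this, map_smul, map_one] at ha
    exact hxs (smul_one_mem_scalars ha.symm)
  rcases Nat.lt_or_ge d 3 with hd3 | hd3
  · left
    obtain rfl : d = 2 := by omega
    refine ⟨P, hPle.trans hle, hPnorm, hperf, hspanP, fun x hx => ?_⟩
    have := trace_inv_closure 𝒟 (fun X hX => by obtain ⟨g, -, rfl⟩ := (h𝒟 X).mp hX; exact hEperf g)
      (fun X hX Y hY hne => by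
        obtain ⟨g, hg, rfl⟩ := (h𝒟 X).mp hX
        obtain ⟨k, hk, rfl⟩ := (h𝒟 Y).mp hY
        exact hEcomm g hg k hk hne)
      (fun X hX => by obtain ⟨g, -, rfl⟩ := (h𝒟 X).mp hX; exact ⟨Φ g, hΦinj g, hΦD g, hΦalg g⟩)
      1 (fun _ _ _ _ => by simp) x (hPK hx)
    simpa using this
  right; left
  have hcom : ∀ g ∈ G, ∀ k ∈ G, E g ≠ E k → ∀ a b, Φ g a * Φ k b = Φ k b * Φ g a := by
    intro g hg k hk hne a b
    refine commute_alg (fun y hy => (commute_alg (fun x hx => ?_) (hΦalg g a)).symm) (hΦalg k b)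
    exact congrArg Units.val (hEcomm g hg k hk hne x hx y hy).symm
  obtain ⟨t, ht, hform⟩ := exists_tens_form hd0 φ₀
  have ht0 : 0 < t := Nat.pos_of_ne_zero fun h => by
    rw [h, mul_zero] at ht; omega
  have hne10 : E g₁ ≠ E 1 := fun h => hne₁ (h.trans hE1)
  have hΦ1 : ∀ a, Φ 1 a = φ₀ a := fun a => cj_one _
  obtain ⟨P₁, hP₁⟩ := hform (Fintype.equivOfCardEq (by simp [ht]))
  obtain ⟨ψ₁, -⟩ := exists_second_factor hd0 _ P₁ φ₀ (Φ g₁) hP₁
    (fun X Y => by rw [← hΦ1]; exact hcom g₁ hg₁ 1 (one_mem G) hne10 X Y)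
  have : Nonempty (Fin t) := ⟨⟨0, ht0⟩⟩
  obtain ⟨t', ht', -⟩ := exists_tens_form hd0 ψ₁
  rw [Fintype.card_fin] at ht'
  have hdt : t = d := by
    rcases Nat.lt_or_ge t' 2 with h | h
    · rcases Nat.eq_zero_or_pos t' with h0 | h0
      · rw [h0, mul_zero] at ht'; omega
      · rw [← ht', show t' = 1 by omega, mul_one]
    · exfalso
      have h1 : d * (d * t') < 18 := by rw [ht', ht]; omega
      have h2 : 9 * 2 ≤ d * (d * t') := by rw [← mul_assoc]; exact Nat.mul_le_mul (Nat.mul_le_mul hd3 hd3) h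
      omega
  subst hdt
  refine ⟨t, hd3, ht, fun e₀ => ?_⟩
  set e : ι ≃ Fin t × Fin t := e₀.trans (finTwoArrowEquiv (Fin t)) with he
  obtain ⟨Q, hQ⟩ := hform e
  obtain ⟨ψ, hψ⟩ := exists_second_factor hd0 e Q φ₀ (Φ g₁) hQ
    (fun X Y => by rw [← hΦ1]; exact hcom g₁ hg₁ 1 (one_mem G) hne10 X Y)
  have hψs : Function.Surjective ψ := by
    have hψi : Function.Injective ψ.toLinearMap := fun a b h => hΦinj g₁ (by
      rw [hψ, hψ]; exact congrArg (fun Y => cj Q (tens e 1 Y)) h)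
    exact (LinearMap.injective_iff_surjective).mp hψi
  have hother : ∀ g ∈ G, E g = D ∨ E g = E g₁ := by
    intro g hg
    by_contra hcon
    simp only [not_or] at hcon
    obtain ⟨x, hx, hxs⟩ : ∃ x ∈ E g, x ∉ S := by
      obtain ⟨x, hx, hxs⟩ := hDns
      refine ⟨g * x * g⁻¹, ⟨x, hx, rfl⟩, fun hc => hxs ?_⟩
      have := (Geo.scalars_normal (ι := ι) (F := F)).conj_mem _ hc g⁻¹
      simpa [mul_assoc] using this
    obtain ⟨a, ha⟩ := hΦD g x hx
    obtain ⟨Y, hY⟩ := exists_eq_one_tens hd0 e (M := cj Q⁻¹ (x : Matrix ι ι F)) (fun X => by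
      have := congrArg (cj Q⁻¹) (hcom g hg 1 (one_mem G) (hE1.symm ▸ hcon.1) a X)
      rwa [map_mul, map_mul, hΦ1, hQ, cj_inv_cj, ha] at this)
    obtain ⟨c, hc⟩ := scalar_of_span (S := Set.univ) (Submodule.span_univ) Y (fun Z _ => by
      obtain ⟨b, rfl⟩ := hψs Z
      have := congrArg (cj Q⁻¹) (hcom g hg g₁ hg₁ hcon.2 a b)
      rw [map_mul, map_mul, hψ, cj_inv_cj, ha, hY, tens_mul, tens_mul, one_mul] at this
      exact tens_one_inj hd0 e this)
    refine hxs (smul_one_mem_scalars (c := c) ?_)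
    rw [← cj_cj_inv Q (x : Matrix ι ι F), hY, hc, tens_smul, tens_one, map_smul, map_one]
  have hA : ∀ X, (φ X : Matrix ι ι F) = cj Q (tens e X 1) := hQ
  refine ⟨Q, fun g hg => ?_⟩
  have hstab : ∀ h : GL ι F, h ∈ Geo.subalgebraNormalizer (alg D) → h ∈ Geo.tensorWreathSubgroup t 2 e₀ Q :=
    fun h hh => tensor_le_wreath e₀ Q (normAlg_tensor hd0 e Q φ hA (normAlg_subalgebraNormalizer _) hh)
  have hmap : ∀ h : GL ι F, ∀ X ∈ alg D, ∃ b, cj h X = Φ h b := fun h X hX =>
    ⟨φ.symm ⟨X, hX⟩, by simp [Φ, φ₀]⟩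
  have hEconj : ∀ h k : GL ι F, E (h * k) = (E k).map (MulAut.conj h).toMonoidHom := fun h k => by
    simp only [E, Subgroup.map_map]
    congr 1
    ext x
    simp [mul_assoc]
  rcases hother g hg with hgD | hgD
  · refine hstab g (mem_normalizer_of_cj (fun X hX => ?_) (fun X hX => ?_))
    · exact hgD ▸ cj_alg_map g hX
    · have hgi : E g⁻¹ = D := by
        rw [← hE1, ← inv_mul_cancel g, hEconj, hgD]
      exact hgi ▸ cj_alg_map g⁻¹ hX
  obtain ⟨s, hs, hswap, -⟩ := exists_swap e₀ Q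
  have hswap' : ∀ X Y, cj s⁻¹ (cj Q (tens e Y X)) = cj Q (tens e X Y) := fun X Y => by
    rw [← hswap, cj_inv_cj]
  suffices hmem : s⁻¹ * g ∈ Geo.subalgebraNormalizer (alg D) by
    rw [← mul_inv_cancel_left s g]
    exact mul_mem hs (hstab _ hmem)
  refine mem_normalizer_of_cj (fun X hX => ?_) (fun X hX => ?_)
  · have h1 : cj g X ∈ alg (E g₁) := hgD ▸ cj_alg_map g hX
    obtain ⟨b, hb⟩ : ∃ b, cj g X = Φ g₁ b := by
      obtain ⟨b, hb⟩ := hmap g₁ (cj g₁⁻¹ (cj g X)) (by
        have h2 := cj_alg_map g₁⁻¹ h1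
        rwa [← hEconj, inv_mul_cancel, hE1] at h2)
      exact ⟨b, by rw [← hb, cj_cj_inv]⟩
    rw [← cj_cj, hb, hψ, hswap', ← hA]
    exact (φ _).2
  · rw [_root_.mul_inv_rev, inv_inv, ← cj_cj]
    have hQX : X = cj Q (tens e (φ.symm ⟨X, hX⟩) 1) := by rw [← hA, AlgEquiv.apply_symm_apply]
    obtain ⟨b, hb⟩ := hψs (φ.symm ⟨X, hX⟩)
    rw [hQX, hswap, ← hb, ← hψ]
    have h1 := cj_alg_map g⁻¹ (hΦalg g₁ b)
    rwa [← hgD, ← hEconj, inv_mul_cancel, hE1] at h1

end Cfsg.Agent.Aschbacher
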