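/-
Aschbacher's theorem for GL_n(q), 3 ≤ n ≤ 17.
Main results: `decomp_card`, `aschbacher`.
-/
import Cfsg.Agent.Lib.Aschbacher.TensorInduced

set_option autoImplicit false

namespace Cfsg.Agent.Aschbacher

open Matrix
open scoped commutatorElement
open Cfsg.Agent.PrimeDim

variable {ι : Type} [Fintype ι] [DecidableEq ι] {F : Type*} [Field F]

theorem decomp_card {m t : ℕ} {D : Fin t → Submodule F (ι → F)} (hD : Geo.IsMDecomposition m D) :
    t * m = Fintype.card ι := by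
  classical
  have hint : DirectSum.IsInternal D :=
    DirectSum.isInternal_submodule_of_iSupIndep_of_iSup_eq_top hD.indep hD.iSup_eq_top
  let b := hint.collectedBasis fun i => Module.finBasis F (D i)
  have := Module.finrank_eq_card_basis b
  rw [Module.finrank_fintype_fun_eq_card, Fintype.card_sigma] at this
  simp only [Fintype.card_fin, hD.finrank_eq, Finset.sum_const, Finset.card_univ, smul_eq_mul] at this
  exact this.symm

theorem not_all_scalar {G : Subgroup (GL ι F)} (h2 : 2 ≤ Fintype.card ι)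
    (hirr : Geo.ActsIrreducibly (Geo.matrixSet G)) : ∃ x ∈ G, x ∉ Geo.scalars ι F := by
  classical
  have : Nonempty ι := Fintype.card_pos_iff.mp (by omega)
  by_contra hc
  obtain ⟨i⟩ := ‹Nonempty ι›
  obtain ⟨j, hj⟩ := Fintype.exists_ne_of_one_lt_card (by omega : 1 < Fintype.card ι) i
  rcases hirr (Submodule.span F {(Pi.single i 1 : ι → F)}) (by
    rintro _ ⟨h, hh, rfl⟩
    rw [mapsTo_iff_mulVec]
    intro w hw
    obtain ⟨c, hc'⟩ := (Geo.mem_scalars_iff _).mp (by_contra fun hh' => hc ⟨h, hh, hh'⟩)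
    show (h : Matrix ι ι F) *ᵥ w ∈ _
    rw [hc', Matrix.smul_mulVec, Matrix.one_mulVec]
    exact Submodule.smul_mem _ _ hw) with h | h
  · exact absurd (Submodule.span_singleton_eq_bot.mp h) (by simp)
  · obtain ⟨c, hc'⟩ := Submodule.mem_span_singleton.mp (h ▸ Submodule.mem_top : (Pi.single j 1 : ι → F) ∈ _)
    simpa [hj] using congrFun hc' j

theorem normBy_self (G : Subgroup (GL ι F)) : NormBy G G :=
  fun _ hg _ hx => mul_mem (mul_mem hg hx) (inv_mem hg)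

theorem commutator_sup_scalars_le (H : Subgroup (GL ι F)) :
    ⁅H ⊔ Geo.scalars ι F, H ⊔ Geo.scalars ι F⁆ ≤ H := by
  rw [Subgroup.commutator_le]
  intro a ha b hb
  obtain ⟨m, hm, z, hz, rfl⟩ := Subgroup.mem_sup_of_normal_right.mp ha
  obtain ⟨m', hm', z', hz', rfl⟩ := Subgroup.mem_sup_of_normal_right.mp hb
  rw [commutator_mul_scalar hz hz' m m', commutatorElement_def]
  exact mul_mem (mul_mem (mul_mem hm hm') (inv_mem hm)) (inv_mem hm')

theorem le_subgroupNormalizer {G R : Subgroup (GL ι F)} (h : NormBy G R) : G ≤ Geo.subgroupNormalizer R :=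
  fun g hg => Subgroup.mem_normalizer_iff.mpr fun x => ⟨h g hg x, fun hx => by
    have := h g⁻¹ (inv_mem hg) _ hx
    simpa [mul_assoc] using this⟩

/-- Aschbacher's theorem for GL_n(q), 3 ≤ n ≤ 17. -/
theorem aschbacher [Fintype F] (hι : 3 ≤ Fintype.card ι) (hι' : Fintype.card ι < 18) (H : Subgroup (GL ι F)) :
    (∃ W : Submodule F (ι → F), W ≠ ⊥ ∧ W ≠ ⊤ ∧ H ≤ Geo.subspaceStabilizer W) ∨
    (∃ (m t : ℕ) (D : Fin t → Submodule F (ι → F)), t * m = Fintype.card ι ∧ Geo.IsMDecomposition m D ∧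
      H ≤ Geo.decompositionStabilizer D) ∨
    (∃ (r : ℕ) (K : Subalgebra F (Matrix ι ι F)), r.Prime ∧ r ∣ Fintype.card ι ∧ Geo.IsFieldSubalgebra r K ∧
      H ≤ Geo.subalgebraNormalizer K) ∨
    (NoField H ∧ ∃ d t : ℕ, 2 ≤ d ∧ 2 ≤ t ∧ Tensor H d t) ∨
    FormOutcome H ∨
    (∃ d, Wreath H d) ∨
    SubfieldOutcome H ∨
    (∃ (r : ℕ) (R : Subgroup (GL ι F)) (m : ℕ), 1 ≤ m ∧ Fintype.card ι = r ^ m ∧
      Geo.IsLinearSymplecticTypeData r R ∧ H ≤ Geo.subgroupNormalizer R) ∨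
    Geo.InLinearResidualClass H := by
  classical
  have : Nonempty ι := Fintype.card_pos_iff.mp (by omega)
  have : Finite (Matrix ι ι F) := inferInstanceAs (Finite (ι → ι → F))
  have : Finite (GL ι F) := Finite.of_injective Units.val Units.val_injective
  by_cases hirr : Geo.ActsIrreducibly (Geo.matrixSet H)
  swap
  · left
    simp only [Geo.ActsIrreducibly, not_forall, not_or] at hirr
    obtain ⟨W, hW, hb, ht⟩ := hirr
    refine ⟨W, hb, ht, fun g hg v => ?_⟩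
    have key : ∀ g ∈ H, ∀ w ∈ W, (g : Matrix ι ι F) *ᵥ w ∈ W :=
      fun g hg => (mapsTo_iff_mulVec _ W).mp (hW _ (mem_matrixSet hg))
    refine ⟨key g hg v, fun hv => ?_⟩
    have := key g⁻¹ (inv_mem hg) _ hv
    simpa [Matrix.mulVec_mulVec] using this
  right
  by_cases hprim : Primitive H
  swap
  · left
    simp only [Primitive, not_forall, not_not, exists_prop] at hprim
    obtain ⟨m, t, D, hD, hle⟩ := hprim
    exact ⟨m, t, D, decomp_card hD, hD, hle⟩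
  right
  by_cases hnf : NoField H
  swap
  · left
    simp only [NoField, not_forall, not_not, exists_prop] at hnf
    exact hnf
  right
  by_cases hT : ∃ d t : ℕ, 2 ≤ d ∧ 2 ≤ t ∧ Tensor H d t
  · exact Or.inl ⟨hnf, hT⟩
  right
  set G := H ⊔ Geo.scalars ι F with hG'
  have hHG : H ≤ G := le_sup_left
  have hG : Good G := by
    refine good_of_primitive le_sup_right (fun W hW => hirr W fun s hs => ?_)
      (fun m t D hD h => hprim m t D hD (hHG.trans h))
      (fun r K hr hd hK h => hnf r K hr hd hK (hHG.trans h))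
      (fun d t hd ht h => hT ⟨d, t, hd, ht, h.1, fun e => ?_⟩)
    · obtain ⟨x, hx, rfl⟩ := hs
      exact hW _ (mem_matrixSet (hHG hx))
    · obtain ⟨P, hP⟩ := h.2 e
      exact ⟨P, hHG.trans hP⟩
  have form_mono : FormOutcome G → FormOutcome H := by
    rintro (⟨f, hf, h⟩ | ⟨ho, Q, hQ, h⟩ | ⟨σ, f, hf, h⟩)
    · exact Or.inl ⟨f, hf, hHG.trans h⟩
    · exact Or.inr (Or.inl ⟨ho, Q, hQ, hHG.trans h⟩)
    · exact Or.inr (Or.inr ⟨σ, f, hf, hHG.trans h⟩)
  have sub_mono : SubfieldOutcome G → SubfieldOutcome H := fun ⟨F₀, r, P, hr, hc, hne, h⟩ =>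
    ⟨F₀, r, P, hr, hc, hne, hHG.trans h⟩
  obtain ⟨x₀, hx₀, hx₀s⟩ := not_all_scalar (by omega) hG.irr
  have hex : ∃ k, ∃ N : Subgroup (GL ι F),
      (N ≤ G ∧ NormBy G N ∧ Geo.scalars ι F ≤ N ∧ ∃ x ∈ N, x ∉ Geo.scalars ι F) ∧ Nat.card N = k :=
    ⟨_, G, ⟨le_rfl, normBy_self G, le_sup_right, x₀, hx₀, hx₀s⟩, rfl⟩
  obtain ⟨N, ⟨hNle, hNn, hSN, hNs⟩, hNk⟩ := Nat.find_spec hex
  have hmin : ∀ M ≤ N, NormBy G M → Geo.scalars ι F ≤ M → (∃ x ∈ M, x ∉ Geo.scalars ι F) → M = N :=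
    fun M h1 h2 h3 h4 =>
      Subgroup.eq_of_le_of_card_ge h1 (hNk ▸ Nat.find_min' hex ⟨M, ⟨h1.trans hNle, h2, h3, h4⟩, rfl⟩)
  by_cases hc : ∀ x ∈ N, ∀ y ∈ N, ⁅x, y⁆ ∈ Geo.scalars ι F
  · rcases classTwo_outcome hι ⟨hG, hNle, hNn, hSN, hNs, hmin, hc⟩ with h | h | ⟨r, R, m, h1, h2, h3, h4⟩
    · exact Or.inl (form_mono h)
    · exact Or.inr (Or.inr (Or.inl (sub_mono h)))
    · exact Or.inr (Or.inr (Or.inr (Or.inl ⟨r, R, m, h1, h2, h3, hHG.trans (le_subgroupNormalizer h4)⟩)))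
  simp only [not_forall, exists_prop] at hc
  rcases perfect_outcome (by omega) hι' hG hNle hNn hSN hmin hc with h | ⟨d, hd3, hd, h⟩ | ⟨P, hP⟩
  · exact Or.inl (form_mono (h.formOutcome (by omega)))
  · exact Or.inr (Or.inl ⟨d, hd3, hd, fun e => let ⟨P, hP⟩ := h e; ⟨P, hHG.trans hP⟩⟩)
  have hPH : P ≤ H := by
    rw [← hP.perfect]
    exact (Subgroup.commutator_mono hP.le hP.le).trans (commutator_sup_scalars_le H)
  have hPn : NormBy G P := hP.normal
  have hPnH : NormBy H P := fun h hh => hPn h (hHG hh)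
  by_cases hsub : ∃ F₀ : Subfield F, F₀ ≠ ⊤ ∧ Geo.RealisableOver F₀ (Geo.matrixSet P)
  · obtain ⟨F₀, hF₀, hr⟩ := hsub
    exact Or.inr (Or.inr (Or.inl (subfield_of_realisable hP.span_eq hPnH hF₀ hr)))
  have hcore : Geo.IsResidualCore H P :=
    ⟨hPH, hPnH, hP.perfect, hP.simple, hP.nonabelian, fun h hh => hP.centralizer_scalar h (hHG hh),
      hP.absIrred, fun F₀ hF₀ hr => hsub ⟨F₀, hF₀, hr⟩⟩
  by_cases hq : ∃ Q : (ι → F) → F, Geo.IsNondegenerateQuadraticForm Q ∧ Geo.FixesQuadForm (Geo.matrixSet P) Q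
  · obtain ⟨Q, hQ, hfix⟩ := hq
    exact Or.inl (formOutcome_of_trace (by omega) hP.span_eq hPnH (RingEquiv.refl F) (fun _ => rfl)
      (trace_inv_of_quad hQ hfix))
  by_cases hs : ∃ f : (ι → F) → (ι → F) → F, Geo.IsSymplecticForm f ∧ Geo.FixesForm (Geo.matrixSet P) f
  · obtain ⟨f, hf, hfix⟩ := hs
    exact Or.inl (formOutcome_of_trace (by omega) hP.span_eq hPnH (RingEquiv.refl F) (fun _ => rfl)
      (trace_inv_of_symplectic hf hfix))
  by_cases hu : ∃ (σ : F ≃+* F) (f : (ι → F) → (ι → F) → F),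
      Geo.IsUnitaryForm σ f ∧ Geo.FixesForm (Geo.matrixSet P) f
  · obtain ⟨σ, f, hf, hfix⟩ := hu
    exact Or.inl (formOutcome_of_trace (by omega) hP.span_eq hPnH σ hf.involutive (trace_inv_of_unitary hf hfix))
  exact Or.inr (Or.inr (Or.inr (Or.inr ⟨P, hcore, hq, hs, hu⟩)))

end Cfsg.Agent.Aschbacher
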