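/-
Clifford theory for a group of similarities: classes 2, 3 and 4 with their forms.
Main results: `FDecomp`, `FField`, `FTensor`, `form_clifford`.
-/
import Cfsg.Agent.Lib.Aschbacher.FormAdj
import Cfsg.Agent.Lib.Aschbacher.Master
import Cfsg.Agent.Lib.PrimeDim.Forms

set_option autoImplicit false

namespace Cfsg.Agent.Aschbacher

open Matrix
open scoped Kronecker
open Cfsg.Agent.PrimeDim

variable {ι : Type} [Fintype ι] [DecidableEq ι] {F : Type*} [Field F]

/-- An orthogonal decomposition, or a pair of totally singular complements, is preserved. -/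
def FDecomp (σ : F →+* F) (Φ : Matrix ι ι F) (G : Subgroup (GL ι F)) : Prop :=
  ∃ (m t : ℕ) (D : Fin t → Submodule F (ι → F)), t * m = Fintype.card ι ∧
    G ≤ Geo.decompositionStabilizer D ∧
    (Geo.IsNondegenerateMDecomposition (Geo.formOfGram σ Φ) m D ∨
      (t = 2 ∧ Geo.IsMDecomposition m D ∧ ∀ i, Geo.IsTotallySingularFor (Geo.formOfGram σ Φ) (D i)))

/-- An adjoint-closed field of prime degree is normalised. -/
def FField (σ : F →+* F) (Φ : Matrix ι ι F) (G : Subgroup (GL ι F)) : Prop :=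
  ∃ (r : ℕ) (K : Subalgebra F (Matrix ι ι F)), r.Prime ∧ r ∣ Fintype.card ι ∧ Geo.IsFieldSubalgebra r K ∧
    (∀ k ∈ K, adj σ Φ k ∈ K) ∧ G ≤ Geo.subalgebraNormalizer K

/-- Tensor decompositions of the form are preserved, for every indexing. -/
def FTensor (σ : F →+* F) (Φ : Matrix ι ι F) (G : Subgroup (GL ι F)) (d t : ℕ) : Prop :=
  d * t = Fintype.card ι ∧ ∀ e : ι ≃ Fin d × Fin t, ∃ (P : GL ι F) (G1 : Matrix (Fin d) (Fin d) F)
    (G2 : Matrix (Fin t) (Fin t) F), G ≤ Geo.tensorProductSubgroup d t e P ∧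
    (P : Matrix ι ι F)ᵀ * Φ * (P : Matrix ι ι F).map σ = tens e G1 G2 ∧
    Herm σ G1 ∧ Herm σ G2

variable {σ : F →+* F} {Φ : Matrix ι ι F} {G : Subgroup (GL ι F)}

theorem tens_map (σ : F →+* F) {d t : ℕ} (e : ι ≃ Fin d × Fin t) (X : Matrix (Fin d) (Fin d) F)
    (Y : Matrix (Fin t) (Fin t) F) : (tens e X Y).map σ = tens e (X.map σ) (Y.map σ) := by
  ext a b; simp [tens_apply]

theorem tens_transpose {d t : ℕ} (e : ι ≃ Fin d × Fin t) (X : Matrix (Fin d) (Fin d) F)
    (Y : Matrix (Fin t) (Fin t) F) : (tens e X Y)ᵀ = tens e Xᵀ Yᵀ := by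
  ext a b; simp [tens_apply]

theorem tens_smul_left {d t : ℕ} (e : ι ≃ Fin d × Fin t) (c : F) (X : Matrix (Fin d) (Fin d) F)
    (Y : Matrix (Fin t) (Fin t) F) : tens e (c • X) Y = c • tens e X Y := by
  ext a b; simp [tens_apply, mul_assoc]

theorem tens_prodComm {d t : ℕ} (e : ι ≃ Fin d × Fin t) (X : Matrix (Fin d) (Fin d) F)
    (Y : Matrix (Fin t) (Fin t) F) : tens (e.trans (Equiv.prodComm _ _)) Y X = tens e X Y := by
  ext a b; simp [tens_apply, mul_comm]

theorem tens_cancel {d t : ℕ} (e : ι ≃ Fin d × Fin t) {X X' : Matrix (Fin d) (Fin d) F}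
    {Y Y' : Matrix (Fin t) (Fin t) F} (h : tens e X Y = tens e X' Y') (hX : X ≠ 0) (hY : Y ≠ 0) :
    ∃ c : F, c ≠ 0 ∧ X' = c • X ∧ Y = c • Y' := by
  obtain ⟨k, l, hkl⟩ : ∃ k l, Y k l ≠ 0 := by
    by_contra hc
    simp only [not_exists, not_not] at hc
    exact hY (Matrix.ext hc)
  obtain ⟨i, j, hij⟩ : ∃ i j, X i j ≠ 0 := by
    by_contra hc
    simp only [not_exists, not_not] at hc
    exact hX (Matrix.ext hc)
  have key : ∀ i j k l, X i j * Y k l = X' i j * Y' k l := by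
    intro i j k l
    have := congrFun (congrFun h (e.symm (i, k))) (e.symm (j, l))
    simpa [tens_apply] using this
  have hX' : X' i j ≠ 0 := fun h0 => mul_ne_zero hij hkl (by rw [key, h0, zero_mul])
  have hY' : Y' k l ≠ 0 := fun h0 => mul_ne_zero hij hkl (by rw [key, h0, mul_zero])
  refine ⟨Y k l / Y' k l, div_ne_zero hkl hY', ?_, ?_⟩
  · ext a b
    rw [Matrix.smul_apply, smul_eq_mul, div_mul_eq_mul_div, eq_div_iff hY', ← key a b k l, mul_comm]
  · ext a b
    rw [Matrix.smul_apply, smul_eq_mul, div_mul_eq_mul_div, eq_div_iff hY']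
    have h1 := key i j a b
    have h2 := key i j k l
    refine mul_left_cancel₀ (mul_ne_zero hij hX') ?_
    linear_combination (X' i j * Y' k l) * h1 - (X' i j * Y' a b) * h2

theorem det_tens {d t : ℕ} (e : ι ≃ Fin d × Fin t) (X : Matrix (Fin d) (Fin d) F)
    (Y : Matrix (Fin t) (Fin t) F) : (tens e X Y).det = X.det ^ t * Y.det ^ d := by
  rw [tens, Matrix.det_reindexAlgEquiv, Matrix.det_kronecker, Fintype.card_fin, Fintype.card_fin]

theorem FTensor.swap {d t : ℕ} (h : FTensor σ Φ G d t) : FTensor σ Φ G t d := by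
  refine ⟨by rw [mul_comm]; exact h.1, fun e => ?_⟩
  obtain ⟨P, G1, G2, hle, heq, h1, h2⟩ := h.2 (e.trans (Equiv.prodComm _ _))
  refine ⟨P, G2, G1, by rwa [tensorProductSubgroup_swap e P], ?_, h2, h1⟩
  rw [heq]
  exact tens_prodComm e G2 G1

/-- An adjoint-closed embedded matrix algebra splits the form. -/
theorem tensor_gram (h : Herm σ Φ) {d t : ℕ} (hd : 0 < d) (ht : 0 < t) (e : ι ≃ Fin d × Fin t) (P : GL ι F)
    {A : Subalgebra F (Matrix ι ι F)} (φ : Matrix (Fin d) (Fin d) F ≃ₐ[F] A)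
    (hφ : ∀ X, (φ X : Matrix ι ι F) = cj P (tens e X 1)) (hadj : ∀ x ∈ A, adj σ Φ x ∈ A) :
    ∃ (G1 : Matrix (Fin d) (Fin d) F) (G2 : Matrix (Fin t) (Fin t) F),
      (P : Matrix ι ι F)ᵀ * Φ * (P : Matrix ι ι F).map σ = tens e G1 G2 ∧ Herm σ G1 ∧ Herm σ G2 := by
  classical
  have : Nonempty (Fin d) := ⟨⟨0, hd⟩⟩
  have : Nonempty (Fin t) := ⟨⟨0, ht⟩⟩
  set Ψ := (P : Matrix ι ι F)ᵀ * Φ * (P : Matrix ι ι F).map σ with hΨdef
  let θ : Matrix (Fin d) (Fin d) F → Matrix (Fin d) (Fin d) F := fun X =>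
    φ.symm ⟨adj σ Φ (φ X : Matrix ι ι F), hadj _ (φ X).2⟩
  have hθ : ∀ X, (φ (θ X) : Matrix ι ι F) = adj σ Φ (φ X : Matrix ι ι F) := fun X => by simp [θ]
  have hinj : ∀ X X', (φ X : Matrix ι ι F) = φ X' → X = X' := fun X X' hXX => φ.injective (Subtype.ext hXX)
  have hθm : ∀ X X', θ (X * X') = θ X' * θ X := fun X X' => hinj _ _ (by
    rw [hθ, map_mul, Subalgebra.coe_mul, adj_mul h, map_mul, Subalgebra.coe_mul, hθ, hθ])
  have hθa : ∀ X X', θ (X + X') = θ X + θ X' := fun X X' => hinj _ _ (by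
    rw [hθ, map_add, Subalgebra.coe_add, adj_add, map_add, Subalgebra.coe_add, hθ, hθ])
  have hθs : ∀ c : F, θ (c • 1) = σ c • 1 := fun c => hinj _ _ (by
    rw [hθ]
    simp [adj_smul, adj_one h])
  -- the transfer through `Ψ`
  have hdet : IsUnit Ψ.det := by
    rw [hΨdef, Matrix.det_mul, Matrix.det_mul, Matrix.det_transpose]
    exact ((Matrix.isUnit_iff_isUnit_det _).mp P.isUnit).mul h.det |>.mul (isUnit_det_map σ P)
  have hψΨ : ∀ X : Matrix (Fin d) (Fin d) F, (tens e X (1 : Matrix (Fin t) (Fin t) F))ᵀ * Ψ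
      = Ψ * (tens e (θ X) 1).map σ := by
    intro X
    have h1 : (φ X : Matrix ι ι F) * P = P * tens e X 1 := by
      rw [hφ, cj_apply, mul_assoc, Units.inv_mul, mul_one]
    have h2 : (φ (θ X) : Matrix ι ι F) * P = P * tens e (θ X) 1 := by
      rw [hφ, cj_apply, mul_assoc, Units.inv_mul, mul_one]
    calc (tens e X (1 : Matrix (Fin t) (Fin t) F))ᵀ * Ψ
        = ((P : Matrix ι ι F) * tens e X 1)ᵀ * Φ * (P : Matrix ι ι F).map σ := by
          simp [hΨdef, Matrix.transpose_mul, mul_assoc]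
      _ = (P : Matrix ι ι F)ᵀ * (Φ * (φ (θ X) : Matrix ι ι F).map σ) * (P : Matrix ι ι F).map σ := by
          rw [← h1, hθ, h.mul_adj_map]; simp [Matrix.transpose_mul, mul_assoc]
      _ = (P : Matrix ι ι F)ᵀ * Φ * ((φ (θ X) : Matrix ι ι F) * P).map σ := by
          rw [Matrix.map_mul]; simp [mul_assoc]
      _ = Ψ * (tens e (θ X) 1).map σ := by
          rw [h2, Matrix.map_mul]; simp [hΨdef, mul_assoc]
  let ψ : Matrix (Fin d) (Fin d) F →+* Matrix (Fin d) (Fin d) F :=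
    { toFun := fun X => (θ Xᵀ).map σ
      map_one' := by
        have := hθs 1
        rw [one_smul, map_one, one_smul] at this
        rw [Matrix.transpose_one, this, Matrix.map_one _ (map_zero _) (map_one _)]
      map_mul' := fun X Y => by rw [Matrix.transpose_mul, hθm, Matrix.map_mul]
      map_zero' := by
        have := hθs 0
        rw [zero_smul, map_zero, zero_smul] at this
        rw [Matrix.transpose_zero, this, Matrix.map_zero _ (map_zero _)]
      map_add' := fun X Y => by rw [Matrix.transpose_add, hθa, Matrix.map_add _ (map_add σ)] }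
  obtain ⟨a, ha⟩ := exists_conj (RingHom.id F) ψ (fun c => by
    show (θ (c • (1 : Matrix (Fin d) (Fin d) F))ᵀ).map σ = _
    rw [Matrix.transpose_smul, Matrix.transpose_one, hθs, map_smul', Matrix.map_one _ (map_zero _) (map_one _),
      h.invol]
    rfl)
  set â : Matrix ι ι F := tens e (a : Matrix (Fin d) (Fin d) F) (1 : Matrix (Fin t) (Fin t) F) with hâ
  have hcomm : ∀ X, Ψ * â * tens e X 1 = tens e X 1 * (Ψ * â) := by
    intro X
    have h1 := hψΨ Xᵀ
    rw [tens_transpose, Matrix.transpose_transpose, Matrix.transpose_one, tens_map,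
      Matrix.map_one _ (map_zero _) (map_one _), show (θ Xᵀ).map σ = ψ X from rfl, ha X] at h1
    rw [← mul_assoc (tens e X 1), h1, hâ, mul_assoc Ψ, mul_assoc Ψ, tens_mul, tens_mul]
    simp [cj_apply, mul_assoc]
  obtain ⟨Y, hY⟩ := exists_eq_one_tens hd e hcomm
  have hΨ : Ψ = tens e ((a⁻¹ : GL (Fin d) F) : Matrix (Fin d) (Fin d) F) Y := by
    have h1 := congrArg (· * tens e ((a⁻¹ : GL (Fin d) F) : Matrix (Fin d) (Fin d) F)
      (1 : Matrix (Fin t) (Fin t) F)) hY
    simpa [hâ, mul_assoc, tens_mul, tens_one] using h1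
  set G1 : Matrix (Fin d) (Fin d) F := ((a⁻¹ : GL (Fin d) F) : Matrix (Fin d) (Fin d) F) with hG1
  have hd1 : IsUnit G1.det := (Matrix.isUnit_iff_isUnit_det _).mp (a⁻¹).isUnit
  have hd2 : IsUnit Y.det := by
    rw [hΨ, det_tens] at hdet
    exact (isUnit_pow_iff hd.ne').mp (isUnit_of_mul_isUnit_right hdet)
  obtain ⟨ε, hε, hsym⟩ := h.symm
  have hsΨ : (Ψ.map σ)ᵀ = ε • Ψ := by
    rw [hΨdef, Matrix.map_mul, Matrix.map_mul, h.map_map, Matrix.transpose_mul, Matrix.transpose_mul, hsym,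
      ← Matrix.transpose_map, Matrix.transpose_transpose]
    simp [mul_assoc]
  rw [hΨ, tens_map, tens_transpose, ← tens_smul_left] at hsΨ
  have hne0 : ∀ {k : ℕ} {Z : Matrix (Fin k) (Fin k) F}, 0 < k → IsUnit Z.det → Z ≠ 0 := by
    intro k Z hk hZ h0
    have : Nonempty (Fin k) := ⟨⟨0, hk⟩⟩
    rw [h0, Matrix.det_zero] at hZ
    exact not_isUnit_zero hZ
  have hu1 : IsUnit (G1.map σ)ᵀ.det := by
    rw [Matrix.det_transpose, ← RingHom.mapMatrix_apply, ← RingHom.map_det]; exact hd1.map σ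
  have hu2 : IsUnit (Y.map σ)ᵀ.det := by
    rw [Matrix.det_transpose, ← RingHom.mapMatrix_apply, ← RingHom.map_det]; exact hd2.map σ
  obtain ⟨c, hc, hc1, hc2⟩ := tens_cancel e hsΨ (hne0 hd hu1) (hne0 ht hu2)
  refine ⟨G1, Y, hΨ, ⟨h.invol, hd1, c⁻¹ * ε, mul_ne_zero (inv_ne_zero hc) hε, ?_⟩,
    ⟨h.invol, hd2, c, hc, hc2⟩⟩
  rw [← smul_smul, hc1, smul_smul, inv_mul_cancel₀ hc, one_smul]

theorem Idems.eq_of_eq {C : Subalgebra F (Matrix ι ι F)} {m t : ℕ}
    {e : Fin t → Matrix ι ι F} (he : Idems G C m e) (i j : Fin t) (hij : e i = e j) : i = j := by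
  by_contra hne
  have h0 := he.ortho i j hne
  rw [← hij, he.idem] at h0
  exact he.ne_zero i h0

/-- The adjoint permutes the primitive idempotents of an adjoint-closed algebra. -/
theorem Idems.exists_perm (h : Herm σ Φ) {C : Subalgebra F (Matrix ι ι F)}
    (hadj : ∀ x ∈ C, adj σ Φ x ∈ C) {m t : ℕ}
    {e : Fin t → Matrix ι ι F} (he : Idems G C m e) :
    ∃ π : Fin t → Fin t, (∀ i, π (π i) = i) ∧ ∀ i, adj σ Φ (e i) = e (π i) := by
  have hidem : ∀ i, adj σ Φ (e i) * adj σ Φ (e i) = adj σ Φ (e i) := fun i => by rw [← adj_mul h, he.idem]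
  have hne : ∀ i, adj σ Φ (e i) ≠ 0 := fun i h0 => he.ne_zero i (by rw [← adj_adj h (e i), h0, adj_zero])
  have hex : ∀ i, ∃ j, adj σ Φ (e i) = e j := by
    intro i
    obtain ⟨j, hj⟩ : ∃ j, adj σ Φ (e i) * e j ≠ 0 := by
      by_contra hc
      simp only [not_exists, not_not] at hc
      refine hne i ?_
      rw [← mul_one (adj σ Φ (e i)), ← he.sum_eq, Finset.mul_sum]
      exact Finset.sum_eq_zero fun k _ => hc k
    have h1 := (he.atom j _ (hadj _ (he.mem i)) (hidem i)).resolve_left hj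
    have h2 : adj σ Φ (e j) * e i = adj σ Φ (e j) := by
      have := congrArg (adj σ Φ) h1
      rwa [adj_mul h, adj_adj h] at this
    have h3 : adj σ Φ (e j) * e i ≠ 0 := fun h0 => hne j (h2.symm.trans h0)
    have h4 := (he.atom i _ (hadj _ (he.mem j)) (hidem j)).resolve_left h3
    exact ⟨j, by rw [show e i = adj σ Φ (e j) from h4.symm.trans h2, adj_adj h]⟩
  choose π hπ using hex
  exact ⟨π, fun i => he.eq_of_eq _ _ (by rw [← hπ, ← hπ, adj_adj h]), hπ⟩

/-- Self-adjoint idempotents give an orthogonal decomposition. -/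
theorem Idems.nondegenerate (h : Herm σ Φ) {C : Subalgebra F (Matrix ι ι F)} {m t : ℕ}
    {e : Fin t → Matrix ι ι F} (he : Idems G C m e) (hfix : ∀ i, adj σ Φ (e i) = e i) :
    Geo.IsNondegenerateMDecomposition (Geo.formOfGram σ Φ) m fun i => LinearMap.range (Matrix.toLin' (e i)) := by
  refine ⟨he.decomp, fun i w hw hw0 => ?_, fun i j hij => ?_⟩
  · have hew : e i *ᵥ w = w := by
      obtain ⟨y, rfl⟩ := hw
      simp [Matrix.mulVec_mulVec, he.idem]
    obtain ⟨⟨x, hx⟩, ⟨y, hy⟩⟩ := formOfGram_nondegenerate σ h.det w hw0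
    refine ⟨⟨e i *ᵥ x, ⟨x, rfl⟩, ?_⟩, ⟨e i *ᵥ y, ⟨y, rfl⟩, ?_⟩⟩
    · rw [form_adj h, hfix, hew]; exact hx
    · rw [← hfix i, ← form_adj h, hew]; exact hy
  · rintro _ ⟨u, rfl⟩ _ ⟨v, rfl⟩
    simp only [Matrix.toLin'_apply]
    rw [form_adj h, hfix, Matrix.mulVec_mulVec, he.ortho i j hij, Matrix.zero_mulVec, formOfGram_eq]
    simp [Matrix.mulVec, dotProduct]

/-- A commutative adjoint-closed non-field algebra gives a decomposition respecting the form. -/
theorem decomp_of_idems [Finite F] [Nonempty ι] (h : Herm σ Φ) (hG : Sim σ Φ G)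
    (hirr : Geo.ActsIrreducibly (Geo.matrixSet G)) {C : Subalgebra F (Matrix ι ι F)}
    (hcC : ∀ x ∈ C, ∀ y ∈ C, x * y = y * x) (hadj : ∀ x ∈ C, adj σ Φ x ∈ C) {m t : ℕ}
    {e : Fin t → Matrix ι ι F} (he : Idems G C m e) : FDecomp σ Φ G := by
  classical
  obtain ⟨π, hππ, hπ⟩ := he.exists_perm h hadj
  by_cases hfix : ∀ i, π i = i
  · exact ⟨m, t, _, decomp_card he.decomp, he.le_stab,
      Or.inl (he.nondegenerate h fun i => by rw [hπ, hfix])⟩
  simp only [not_forall] at hfix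
  obtain ⟨i₀, hi₀⟩ := hfix
  have hperm : ∀ g ∈ G, ∀ i j, cj g (e i) = e j → cj g (e (π i)) = e (π j) := fun g hg i j hij => by
    rw [← hπ, ← hπ, ← adj_cj h hG hg, hij]
  have hnone : ∀ i, π i ≠ i := by
    intro i hi
    obtain ⟨g, hg, hgi⟩ := he.trans i i₀
    have h1 := hperm g hg i i₀ hgi
    rw [hi, hgi] at h1
    exact hi₀ (he.eq_of_eq _ _ h1.symm)
  by_cases ht2 : t = 2
  · refine ⟨m, t, _, decomp_card he.decomp, he.le_stab, Or.inr ⟨ht2, he.decomp, fun i => ?_⟩⟩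
    rintro _ ⟨u, rfl⟩ _ ⟨v, rfl⟩
    simp only [Matrix.toLin'_apply]
    rw [form_adj h, hπ, Matrix.mulVec_mulVec, he.ortho _ _ (hnone i), Matrix.zero_mulVec, formOfGram_eq]
    simp [Matrix.mulVec, dotProduct]
  -- otherwise group the idempotents in pairs
  let f : Fin t → Matrix ι ι F := fun i => e i + e (π i)
  let C' : Subalgebra F (Matrix ι ι F) := Algebra.adjoin F (Set.range f)
  have hC'C : C' ≤ C := Algebra.adjoin_le (by rintro _ ⟨i, rfl⟩; exact add_mem (he.mem _) (he.mem _))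
  have hcC' : ∀ x ∈ C', ∀ y ∈ C', x * y = y * x := fun x hx y hy => hcC x (hC'C hx) y (hC'C hy)
  have hfC' : ∀ i, f i ∈ C' := fun i => Algebra.subset_adjoin ⟨i, rfl⟩
  have hfπ : ∀ i, f (π i) = f i := fun i => by
    show e (π i) + e (π (π i)) = e i + e (π i)
    rw [hππ, add_comm]
  have hff : ∀ i j, j ≠ i → j ≠ π i → f i * f j = 0 := by
    intro i j h1 h2
    show (e i + e (π i)) * (e j + e (π j)) = 0
    rw [add_mul, mul_add, mul_add, he.ortho i j (Ne.symm h1),
      he.ortho i (π j) (fun hh => h2 (by rw [hh, hππ])), he.ortho (π i) j (Ne.symm h2),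
      he.ortho (π i) (π j) (fun hh => h1 (by rw [← hππ j, ← hh, hππ]))]
    simp
  have hfi : ∀ i, f i * f i = f i := fun i => by
    show (e i + e (π i)) * (e i + e (π i)) = e i + e (π i)
    rw [add_mul, mul_add, mul_add, he.idem, he.idem, he.ortho _ _ (hnone i),
      he.ortho i (π i) (Ne.symm (hnone i))]
    simp
  have hf0 : ∀ i, f i ≠ 0 := fun i h0 => he.ne_zero i (by
    have h1 := congrArg (e i * ·) h0
    simpa [f, mul_add, he.idem, he.ortho i (π i) (Ne.symm (hnone i))] using h1)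
  have hnC' : NormAlg G C' := by
    intro g hg x hx
    induction hx using Algebra.adjoin_induction with
    | mem y hy =>
      obtain ⟨i, rfl⟩ := hy
      obtain ⟨j, hj⟩ := he.perm g hg i
      rw [show cj g (f i) = f j by simp [f, hj, hperm g hg i j hj]]
      exact hfC' j
    | algebraMap r => rw [AlgHom.commutes]; exact Subalgebra.algebraMap_mem _ r
    | add a b _ _ ha hb => rw [map_add]; exact add_mem ha hb
    | mul a b _ _ ha hb => rw [map_mul]; exact mul_mem ha hb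
  rcases field_or_idems hirr hnC' hcC' with hfield | ⟨m', t', e', he'⟩
  · exfalso
    obtain ⟨k, hk1, hk2⟩ : ∃ k, k ≠ i₀ ∧ k ≠ π i₀ := by
      by_contra hc
      simp only [not_exists, not_and, not_not] at hc
      have hsub : (Finset.univ : Finset (Fin t)) ⊆ {i₀, π i₀} := fun x _ => by
        by_cases hx : x = i₀
        · simp [hx]
        · simp [hc x hx]
      have := Finset.card_le_card hsub
      simp [Finset.card_pair (Ne.symm (hnone i₀))] at this
      have := he.decomp.two_le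
      omega
    obtain ⟨y, hy, hfy⟩ := hfield _ (hfC' i₀) (hf0 i₀)
    have h1 : f i₀ * f k * y = f k := by
      rw [hcC' _ (hfC' i₀) _ (hfC' k), mul_assoc, hfy, mul_one]
    rw [hff i₀ k hk1 hk2, zero_mul] at h1
    exact hf0 k h1.symm
  have hscal : ∀ x ∈ C', ∀ j, ∃ c : F, x * f j = c • f j := by
    intro x hx
    induction hx using Algebra.adjoin_induction with
    | mem y hy =>
      obtain ⟨i, rfl⟩ := hy
      intro j
      by_cases h1 : j = i
      · exact ⟨1, by rw [h1, hfi, one_smul]⟩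
      by_cases h2 : j = π i
      · exact ⟨1, by rw [h2, hfπ, hfi, one_smul]⟩
      · exact ⟨0, by rw [hff i j h1 h2, zero_smul]⟩
    | algebraMap r => exact fun j => ⟨r, by rw [← Algebra.smul_def]⟩
    | add a b _ _ ha hb =>
      intro j
      obtain ⟨c, hc⟩ := ha j
      obtain ⟨c', hc'⟩ := hb j
      exact ⟨c + c', by rw [add_mul, hc, hc', add_smul]⟩
    | mul a b _ _ ha hb =>
      intro j
      obtain ⟨c, hc⟩ := ha j
      obtain ⟨c', hc'⟩ := hb j
      exact ⟨c' * c, by rw [mul_assoc, hc', Matrix.mul_smul, hc, smul_smul]⟩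
  have hfix' : ∀ i, adj σ Φ (e' i) = e' i := by
    intro i
    obtain ⟨j, hj⟩ : ∃ j, e' i * f j ≠ 0 := by
      by_contra hc
      simp only [not_exists, not_not] at hc
      refine he'.ne_zero i ?_
      have h1 : ∀ k, e' i * e k = 0 := fun k => by
        have h2 := congrArg (· * e k) (hc k)
        simpa [f, mul_assoc, add_mul, he.idem, he.ortho _ _ (hnone k)] using h2
      rw [← mul_one (e' i), ← he.sum_eq, Finset.mul_sum]
      exact Finset.sum_eq_zero fun k _ => h1 k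
    have h1 : f j * e' i = e' i := (he'.atom i _ (hfC' j) (hfi j)).resolve_left (by
      rw [hcC' _ (hfC' j) _ (he'.mem i)]; exact hj)
    obtain ⟨c, hc⟩ := hscal _ (he'.mem i) j
    rw [← hcC' _ (hfC' j) _ (he'.mem i), h1] at hc
    have hc1 : c = 1 := by
      have h2 := he'.idem i
      rw [hc, Matrix.smul_mul, Matrix.mul_smul, hfi, smul_smul] at h2
      have hc0 : c ≠ 0 := fun h0 => he'.ne_zero i (by rw [hc, h0, zero_smul])
      obtain ⟨a, b, hab⟩ : ∃ a b, f j a b ≠ 0 := by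
        by_contra hh
        simp only [not_exists, not_not] at hh
        exact hf0 j (Matrix.ext hh)
      have h3 := congrFun (congrFun h2 a) b
      simp only [Matrix.smul_apply, smul_eq_mul] at h3
      exact mul_left_cancel₀ hc0 ((mul_right_cancel₀ hab h3).trans (mul_one c).symm)
    rw [hc, hc1, one_smul]
    show adj σ Φ (e j + e (π j)) = _
    rw [adj_add, hπ, hπ, hππ, add_comm]
  exact ⟨m', t', _, decomp_card he'.decomp, he'.le_stab, Or.inl (he'.nondegenerate h hfix')⟩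

/-- Clifford theory with a form: classes 2, 3, 4, or a good group. -/
theorem form_clifford [Finite F] [Nonempty ι] (h : Herm σ Φ) (hG : Sim σ Φ G)
    (hs : Geo.scalars ι F ≤ G) (hirr : Geo.ActsIrreducibly (Geo.matrixSet G)) :
    FDecomp σ Φ G ∨ FField σ Φ G ∨ (∃ d t : ℕ, 2 ≤ d ∧ 2 ≤ t ∧ FTensor σ Φ G d t) ∨ Good G := by
  classical
  by_cases hspan : ∀ M : Subgroup (GL ι F), M ≤ G → NormBy G M → (∃ x ∈ M, x ∉ Geo.scalars ι F) →
      Submodule.span F (Geo.matrixSet M) = ⊤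
  · exact Or.inr (Or.inr (Or.inr ⟨hs, hirr, hspan⟩))
  simp only [not_forall, exists_prop] at hspan
  obtain ⟨M, hM, hMn, ⟨x₀, hx₀, hx₀s⟩, hne⟩ := hspan
  rw [span_eq_toSubmodule, Algebra.toSubmodule_eq_top] at hne
  set A := alg M with hA'
  have hA : NormAlg G A := normAlg_alg hMn
  have hAadj : ∀ x ∈ A, adj σ Φ x ∈ A := fun x hx => adj_mem_alg h hG hM hx
  let C : Subalgebra F (Matrix ι ι F) := A ⊓ Subalgebra.centralizer F (A : Set (Matrix ι ι F))
  have hC : ∀ x, x ∈ C ↔ x ∈ A ∧ ∀ y ∈ A, y * x = x * y := by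
    intro x
    simp [C, Subalgebra.mem_centralizer_iff]
  have hcC : ∀ x ∈ C, ∀ y ∈ C, x * y = y * x := fun u hu v hv => ((hC v).mp hv).2 u ((hC u).mp hu).1
  have hCn : NormAlg G C := by
    intro g hg a ha
    obtain ⟨haA, hac⟩ := (hC a).mp ha
    refine (hC _).mpr ⟨hA g hg a haA, fun y hy => ?_⟩
    have h1 := congrArg (cj g) (hac _ (hA g⁻¹ (inv_mem hg) y hy))
    rwa [map_mul, map_mul, cj_cj_inv] at h1
  have hCadj : ∀ x ∈ C, adj σ Φ x ∈ C := by
    intro x hx
    obtain ⟨hxA, hxc⟩ := (hC x).mp hx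
    refine (hC _).mpr ⟨hAadj x hxA, fun y hy => ?_⟩
    have h1 := congrArg (adj σ Φ) (hxc _ (hAadj y hy))
    rw [adj_mul h, adj_mul h, adj_adj h] at h1
    exact h1.symm
  rcases field_or_idems hirr hCn hcC with hfield | ⟨m, t, e, he⟩
  swap
  · exact Or.inl (decomp_of_idems h hG hirr hcC hCadj he)
  by_cases hcs : ∀ x ∈ C, ∃ c : F, x = c • 1
  swap
  · obtain ⟨r, K, hr, hdvd, -, hK, hnorm, hτ⟩ := exists_prime_degree hcC hfield
      (fun h1 => hcs fun x hx => eq_smul_one_of_finrank_eq_one h1 hx)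
    exact Or.inr (Or.inl ⟨r, K, hr, hdvd, hK, hτ (adj σ Φ) hCadj (fun x k => adj_pow h x k),
      (hnorm G hCn).le_normalizer⟩)
  have hcen : ∀ x ∈ A, (∀ y ∈ A, x * y = y * x) → ∃ c : F, x = c • 1 := fun x hx hc =>
    hcs x ((hC x).mpr ⟨hx, fun y hy => (hc y hy).symm⟩)
  obtain ⟨d, hd, ⟨φ⟩⟩ := algEquiv_matrix hirr hA hcen
  obtain ⟨t, ht, hform⟩ := exists_tens_form hd (A.val.comp φ.toAlgHom)
  have hrank : Module.finrank F A = d * d := by
    rw [← φ.toLinearEquiv.finrank_eq, Module.finrank_matrix]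
    simp
  have hd2 : 2 ≤ d := by
    by_contra hlt
    obtain ⟨c, hc⟩ := eq_smul_one_of_finrank_eq_one (by rw [hrank, show d = 1 by omega])
      (Algebra.subset_adjoin (mem_matrixSet hx₀) : (x₀ : Matrix ι ι F) ∈ A)
    exact hx₀s (smul_one_mem_scalars hc)
  have ht2 : 2 ≤ t := by
    by_contra hlt
    refine hne (Algebra.toSubmodule_eq_top.mp (Submodule.eq_top_of_finrank_eq ?_))
    show Module.finrank F A = _
    have hcard : 0 < Fintype.card ι := Fintype.card_pos
    rcases (show t = 0 ∨ t = 1 by omega) with rfl | rfl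
    · omega
    · rw [hrank, Module.finrank_matrix, ← ht]
      simp
  refine Or.inr (Or.inr (Or.inl ⟨d, t, hd2, ht2, ht, fun e => ?_⟩))
  obtain ⟨P, hP⟩ := hform e
  obtain ⟨G1, G2, h1, h2, h3⟩ := tensor_gram h hd (by omega) e P φ hP hAadj
  exact ⟨P, G1, G2, normAlg_tensor hd e P φ hP hA, h1, h2, h3⟩

end Cfsg.Agent.Aschbacher
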