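/-
Any number of commuting full matrix subalgebras give a tensor-induced structure.
Main results: `pureMat`, `wreath_of_factors`, `scalar_mem_wreath`.
-/
import Cfsg.Agent.Lib.Aschbacher.Master

set_option autoImplicit false

namespace Cfsg.Agent.Aschbacher

open Matrix
open Cfsg.Agent.PrimeDim

variable {ι : Type} [Fintype ι] [DecidableEq ι] {F : Type*} [Field F]

section Pure

variable {k d : ℕ}

/-- The tensor product of `k` square matrices, indexed by functions. -/
def pureMat (X : Fin k → Matrix (Fin d) (Fin d) F) : Matrix (Fin k → Fin d) (Fin k → Fin d) F :=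
  Matrix.of fun x y => ∏ i, X i (x i) (y i)

theorem pureMat_apply (X : Fin k → Matrix (Fin d) (Fin d) F) (x y : Fin k → Fin d) :
    pureMat X x y = ∏ i, X i (x i) (y i) := rfl

theorem pureMat_one : pureMat (1 : Fin k → Matrix (Fin d) (Fin d) F) = 1 := by
  ext x y
  rw [pureMat_apply, Matrix.one_apply]
  split
  · next h => subst h; exact Finset.prod_eq_one fun i _ => Matrix.one_apply_eq _
  · next h =>
    obtain ⟨i, hi⟩ := Function.ne_iff.mp h
    exact Finset.prod_eq_zero (Finset.mem_univ i) (Matrix.one_apply_ne hi)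

theorem pureMat_mul (X Y : Fin k → Matrix (Fin d) (Fin d) F) :
    pureMat X * pureMat Y = pureMat (X * Y) := by
  ext x z
  simp only [Matrix.mul_apply, pureMat_apply, Pi.mul_apply, ← Finset.prod_mul_distrib]
  exact (Fintype.prod_sum fun i a => X i (x i) a * Y i a (z i)).symm

/-- A pure tensor of units. -/
def pureUnit (A : Fin k → GL (Fin d) F) : GL (Fin k → Fin d) F where
  val := pureMat fun i => (A i : Matrix (Fin d) (Fin d) F)
  inv := pureMat fun i => ((A i)⁻¹ : GL (Fin d) F)
  val_inv := by
    rw [pureMat_mul, ← pureMat_one (F := F)]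
    congr 1; funext i; simp
  inv_val := by
    rw [pureMat_mul, ← pureMat_one (F := F)]
    congr 1; funext i; simp

theorem single_eq_pure (x y : Fin k → Fin d) :
    (single x y (1 : F) : Matrix (Fin k → Fin d) (Fin k → Fin d) F) =
      pureMat fun i => single (x i) (y i) 1 := by
  ext a b
  rw [pureMat_apply]
  by_cases h : x = a ∧ y = b
  · obtain ⟨rfl, rfl⟩ := h
    rw [Matrix.single_apply_same]
    exact (Finset.prod_eq_one fun i _ => Matrix.single_apply_same _ _ _).symm
  · rw [Matrix.single_apply_of_ne _ _ _ _ _ h]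
    obtain ⟨i, hi⟩ : ∃ i, ¬(x i = a i ∧ y i = b i) := by
      by_contra hc
      simp only [not_exists, not_not] at hc
      exact h ⟨funext fun i => (hc i).1, funext fun i => (hc i).2⟩
    exact (Finset.prod_eq_zero (Finset.mem_univ i) (by rw [Matrix.single_apply, if_neg hi])).symm

end Pure

/-- A linear map out of a matrix algebra is multiplicative as soon as it is so on matrix units. -/
theorem mul_of_units {J A : Type*} [Fintype J] [DecidableEq J] [Ring A] [Algebra F A]
    (f : Matrix J J F →ₗ[F] A)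
    (h : ∀ x y y' z, f (single x y 1 * single y' z 1) = f (single x y 1) * f (single y' z 1))
    (M N : Matrix J J F) : f (M * N) = f M * f N := by
  induction M using Matrix.induction_on' with
  | h_zero => simp
  | h_add p q hp hq => rw [add_mul, map_add, hp, hq, map_add, add_mul]
  | h_std_basis x y c =>
    induction N using Matrix.induction_on' with
    | h_zero => simp
    | h_add p q hp hq => rw [mul_add, map_add, hp, hq, map_add, mul_add]
    | h_std_basis y' z c' =>
      have e1 : single x y c = c • single x y (1 : F) := by simp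
      have e2 : single y' z c' = c' • single y' z (1 : F) := by simp
      rw [e1, e2, Matrix.smul_mul, Matrix.mul_smul, map_smul, map_smul, h, map_smul, map_smul,
        smul_mul_smul_comm, smul_smul]

section Coprod

variable {k d : ℕ} (φ : Fin k → (Matrix (Fin d) (Fin d) F →ₐ[F] Matrix ι ι F))
  (hcomm : Pairwise fun i j => ∀ a b, Commute (φ i a) (φ j b))

/-- The product of commuting algebra maps, as a monoid map. -/
def coprod : (Fin k → Matrix (Fin d) (Fin d) F) →* Matrix ι ι F :=
  MonoidHom.noncommPiCoprod (fun i => (φ i).toRingHom.toMonoidHom) hcomm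

theorem coprod_single (i : Fin k) (a : Matrix (Fin d) (Fin d) F) :
    coprod φ hcomm (Pi.mulSingle i a) = φ i a :=
  MonoidHom.noncommPiCoprod_mulSingle (ϕ := fun i => (φ i).toRingHom.toMonoidHom) (hcomm := hcomm) i a

theorem update_eq_mulSingle_mul (X : Fin k → Matrix (Fin d) (Fin d) F) (i : Fin k)
    (a : Matrix (Fin d) (Fin d) F) :
    Function.update X i a = Pi.mulSingle i a * Function.update X i 1 := by
  funext j
  by_cases h : j = i
  · subst h; simp
  · simp [h]

/-- The product of commuting algebra maps is multilinear. -/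
def coprodMulti : MultilinearMap F (fun _ : Fin k => Matrix (Fin d) (Fin d) F) (Matrix ι ι F) :=
  MultilinearMap.mk' (coprod φ hcomm)
    (fun X i a b => by
      rw [update_eq_mulSingle_mul X i (a + b), update_eq_mulSingle_mul X i a, update_eq_mulSingle_mul X i b,
        map_mul, map_mul, map_mul, coprod_single, coprod_single, coprod_single, map_add, add_mul])
    (fun X i c a => by
      rw [update_eq_mulSingle_mul X i (c • a), update_eq_mulSingle_mul X i a,
        map_mul, map_mul, coprod_single, coprod_single, map_smul, Matrix.smul_mul])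

/-- The linear extension of the product of commuting algebra maps. -/
def psiLin : Matrix (Fin k → Fin d) (Fin k → Fin d) F →ₗ[F] Matrix ι ι F where
  toFun M := ∑ x, ∑ y, M x y • coprod φ hcomm (fun i => single (x i) (y i) 1)
  map_add' M N := by simp [add_smul, Finset.sum_add_distrib]
  map_smul' c M := by simp [Finset.smul_sum, smul_smul]

theorem psiLin_pure (X : Fin k → Matrix (Fin d) (Fin d) F) :
    psiLin φ hcomm (pureMat X) = coprod φ hcomm X := by
  classical
  have hX : X = fun i => ∑ p : Fin d × Fin d, X i p.1 p.2 • single p.1 p.2 (1 : F) := by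
    funext i
    rw [Fintype.sum_prod_type]
    conv_lhs => rw [matrix_eq_sum_single (X i)]
    simp
  have h := congrArg (coprodMulti φ hcomm) hX
  rw [MultilinearMap.map_sum] at h
  simp only [MultilinearMap.map_smul_univ] at h
  refine (h.trans ?_).symm
  show ∑ r : Fin k → Fin d × Fin d,
      (∏ i, X i (r i).1 (r i).2) • coprod φ hcomm (fun i => single (r i).1 (r i).2 1) =
    ∑ x, ∑ y, pureMat X x y • coprod φ hcomm (fun i => single (x i) (y i) 1)
  rw [← Fintype.sum_prod_type
    (fun p : (Fin k → Fin d) × (Fin k → Fin d) =>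
      pureMat X p.1 p.2 • coprod φ hcomm (fun i => single (p.1 i) (p.2 i) 1))]
  exact Fintype.sum_equiv (Equiv.arrowProdEquivProdArrow (Fin k) _ _) _ _ fun r => rfl

/-- The algebra map on the tensor product of commuting matrix algebras. -/
def psi : Matrix (Fin k → Fin d) (Fin k → Fin d) F →ₐ[F] Matrix ι ι F :=
  AlgHom.ofLinearMap (psiLin φ hcomm)
    (by rw [← pureMat_one, psiLin_pure, map_one])
    (fun M N => mul_of_units (psiLin φ hcomm) (fun x y y' z => by
      rw [single_eq_pure, single_eq_pure, pureMat_mul, psiLin_pure, psiLin_pure, psiLin_pure, map_mul]) M N)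

theorem psi_pure (X : Fin k → Matrix (Fin d) (Fin d) F) : psi φ hcomm (pureMat X) = coprod φ hcomm X :=
  psiLin_pure φ hcomm X

theorem psi_slot (i : Fin k) (a : Matrix (Fin d) (Fin d) F) :
    psi φ hcomm (pureMat (Pi.mulSingle i a)) = φ i a := by
  rw [psi_pure, coprod_single]

end Coprod

theorem perm_unit_exists {k d : ℕ} (σ : Equiv.Perm (Fin k)) :
    ∃ s : GL (Fin k → Fin d) F, Geo.IsFactorPermutation d k s ∧
      ∀ X, cj s (pureMat X) = pureMat fun i => X (σ.symm i) := by
  let S : Equiv.Perm (Fin k) → Matrix (Fin k → Fin d) (Fin k → Fin d) F :=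
    fun τ => Matrix.of fun x y => if y = x ∘ τ then 1 else 0
  have hmul : ∀ τ : Equiv.Perm (Fin k), S τ * S τ.symm = 1 := by
    intro τ
    ext x z
    rw [Matrix.mul_apply, Finset.sum_eq_single (x ∘ τ)]
    · simp only [S, Matrix.of_apply, if_true, one_mul, Matrix.one_apply]
      refine if_congr ⟨fun h => ?_, fun h => ?_⟩ rfl rfl
      · rw [h]; funext i; simp
      · rw [← h]; funext i; simp
    · intro y _ hy; simp [S, hy]
    · simp
  refine ⟨⟨S σ, S σ.symm, hmul σ, by simpa using hmul σ.symm⟩, ⟨σ, fun x y => rfl⟩, fun X => ?_⟩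
  rw [cj_apply]
  show S σ * pureMat X * S σ.symm = _
  ext x z
  rw [Matrix.mul_apply, Finset.sum_eq_single (z ∘ σ)]
  · rw [Matrix.mul_apply, Finset.sum_eq_single (x ∘ σ)]
    · have : z = (z ∘ σ) ∘ σ.symm := funext fun i => by simp
      simp only [S, Matrix.of_apply, if_true, one_mul, if_pos this, mul_one, pureMat_apply,
        Function.comp_apply]
      exact Fintype.prod_equiv σ _ _ fun i => by simp
    · intro y _ hy; simp [S, hy]
    · simp
  · intro y _ hy
    have : z ≠ y ∘ σ.symm := fun h => hy (by rw [h]; funext i; simp)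
    simp [S, this]
  · simp

/-- Scalars lie in every tensor-wreath subgroup with at least one factor. -/
theorem scalar_mem_wreath {k d : ℕ} (hk : 0 < k) (e : ι ≃ (Fin k → Fin d)) (P : GL ι F) {g : GL ι F}
    (hg : g ∈ Geo.scalars ι F) : g ∈ Geo.tensorWreathSubgroup d k e P := by
  obtain ⟨c, hc⟩ := (Geo.mem_scalars_iff g).mp hg
  let A : Fin k → GL (Fin d) F := Function.update 1 ⟨0, hk⟩
    ((Units.map (Matrix.scalar (Fin d) : F →+* Matrix (Fin d) (Fin d) F).toMonoidHom) c)
  refine ⟨Geo.glReindex e.symm (pureUnit A), ⟨_, Subgroup.subset_closure (Or.inl ⟨A, fun x y => rfl⟩), rfl⟩, ?_⟩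
  have hval : ((pureUnit A : GL (Fin k → Fin d) F) : Matrix (Fin k → Fin d) (Fin k → Fin d) F) = (c : F) • 1 := by
    ext x y
    show ∏ i, (A i : Matrix (Fin d) (Fin d) F) (x i) (y i) = _
    rw [← Finset.mul_prod_erase _ _ (Finset.mem_univ (⟨0, hk⟩ : Fin k))]
    have h1 : ∀ i ∈ Finset.univ.erase (⟨0, hk⟩ : Fin k), (A i : Matrix (Fin d) (Fin d) F) (x i) (y i) =
        (1 : Matrix (Fin d) (Fin d) F) (x i) (y i) := fun i hi => by
      simp [A, Finset.ne_of_mem_erase hi]
    rw [Finset.prod_congr rfl h1]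
    simp only [A, Function.update_self, Units.coe_map, RingHom.toMonoidHom_eq_coe, MonoidHom.coe_coe,
      Matrix.scalar_apply, ← Matrix.smul_one_eq_diagonal, Matrix.smul_apply, smul_eq_mul, mul_assoc]
    congr 1
    have := congrFun (congrFun (pureMat_one (F := F) (k := k) (d := d)) x) y
    rw [pureMat_apply] at this
    rw [← this]
    exact Finset.mul_prod_erase _ (fun i => (1 : Matrix (Fin d) (Fin d) F) (x i) (y i)) (Finset.mem_univ _)
  apply Units.ext
  show (((P * Geo.glReindex e.symm (pureUnit A) * P⁻¹ : GL ι F)) : Matrix ι ι F) = g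
  rw [Units.val_mul, Units.val_mul]
  have h2 : ((Geo.glReindex e.symm (pureUnit A) : GL ι F) : Matrix ι ι F) = (c : F) • 1 := by
    show Matrix.reindexAlgEquiv F F e.symm _ = _
    rw [hval, map_smul, map_one]
  rw [h2, hc, Matrix.mul_smul, mul_one, Matrix.smul_mul, Units.mul_inv]

/-- A family of commuting full matrix subalgebras that generate the whole algebra and are permuted by `G` put `G`
into a tensor-induced subgroup, along a change of basis that carries the family to the tensor slots. -/
theorem wreath_of_factors_slots [Nonempty ι] {k d : ℕ} (hk : 0 < k) (hd : 0 < d)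
    (φ : Fin k → (Matrix (Fin d) (Fin d) F →ₐ[F] Matrix ι ι F))
    (hcomm : Pairwise fun i j => ∀ a b, Commute (φ i a) (φ j b))
    (hgen : ∀ A : Subalgebra F (Matrix ι ι F), (∀ i a, φ i a ∈ A) → A = ⊤)
    {G : Subgroup (GL ι F)}
    (hperm : ∀ g ∈ G, ∃ σ : Equiv.Perm (Fin k), ∀ i a, ∃ b, cj g (φ i a) = φ (σ i) b) :
    d ^ k = Fintype.card ι ∧
      ∀ e : ι ≃ (Fin k → Fin d), ∃ P : GL ι F,
        (∀ i a, φ i a = cj P (Matrix.reindexAlgEquiv F F e.symm (pureMat (Pi.mulSingle i a)))) ∧
        G ≤ Geo.tensorWreathSubgroup d k e P := by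
  classical
  have : Nonempty (Fin d) := ⟨⟨0, hd⟩⟩
  set Ψ := psi φ hcomm with hΨdef
  have hinj : Function.Injective Ψ := RingHom.injective Ψ.toRingHom
  have hsurj : Function.Surjective Ψ := by
    have htop := hgen Ψ.range fun i a => ⟨_, psi_slot φ hcomm i a⟩
    exact fun y => (htop ▸ Algebra.mem_top : y ∈ Ψ.range)
  have hcard : d ^ k = Fintype.card ι := by
    have h1 := (LinearEquiv.ofBijective Ψ.toLinearMap ⟨hinj, hsurj⟩).finrank_eq
    rw [Module.finrank_matrix, Module.finrank_matrix, Module.finrank_self, mul_one, mul_one,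
      Fintype.card_fun, Fintype.card_fin, Fintype.card_fin] at h1
    exact Nat.mul_self_inj.mp h1
  refine ⟨hcard, fun e => ?_⟩
  let ρ : Matrix (Fin k → Fin d) (Fin k → Fin d) F →ₐ[F] Matrix ι ι F :=
    (Matrix.reindexAlgEquiv F F e.symm).toAlgHom
  obtain ⟨Q, hQ⟩ := exists_conj (RingHom.id F)
    (Ψ.comp (Matrix.reindexAlgEquiv F F e).toAlgHom).toRingHom (fun c => by simp)
  have hΨQ : ∀ M, Ψ M = cj Q (ρ M) := by
    intro M
    have := hQ (ρ M)
    simp only [RingHom.coe_id, Matrix.map_id] at this
    rw [← this]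
    simp [ρ]
  refine ⟨Q, fun i a => by rw [← psi_slot φ hcomm i a]; exact hΨQ _, fun g hg => ?_⟩
  obtain ⟨σ, hσ⟩ := hperm g hg
  choose β hβ using hσ
  have hφinj : ∀ i, Function.Injective (φ i) := fun i => RingHom.injective (φ i).toRingHom
  have hA : ∀ i, ∃ A : GL (Fin d) F, ∀ a, cj g (φ i a) = φ (σ i) (cj A a) := by
    intro i
    let α : Matrix (Fin d) (Fin d) F →+* Matrix (Fin d) (Fin d) F :=
      { toFun := β i
        map_one' := hφinj (σ i) (by rw [← hβ, map_one, map_one, map_one])
        map_mul' := fun a b => hφinj (σ i) (by rw [← hβ, map_mul, map_mul, map_mul, ← hβ, ← hβ])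
        map_zero' := hφinj (σ i) (by rw [← hβ, map_zero, map_zero, map_zero])
        map_add' := fun a b => hφinj (σ i) (by rw [← hβ, map_add, map_add, map_add, ← hβ, ← hβ]) }
    obtain ⟨A, hA⟩ := exists_conj (RingHom.id F) α (fun c => hφinj (σ i) (by
      show φ (σ i) (β i (c • 1)) = _
      rw [← hβ, map_smul, map_smul, map_one, map_one, map_smul, map_one]
      rfl))
    refine ⟨A, fun a => ?_⟩
    have h1 : β i a = cj A a := by
      have := hA a
      simp only [RingHom.coe_id, Matrix.map_id] at this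
      exact this
    rw [hβ, h1]
  choose A hA using hA
  obtain ⟨s, hs, hsX⟩ := perm_unit_exists (F := F) (d := d) σ
  let w : GL (Fin k → Fin d) F := s * pureUnit A
  have hw : w ∈ Geo.tensorWreathStandard d k F :=
    mul_mem (Subgroup.subset_closure (Or.inr hs)) (Subgroup.subset_closure (Or.inl ⟨A, fun x y => rfl⟩))
  have hwX : ∀ X, cj w (pureMat X) = pureMat (fun i => cj (A (σ.symm i)) (X (σ.symm i))) := by
    intro X
    rw [← cj_cj]
    have : cj (pureUnit A) (pureMat X) = pureMat fun i => cj (A i) (X i) := by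
      rw [cj_apply]
      show pureMat _ * pureMat X * pureMat _ = _
      rw [pureMat_mul, pureMat_mul]
      rfl
    rw [this, hsX]
  let π : (Fin k → Matrix (Fin d) (Fin d) F) →* (Fin k → Matrix (Fin d) (Fin d) F) :=
    { toFun := fun X i => cj (A (σ.symm i)) (X (σ.symm i))
      map_one' := funext fun i => map_one _
      map_mul' := fun X Y => funext fun i => map_mul (cj (A (σ.symm i))) _ _ }
  have hhom : ((cj g).toRingHom.toMonoidHom.comp (coprod φ hcomm)) = (coprod φ hcomm).comp π := by
    refine (MonoidHom.noncommPiCoprodEquiv (N := fun _ : Fin k => Matrix (Fin d) (Fin d) F)).symm.injective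
      (Subtype.ext (funext fun i => MonoidHom.ext fun a => ?_))
    show cj g (coprod φ hcomm (Pi.mulSingle i a)) = coprod φ hcomm (π (Pi.mulSingle i a))
    have : π (Pi.mulSingle i a) = Pi.mulSingle (σ i) (cj (A i) a) := by
      funext j
      show cj (A (σ.symm j)) ((Pi.mulSingle i a : Fin k → Matrix (Fin d) (Fin d) F) (σ.symm j)) = _
      by_cases h : j = σ i
      · subst h; simp
      · rw [Pi.mulSingle_eq_of_ne h, Pi.mulSingle_eq_of_ne (fun h' => h (by simp [← h'])), map_one]
    rw [this, coprod_single, coprod_single, hA]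
  let w' : GL ι F := Geo.glReindex e.symm w
  have hρw : ∀ M, ρ (cj w M) = cj w' (ρ M) := by
    intro M
    rw [cj_apply, cj_apply, map_mul, map_mul]
    rfl
  have hmain : ∀ M, cj g (Ψ M) = cj (Q * w') (ρ M) := by
    intro M
    rw [← cj_cj, ← hρw, ← hΨQ]
    induction M using Matrix.induction_on' with
    | h_zero => simp
    | h_add p q hp hq => simp only [map_add, hp, hq]
    | h_std_basis x y c =>
      have e1 : single x y c = c • single x y (1 : F) := by simp
      rw [e1, map_smul, map_smul, map_smul, map_smul, single_eq_pure, hwX, psi_pure, psi_pure]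
      exact congrArg (c • ·) (DFunLike.congr_fun hhom _)
  have hcent : ∀ Z : Matrix ι ι F,
      cj ((Q * w')⁻¹ * (g * Q)) Z = Z := by
    intro Z
    have hZ : Z = ρ ((Matrix.reindexAlgEquiv F F e).toAlgHom Z) := by simp [ρ]
    have := hmain ((Matrix.reindexAlgEquiv F F e).toAlgHom Z)
    rw [hΨQ, cj_cj, ← hZ] at this
    rw [← cj_cj, this, cj_inv_cj]
  obtain ⟨c, hc⟩ := scalar_of_span (S := Set.univ) Submodule.span_univ
    (((Q * w')⁻¹ * (g * Q) : GL ι F) : Matrix ι ι F) (fun Z _ => (cj_eq_self_iff _ Z).mp (hcent Z))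
  set z : GL ι F := (Q * w')⁻¹ * (g * Q) with hz
  have hzs : z ∈ Geo.scalars ι F := by
    have hc0 : c ≠ 0 := by
      intro h
      rw [h, zero_smul] at hc
      exact not_isUnit_zero (hc ▸ z.isUnit)
    exact (Geo.mem_scalars_iff z).mpr ⟨Units.mk0 c hc0, hc⟩
  have hg' : g = (Q * w' * Q⁻¹) * z := by
    have h1 : g = Q * w' * z * Q⁻¹ := by rw [hz]; simp [mul_assoc]
    have hcomm' : z * Q⁻¹ = Q⁻¹ * z := by
      apply Units.ext
      show (z : Matrix ι ι F) * ((Q⁻¹ : GL ι F) : Matrix ι ι F) = ((Q⁻¹ : GL ι F) : Matrix ι ι F) * (z : Matrix ι ι F)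
      rw [hc, Matrix.smul_mul, Matrix.mul_smul, one_mul, mul_one]
    rw [h1, mul_assoc _ z, hcomm', ← mul_assoc]
  rw [hg']
  exact mul_mem ⟨w', ⟨w, hw, rfl⟩, rfl⟩ (scalar_mem_wreath hk e Q hzs)

/-- A family of commuting full matrix subalgebras that generate the whole algebra and are permuted by `G` put `G`
into a tensor-induced subgroup. -/
theorem wreath_of_factors [Nonempty ι] {k d : ℕ} (hk : 0 < k) (hd : 0 < d)
    (φ : Fin k → (Matrix (Fin d) (Fin d) F →ₐ[F] Matrix ι ι F))
    (hcomm : Pairwise fun i j => ∀ a b, Commute (φ i a) (φ j b))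
    (hgen : ∀ A : Subalgebra F (Matrix ι ι F), (∀ i a, φ i a ∈ A) → A = ⊤)
    {G : Subgroup (GL ι F)}
    (hperm : ∀ g ∈ G, ∃ σ : Equiv.Perm (Fin k), ∀ i a, ∃ b, cj g (φ i a) = φ (σ i) b) :
    d ^ k = Fintype.card ι ∧
      ∀ e : ι ≃ (Fin k → Fin d), ∃ P : GL ι F, G ≤ Geo.tensorWreathSubgroup d k e P :=
  let ⟨h1, h2⟩ := wreath_of_factors_slots hk hd φ hcomm hgen hperm
  ⟨h1, fun e => let ⟨P, _, hP⟩ := h2 e; ⟨P, hP⟩⟩

end Cfsg.Agent.Aschbacher
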