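/-
Aschbacher's theorem for GL_n(q) in every dimension n ≥ 3.
Main results: `WreathK`, `perfect_outcome_full` (keeps the tensor structure when d = 2), `perfect_outcome_any`,
`aschbacher_any`.
-/
import Cfsg.Agent.Lib.Aschbacher.WreathFactors

set_option autoImplicit false

namespace Cfsg.Agent.Aschbacher

open Matrix
open scoped commutatorElement
open Cfsg.Agent.PrimeDim

variable {ι : Type} [Fintype ι] [DecidableEq ι] {F : Type*} [Field F]

/-- `G` preserves a decomposition into `k` equal tensor factors, possibly permuting them. -/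
def WreathK (G : Subgroup (GL ι F)) (d k : ℕ) : Prop :=
  3 ≤ d ∧ 2 ≤ k ∧ d ^ k = Fintype.card ι ∧
    ∀ e : ι ≃ (Fin k → Fin d), ∃ P : GL ι F, G ≤ Geo.tensorWreathSubgroup d k e P

/-- The commuting factors behind a tensor induction: translates of one perfect subgroup spanning a full
matrix subalgebra, permuted by `G` and generating everything. -/
def TIData (G : Subgroup (GL ι F)) (d k : ℕ) : Prop :=
  ∃ (φ₀ : Matrix (Fin d) (Fin d) F →ₐ[F] Matrix ι ι F) (D : Subgroup (GL ι F)) (g : Fin k → GL ι F),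
    (∀ i, g i ∈ G) ∧ D ≤ G ∧ ⁅D, D⁆ = D ∧ (∃ x ∈ D, x ∉ Geo.scalars ι F) ∧
    (∀ x ∈ D, ∃ a, φ₀ a = (x : Matrix ι ι F)) ∧ (∀ a, φ₀ a ∈ alg D) ∧
    (Pairwise fun i j => ∀ a b, Commute (cj (g i) (φ₀ a)) (cj (g j) (φ₀ b))) ∧
    (∀ A : Subalgebra F (Matrix ι ι F), (∀ i a, cj (g i) (φ₀ a) ∈ A) → A = ⊤) ∧
    ∀ h ∈ G, ∃ σ : Equiv.Perm (Fin k), ∀ i a, ∃ b, cj h (cj (g i) (φ₀ a)) = cj (g (σ i)) (φ₀ b)

/-- The tensor-induced structure given by the factors. -/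
theorem TIData.wreath [Nonempty ι] {G : Subgroup (GL ι F)} {d k : ℕ} (hk : 0 < k) (hd : 0 < d)
    (h : TIData G d k) : d ^ k = Fintype.card ι ∧
      ∀ e : ι ≃ (Fin k → Fin d), ∃ P : GL ι F, G ≤ Geo.tensorWreathSubgroup d k e P :=
  let ⟨φ₀, _, g, _, _, _, _, _, _, hcomm, hgen, hperm⟩ := h
  wreath_of_factors hk hd (fun i => (cj (g i)).comp φ₀) hcomm hgen hperm

set_option maxHeartbeats 1600000 in
/-- A minimal non-scalar normal subgroup that is not of class two: tensor induced (with the factors) or a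
core. -/
theorem perfect_outcome_data [Finite F] (hι : 2 ≤ Fintype.card ι)
    {G N : Subgroup (GL ι F)} (hG : Good G) (hle : N ≤ G) (hnorm : NormBy G N)
    (hscal : Geo.scalars ι F ≤ N)
    (hmin : ∀ M ≤ N, NormBy G M → Geo.scalars ι F ≤ M → (∃ x ∈ M, x ∉ Geo.scalars ι F) → M = N)
    (hnc : ∃ x ∈ N, ∃ y ∈ N, ⁅x, y⁆ ∉ Geo.scalars ι F) :
    (∃ d k, 2 ≤ d ∧ 2 ≤ k ∧ (d = 2 → TraceReal G) ∧ TIData G d k) ∨
    ∃ P, IsCore G P := by
  classical
  have : Nonempty ι := Fintype.card_pos_iff.mp (by omega)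
  have : Finite (Matrix ι ι F) := inferInstanceAs (Finite (ι → ι → F))
  have : Finite (GL ι F) := Finite.of_injective Units.val Units.val_injective
  let S := Geo.scalars ι F
  have hcommsup : ∀ M : Subgroup (GL ι F), ⁅M ⊔ S, M ⊔ S⁆ ≤ ⁅M, M⁆ := by
    intro M
    rw [Subgroup.commutator_le]
    intro a ha b hb
    obtain ⟨m, hm, z, hz, rfl⟩ := Subgroup.mem_sup_of_normal_right.mp ha
    obtain ⟨m', hm', z', hz', rfl⟩ := Subgroup.mem_sup_of_normal_right.mp hb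
    rw [commutator_mul_scalar hz hz' m m']
    exact Subgroup.commutator_mem_commutator hm hm'
  have hsupNorm : ∀ M, NormBy G M → NormBy G (M ⊔ S) := by
    intro M hM h hh x hx
    obtain ⟨m, hm, z, hz, rfl⟩ := Subgroup.mem_sup_of_normal_right.mp hx
    rw [conj_mul_scalar hz h m]
    exact mul_mem (Subgroup.mem_sup_left (hM h hh m hm)) (Subgroup.mem_sup_right hz)
  set P := ⁅N, N⁆ with hP
  have hPle : P ≤ N := commutator_le_self N
  have hPnorm : NormBy G P := hnorm.commutator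
  obtain ⟨x₁, hx₁, y₁, hy₁, hxy₁⟩ := hnc
  have hPns : ∃ x ∈ P, x ∉ S := ⟨_, Subgroup.commutator_mem_commutator hx₁ hy₁, hxy₁⟩
  have hgen : ∀ K : Subgroup (GL ι F), K ≤ P → NormBy G K → (∃ x ∈ K, x ∉ S) → P ≤ ⁅K, K⁆ := by
    intro K hKP hKn hKs
    have hKN : K ⊔ S = N := hmin _ (sup_le (hKP.trans hPle) hscal) (hsupNorm K hKn) le_sup_right
      (let ⟨x, hx, hxs⟩ := hKs; ⟨x, Subgroup.mem_sup_left hx, hxs⟩)
    rw [hP, ← hKN]
    exact hcommsup K
  have hperf : ⁅P, P⁆ = P := le_antisymm (commutator_le_self P) (hgen P le_rfl hPnorm hPns)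
  have hspanP := hG.span P (hPle.trans hle) hPnorm hPns
  let 𝒮 : Set (Subgroup (GL ι F)) := {M | M ≤ P ∧ NormBy P M ∧ P ⊓ S ≤ M ∧ ∃ x ∈ M, x ∉ S}
  have hP𝒮 : P ∈ 𝒮 := ⟨le_rfl, fun h hh x hx => mul_mem (mul_mem hh hx) (inv_mem hh), inf_le_left, hPns⟩
  have hex : ∃ k, ∃ M ∈ 𝒮, Nat.card M = k := ⟨_, P, hP𝒮, rfl⟩
  obtain ⟨M, hM, hMk⟩ := Nat.find_spec hex
  have heq : ∀ L ∈ 𝒮, L ≤ M → L = M := fun L hL hLM =>
    Subgroup.eq_of_le_of_card_ge hLM (hMk ▸ Nat.find_min' hex ⟨L, hL, rfl⟩)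
  let C : GL ι F → Subgroup (GL ι F) := fun h => M.map (MulAut.conj h).toMonoidHom
  have hconj : ∀ h ∈ G, C h ∈ 𝒮 ∧ (∀ L ∈ 𝒮, L ≤ C h → L = C h) := by
    intro h hh
    refine ⟨⟨?_, ?_, ?_, ?_⟩, ?_⟩
    · rintro _ ⟨m, hm, rfl⟩; exact hPnorm h hh m (hM.1 hm)
    · rintro g hg _ ⟨m, hm, rfl⟩
      have hg' := hPnorm h⁻¹ (inv_mem hh) g hg
      refine ⟨h⁻¹ * g * h⁻¹⁻¹ * m * (h⁻¹ * g * h⁻¹⁻¹)⁻¹, hM.2.1 _ hg' m hm, ?_⟩
      simp [mul_assoc]
    · intro x hx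
      refine ⟨x, hM.2.2.1 hx, ?_⟩
      simp [MulAut.conj_apply, scalars_central hx.2 h]
    · obtain ⟨x, hx, hxs⟩ := hM.2.2.2
      refine ⟨h * x * h⁻¹, ⟨x, hx, rfl⟩, fun hc => hxs ?_⟩
      have := (Geo.scalars_normal (ι := ι) (F := F)).conj_mem _ hc h⁻¹
      simpa [mul_assoc] using this
    · intro L hL hLM
      refine Subgroup.eq_of_le_of_card_ge hLM ?_
      rw [Subgroup.card_map_of_injective (MulEquiv.injective _), hMk]
      exact Nat.find_min' hex ⟨L, hL, rfl⟩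
  have hinterS : ∀ A ∈ 𝒮, ∀ B ∈ 𝒮, (∀ L ∈ 𝒮, L ≤ A → L = A) → (∀ L ∈ 𝒮, L ≤ B → L = B) → A ≠ B →
      ∀ a ∈ A, ∀ b ∈ B, ⁅a, b⁆ ∈ S := by
    intro A hA B hB hA' hB' hne a ha b hb
    by_contra hns
    have hmem : ⁅a, b⁆ ∈ A ⊓ B := by
      refine ⟨?_, ?_⟩
      · rw [commutatorElement_def, mul_assoc a b, mul_assoc a]
        exact A.mul_mem ha (hA.2.1 b (hB.1 hb) _ (A.inv_mem ha))
      · rw [commutatorElement_def]
        exact B.mul_mem (hB.2.1 a (hA.1 ha) b hb) (B.inv_mem hb)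
    have hI : A ⊓ B ∈ 𝒮 := ⟨inf_le_left.trans hA.1,
      fun g hg x hx => ⟨hA.2.1 g hg x hx.1, hB.2.1 g hg x hx.2⟩, le_inf hA.2.2.1 hB.2.2.1, _, hmem, hns⟩
    exact hne ((hA' _ hI inf_le_left).symm.trans (hB' _ hI inf_le_right))
  have hCnorm : ∀ g ∈ G, ∀ h : GL ι F, (C h).map (MulAut.conj g).toMonoidHom = C (g * h) := fun g _ h => by
    simp only [C, Subgroup.map_map]
    congr 1
    ext x
    simp [mul_assoc]
  have hclosureNorm : ∀ T : Set (GL ι F), (∀ g ∈ G, ∀ x ∈ T, g * x * g⁻¹ ∈ T) →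
      NormBy G (Subgroup.closure T) := by
    intro T hT g hg x hx
    induction hx using Subgroup.closure_induction with
    | mem a ha => exact Subgroup.subset_closure (hT g hg a ha)
    | one => simp
    | mul a b _ _ ha hb =>
      have : g * (a * b) * g⁻¹ = (g * a * g⁻¹) * (g * b * g⁻¹) := by simp [mul_assoc]
      rw [this]; exact mul_mem ha hb
    | inv a _ ha =>
      have : g * a⁻¹ * g⁻¹ = (g * a * g⁻¹)⁻¹ := by simp [mul_assoc]
      rw [this]; exact inv_mem ha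
  by_cases hclass : ∀ a ∈ M, ∀ b ∈ M, ⁅a, b⁆ ∈ S
  · exfalso
    let T : Set (GL ι F) := ⋃ h ∈ G, (C h : Set (GL ι F))
    have hTcomm : ∀ a ∈ T, ∀ b ∈ T, ⁅a, b⁆ ∈ S := by
      intro a ha b hb
      simp only [T, Set.mem_iUnion] at ha hb
      obtain ⟨g, hg, ha⟩ := ha
      obtain ⟨k, hk, hb⟩ := hb
      by_cases he : C g = C k
      · rw [← he] at hb
        obtain ⟨a', ha', rfl⟩ := ha
        obtain ⟨b', hb', rfl⟩ := hb
        rw [← map_commutatorElement]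
        exact (Geo.scalars_normal (ι := ι) (F := F)).conj_mem _ (hclass a' ha' b' hb') g
      · exact hinterS _ (hconj g hg).1 _ (hconj k hk).1 (hconj g hg).2 (hconj k hk).2 he a ha b hb
    have hKP : Subgroup.closure T ≤ P := by
      rw [Subgroup.closure_le]
      intro a ha
      simp only [T, Set.mem_iUnion] at ha
      obtain ⟨g, hg, ha⟩ := ha
      exact (hconj g hg).1.1 ha
    have hKn : NormBy G (Subgroup.closure T) := hclosureNorm T fun g hg x hx => by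
      simp only [T, Set.mem_iUnion] at hx ⊢
      obtain ⟨k, hk, hx⟩ := hx
      exact ⟨g * k, mul_mem hg hk, hCnorm g hg k ▸ ⟨x, hx, rfl⟩⟩
    obtain ⟨x, hx, hxs⟩ := hM.2.2.2
    have h2 : P ≤ S := (hgen _ hKP hKn ⟨x, Subgroup.subset_closure (by
        simp only [T, Set.mem_iUnion]
        exact ⟨1, one_mem G, x, hx, by simp⟩), hxs⟩).trans
      (Subgroup.commutator_le.mpr (commutator_closure_scalar hTcomm))
    obtain ⟨y, hy, hys⟩ := hPns
    exact hys (h2 hy)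
  simp only [not_forall, exists_prop] at hclass
  obtain ⟨a₀, ha₀, b₀, hb₀, hab₀⟩ := hclass
  set D := ⁅M, M⁆ with hD
  have hDM' : D ≤ M := commutator_le_self M
  have hDns : ∃ x ∈ D, x ∉ S := ⟨_, Subgroup.commutator_mem_commutator ha₀ hb₀, hab₀⟩
  have hDnorm : NormBy P D := NormBy.commutator hM.2.1
  have hDM : D ⊔ (P ⊓ S) = M := by
    refine heq _ ⟨sup_le (hDM'.trans hM.1) inf_le_left, ?_, le_sup_right, ?_⟩
      (sup_le hDM' hM.2.2.1)
    · intro g hg x hx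
      have hle2 : D ⊔ (P ⊓ S) ≤ Subgroup.comap (MulAut.conj g).toMonoidHom (D ⊔ (P ⊓ S)) := by
        refine sup_le (fun d hd => ?_) (fun z hz => ?_)
        · exact Subgroup.mem_sup_left (hDnorm g hg d hd)
        · refine Subgroup.mem_sup_right ?_
          show g * z * g⁻¹ ∈ P ⊓ S
          rw [scalars_central hz.2 g, mul_assoc, mul_inv_cancel, mul_one]
          exact hz
      exact hle2 hx
    · exact let ⟨x, hx, hxs⟩ := hDns; ⟨x, Subgroup.mem_sup_left hx, hxs⟩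
  have hDperf : ⁅D, D⁆ = D := by
    refine le_antisymm (commutator_le_self D) ?_
    conv_lhs => rw [hD, ← hDM]
    exact (Subgroup.commutator_mono (sup_le_sup_left inf_le_right _) (sup_le_sup_left inf_le_right _)).trans
      (hcommsup D)
  let E : GL ι F → Subgroup (GL ι F) := fun h => D.map (MulAut.conj h).toMonoidHom
  have hE1 : E 1 = D := by
    ext x
    simp [E]
  have hEC : ∀ g, E g ≤ C g := fun g => Subgroup.map_mono hDM'
  have hEperf : ∀ g, ⁅E g, E g⁆ = E g := fun g => by rw [← Subgroup.map_commutator, hDperf]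
  have hEcomm : ∀ g ∈ G, ∀ k ∈ G, E g ≠ E k → ∀ x ∈ E g, ∀ y ∈ E k, x * y = y * x := by
    intro g hg k hk hne x hx
    have hCne : C g ≠ C k := fun h => hne (by
      have : ⁅C g, C g⁆ = ⁅C k, C k⁆ := by rw [h]
      simp only [C, ← Subgroup.map_commutator] at this
      exact this)
    exact commute_of_perfect (hEperf k) fun y hy =>
      hinterS _ (hconj g hg).1 _ (hconj k hk).1 (hconj g hg).2 (hconj k hk).2 hCne x (hEC g hx) y (hEC k hy)
  let 𝒟 : Finset (Subgroup (GL ι F)) := (Set.toFinite (E '' (G : Set (GL ι F)))).toFinset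
  have h𝒟 : ∀ X, X ∈ 𝒟 ↔ ∃ g ∈ G, E g = X := fun X => by simp [𝒟]
  let T : Set (GL ι F) := ⋃ X ∈ 𝒟, (X : Set (GL ι F))
  have hTmem : ∀ g ∈ G, ∀ x ∈ E g, x ∈ T := fun g hg x hx =>
    Set.mem_biUnion ((h𝒟 _).mpr ⟨g, hg, rfl⟩) hx
  have hTn : ∀ g ∈ G, ∀ x ∈ T, g * x * g⁻¹ ∈ T := by
    intro g hg x hx
    simp only [T, Set.mem_iUnion] at hx
    obtain ⟨X, hX, hx⟩ := hx
    obtain ⟨k, hk, rfl⟩ := (h𝒟 X).mp hX
    obtain ⟨y, hy, rfl⟩ := hx
    exact hTmem (g * k) (mul_mem hg hk) _ ⟨y, hy, by simp [mul_assoc]⟩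
  set K := Subgroup.closure T with hK
  have hKn : NormBy G K := hclosureNorm T hTn
  have hKP : K ≤ P := by
    rw [hK, Subgroup.closure_le]
    intro a ha
    simp only [T, Set.mem_iUnion] at ha
    obtain ⟨X, hX, ha⟩ := ha
    obtain ⟨g, hg, rfl⟩ := (h𝒟 X).mp hX
    exact (hconj g hg).1.1 (hEC g ha)
  have hKns : ∃ x ∈ K, x ∉ S := by
    obtain ⟨x, hx, hxs⟩ := hDns
    exact ⟨x, Subgroup.subset_closure (hTmem 1 (one_mem G) x (hE1.symm ▸ hx)), hxs⟩
  have hPK : P ≤ K := (hgen K hKP hKn hKns).trans (commutator_le_self K)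
  have hspanK := hG.span K (hKP.trans (hPle.trans hle)) hKn hKns
  have hscalarOf : ∀ A : Matrix ι ι F, (∀ g ∈ G, ∀ x ∈ E g, A * (x : Matrix ι ι F) = (x : Matrix ι ι F) * A) →
      ∃ c : F, A = c • 1 := by
    intro A hA
    refine scalar_of_span hspanK A ?_
    rintro _ ⟨x, hx, rfl⟩
    show A * (x : Matrix ι ι F) = (x : Matrix ι ι F) * A
    induction hx using Subgroup.closure_induction with
    | mem y hy =>
      simp only [T, Set.mem_iUnion] at hy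
      obtain ⟨X, hX, hy⟩ := hy
      obtain ⟨g, hg, rfl⟩ := (h𝒟 X).mp hX
      exact hA g hg y hy
    | one => simp
    | mul b c _ _ hb hc => rw [Units.val_mul, ← mul_assoc, hb, mul_assoc, hc, mul_assoc]
    | inv b _ hb => exact (Commute.units_inv_right (show Commute A (b : Matrix ι ι F) from hb)).eq
  by_cases hone : ∀ g ∈ G, E g = D
  · right
    have hDn : NormBy G D := fun g hg x hx => hone g hg ▸ ⟨x, hx, rfl⟩
    have hspanD := hG.span D ((hDM'.trans hM.1).trans (hPle.trans hle)) hDn hDns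
    have hcontain : ∀ L ∈ 𝒮, M ≤ L := by
      intro L hL
      have hI : L ⊓ M ∈ 𝒮 := by
        refine ⟨inf_le_right.trans hM.1, fun g hg x hx => ⟨hL.2.1 g hg x hx.1, hM.2.1 g hg x hx.2⟩,
          le_inf hL.2.2.1 hM.2.2.1, ?_⟩
        by_contra hc
        simp only [not_exists, not_and, not_not] at hc
        obtain ⟨l, hl, hls⟩ := hL.2.2.2
        refine hls (mem_scalars_of_centralizes (absIrred_of_span hspanD)
          (commute_of_perfect hDperf fun x hx => hc _ ⟨?_, ?_⟩))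
        · rw [commutatorElement_def, mul_assoc l x, mul_assoc l]
          exact L.mul_mem hl (hL.2.1 x (hM.1 (hDM' hx)) _ (L.inv_mem hl))
        · rw [commutatorElement_def]
          exact M.mul_mem (hM.2.1 l (hL.1 hl) x (hDM' hx)) (M.inv_mem (hDM' hx))
      exact (heq _ hI inf_le_right) ▸ inf_le_left
    have hMP : M = P := by
      refine le_antisymm hM.1 ((hgen D (hDM'.trans hM.1) hDn hDns).trans ?_)
      rw [hDperf]; exact hDM'
    refine ⟨P, hPle.trans hle, hPnorm, hperf,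
      isSimpleGroup_quotient P _ hPns fun L h1 h2 h3 h4 => hMP ▸ hcontain L ⟨h1, h2, h3, h4⟩,
      not_comm_quotient P _ hPns hperf, ?_, absIrred_of_span hspanP, hspanP⟩
    intro h _ hh
    refine mem_scalars_of_centralizes (absIrred_of_span hspanP) (commute_of_perfect hperf fun x hx => ?_)
    rw [commutatorElement_def]
    exact hh x hx
  simp only [not_forall, exists_prop] at hone
  obtain ⟨g₁, hg₁, hne₁⟩ := hone
  have hcen : ∀ x ∈ alg D, (∀ y ∈ alg D, x * y = y * x) → ∃ c : F, x = c • 1 := by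
    intro x hx hc
    refine hscalarOf x fun g hg y hy => ?_
    by_cases hgD : E g = D
    · exact hc _ (Algebra.subset_adjoin (mem_matrixSet (hgD ▸ hy)))
    · exact (commute_alg (fun z hz => congrArg Units.val
        (hEcomm g hg 1 (one_mem G) (hE1.symm ▸ hgD) y hy z (hE1.symm ▸ hz))) hx).symm
  have hNPD : NormAlg P (alg D) := normAlg_alg hDnorm
  obtain ⟨d, hd0, ⟨φ⟩⟩ := algEquiv_matrix (irred_of_span hspanP) hNPD hcen
  let φ₀ : Matrix (Fin d) (Fin d) F →ₐ[F] Matrix ι ι F := (alg D).val.comp φ.toAlgHom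
  have hφ₀inj : Function.Injective φ₀ := Subtype.val_injective.comp φ.injective
  have hφ₀D : ∀ x ∈ D, ∃ a, φ₀ a = (x : Matrix ι ι F) := fun x hx =>
    ⟨φ.symm ⟨_, Algebra.subset_adjoin (mem_matrixSet hx)⟩, by simp [φ₀]⟩
  let Φ : GL ι F → Matrix (Fin d) (Fin d) F →ₐ[F] Matrix ι ι F := fun g => (cj g).comp φ₀
  have hΦalg : ∀ g a, Φ g a ∈ alg (E g) := fun g a => cj_alg_map g (φ a).2
  have hΦD : ∀ g, ∀ x ∈ E g, ∃ a, Φ g a = (x : Matrix ι ι F) := by
    rintro g _ ⟨y, hy, rfl⟩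
    obtain ⟨a, ha⟩ := hφ₀D y hy
    exact ⟨a, by show cj g (φ₀ a) = _; rw [ha, cj_coe]; rfl⟩
  have hΦinj : ∀ g, Function.Injective (Φ g) := fun g a b h => hφ₀inj (by
    have := congrArg (cj g⁻¹) h
    simpa [Φ, cj_inv_cj] using this)
  have hd2 : 2 ≤ d := by
    by_contra hlt
    obtain ⟨x, hx, hxs⟩ := hDns
    obtain ⟨a, ha⟩ := hφ₀D x hx
    have : a = (a ⟨0, hd0⟩ ⟨0, hd0⟩) • 1 := by
      ext i j
      obtain rfl : d = 1 := by omega
      rw [Fin.fin_one_eq_zero i, Fin.fin_one_eq_zero j]; simp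
    rw [this, map_smul, map_one] at ha
    exact hxs (smul_one_mem_scalars ha.symm)
  left
  have htr : d = 2 → TraceReal G := by
    rintro rfl
    refine ⟨P, hPle.trans hle, hPnorm, hperf, hspanP, fun x hx => ?_⟩
    have := trace_inv_closure 𝒟 (fun X hX => by obtain ⟨g, -, rfl⟩ := (h𝒟 X).mp hX; exact hEperf g)
      (fun X hX Y hY hne => by
        obtain ⟨g, hg, rfl⟩ := (h𝒟 X).mp hX
        obtain ⟨k, hk, rfl⟩ := (h𝒟 Y).mp hY
        exact hEcomm g hg k hk hne)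
      (fun X hX => by obtain ⟨g, -, rfl⟩ := (h𝒟 X).mp hX; exact ⟨Φ g, hΦinj g, hΦD g, hΦalg g⟩)
      1 (fun _ _ _ _ => by simp) x (hPK hx)
    simpa using this
  have hcom : ∀ g ∈ G, ∀ k ∈ G, E g ≠ E k → ∀ a b, Φ g a * Φ k b = Φ k b * Φ g a := by
    intro g hg k hk hne a b
    refine commute_alg (fun y hy => (commute_alg (fun x hx => ?_) (hΦalg g a)).symm) (hΦalg k b)
    exact congrArg Units.val (hEcomm g hg k hk hne x hx y hy).symm
  let gX : Fin 𝒟.card → GL ι F := fun i => ((h𝒟 _).mp (𝒟.equivFin.symm i).2).choose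
  have hgX : ∀ i, gX i ∈ G ∧ E (gX i) = (𝒟.equivFin.symm i : Subgroup (GL ι F)) := fun i =>
    ((h𝒟 _).mp (𝒟.equivFin.symm i).2).choose_spec
  have hk2 : 2 ≤ 𝒟.card := by
    refine Finset.one_lt_card.mpr ⟨E 1, (h𝒟 _).mpr ⟨1, one_mem G, rfl⟩, E g₁, (h𝒟 _).mpr ⟨g₁, hg₁, rfl⟩, ?_⟩
    exact fun h => hne₁ (h.symm.trans hE1)
  have hneX : ∀ i j, i ≠ j → E (gX i) ≠ E (gX j) := fun i j hij h => hij (by
    rw [(hgX i).2, (hgX j).2] at h
    exact 𝒟.equivFin.symm.injective (Subtype.ext h))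
  have hrange : ∀ g, ∀ y ∈ alg (E g), ∃ b, Φ g b = y := by
    intro g y hy
    have hle : alg (E g) ≤ (Φ g).range := Algebra.adjoin_le (by
      rintro _ ⟨x, hx, rfl⟩
      exact hΦD g x hx)
    exact hle hy
  have hgen' : ∀ A : Subalgebra F (Matrix ι ι F), (∀ i a, Φ (gX i) a ∈ A) → A = ⊤ := by
    intro A hA
    apply Algebra.toSubmodule_eq_top.mp
    rw [eq_top_iff, ← hspanK, Submodule.span_le]
    rintro _ ⟨x, hx, rfl⟩
    suffices h : (x : Matrix ι ι F) ∈ A ∧ ((x⁻¹ : GL ι F) : Matrix ι ι F) ∈ A from h.1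
    induction hx using Subgroup.closure_induction with
    | mem y hy =>
      simp only [T, Set.mem_iUnion] at hy
      obtain ⟨X, hX, hy⟩ := hy
      have hEX : E (gX (𝒟.equivFin ⟨X, hX⟩)) = X := by rw [(hgX _).2, Equiv.symm_apply_apply]
      refine ⟨?_, ?_⟩
      · obtain ⟨b, hb⟩ := hΦD (gX (𝒟.equivFin ⟨X, hX⟩)) y (hEX.symm ▸ hy)
        exact hb ▸ hA _ _
      · obtain ⟨b, hb⟩ := hΦD (gX (𝒟.equivFin ⟨X, hX⟩)) y⁻¹ (hEX.symm ▸ inv_mem hy)
        exact hb ▸ hA _ _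
    | one => simp
    | mul y z _ _ hy hz =>
      rw [_root_.mul_inv_rev, Units.val_mul, Units.val_mul]
      exact ⟨mul_mem hy.1 hz.1, mul_mem hz.2 hy.2⟩
    | inv y _ hy => rw [inv_inv]; exact ⟨hy.2, hy.1⟩
  have hEconj : ∀ h k : GL ι F, E (h * k) = (E k).map (MulAut.conj h).toMonoidHom := fun h k => by
    simp only [E, Subgroup.map_map]
    congr 1
    ext x
    simp [mul_assoc]
  have hperm : ∀ g ∈ G, ∃ σ : Equiv.Perm (Fin 𝒟.card), ∀ i a, ∃ b, cj g (Φ (gX i) a) = Φ (gX (σ i)) b := by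
    intro g hg
    let f : Fin 𝒟.card → Fin 𝒟.card := fun i =>
      𝒟.equivFin ⟨E (g * gX i), (h𝒟 _).mpr ⟨g * gX i, mul_mem hg (hgX i).1, rfl⟩⟩
    have hf : ∀ i, E (gX (f i)) = E (g * gX i) := fun i => by rw [(hgX _).2, Equiv.symm_apply_apply]
    have hfi : Function.Injective f := by
      intro i j hij
      by_contra hne
      refine hneX i j hne ?_
      have h : E (g * gX i) = E (g * gX j) := congrArg Subtype.val (𝒟.equivFin.injective hij)
      rw [hEconj, hEconj g] at h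
      exact Subgroup.map_injective (MulEquiv.injective (MulAut.conj g)) h
    refine ⟨Equiv.ofBijective f hfi.bijective_of_finite, fun i a => ?_⟩
    obtain ⟨b, hb⟩ := hrange (gX (f i)) (cj g (Φ (gX i) a)) (by
      rw [hf i, show cj g (Φ (gX i) a) = Φ (g * gX i) a from cj_cj _ _ _]
      exact hΦalg _ _)
    exact ⟨b, hb.symm⟩
  exact ⟨d, 𝒟.card, hd2, hk2, htr, φ₀, D, gX, fun i => (hgX i).1, (hDM'.trans hM.1).trans (hPle.trans hle), hDperf,
    hDns, hφ₀D, fun a => (φ a).2, fun i j hij a b => hcom _ (hgX i).1 _ (hgX j).1 (hneX i j hij) a b, hgen',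
    hperm⟩

/-- A minimal non-scalar normal subgroup that is not of class two: tensor induced or a core. -/
theorem perfect_outcome_full [Finite F] (hι : 2 ≤ Fintype.card ι)
    {G N : Subgroup (GL ι F)} (hG : Good G) (hle : N ≤ G) (hnorm : NormBy G N)
    (hscal : Geo.scalars ι F ≤ N)
    (hmin : ∀ M ≤ N, NormBy G M → Geo.scalars ι F ≤ M → (∃ x ∈ M, x ∉ Geo.scalars ι F) → M = N)
    (hnc : ∃ x ∈ N, ∃ y ∈ N, ⁅x, y⁆ ∉ Geo.scalars ι F) :
    (∃ d k, 2 ≤ d ∧ 2 ≤ k ∧ d ^ k = Fintype.card ι ∧ (d = 2 → TraceReal G) ∧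
      ∀ e : ι ≃ (Fin k → Fin d), ∃ P : GL ι F, G ≤ Geo.tensorWreathSubgroup d k e P) ∨
    ∃ P, IsCore G P := by
  have : Nonempty ι := Fintype.card_pos_iff.mp (by omega)
  rcases perfect_outcome_data hι hG hle hnorm hscal hmin hnc with ⟨d, k, hd, hk, htr, h⟩ | h
  · obtain ⟨hdk, hwr⟩ := h.wreath (by omega) (by omega)
    exact Or.inl ⟨d, k, hd, hk, hdk, htr, hwr⟩
  · exact Or.inr h

/-- A minimal non-scalar normal subgroup that is not of class two (any dimension). -/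
theorem perfect_outcome_any [Finite F] (hι : 2 ≤ Fintype.card ι)
    {G N : Subgroup (GL ι F)} (hG : Good G) (hle : N ≤ G) (hnorm : NormBy G N)
    (hscal : Geo.scalars ι F ≤ N)
    (hmin : ∀ M ≤ N, NormBy G M → Geo.scalars ι F ≤ M → (∃ x ∈ M, x ∉ Geo.scalars ι F) → M = N)
    (hnc : ∃ x ∈ N, ∃ y ∈ N, ⁅x, y⁆ ∉ Geo.scalars ι F) :
    TraceReal G ∨ (∃ d k, WreathK G d k) ∨ ∃ P, IsCore G P := by
  rcases perfect_outcome_full hι hG hle hnorm hscal hmin hnc with ⟨d, k, hd, hk, hdk, htr, hwr⟩ | h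
  · by_cases hd3 : 3 ≤ d
    · exact Or.inr (Or.inl ⟨d, k, hd3, hk, hdk, hwr⟩)
    · exact Or.inl (htr (by omega))
  · exact Or.inr (Or.inr h)

/-- Aschbacher's theorem for GL_n(q), n ≥ 3. -/
theorem aschbacher_any [Fintype F] (hι : 3 ≤ Fintype.card ι) (H : Subgroup (GL ι F)) :
    (∃ W : Submodule F (ι → F), W ≠ ⊥ ∧ W ≠ ⊤ ∧ H ≤ Geo.subspaceStabilizer W) ∨
    (∃ (m t : ℕ) (D : Fin t → Submodule F (ι → F)), t * m = Fintype.card ι ∧ Geo.IsMDecomposition m D ∧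
      H ≤ Geo.decompositionStabilizer D) ∨
    (∃ (r : ℕ) (K : Subalgebra F (Matrix ι ι F)), r.Prime ∧ r ∣ Fintype.card ι ∧ Geo.IsFieldSubalgebra r K ∧
      H ≤ Geo.subalgebraNormalizer K) ∨
    (NoField H ∧ ∃ d t : ℕ, 2 ≤ d ∧ 2 ≤ t ∧ Tensor H d t) ∨
    FormOutcome H ∨
    (∃ d k, WreathK H d k) ∨
    SubfieldOutcome H ∨
    (∃ (r : ℕ) (R : Subgroup (GL ι F)) (m : ℕ), 1 ≤ m ∧ Fintype.card ι = r ^ m ∧
      Geo.IsLinearSymplecticTypeData r R ∧ H ≤ Geo.subgroupNormalizer R) ∨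
    Geo.InLinearResidualClass H := by
  classical
  have : Nonempty ι := Fintype.card_pos_iff.mp (by omega)
  have : Finite (Matrix ι ι F) := inferInstanceAs (Finite (ι → ι → F))
  have : Finite (GL ι F) := Finite.of_injective Units.val Units.val_injective
  by_cases hirr : Geo.ActsIrreducibly (Geo.matrixSet H)
  swap
  · left
    simp only [Geo.ActsIrreducibly, not_forall, not_or] at hirr
    obtain ⟨W, hW, hb, ht⟩ := hirr
    refine ⟨W, hb, ht, fun g hg v => ?_⟩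
    have key : ∀ g ∈ H, ∀ w ∈ W, (g : Matrix ι ι F) *ᵥ w ∈ W :=
      fun g hg => (mapsTo_iff_mulVec _ W).mp (hW _ (mem_matrixSet hg))
    refine ⟨key g hg v, fun hv => ?_⟩
    have := key g⁻¹ (inv_mem hg) _ hv
    simpa [Matrix.mulVec_mulVec] using this
  right
  by_cases hprim : Primitive H
  swap
  · left
    simp only [Primitive, not_forall, not_not, exists_prop] at hprim
    obtain ⟨m, t, D, hD, hle⟩ := hprim
    exact ⟨m, t, D, decomp_card hD, hD, hle⟩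
  right
  by_cases hnf : NoField H
  swap
  · left
    simp only [NoField, not_forall, not_not, exists_prop] at hnf
    exact hnf
  right
  by_cases hT : ∃ d t : ℕ, 2 ≤ d ∧ 2 ≤ t ∧ Tensor H d t
  · exact Or.inl ⟨hnf, hT⟩
  right
  set G := H ⊔ Geo.scalars ι F with hG'
  have hHG : H ≤ G := le_sup_left
  have hG : Good G := by
    refine good_of_primitive le_sup_right (fun W hW => hirr W fun s hs => ?_)
      (fun m t D hD h => hprim m t D hD (hHG.trans h))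
      (fun r K hr hd hK h => hnf r K hr hd hK (hHG.trans h))
      (fun d t hd ht h => hT ⟨d, t, hd, ht, h.1, fun e => ?_⟩)
    · obtain ⟨x, hx, rfl⟩ := hs
      exact hW _ (mem_matrixSet (hHG hx))
    · obtain ⟨P, hP⟩ := h.2 e
      exact ⟨P, hHG.trans hP⟩
  have form_mono : FormOutcome G → FormOutcome H := by
    rintro (⟨f, hf, h⟩ | ⟨ho, Q, hQ, h⟩ | ⟨σ, f, hf, h⟩)
    · exact Or.inl ⟨f, hf, hHG.trans h⟩
    · exact Or.inr (Or.inl ⟨ho, Q, hQ, hHG.trans h⟩)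
    · exact Or.inr (Or.inr ⟨σ, f, hf, hHG.trans h⟩)
  have sub_mono : SubfieldOutcome G → SubfieldOutcome H := fun ⟨F₀, r, P, hr, hc, hne, h⟩ =>
    ⟨F₀, r, P, hr, hc, hne, hHG.trans h⟩
  obtain ⟨x₀, hx₀, hx₀s⟩ := not_all_scalar (by omega) hG.irr
  have hex : ∃ k, ∃ N : Subgroup (GL ι F),
      (N ≤ G ∧ NormBy G N ∧ Geo.scalars ι F ≤ N ∧ ∃ x ∈ N, x ∉ Geo.scalars ι F) ∧ Nat.card N = k :=
    ⟨_, G, ⟨le_rfl, normBy_self G, le_sup_right, x₀, hx₀, hx₀s⟩, rfl⟩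
  obtain ⟨N, ⟨hNle, hNn, hSN, hNs⟩, hNk⟩ := Nat.find_spec hex
  have hmin : ∀ M ≤ N, NormBy G M → Geo.scalars ι F ≤ M → (∃ x ∈ M, x ∉ Geo.scalars ι F) → M = N :=
    fun M h1 h2 h3 h4 =>
      Subgroup.eq_of_le_of_card_ge h1 (hNk ▸ Nat.find_min' hex ⟨M, ⟨h1.trans hNle, h2, h3, h4⟩, rfl⟩)
  by_cases hc : ∀ x ∈ N, ∀ y ∈ N, ⁅x, y⁆ ∈ Geo.scalars ι F
  · rcases classTwo_outcome hι ⟨hG, hNle, hNn, hSN, hNs, hmin, hc⟩ with h | h | ⟨r, R, m, h1, h2, h3, h4⟩
    · exact Or.inl (form_mono h)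
    · exact Or.inr (Or.inr (Or.inl (sub_mono h)))
    · exact Or.inr (Or.inr (Or.inr (Or.inl ⟨r, R, m, h1, h2, h3, hHG.trans (le_subgroupNormalizer h4)⟩)))
  simp only [not_forall, exists_prop] at hc
  rcases perfect_outcome_any (by omega) hG hNle hNn hSN hmin hc with h | ⟨d, k, hd3, hk, hd, h⟩ | ⟨P, hP⟩
  · exact Or.inl (form_mono (h.formOutcome (by omega)))
  · exact Or.inr (Or.inl ⟨d, k, hd3, hk, hd, fun e => let ⟨P, hP⟩ := h e; ⟨P, hHG.trans hP⟩⟩)
  have hPH : P ≤ H := by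
    rw [← hP.perfect]
    exact (Subgroup.commutator_mono hP.le hP.le).trans (commutator_sup_scalars_le H)
  have hPn : NormBy G P := hP.normal
  have hPnH : NormBy H P := fun h hh => hPn h (hHG hh)
  by_cases hsub : ∃ F₀ : Subfield F, F₀ ≠ ⊤ ∧ Geo.RealisableOver F₀ (Geo.matrixSet P)
  · obtain ⟨F₀, hF₀, hr⟩ := hsub
    exact Or.inr (Or.inr (Or.inl (subfield_of_realisable hP.span_eq hPnH hF₀ hr)))
  have hcore : Geo.IsResidualCore H P :=
    ⟨hPH, hPnH, hP.perfect, hP.simple, hP.nonabelian, fun h hh => hP.centralizer_scalar h (hHG hh),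
      hP.absIrred, fun F₀ hF₀ hr => hsub ⟨F₀, hF₀, hr⟩⟩
  by_cases hq : ∃ Q : (ι → F) → F, Geo.IsNondegenerateQuadraticForm Q ∧ Geo.FixesQuadForm (Geo.matrixSet P) Q
  · obtain ⟨Q, hQ, hfix⟩ := hq
    exact Or.inl (formOutcome_of_trace (by omega) hP.span_eq hPnH (RingEquiv.refl F) (fun _ => rfl)
      (trace_inv_of_quad hQ hfix))
  by_cases hs : ∃ f : (ι → F) → (ι → F) → F, Geo.IsSymplecticForm f ∧ Geo.FixesForm (Geo.matrixSet P) f
  · obtain ⟨f, hf, hfix⟩ := hs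
    exact Or.inl (formOutcome_of_trace (by omega) hP.span_eq hPnH (RingEquiv.refl F) (fun _ => rfl)
      (trace_inv_of_symplectic hf hfix))
  by_cases hu : ∃ (σ : F ≃+* F) (f : (ι → F) → (ι → F) → F),
      Geo.IsUnitaryForm σ f ∧ Geo.FixesForm (Geo.matrixSet P) f
  · obtain ⟨σ, f, hf, hfix⟩ := hu
    exact Or.inl (formOutcome_of_trace (by omega) hP.span_eq hPnH σ hf.involutive (trace_inv_of_unitary hf hfix))
  exact Or.inr (Or.inr (Or.inr (Or.inr ⟨P, hcore, hq, hs, hu⟩)))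

end Cfsg.Agent.Aschbacher
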