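/-
Aschbacher's theorem for a group of similarities containing the scalars, every dimension.
Main results: `form_master`, `form_master_data`, `perfect_le`, `core_mono`, `irred_sup_scalars`.
-/
import Cfsg.Agent.Lib.Aschbacher.FormClifford
import Cfsg.Agent.Lib.Aschbacher.WreathGeneral

set_option autoImplicit false

namespace Cfsg.Agent.Aschbacher

open Matrix
open scoped commutatorElement
open Cfsg.Agent.PrimeDim

variable {ι : Type} [Fintype ι] [DecidableEq ι] {F : Type*} [Field F]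
variable {σ : F →+* F} {Φ : Matrix ι ι F}

/-- Classes 2, 3, 4 with forms; tensor induced (with the factors); symplectic type; or a core. -/
theorem form_master_data [Fintype F] (hι : 3 ≤ Fintype.card ι) (h : Herm σ Φ) {G : Subgroup (GL ι F)}
    (hG : Sim σ Φ G) (hs : Geo.scalars ι F ≤ G) (hirr : Geo.ActsIrreducibly (Geo.matrixSet G)) :
    FDecomp σ Φ G ∨ FField σ Φ G ∨ (∃ d t : ℕ, 2 ≤ d ∧ 2 ≤ t ∧ FTensor σ Φ G d t) ∨
    (Good G ∧ ∃ d k, 2 ≤ d ∧ 2 ≤ k ∧ (d = 2 → TraceReal G) ∧ TIData G d k) ∨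
    (Good G ∧ ∃ (r m z p f : ℕ) (R : Subgroup (GL ι F)), SympData G r m z p f R) ∨
    (Good G ∧ ∃ P, IsCore G P) := by
  classical
  have : Nonempty ι := Fintype.card_pos_iff.mp (by omega)
  have : Finite (Matrix ι ι F) := inferInstanceAs (Finite (ι → ι → F))
  have : Finite (GL ι F) := Finite.of_injective Units.val Units.val_injective
  rcases form_clifford h hG hs hirr with h' | h' | h' | hgood
  · exact Or.inl h'
  · exact Or.inr (Or.inl h')
  · exact Or.inr (Or.inr (Or.inl h'))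
  obtain ⟨x₀, hx₀, hx₀s⟩ := not_all_scalar (by omega) hirr
  have hex : ∃ k, ∃ N : Subgroup (GL ι F),
      (N ≤ G ∧ NormBy G N ∧ Geo.scalars ι F ≤ N ∧ ∃ x ∈ N, x ∉ Geo.scalars ι F) ∧ Nat.card N = k :=
    ⟨_, G, ⟨le_rfl, normBy_self G, hs, x₀, hx₀, hx₀s⟩, rfl⟩
  obtain ⟨N, ⟨hNle, hNn, hSN, hNs⟩, hNk⟩ := Nat.find_spec hex
  have hmin : ∀ M ≤ N, NormBy G M → Geo.scalars ι F ≤ M → (∃ x ∈ M, x ∉ Geo.scalars ι F) → M = N :=
    fun M h1 h2 h3 h4 =>
      Subgroup.eq_of_le_of_card_ge h1 (hNk ▸ Nat.find_min' hex ⟨M, ⟨h1.trans hNle, h2, h3, h4⟩, rfl⟩)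
  right; right; right
  by_cases hc : ∀ x ∈ N, ∀ y ∈ N, ⁅x, y⁆ ∈ Geo.scalars ι F
  · exact Or.inr (Or.inl ⟨hgood,
      ClassTwo.sympData hι (⟨hgood, hNle, hNn, hSN, hNs, hmin, hc⟩ : ClassTwo G N)⟩)
  simp only [not_forall, exists_prop] at hc
  rcases perfect_outcome_data (by omega) hgood hNle hNn hSN hmin hc with h' | h'
  · exact Or.inl ⟨hgood, h'⟩
  · exact Or.inr (Or.inr ⟨hgood, h'⟩)

/-- Classes 2, 3, 4 with forms; tensor induced; symplectic type; or a core. -/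
theorem form_master [Fintype F] (hι : 3 ≤ Fintype.card ι) (h : Herm σ Φ) {G : Subgroup (GL ι F)}
    (hG : Sim σ Φ G) (hs : Geo.scalars ι F ≤ G) (hirr : Geo.ActsIrreducibly (Geo.matrixSet G)) :
    FDecomp σ Φ G ∨ FField σ Φ G ∨ (∃ d t : ℕ, 2 ≤ d ∧ 2 ≤ t ∧ FTensor σ Φ G d t) ∨
    (Good G ∧ ∃ d k, 2 ≤ d ∧ 2 ≤ k ∧ d ^ k = Fintype.card ι ∧ (d = 2 → TraceReal G) ∧
      ∀ e : ι ≃ (Fin k → Fin d), ∃ P : GL ι F, G ≤ Geo.tensorWreathSubgroup d k e P) ∨
    (Good G ∧ ∃ (r m z p f : ℕ) (R : Subgroup (GL ι F)), SympData G r m z p f R) ∨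
    (Good G ∧ ∃ P, IsCore G P) := by
  have : Nonempty ι := Fintype.card_pos_iff.mp (by omega)
  refine (form_master_data hι h hG hs hirr).imp id (Or.imp id (Or.imp id (Or.imp_left ?_)))
  rintro ⟨hgood, d, k, hd, hk, htr, hT⟩
  obtain ⟨hdk, hwr⟩ := hT.wreath (by omega) (by omega)
  exact ⟨hgood, d, k, hd, hk, hdk, htr, hwr⟩

theorem irred_sup_scalars {H : Subgroup (GL ι F)} (hirr : Geo.ActsIrreducibly (Geo.matrixSet H)) :
    Geo.ActsIrreducibly (Geo.matrixSet (H ⊔ Geo.scalars ι F)) := fun W hW => hirr W fun s hs => by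
  obtain ⟨x, hx, rfl⟩ := hs
  exact hW _ (mem_matrixSet (le_sup_left (a := H) hx))

/-- A perfect subgroup of `H · scalars` lies in `H`. -/
theorem perfect_le {H P : Subgroup (GL ι F)} (hle : P ≤ H ⊔ Geo.scalars ι F) (hp : ⁅P, P⁆ = P) : P ≤ H := by
  rw [← hp]
  exact (Subgroup.commutator_mono hle hle).trans (commutator_sup_scalars_le H)

theorem core_mono {H P : Subgroup (GL ι F)} (hP : IsCore (H ⊔ Geo.scalars ι F) P) : IsCore H P :=
  ⟨perfect_le hP.le hP.perfect, fun g hg => hP.normal g (le_sup_left (a := H) hg), hP.perfect, hP.simple,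
    hP.nonabelian, fun g hg => hP.centralizer_scalar g (le_sup_left (a := H) hg), hP.absIrred, hP.span_eq⟩

end Cfsg.Agent.Aschbacher
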