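/-
Tensor-induced groups of similarities: the form is a tensor power.
Main results: `eq_smul_of_pureMat_eq`, `tensor_power_gram`, `tensorPowerFormStructure_of_gram`.
-/
import Cfsg.Agent.Lib.Aschbacher.FormMaster

set_option autoImplicit false

namespace Cfsg.Agent.Aschbacher

open Matrix
open scoped commutatorElement
open Cfsg.Agent.PrimeDim

variable {ι : Type} [Fintype ι] [DecidableEq ι] {F : Type*} [Field F]

section Pure

variable {k d : ℕ}

theorem pureMat_transpose (X : Fin k → Matrix (Fin d) (Fin d) F) :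
    (pureMat X)ᵀ = pureMat fun i => (X i)ᵀ := rfl

theorem pureMat_map (σ : F →+* F) (X : Fin k → Matrix (Fin d) (Fin d) F) :
    (pureMat X).map σ = pureMat fun i => (X i).map σ := by
  ext x y
  simp [pureMat_apply, map_prod]

/-- Tensor powers determine their factor up to a scalar. -/
theorem eq_smul_of_pureMat_eq (hk : 0 < k) {A B : Matrix (Fin d) (Fin d) F} {l : F}
    (h : pureMat (fun _ : Fin k => A) = l • pureMat (fun _ : Fin k => B)) (hB : B ≠ 0) (hl : l ≠ 0) :
    ∃ m : F, A = m • B ∧ l = m ^ k := by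
  classical
  obtain ⟨p, q, hpq⟩ : ∃ p q, B p q ≠ 0 := by
    by_contra hc
    simp only [not_exists, not_not] at hc
    exact hB (Matrix.ext hc)
  have key : ∀ a b, A a b * A p q ^ (k - 1) = l * (B a b * B p q ^ (k - 1)) := by
    intro a b
    let i : Fin k := ⟨0, hk⟩
    have h1 := congrFun (congrFun h (Function.update (fun _ => p) i a)) (Function.update (fun _ => q) i b)
    rw [Matrix.smul_apply, smul_eq_mul, pureMat_apply, pureMat_apply, ← Finset.mul_prod_erase _ _ (Finset.mem_univ i),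
      ← Finset.mul_prod_erase (s := Finset.univ) (a := i) _ (Finset.mem_univ i)] at h1
    simp only [Function.update_self] at h1
    have hc : ∀ C : Matrix (Fin d) (Fin d) F, ∏ j ∈ Finset.univ.erase i,
        C (Function.update (fun _ => p) i a j) (Function.update (fun _ => q) i b j) = C p q ^ (k - 1) := by
      intro C
      rw [Finset.prod_congr rfl fun j hj => by
        rw [Function.update_of_ne (Finset.ne_of_mem_erase hj), Function.update_of_ne (Finset.ne_of_mem_erase hj)]]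
      simp
    rwa [hc A, hc B] at h1
  have hk' : k - 1 + 1 = k := Nat.sub_add_cancel hk
  have hpow : A p q ^ k = l * B p q ^ k := by
    have := key p q
    rwa [← pow_succ', ← pow_succ', hk'] at this
  have hA : A p q ≠ 0 := fun h0 => by
    rw [h0, zero_pow hk.ne'] at hpow
    exact mul_ne_zero hl (pow_ne_zero k hpq) hpow.symm
  refine ⟨A p q / B p q, ?_, ?_⟩
  · ext a b
    rw [Matrix.smul_apply, smul_eq_mul, div_mul_eq_mul_div, eq_div_iff hpq]
    refine mul_right_cancel₀ (pow_ne_zero (k - 1) hA) ?_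
    have e := key a b
    calc A a b * B p q * A p q ^ (k - 1) = B p q * (l * (B a b * B p q ^ (k - 1))) := by rw [← e]; ring
      _ = l * B p q ^ k * B a b := by rw [← hk', pow_succ]; simp only [Nat.add_sub_cancel]; ring
      _ = A p q * B a b * A p q ^ (k - 1) := by
          rw [← hpow]
          conv_lhs => rw [← hk', pow_succ]
          ring
  · rw [div_pow, hpow, mul_div_cancel_right₀ _ (pow_ne_zero k hpq)]

end Pure

variable {σ : F →+* F} {Φ : Matrix ι ι F}

set_option maxHeartbeats 800000 in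
/-- Tensor-induced similarities preserve a tensor power of one form, and the factor is a form with a perfect
irreducible group of similarities. -/
theorem tensor_power_gram [Finite F] [Nonempty ι] (h : Herm σ Φ) {G : Subgroup (GL ι F)} (hG : Sim σ Φ G)
    {d k : ℕ} (hk : 0 < k) (hd : 0 < d) (hT : TIData G d k) :
    d ^ k = Fintype.card ι ∧ ∀ e : ι ≃ (Fin k → Fin d),
      ∃ (P : GL ι F) (J₁ : Matrix (Fin d) (Fin d) F) (c m : F) (D₁ : Subgroup (GL (Fin d) F)),
        c ≠ 0 ∧ IsUnit J₁.det ∧ G ≤ Geo.tensorWreathSubgroup d k e P ∧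
        (P : Matrix ι ι F)ᵀ * Φ * (P : Matrix ι ι F).map σ =
          c • Matrix.reindexAlgEquiv F F e.symm (pureMat fun _ : Fin k => J₁) ∧
        (J₁.map σ)ᵀ = m • J₁ ∧ (∀ ε : F, (Φ.map σ)ᵀ = ε • Φ → σ c * m ^ k = ε * c) ∧
        ⁅D₁, D₁⁆ = D₁ ∧ (∃ x ∈ D₁, x ∉ Geo.scalars (Fin d) F) ∧ Sim σ J₁ D₁ ∧
        Submodule.span F (Geo.matrixSet D₁) = ⊤ := by
  classical
  obtain ⟨φ₀, D, g, hgG, hDG, hDperf, hDns, hφD, hφalg, hcomm, hgen, hperm⟩ := hT
  have : Nonempty (Fin d) := ⟨⟨0, hd⟩⟩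
  let φ : Fin k → (Matrix (Fin d) (Fin d) F →ₐ[F] Matrix ι ι F) := fun i => (cj (g i)).comp φ₀
  obtain ⟨hcard, hwr⟩ := wreath_of_factors_slots hk hd φ hcomm hgen hperm
  refine ⟨hcard, fun e => ?_⟩
  obtain ⟨P, hslot, hle⟩ := hwr e
  have hinj : Function.Injective φ₀ := RingHom.injective φ₀.toRingHom
  -- the adjoint on the factor
  have hpre : ∀ X, ∃ Y, φ₀ Y = adj σ Φ (φ₀ X) := by
    intro X
    have h1 : alg D ≤ φ₀.range := Algebra.adjoin_le (by
      rintro _ ⟨x, hx, rfl⟩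
      exact hφD x hx)
    exact h1 (adj_mem_alg h hG hDG (hφalg X))
  choose θ hθ using hpre
  let ψ : Matrix (Fin d) (Fin d) F →+* Matrix (Fin d) (Fin d) F :=
    { toFun := fun X => (θ Xᵀ).map σ
      map_one' := by
        have : θ 1 = 1 := hinj (by rw [hθ, map_one, adj_one h])
        rw [Matrix.transpose_one, this, Matrix.map_one _ (map_zero _) (map_one _)]
      map_mul' := fun X Y => by
        have : θ (Yᵀ * Xᵀ) = θ Xᵀ * θ Yᵀ := hinj (by rw [hθ, map_mul, adj_mul h, map_mul, hθ, hθ])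
        rw [Matrix.transpose_mul, this, Matrix.map_mul]
      map_zero' := by
        have : θ 0 = 0 := hinj (by rw [hθ, map_zero, adj_zero])
        rw [Matrix.transpose_zero, this, Matrix.map_zero _ (map_zero _)]
      map_add' := fun X Y => by
        have : θ (Xᵀ + Yᵀ) = θ Xᵀ + θ Yᵀ := hinj (by rw [hθ, map_add, adj_add, map_add, hθ, hθ])
        rw [Matrix.transpose_add, this, Matrix.map_add _ (map_add σ)] }
  obtain ⟨a, ha⟩ := exists_conj (RingHom.id F) ψ (fun c => by
    show (θ (c • (1 : Matrix (Fin d) (Fin d) F))ᵀ).map σ = _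
    have : θ (c • (1 : Matrix (Fin d) (Fin d) F)) = σ c • 1 := hinj (by
      rw [hθ, map_smul, map_one, adj_smul, adj_one h, map_smul, map_one])
    rw [Matrix.transpose_smul, Matrix.transpose_one, this, map_smul', Matrix.map_one _ (map_zero _) (map_one _),
      h.invol]
    rfl)
  set J₁ : Matrix (Fin d) (Fin d) F := ((a⁻¹ : GL (Fin d) F) : Matrix (Fin d) (Fin d) F) with hJ₁
  have hJ₁u : IsUnit J₁.det := (Matrix.isUnit_iff_isUnit_det _).mp (a⁻¹).isUnit
  have hJθ : ∀ X, J₁ * (θ X).map σ = Xᵀ * J₁ := by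
    intro X
    have h1 : (θ X).map σ = cj a Xᵀ := by
      have := ha Xᵀ
      simp only [RingHom.coe_id, Matrix.map_id] at this
      rw [← this]
      show _ = (θ Xᵀᵀ).map σ
      rw [Matrix.transpose_transpose]
    rw [h1, cj_apply, hJ₁, ← mul_assoc, ← mul_assoc, Units.inv_mul, one_mul]
  -- transfer to the tensor slots
  let ρ : Matrix (Fin k → Fin d) (Fin k → Fin d) F →ₐ[F] Matrix ι ι F :=
    (Matrix.reindexAlgEquiv F F e.symm).toAlgHom
  have hρT : ∀ M, (ρ M)ᵀ = ρ Mᵀ := fun M => rfl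
  have hρσ : ∀ M, (ρ M).map σ = ρ (M.map σ) := fun M => rfl
  set J' : Matrix ι ι F := (P : Matrix ι ι F)ᵀ * Φ * (P : Matrix ι ι F).map σ with hJ'
  set J₀ : Matrix ι ι F := ρ (pureMat fun _ : Fin k => J₁) with hJ₀
  have hJ₀u : IsUnit J₀ := by
    refine IsUnit.map ρ ⟨pureUnit fun _ : Fin k => a⁻¹, rfl⟩
  have hTs : ∀ (i : Fin k) (X : Matrix (Fin d) (Fin d) F),
      (ρ (pureMat (Pi.mulSingle i X)))ᵀ = ρ (pureMat (Pi.mulSingle i Xᵀ)) := by
    intro i X
    rw [hρT, pureMat_transpose]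
    congr 2
    funext j
    by_cases hj : j = i
    · subst hj; simp
    · simp [hj]
  have hσs : ∀ (i : Fin k) (X : Matrix (Fin d) (Fin d) F),
      (ρ (pureMat (Pi.mulSingle i X))).map σ = ρ (pureMat (Pi.mulSingle i (X.map σ))) := by
    intro i X
    rw [hρσ, pureMat_map]
    congr 2
    funext j
    by_cases hj : j = i
    · subst hj; simp
    · simp [hj]
  have hrel' : ∀ i X, (ρ (pureMat (Pi.mulSingle i X)))ᵀ * J' = J' * (ρ (pureMat (Pi.mulSingle i (θ X)))).map σ := by
    intro i X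
    have e1 : ∀ Y, φ i Y * (P : Matrix ι ι F) = P * ρ (pureMat (Pi.mulSingle i Y)) := fun Y => by
      rw [hslot i Y, cj_apply, mul_assoc, Units.inv_mul, mul_one]
      rfl
    have e2 : φ i (θ X) = adj σ Φ (φ i X) := by
      show cj (g i) (φ₀ (θ X)) = adj σ Φ (cj (g i) (φ₀ X))
      rw [adj_cj h hG (hgG i), hθ]
    calc (ρ (pureMat (Pi.mulSingle i X)))ᵀ * J'
        = ((P : Matrix ι ι F) * ρ (pureMat (Pi.mulSingle i X)))ᵀ * Φ * (P : Matrix ι ι F).map σ := by
          simp [hJ', Matrix.transpose_mul, mul_assoc]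
      _ = (P : Matrix ι ι F)ᵀ * (Φ * (φ i (θ X)).map σ) * (P : Matrix ι ι F).map σ := by
          rw [← e1, e2, h.mul_adj_map]; simp [Matrix.transpose_mul, mul_assoc]
      _ = (P : Matrix ι ι F)ᵀ * Φ * (φ i (θ X) * (P : Matrix ι ι F)).map σ := by
          rw [Matrix.map_mul]; simp [mul_assoc]
      _ = J' * (ρ (pureMat (Pi.mulSingle i (θ X)))).map σ := by
          rw [e1, Matrix.map_mul]; simp [hJ', mul_assoc]
  have hrel₀ : ∀ i X, (ρ (pureMat (Pi.mulSingle i X)))ᵀ * J₀ = J₀ * (ρ (pureMat (Pi.mulSingle i (θ X)))).map σ := by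
    intro i X
    rw [hTs, hσs, hJ₀, ← map_mul, ← map_mul, pureMat_mul, pureMat_mul]
    congr 2
    funext j
    by_cases hj : j = i
    · subst hj; simp [hJθ]
    · simp [hj]
  obtain ⟨K, hK⟩ := hJ₀u
  have hK0 : J₀ * ((K⁻¹ : GL ι F) : Matrix ι ι F) = 1 := by rw [← hK, Units.mul_inv]
  set M : Matrix ι ι F := J' * ((K⁻¹ : GL ι F) : Matrix ι ι F) with hM
  have hcM : ∀ i X, (ρ (pureMat (Pi.mulSingle i X)))ᵀ * M = M * (ρ (pureMat (Pi.mulSingle i X)))ᵀ := by
    intro i X
    have e3 : ((K⁻¹ : GL ι F) : Matrix ι ι F) * (ρ (pureMat (Pi.mulSingle i X)))ᵀ =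
        (ρ (pureMat (Pi.mulSingle i (θ X)))).map σ * ((K⁻¹ : GL ι F) : Matrix ι ι F) := by
      have h1 := hrel₀ i X
      rw [← hK] at h1
      calc ((K⁻¹ : GL ι F) : Matrix ι ι F) * (ρ (pureMat (Pi.mulSingle i X)))ᵀ
          = ((K⁻¹ : GL ι F) : Matrix ι ι F) * ((ρ (pureMat (Pi.mulSingle i X)))ᵀ * (K : Matrix ι ι F)) *
              ((K⁻¹ : GL ι F) : Matrix ι ι F) := by
            rw [mul_assoc, mul_assoc, Units.mul_inv, mul_one]
        _ = _ := by rw [h1, ← mul_assoc, Units.inv_mul, one_mul]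
    rw [hM, ← mul_assoc, hrel', mul_assoc, ← e3, ← mul_assoc]
  let Z : Matrix ι ι F := cj P Mᵀ
  have hZ : ∀ i X, Commute Z (φ i X) := by
    intro i X
    rw [hslot i X]
    have h1 := congrArg Matrix.transpose (hcM i X)
    simp only [Matrix.transpose_mul, Matrix.transpose_transpose] at h1
    exact Commute.map (show Commute Mᵀ (ρ (pureMat (Pi.mulSingle i X))) from h1) (cj P)
  obtain ⟨c, hc⟩ := scalar_of_span (S := Set.univ) Submodule.span_univ Z (fun Y _ => by
    have := hgen (Subalgebra.centralizer F {Z}) (fun i X => (Subalgebra.mem_centralizer_iff F).mpr fun y hy => by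
      rw [Set.mem_singleton_iff.mp hy]; exact (hZ i X).eq)
    exact (Subalgebra.mem_centralizer_iff F).mp (show Y ∈ Subalgebra.centralizer F {Z} by rw [this]; exact Algebra.mem_top) Z rfl)
  have hgram : J' = c • J₀ := by
    have h1 : Mᵀ = c • 1 := by rw [← cj_inv_cj P Mᵀ, show cj P Mᵀ = Z from rfl, hc, map_smul, map_one]
    have h2 : M = c • 1 := by rw [← Matrix.transpose_transpose M, h1, Matrix.transpose_smul, Matrix.transpose_one]
    calc J' = M * J₀ := by rw [hM, ← hK, mul_assoc, Units.inv_mul, mul_one]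
      _ = c • J₀ := by rw [h2, Matrix.smul_mul, one_mul]
  have hJ'u : IsUnit J'.det := by
    rw [hJ', Matrix.det_mul, Matrix.det_mul, Matrix.det_transpose]
    exact ((Matrix.isUnit_iff_isUnit_det _).mp P.isUnit).mul h.det |>.mul (isUnit_det_map σ P)
  have hc0 : c ≠ 0 := fun h0 => by
    rw [hgram, h0, zero_smul, Matrix.det_zero] at hJ'u
    exact not_isUnit_zero hJ'u
  have hJ₁0 : J₁ ≠ 0 := fun h0 => by
    rw [h0, Matrix.det_zero] at hJ₁u
    exact not_isUnit_zero hJ₁u
  -- symmetry of the factor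
  obtain ⟨ε, hε, hsym⟩ := h.symm
  have hsJ' : ∀ ε : F, (Φ.map σ)ᵀ = ε • Φ → (J'.map σ)ᵀ = ε • J' := by
    intro ε hsym
    rw [hJ', Matrix.map_mul, Matrix.map_mul, h.map_map, Matrix.transpose_mul, Matrix.transpose_mul, hsym,
      ← Matrix.transpose_map, Matrix.transpose_transpose]
    simp [mul_assoc]
  have hpureσ : ∀ ε : F, (Φ.map σ)ᵀ = ε • Φ →
      pureMat (fun _ : Fin k => (J₁.map σ)ᵀ) = (ε * c / σ c) • pureMat (fun _ : Fin k => J₁) := by
    intro ε hsym
    have h1 := hsJ' ε hsym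
    rw [hgram, map_smul', Matrix.transpose_smul, smul_smul, hJ₀, hρσ, hρT, pureMat_map, pureMat_transpose] at h1
    have h2 := congrArg (fun X => ((σ c)⁻¹) • X) h1
    simp only [smul_smul, inv_mul_cancel₀ ((map_ne_zero σ).mpr hc0), one_smul] at h2
    rw [← div_eq_inv_mul] at h2
    refine (Matrix.reindexAlgEquiv F F e.symm).injective (h2.trans ?_)
    exact (map_smul (Matrix.reindexAlgEquiv F F e.symm) _ _).symm
  obtain ⟨m, hm, -⟩ := eq_smul_of_pureMat_eq hk (hpureσ ε hsym) hJ₁0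
    (div_ne_zero (mul_ne_zero hε hc0) ((map_ne_zero σ).mpr hc0))
  have hmk : ∀ ε : F, (Φ.map σ)ᵀ = ε • Φ → σ c * m ^ k = ε * c := by
    intro ε' hsym'
    have h1 := hpureσ ε' hsym'
    rw [hm] at h1
    obtain ⟨p, q, hpq⟩ : ∃ p q, J₁ p q ≠ 0 := by
      by_contra hcon
      simp only [not_exists, not_not] at hcon
      exact hJ₁0 (Matrix.ext hcon)
    have h2 := congrFun (congrFun h1 (fun _ => p)) (fun _ => q)
    simp only [pureMat_apply, Matrix.smul_apply, smul_eq_mul, Finset.prod_const, Finset.card_univ,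
      Fintype.card_fin, mul_pow] at h2
    have h3 := mul_right_cancel₀ (pow_ne_zero k hpq) h2
    rw [h3, mul_comm, div_mul_cancel₀ _ ((map_ne_zero σ).mpr hc0)]
  -- the perfect group on the factor
  let u : GL (Fin d) F →* GL ι F := Units.map φ₀.toRingHom.toMonoidHom
  have hu : Function.Injective u := fun x y hxy => Units.ext (hinj (congrArg Units.val hxy))
  let D₁ : Subgroup (GL (Fin d) F) := D.comap u
  have hmap : D₁.map u = D := by
    refine le_antisymm (Subgroup.map_comap_le _ _) fun x hx => ?_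
    obtain ⟨b, hb⟩ := hφD x hx
    obtain ⟨b', hb'⟩ := hφD x⁻¹ (inv_mem hx)
    let y : GL (Fin d) F := ⟨b, b', hinj (by rw [map_mul, hb, hb', Units.mul_inv, map_one]),
      hinj (by rw [map_mul, hb, hb', Units.inv_mul, map_one])⟩
    have hy : u y = x := Units.ext hb
    exact ⟨y, show u y ∈ D from hy.symm ▸ hx, hy⟩
  refine ⟨P, J₁, c, m, D₁, hc0, hJ₁u, hle, hgram, hm, hmk, ?_, ?_, ?_, ?_⟩
  · exact Subgroup.map_injective hu (by rw [Subgroup.map_commutator, hmap, hDperf])
  · obtain ⟨x, hx, hxs⟩ := hDns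
    rw [← hmap] at hx
    obtain ⟨y, hy, rfl⟩ := hx
    refine ⟨y, hy, fun hys => hxs ?_⟩
    obtain ⟨b, hb⟩ := (Geo.mem_scalars_iff y).mp hys
    refine (Geo.mem_scalars_iff _).mpr ⟨b, ?_⟩
    show φ₀ (y : Matrix (Fin d) (Fin d) F) = _
    rw [hb, map_smul, map_one]
  · intro y hy
    obtain ⟨b, hb0, hb⟩ := adj_of_sim h hG (hDG (show u y ∈ D from hy))
    have hθy : θ (y : Matrix (Fin d) (Fin d) F) = b • ((y⁻¹ : GL (Fin d) F) : Matrix (Fin d) (Fin d) F) := by
      refine hinj ?_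
      rw [hθ, show φ₀ (y : Matrix (Fin d) (Fin d) F) = (u y : Matrix ι ι F) from rfl, hb, map_smul, ← map_inv u]
      rfl
    refine ⟨σ b, (map_ne_zero σ).mpr hb0, ?_⟩
    rw [← hJθ, hθy, map_smul', Matrix.mul_smul, Matrix.smul_mul, mul_assoc, ← Matrix.map_mul, Units.inv_mul,
      Matrix.map_one _ (map_zero _) (map_one _), mul_one]
  · rw [span_eq_toSubmodule, Algebra.toSubmodule_eq_top, eq_top_iff]
    intro X _
    have h1 : alg D ≤ (alg D₁).map φ₀ := Algebra.adjoin_le (by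
      rintro _ ⟨x, hx, rfl⟩
      rw [← hmap] at hx
      obtain ⟨y, hy, rfl⟩ := hx
      exact ⟨_, Algebra.subset_adjoin (mem_matrixSet hy), rfl⟩)
    obtain ⟨Y, hY, hYX⟩ := h1 (hφalg X)
    exact hinj hYX ▸ hY

theorem gramMatrix_formOfGram {κ : Type} [Fintype κ] [DecidableEq κ] (σ : F →+* F) (G : Matrix κ κ F) :
    Geo.gramMatrix (Geo.formOfGram σ G) = G := by
  ext a b
  exact formOfGram_single σ G a b

/-- The Gram equation gives the tensor-power structure of the form. -/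
theorem tensorPowerFormStructure_of_gram {d k : ℕ} (σ : F →+* F) (σ' : F → F) (hσ' : ∀ x, σ' x = σ x)
    {f : (ι → F) → (ι → F) → F} (hf : f = Geo.formOfGram σ Φ) (e : ι ≃ (Fin k → Fin d)) (P : GL ι F)
    {c : F} (hc : c ≠ 0) (J₁ : Matrix (Fin d) (Fin d) F)
    (hgram : (P : Matrix ι ι F)ᵀ * Φ * (P : Matrix ι ι F).map σ =
      c • Matrix.reindexAlgEquiv F F e.symm (pureMat fun _ : Fin k => J₁)) :
    Geo.IsTensorPowerFormStructure σ' f (Geo.formOfGram σ J₁) e P := by
  refine ⟨c, hc, fun x y => ?_⟩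
  rw [hf, formOfGram_mulVec, hgram, gramMatrix_formOfGram]
  simp only [Geo.formOfGram, Matrix.smul_apply, smul_eq_mul, Function.comp_apply, hσ', Finset.mul_sum,
    Matrix.coe_reindexAlgEquiv, Matrix.reindex_apply, Equiv.symm_symm, Matrix.submatrix_apply, pureMat_apply]
  refine Fintype.sum_equiv e _ _ fun a => ?_
  refine Fintype.sum_equiv e _ _ fun b => ?_
  ring

end Cfsg.Agent.Aschbacher
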