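/-
Generic steps from the form master theorem to the class lists of the classical groups.
Main results: `sim_isometries_sup_scalars`, `form_swap`, `reducible_split`, `sympData_isometries`, `sympData_trace_mem`,
`tensorFormStructure_of_gram`, `tensorProductSubgroup_mul_le`.
-/
import Cfsg.Agent.Lib.Aschbacher.FormWreath

set_option autoImplicit false

namespace Cfsg.Agent.Aschbacher

open Matrix
open scoped commutatorElement
open Cfsg.Agent.PrimeDim

variable {ι : Type} [Fintype ι] [DecidableEq ι] {F : Type*} [Field F]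
variable {σ : F →+* F} {Φ : Matrix ι ι F}

theorem sesq_eq_formOfGram (σ : F →+* F) (J : Matrix ι ι F) : sesq σ J = Geo.formOfGram σ J := by
  funext u v
  rw [formOfGram_eq]
  rfl

/-- Isometries and scalars consist of similarities. -/
theorem sim_isometries_sup_scalars {H : Subgroup (GL ι F)}
    (hH : ∀ g ∈ H, (g : Matrix ι ι F)ᵀ * Φ * (g : Matrix ι ι F).map σ = Φ) :
    Sim σ Φ (H ⊔ Geo.scalars ι F) := by
  intro g hg
  obtain ⟨a, ha, z, hz, rfl⟩ := Subgroup.mem_sup_of_normal_right.mp hg
  obtain ⟨b, hb⟩ := (Geo.mem_scalars_iff z).mp hz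
  refine ⟨(b : F) * σ b, mul_ne_zero b.ne_zero ((map_ne_zero σ).mpr b.ne_zero), ?_⟩
  rw [Units.val_mul, hb, Matrix.mul_smul, mul_one, Matrix.transpose_smul, map_smul', Matrix.smul_mul,
    Matrix.smul_mul, Matrix.mul_smul, smul_smul, hH a ha]

/-- A similarity in the Gram sense is one for the form. -/
theorem similar_apply {g : GL ι F} {c : F}
    (hg : (g : Matrix ι ι F)ᵀ * Φ * (g : Matrix ι ι F).map σ = c • Φ) (u v : ι → F) :
    Geo.formOfGram σ Φ ((g : Matrix ι ι F) *ᵥ u) ((g : Matrix ι ι F) *ᵥ v) = c * Geo.formOfGram σ Φ u v := by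
  rw [formOfGram_mulVec, hg, formOfGram_eq, formOfGram_eq, Matrix.smul_mulVec, dotProduct_smul, smul_eq_mul]

theorem mem_similarityGroup_of_gram {G : Subgroup (GL ι F)} (hG : Sim σ Φ G) :
    G ≤ Geo.similarityGroup (Geo.formOfGram σ Φ) := by
  intro g hg
  obtain ⟨c, hc, h⟩ := hG g hg
  exact ⟨Units.mk0 c hc, similar_apply h⟩

theorem form_swap (h : Herm σ Φ) (u v : ι → F) {ε : F} (hs : (Φ.map σ)ᵀ = ε • Φ) :
    σ (Geo.formOfGram σ Φ u v) = ε * Geo.formOfGram σ Φ v u := by
  have hentry : ∀ a b, σ (Φ a b) = ε * Φ b a := fun a b => by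
    have := congrFun (congrFun hs b) a
    simpa using this
  simp only [Geo.formOfGram, map_sum, map_mul, h.invol, hentry, Finset.mul_sum]
  rw [Finset.sum_comm]
  exact Finset.sum_congr rfl fun a _ => Finset.sum_congr rfl fun b _ => by ring

theorem form_zero_symm (h : Herm σ Φ) (u v : ι → F) (huv : Geo.formOfGram σ Φ u v = 0) :
    Geo.formOfGram σ Φ v u = 0 := by
  obtain ⟨ε, hε, hs⟩ := h.symm
  have := form_swap h u v hs
  rw [huv, map_zero] at this
  exact (mul_eq_zero.mp this.symm).resolve_left hε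

/-- A reducible group of similarities fixes a totally singular subspace, a small non-degenerate one, or a pair. -/
theorem reducible_split [Finite F] [Nonempty ι] (h : Herm σ Φ) {G : Subgroup (GL ι F)} (hG : Sim σ Φ G)
    (hred : ¬ Geo.ActsIrreducibly (Geo.matrixSet G)) :
    (∃ W : Submodule F (ι → F), W ≠ ⊥ ∧ Geo.IsTotallySingularFor (Geo.formOfGram σ Φ) W ∧
      G ≤ Geo.subspaceStabilizer W) ∨
    (∃ W : Submodule F (ι → F), W ≠ ⊥ ∧ W ≠ ⊤ ∧ Geo.IsNondegenerateOn (Geo.formOfGram σ Φ) W ∧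
      2 * Module.finrank F W < Fintype.card ι ∧ G ≤ Geo.subspaceStabilizer W) ∨
    (∃ (m : ℕ) (D : Fin 2 → Submodule F (ι → F)), 2 * m = Fintype.card ι ∧
      Geo.IsNondegenerateMDecomposition (Geo.formOfGram σ Φ) m D ∧ G ≤ Geo.decompositionStabilizer D) := by
  classical
  set f := Geo.formOfGram σ Φ with hf
  have hadd : ∀ x y v, f (x + y) v = f x v + f y v := fun x y v => by
    simp [hf, formOfGram_eq, add_dotProduct]
  have hsmul : ∀ (a : F) x v, f (a • x) v = a * f x v := fun a x v => by simp [hf, formOfGram_eq]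
  simp only [Geo.ActsIrreducibly, not_forall, not_or] at hred
  obtain ⟨W, hW, hb, ht⟩ := hred
  have hWm : ∀ g ∈ G, ∀ w ∈ W, (g : Matrix ι ι F) *ᵥ w ∈ W :=
    fun g hg => (mapsTo_iff_mulVec _ W).mp (hW _ (mem_matrixSet hg))
  let L : W → (ι → F) →ₗ[F] F := fun w =>
    { toFun := fun x => f x w
      map_add' := fun x y => hadd x y w
      map_smul' := fun a x => by simp [hsmul] }
  set k := Module.finrank F W with hk
  let bW := Module.finBasis F W
  let Λ : (ι → F) →ₗ[F] (Fin k → F) := LinearMap.pi fun i => L (bW i)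
  set W' := LinearMap.ker Λ with hW'
  have hsr : ∀ (x : ι → F) (a : F) (v : ι → F), f x (a • v) = σ a * f x v := fun x a v => by
    simp only [hf, formOfGram_eq]
    rw [show σ ∘ (a • v) = σ a • (σ ∘ v) from funext fun i => by simp, Matrix.mulVec_smul, dotProduct_smul,
      smul_eq_mul]
  have har : ∀ (x u v : ι → F), f x (u + v) = f x u + f x v := fun x u v => by
    simp only [hf, formOfGram_eq]
    rw [show σ ∘ (u + v) = σ ∘ u + σ ∘ v from funext fun i => by simp, Matrix.mulVec_add, dotProduct_add]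
  have hmem : ∀ x, x ∈ W' ↔ ∀ w ∈ W, f x w = 0 := by
    intro x
    rw [hW', LinearMap.mem_ker]
    constructor
    · intro hx w hw
      let Wx : Submodule F (ι → F) :=
        { carrier := {v | f x v = 0}
          zero_mem' := by simp [hf, formOfGram_eq, show σ ∘ (0 : ι → F) = 0 from funext fun i => by simp]
          add_mem' := fun {u v} hu hv => by
            show f x (u + v) = 0
            rw [har, show f x u = 0 from hu, show f x v = 0 from hv, add_zero]
          smul_mem' := fun a v hv => by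
            show f x (a • v) = 0
            rw [hsr, show f x v = 0 from hv, mul_zero] }
      have hsum := congrArg Subtype.val (bW.sum_repr ⟨w, hw⟩)
      simp only [Submodule.coe_sum, Submodule.coe_smul] at hsum
      show w ∈ Wx
      rw [← hsum]
      exact Submodule.sum_mem _ fun i _ => Submodule.smul_mem _ _ (congrFun hx i)
    · intro hx
      funext i
      exact hx _ (bW i).2
  have hstab : ∀ U : Submodule F (ι → F), (∀ g ∈ G, ∀ u ∈ U, (g : Matrix ι ι F) *ᵥ u ∈ U) →
      G ≤ Geo.subspaceStabilizer U := fun U hU g hg v => by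
    refine ⟨hU g hg v, fun hv => ?_⟩
    have := hU g⁻¹ (inv_mem hg) _ hv
    simpa [Matrix.mulVec_mulVec] using this
  have hW'm : ∀ g ∈ G, ∀ x ∈ W', (g : Matrix ι ι F) *ᵥ x ∈ W' := by
    intro g hg x hx
    rw [hmem] at hx ⊢
    intro w hw
    obtain ⟨c, -, hc⟩ := hG g hg
    have h1 := similar_apply hc x (((g⁻¹ : GL ι F) : Matrix ι ι F) *ᵥ w)
    rw [Matrix.mulVec_mulVec w, Units.mul_inv, Matrix.one_mulVec, ← hf,
      hx _ (hWm g⁻¹ (inv_mem hg) w hw), mul_zero] at h1
    exact h1
  have hcard : Module.finrank F (ι → F) = Fintype.card ι := Module.finrank_fintype_fun_eq_card F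
  have hkn : k < Fintype.card ι := by
    have := Submodule.finrank_lt ht
    rwa [hcard] at this
  have hdim : Fintype.card ι ≤ k + Module.finrank F W' := by
    have h1 := LinearMap.finrank_range_add_finrank_ker Λ
    have h2 := Submodule.finrank_le (LinearMap.range Λ)
    rw [hcard, ← hW'] at h1
    rw [Module.finrank_fintype_fun_eq_card, Fintype.card_fin] at h2
    omega
  have hW'b : W' ≠ ⊥ := fun h => by rw [h, finrank_bot] at hdim; omega
  by_cases hts : W ⊓ W' = ⊥
  swap
  · exact Or.inl ⟨W ⊓ W', hts, fun u hu v hv => (hmem u).mp hu.2 v hv.1,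
      hstab _ fun g hg u hu => ⟨hWm g hg u hu.1, hW'm g hg u hu.2⟩⟩
  have hsum := Submodule.finrank_sup_add_finrank_inf_eq W W'
  rw [hts, finrank_bot] at hsum
  have hdim2 : k + Module.finrank F W' = Fintype.card ι := by
    have h2 := Submodule.finrank_le (W ⊔ W')
    rw [hcard] at h2
    omega
  have htop : W ⊔ W' = ⊤ := Submodule.eq_top_of_finrank_eq (by rw [hcard]; omega)
  have hperp : ∀ u ∈ W', ∀ v ∈ W, f u v = 0 := fun u hu v hv => (hmem u).mp hu v hv
  have hndeg : ∀ U U' : Submodule F (ι → F), U ⊔ U' = ⊤ → (∀ u ∈ U, ∀ v ∈ U', f u v = 0) →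
      Geo.IsNondegenerateOn f U := by
    intro U U' hUU hperp' w hw hw0
    have hnd := formOfGram_nondegenerate (σ := σ) h.det w hw0
    have key : ∃ x ∈ U, f w x ≠ 0 := by
      by_contra hc
      simp only [not_exists, not_and, not_not] at hc
      obtain ⟨x, hx⟩ := hnd.2
      obtain ⟨u, hu, u', hu', rfl⟩ := Submodule.mem_sup.mp (hUU ▸ Submodule.mem_top : x ∈ U ⊔ U')
      rw [← hf, har, hc u hu, hperp' w hw u' hu', add_zero] at hx
      exact hx rfl
    obtain ⟨x, hxU, hx⟩ := key
    exact ⟨⟨x, hxU, fun h0 => hx (form_zero_symm h x w h0)⟩, ⟨x, hxU, hx⟩⟩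
  have hnW : Geo.IsNondegenerateOn f W :=
    hndeg W W' htop fun u hu v hv => form_zero_symm h v u (hperp v hv u hu)
  have hnW' : Geo.IsNondegenerateOn f W' := hndeg W' W (sup_comm W W' ▸ htop) hperp
  rcases lt_trichotomy (2 * k) (Fintype.card ι) with hlt | heq | hgt
  · exact Or.inr (Or.inl ⟨W, hb, ht, hnW, hlt, hstab W hWm⟩)
  · refine Or.inr (Or.inr ⟨k, ![W, W'], heq, ⟨⟨le_rfl, ?_, ?_, ?_, ?_⟩, ?_, ?_⟩, fun g hg => ⟨1, ?_⟩⟩)
    · exact Nat.pos_of_ne_zero fun h0 => hb (Submodule.finrank_eq_zero.mp h0)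
    · intro i
      fin_cases i
      · rfl
      · show Module.finrank F W' = k; omega
    · intro i
      fin_cases i
      · refine Disjoint.mono_right (iSup₂_le fun j hj => ?_) (disjoint_iff.mpr hts)
        fin_cases j
        · exact absurd rfl hj
        · exact le_rfl
      · refine Disjoint.mono_right (iSup₂_le fun j hj => ?_) (disjoint_iff.mpr hts).symm
        fin_cases j
        · exact le_rfl
        · exact absurd rfl hj
    · exact eq_top_iff.mpr (htop ▸ sup_le (le_iSup_of_le 0 le_rfl) (le_iSup_of_le 1 le_rfl))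
    · intro i
      fin_cases i
      · exact hnW
      · exact hnW'
    · intro i j hij
      fin_cases i <;> fin_cases j
      · exact absurd rfl hij
      · exact fun u hu v hv => form_zero_symm h v u (hperp v hv u hu)
      · exact hperp
      · exact absurd rfl hij
    · intro i
      have hmap : ∀ U : Submodule F (ι → F), (∀ g ∈ G, ∀ u ∈ U, (g : Matrix ι ι F) *ᵥ u ∈ U) →
          U.map (Matrix.toLin' (g : Matrix ι ι F)) = U := fun U hU =>
        le_antisymm ((mapsTo_iff_mulVec _ U).mpr (hU g hg)) fun u hu => by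
          refine ⟨((g⁻¹ : GL ι F) : Matrix ι ι F) *ᵥ u, hU g⁻¹ (inv_mem hg) u hu, ?_⟩
          rw [Matrix.toLin'_apply, Matrix.mulVec_mulVec, Units.mul_inv, Matrix.one_mulVec]
      fin_cases i
      · exact hmap W hWm
      · exact hmap W' hW'm
  · refine Or.inr (Or.inl ⟨W', hW'b, ?_, hnW', by omega, hstab W' hW'm⟩)
    intro h'
    have : Module.finrank F W' = Fintype.card ι := by rw [h', finrank_top, hcard]
    have hk0 : k ≠ 0 := fun h0 => hb (Submodule.finrank_eq_zero.mp h0)
    omega

/-- In a symplectic-type situation commutators with `G` give a spanning normal subgroup of isometries. -/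
theorem sympData_isometries [Fintype F] [Nonempty ι] {H : Subgroup (GL ι F)}
    (hgood : Good (H ⊔ Geo.scalars ι F)) {r m z p f : ℕ} {R : Subgroup (GL ι F)}
    (hD : SympData (H ⊔ Geo.scalars ι F) r m z p f R) :
    ∃ P : Subgroup (GL ι F), P ≤ R ∧ P ≤ H ∧ NormBy (H ⊔ Geo.scalars ι F) P ∧
      Submodule.span F (Geo.matrixSet P) = ⊤ := by
  classical
  set G := H ⊔ Geo.scalars ι F with hG
  refine ⟨⁅G, R⁆, ?_, ?_, ?_, hgood.span _ ?_ ?_ ?_⟩
  · rw [Subgroup.commutator_le]
    intro g hg x hx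
    rw [commutatorElement_def]
    exact mul_mem (hD.norm g hg x hx) (inv_mem hx)
  · exact (Subgroup.commutator_mono le_rfl hD.le).trans (commutator_sup_scalars_le H)
  · intro g hg x hx
    have h1 : (⁅G, R⁆).map (MulAut.conj g).toMonoidHom ≤ ⁅G, R⁆ := by
      rw [Subgroup.map_commutator]
      refine Subgroup.commutator_mono ?_ ?_
      · rintro _ ⟨y, hy, rfl⟩; exact mul_mem (mul_mem hg hy) (inv_mem hg)
      · rintro _ ⟨y, hy, rfl⟩; exact hD.norm g hg y hy
    exact h1 ⟨x, hx, rfl⟩
  · exact (Subgroup.commutator_mono le_rfl hD.le).trans (commutator_le_self G)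
  · intro g hg x hx
    have h1 : (⁅G, R⁆).map (MulAut.conj g).toMonoidHom ≤ ⁅G, R⁆ := by
      rw [Subgroup.map_commutator]
      refine Subgroup.commutator_mono ?_ ?_
      · rintro _ ⟨y, hy, rfl⟩; exact mul_mem (mul_mem hg hy) (inv_mem hg)
      · rintro _ ⟨y, hy, rfl⟩; exact hD.norm g hg y hy
    exact h1 ⟨x, hx, rfl⟩
  · by_contra hcon
    simp only [not_exists, not_and, not_not] at hcon
    -- then `R` is abelian modulo nothing: a non-scalar element gives an abelian normal subgroup
    obtain ⟨x, hx, hxs⟩ : ∃ x ∈ R, x ∉ Geo.scalars ι F := by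
      by_contra hall
      simp only [not_exists, not_and, not_not] at hall
      obtain ⟨i⟩ := ‹Nonempty ι›
      have h2 : 2 ≤ Fintype.card ι := by
        rw [hD.card_eq]
        exact le_trans hD.prime.two_le (Nat.le_self_pow (by have := hD.pos; omega) r)
      obtain ⟨j, hj⟩ := Fintype.exists_ne_of_one_lt_card (by omega : 1 < Fintype.card ι) i
      have hsub : Submodule.span F (Geo.matrixSet R) ≤ Submodule.span F {(1 : Matrix ι ι F)} := by
        rw [Submodule.span_le]
        rintro _ ⟨y, hy, rfl⟩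
        obtain ⟨b, hb⟩ := (Geo.mem_scalars_iff y).mp (hall y hy)
        exact Submodule.mem_span_singleton.mpr ⟨(b : F), hb.symm⟩
      rw [hD.span] at hsub
      obtain ⟨b, hb⟩ := Submodule.mem_span_singleton.mp
        (hsub (Submodule.mem_top : (Matrix.single i j (1 : F)) ∈ _))
      have h1 := congrFun (congrFun hb i) j
      simp [Ne.symm hj] at h1
    let A : Subgroup (GL ι F) := Subgroup.closure ({x} ∪ (Geo.scalars ι F : Set (GL ι F)))
    have hAG : A ≤ G := by
      rw [Subgroup.closure_le]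
      rintro y (rfl | hy)
      · exact hD.le hx
      · exact Subgroup.mem_sup_right hy
    have hAn : NormBy G A := by
      intro g hg y hy
      induction hy using Subgroup.closure_induction with
      | mem y hy =>
        rcases hy with rfl | hy
        · have h1 : ⁅g, y⁆ ∈ A := Subgroup.subset_closure
            (Or.inr (hcon _ (Subgroup.commutator_mem_commutator hg hx)))
          have h2 : g * y * g⁻¹ = ⁅g, y⁆ * y := by rw [commutatorElement_def, inv_mul_cancel_right]
          rw [h2]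
          exact mul_mem h1 (Subgroup.subset_closure (Or.inl rfl))
        · exact Subgroup.subset_closure (Or.inr ((Geo.scalars_normal (ι := ι) (F := F)).conj_mem _ hy g))
      | one => simp
      | mul y z _ _ hy hz =>
        have : g * (y * z) * g⁻¹ = (g * y * g⁻¹) * (g * z * g⁻¹) := by simp [mul_assoc]
        rw [this]; exact mul_mem hy hz
      | inv y _ hy =>
        have : g * y⁻¹ * g⁻¹ = (g * y * g⁻¹)⁻¹ := by simp [mul_assoc]
        rw [this]; exact inv_mem hy
    have hcomm : ∀ a ∈ A, ∀ b ∈ A, a * b = b * a := by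
      have key : ∀ a ∈ A, a ∈ Subgroup.centralizer ({x} ∪ (Geo.scalars ι F : Set (GL ι F))) := by
        intro a ha
        refine (Subgroup.closure_le _).mpr ?_ ha
        rintro y hy
        rw [SetLike.mem_coe, Subgroup.mem_centralizer_iff]
        rintro w (rfl | hw)
        · rcases hy with rfl | hy
          · rfl
          · exact scalars_central hy w
        · exact (scalars_central hw y).symm
      intro a ha b hb
      refine (Subgroup.mem_centralizer_iff.mp ((Subgroup.closure_le (K := Subgroup.centralizer {b})).mpr ?_ ha) b rfl).symm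
      intro y hy
      rw [SetLike.mem_coe, Subgroup.mem_centralizer_iff]
      intro w hw
      rw [Set.mem_singleton_iff.mp hw]
      exact (Subgroup.mem_centralizer_iff.mp (key b hb) y hy).symm
    exact hxs (hgood.abelian hAG hAn hcomm (Subgroup.subset_closure (Or.inl rfl)))

/-- If the centre's roots of unity lie in a smaller field, so do all traces. -/
theorem sympData_trace_mem [Fintype F] {G : Subgroup (GL ι F)} {r m z p f : ℕ} {R : Subgroup (GL ι F)}
    (hD : SympData G r m z p f R) {d : ℕ} (hd0 : 0 < d) (hdf : d < f) (hd : z ∣ p ^ d - 1) :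
    ∃ E : Subfield F, E ≠ ⊤ ∧ ∀ x ∈ R, (x : Matrix ι ι F).trace ∈ E := by
  obtain ⟨hp, hpc, hFc, hzf, hrp'⟩ := hD.charP
  have : Fact p.Prime := ⟨hp⟩
  obtain ⟨E, hE, hEmem⟩ := exists_subfield_of_pow (F := F) hFc hd0 hdf
  refine ⟨E, hE, fun x hx => ?_⟩
  rcases hD.trace x hx with ⟨-, h1, -⟩ | ⟨a, ha, h1, -⟩
  · rw [h1]; exact zero_mem E
  · rw [h1, hEmem, mul_pow]
    obtain ⟨t, ht⟩ := hd
    have hpd : p ^ d - 1 + 1 = p ^ d := Nat.sub_add_cancel (Nat.one_le_pow _ _ hp.pos)
    have hnd : ((Fintype.card ι : ℕ) : F) ^ p ^ d = Fintype.card ι := by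
      rw [← iterateFrobenius_def p d, map_natCast]
    rw [hnd, ← hpd, pow_succ, ht, pow_mul, ha, one_pow, one_mul]

/-- The Gram equation gives the tensor structure of the form. -/
theorem tensorFormStructure_of_gram {d t : ℕ} (σ : F →+* F) (σ' : F → F) (hσ' : ∀ x, σ' x = σ x)
    {f : (ι → F) → (ι → F) → F} (hf : f = Geo.formOfGram σ Φ) (e : ι ≃ Fin d × Fin t) (P : GL ι F)
    {c : F} (hc : c ≠ 0) (G₁ : Matrix (Fin d) (Fin d) F) (G₂ : Matrix (Fin t) (Fin t) F)
    (hgram : (P : Matrix ι ι F)ᵀ * Φ * (P : Matrix ι ι F).map σ = c • tens e G₁ G₂) :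
    Geo.IsTensorFormStructure σ' f (Geo.formOfGram σ G₁) (Geo.formOfGram σ G₂) e P := by
  refine ⟨c, hc, fun x y => ?_⟩
  rw [hf, formOfGram_mulVec, hgram, gramMatrix_formOfGram, gramMatrix_formOfGram]
  simp only [Geo.formOfGram, Matrix.smul_apply, smul_eq_mul, Function.comp_apply, hσ', Finset.mul_sum,
    tens_apply, Matrix.kroneckerMap_apply]
  refine Fintype.sum_equiv e _ _ fun a => ?_
  refine Fintype.sum_equiv e _ _ fun b => ?_
  ring

theorem tens_unit_exists {d t : ℕ} (e : ι ≃ Fin d × Fin t) (A : GL (Fin d) F) (B : GL (Fin t) F) :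
    ∃ T : GL ι F, (T : Matrix ι ι F) = tens e (A : Matrix (Fin d) (Fin d) F) (B : Matrix (Fin t) (Fin t) F) ∧
      ((T⁻¹ : GL ι F) : Matrix ι ι F) = tens e ((A⁻¹ : GL (Fin d) F) : Matrix (Fin d) (Fin d) F)
        ((B⁻¹ : GL (Fin t) F) : Matrix (Fin t) (Fin t) F) :=
  ⟨⟨tens e (A : Matrix (Fin d) (Fin d) F) (B : Matrix (Fin t) (Fin t) F),
    tens e ((A⁻¹ : GL (Fin d) F) : Matrix (Fin d) (Fin d) F) ((B⁻¹ : GL (Fin t) F) : Matrix (Fin t) (Fin t) F),
    by rw [tens_mul, Units.mul_inv, Units.mul_inv, tens_one],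
    by rw [tens_mul, Units.inv_mul, Units.inv_mul, tens_one]⟩, rfl, rfl⟩

/-- Changing bases inside the factors keeps the tensor stabiliser. -/
theorem tensorProductSubgroup_mul_le {d t : ℕ} (e : ι ≃ Fin d × Fin t) (P T : GL ι F) (A : GL (Fin d) F)
    (B : GL (Fin t) F)
    (hT : (T : Matrix ι ι F) = tens e (A : Matrix (Fin d) (Fin d) F) (B : Matrix (Fin t) (Fin t) F))
    (hTi : ((T⁻¹ : GL ι F) : Matrix ι ι F) = tens e ((A⁻¹ : GL (Fin d) F) : Matrix (Fin d) (Fin d) F)
        ((B⁻¹ : GL (Fin t) F) : Matrix (Fin t) (Fin t) F)) :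
    Geo.tensorProductSubgroup d t e P ≤ Geo.tensorProductSubgroup d t e (P * T) := by
  intro g hg
  obtain ⟨a, b, hab⟩ := (mem_tensorProductSubgroup_iff e P g).mp hg
  refine (mem_tensorProductSubgroup_iff e (P * T) g).mpr ⟨A⁻¹ * a * A, B⁻¹ * b * B, ?_⟩
  rw [hab, ← cj_cj]
  congr 1
  rw [cj_apply, hT, hTi, tens_mul, tens_mul]
  simp [← mul_assoc]

end Cfsg.Agent.Aschbacher
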