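/-
Subfield groups compatible with a form (class 5 for the symplectic and unitary groups, any dimension).
Main results: `mem_subfield_of_pow_card`, `map_mem_subfield`, `quad_eq_zero_of_invariant`, `exists_rational_gram`,
`symplectic_subfield`, `unitary_subfield`.
-/
import Cfsg.Agent.Lib.PrimeDim.UnitaryCases
import Cfsg.Agent.Lib.Aschbacher.SympType

set_option autoImplicit false

namespace Cfsg.Agent.Aschbacher

open Matrix
open Cfsg.Agent.PrimeDim

variable {ι : Type} [Fintype ι] [DecidableEq ι] {F : Type*} [Field F]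

/-- A subfield consists of all roots of `x ^ |F₁| = x`. -/
theorem mem_subfield_of_pow_card [Finite F] (F₁ : Subfield F) {x : F} (hx : x ^ Nat.card F₁ = x) : x ∈ F₁ := by
  classical
  have : Fintype F := Fintype.ofFinite F
  have : Fintype F₁ := Fintype.ofFinite F₁
  set k := Nat.card F₁
  have hk : 1 < k := Finite.one_lt_card
  have hP : (Polynomial.X ^ k - Polynomial.X : Polynomial F) ≠ 0 := FiniteField.X_pow_card_sub_X_ne_zero F hk
  by_contra hxm
  have hsub : insert x (Finset.univ.image (F₁.subtype : F₁ → F)) ⊆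
      (Polynomial.X ^ k - Polynomial.X : Polynomial F).roots.toFinset := by
    intro y hy
    rw [Multiset.mem_toFinset, Polynomial.mem_roots hP]
    simp only [Polynomial.IsRoot, Polynomial.eval_sub, Polynomial.eval_pow, Polynomial.eval_X, sub_eq_zero]
    rcases Finset.mem_insert.mp hy with rfl | hy
    · exact hx
    · obtain ⟨z, -, rfl⟩ := Finset.mem_image.mp hy
      rw [← map_pow, show k = Fintype.card F₁ from Nat.card_eq_fintype_card, FiniteField.pow_card]
  have hcard := Finset.card_le_card hsub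
  rw [Finset.card_insert_of_notMem (fun h => hxm (by
      obtain ⟨z, -, rfl⟩ := Finset.mem_image.mp h
      exact z.2)),
    Finset.card_image_of_injective _ F₁.subtype.injective, Finset.card_univ] at hcard
  have h1 := (Multiset.toFinset_card_le _).trans
    (Polynomial.card_roots' (Polynomial.X ^ k - Polynomial.X : Polynomial F))
  rw [FiniteField.X_pow_card_sub_X_natDegree_eq F hk] at h1
  have h2 : k = Fintype.card F₁ := Nat.card_eq_fintype_card
  omega

/-- Endomorphisms of a finite field preserve each subfield. -/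
theorem map_mem_subfield [Finite F] (F₁ : Subfield F) (σ : F →+* F) {a : F} (ha : a ∈ F₁) : σ a ∈ F₁ := by
  refine mem_subfield_of_pow_card F₁ ?_
  have : Fintype F₁ := Fintype.ofFinite F₁
  have h1 : (⟨a, ha⟩ : F₁) ^ Nat.card F₁ = ⟨a, ha⟩ := by rw [Nat.card_eq_fintype_card, FiniteField.pow_card]
  have h2 : a ^ Nat.card F₁ = a := congrArg Subtype.val h1
  rw [← map_pow, h2]

/-- In characteristic two an invariant symmetric matrix of an irreducible group is alternating. -/
theorem quad_eq_zero_of_invariant [Finite F] (h2 : (2 : F) = 0) (hn : 2 ≤ Fintype.card ι)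
    {P : Subgroup (GL ι F)} (hirr : Geo.ActsIrreducibly (Geo.matrixSet P)) {G : Matrix ι ι F} (hsym : Gᵀ = G)
    (hinv : ∀ x ∈ P, (x : Matrix ι ι F)ᵀ * G * (x : Matrix ι ι F) = G) (u : ι → F) : u ⬝ᵥ G *ᵥ u = 0 := by
  classical
  let Q : (ι → F) → F := fun u => u ⬝ᵥ G *ᵥ u
  have hsym' : ∀ u w : ι → F, w ⬝ᵥ G *ᵥ u = u ⬝ᵥ G *ᵥ w := fun u w => by
    rw [Matrix.dotProduct_mulVec, ← Matrix.mulVec_transpose, hsym, dotProduct_comm]
  have hadd : ∀ u w, Q (u + w) = Q u + Q w := fun u w => by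
    simp only [Q, Matrix.mulVec_add, add_dotProduct, dotProduct_add, hsym' u w]
    linear_combination (u ⬝ᵥ G *ᵥ w) * h2
  have hsmul : ∀ (c : F) u, Q (c • u) = c ^ 2 * Q u := fun c u => by
    simp [Q, Matrix.mulVec_smul, dotProduct_smul, smul_dotProduct]; ring
  let W : Submodule F (ι → F) :=
    { carrier := {u | Q u = 0}
      zero_mem' := by simp [Q]
      add_mem' := fun {a b} ha hb => by
        show Q (a + b) = 0
        rw [hadd, show Q a = 0 from ha, show Q b = 0 from hb, add_zero]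
      smul_mem' := fun c u hu => by
        show Q (c • u) = 0
        rw [hsmul, show Q u = 0 from hu, mul_zero] }
  have hmem : ∀ u, u ∈ W ↔ Q u = 0 := fun _ => Iff.rfl
  have hW : ∀ s ∈ Geo.matrixSet P, W.map (Matrix.toLin' s) ≤ W := by
    rintro _ ⟨x, hx, rfl⟩
    rw [mapsTo_iff_mulVec]
    intro w hw
    rw [hmem] at hw ⊢
    show ((x : Matrix ι ι F) *ᵥ w) ⬝ᵥ G *ᵥ ((x : Matrix ι ι F) *ᵥ w) = 0
    rw [← hw]
    show _ = w ⬝ᵥ G *ᵥ w
    conv_rhs => rw [← hinv x hx]
    simp [← Matrix.mulVec_mulVec, Matrix.dotProduct_mulVec, Matrix.vecMul_transpose]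
  rcases hirr W hW with h | h
  · exfalso
    obtain ⟨i⟩ : Nonempty ι := Fintype.card_pos_iff.mp (by omega)
    obtain ⟨j, hj⟩ := Fintype.exists_ne_of_one_lt_card (by omega) i
    have hQe : ∀ i, Q (Pi.single i 1) = G i i := fun i => by simp [Q]
    obtain ⟨p, hp⟩ := CharP.exists F
    have h22 : p = 2 := by
      have : ((2 : ℕ) : F) = 0 := by exact_mod_cast h2
      exact (Nat.prime_dvd_prime_iff_eq (CharP.char_is_prime F p) Nat.prime_two).mp
        ((CharP.cast_eq_zero_iff F p 2).mp this)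
    subst h22
    have : ExpChar F 2 := ExpChar.prime Nat.prime_two
    have hGi : G i i ≠ 0 := fun h0 => by
      have : (Pi.single i 1 : ι → F) ∈ W := by rw [hmem, hQe, h0]
      rw [h, Submodule.mem_bot] at this
      simpa using congrFun this i
    obtain ⟨a, ha⟩ := (Finite.injective_iff_surjective.mp (frobenius F 2).injective) (G j j / G i i)
    rw [frobenius_def] at ha
    have hw : a • (Pi.single i 1 : ι → F) + Pi.single j 1 ∈ W := by
      rw [hmem, hadd, hsmul, hQe, hQe, ha, div_mul_cancel₀ _ hGi]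
      linear_combination G j j * h2
    rw [h, Submodule.mem_bot] at hw
    have := congrFun hw j
    simp [hj] at this
  · exact (hmem u).mp (h ▸ Submodule.mem_top)

/-- A normalised spanning group of isometries that is realisable over a proper subfield gives a rational basis
in which the Gram matrix is a multiple of a rational one. -/
theorem exists_rational_gram [Nonempty ι] [Fintype F] (σ : F →+* F) {J : Matrix ι ι F} (hJ : J.det ≠ 0)
    {H P : Subgroup (GL ι F)} (hHP : NormBy H P)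
    (hinv : ∀ x ∈ P, (x : Matrix ι ι F)ᵀ * J * (x : Matrix ι ι F).map σ = J)
    (hspan : Submodule.span F (Geo.matrixSet P) = ⊤) {F₀ : Subfield F} (hF₀ : F₀ ≠ ⊤)
    (hreal : Geo.RealisableOver F₀ (Geo.matrixSet P)) :
    ∃ (F₁ : Subfield F) (r : ℕ) (M : GL ι F) (a : F) (G₀ : Matrix ι ι F),
      r.Prime ∧ Fintype.card F = Nat.card F₁ ^ r ∧ F₁ ≠ ⊤ ∧ a ≠ 0 ∧ (∀ i j, G₀ i j ∈ F₁) ∧
      (M : Matrix ι ι F)ᵀ * J * (M : Matrix ι ι F).map σ = a • G₀ ∧
      (∀ x ∈ P, ∀ i j, cj M⁻¹ (x : Matrix ι ι F) i j ∈ F₁) ∧ H ≤ Geo.subfieldSubgroup F₁ M := by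
  classical
  obtain ⟨F₁, r, B, hr, hcard, hne, -, hB, hle⟩ := le_subfield_of_realisable hHP hspan hF₀ hreal
  set M : Matrix ι ι F := ((B⁻¹ : GL ι F) : Matrix ι ι F) with hM
  set G' : Matrix ι ι F := Mᵀ * J * M.map σ with hG'
  have hdetM : M.det ≠ 0 := (Matrix.GeneralLinearGroup.det B⁻¹).ne_zero
  have hG'det : G'.det ≠ 0 := by
    rw [hG', Matrix.det_mul, Matrix.det_mul, Matrix.det_transpose]
    exact mul_ne_zero (mul_ne_zero hdetM hJ) (isUnit_det_map σ B⁻¹).ne_zero
  have hinv' : ∀ x ∈ P, (cj B (x : Matrix ι ι F))ᵀ * G' * (cj B (x : Matrix ι ι F)).map σ = G' := by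
    intro x hx
    have e1 : M * cj B (x : Matrix ι ι F) = (x : Matrix ι ι F) * M := by
      rw [cj_apply, ← mul_assoc, ← mul_assoc, hM, Units.inv_mul, one_mul]
    calc _ = (M * cj B (x : Matrix ι ι F))ᵀ * J * (M * cj B (x : Matrix ι ι F)).map σ := by
          simp [hG', Matrix.transpose_mul, Matrix.map_mul, mul_assoc]
      _ = Mᵀ * ((x : Matrix ι ι F)ᵀ * J * (x : Matrix ι ι F).map σ) * M.map σ := by
          rw [e1]; simp [Matrix.transpose_mul, Matrix.map_mul, mul_assoc]
      _ = G' := by rw [hinv x hx]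
  obtain ⟨i₀, j₀, hne0⟩ : ∃ i j, G' i j ≠ 0 := by
    by_contra hc
    simp only [not_exists, not_not] at hc
    exact hG'det (by rw [show G' = 0 from Matrix.ext hc, Matrix.det_zero])
  obtain ⟨L₁, hL₁⟩ : ∃ L : F →ₗ[F₁] F₁, L (G' i₀ j₀) ≠ 0 := by
    by_contra hc
    simp only [not_exists, not_not] at hc
    exact hne0 (Module.forall_dual_apply_eq_zero_iff F₁ _ |>.mp hc)
  let L : F → F := fun a => (L₁ a : F)
  set G0 : Matrix ι ι F := G'.map L with hG0
  have hG0mem : ∀ i j, G0 i j ∈ F₁ := fun i j => (L₁ (G' i j)).2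
  have hLsum : ∀ (g : ι → F), L (∑ k, g k) = ∑ k, L (g k) := by
    intro g
    simp only [L, map_sum]
    push_cast
    rfl
  have hLmul : ∀ c ∈ F₁, ∀ a, L (c * a) = c * L a := by
    intro c hc a
    have := L₁.map_smul ⟨c, hc⟩ a
    simp only [L]
    rw [show c * a = (⟨c, hc⟩ : F₁) • a from rfl, this]
    rfl
  have hmapl : ∀ (A X : Matrix ι ι F), (∀ i j, A i j ∈ F₁) → (A * X).map L = A * X.map L := by
    intro A X hA
    ext i j
    simp only [Matrix.map_apply, Matrix.mul_apply, hLsum]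
    exact Finset.sum_congr rfl fun k _ => hLmul _ (hA i k) _
  have hmapr : ∀ (A X : Matrix ι ι F), (∀ i j, A i j ∈ F₁) → (X * A).map L = X.map L * A := by
    intro A X hA
    ext i j
    simp only [Matrix.map_apply, Matrix.mul_apply, hLsum]
    exact Finset.sum_congr rfl fun k _ => by rw [mul_comm, hLmul _ (hA k j) _, mul_comm]
  have hinv0 : ∀ x ∈ P, (cj B (x : Matrix ι ι F))ᵀ * G0 * (cj B (x : Matrix ι ι F)).map σ = G0 := by
    intro x hx
    conv_rhs => rw [hG0, ← hinv' x hx]
    rw [hmapr ((cj B (x : Matrix ι ι F)).map σ) _ (fun i j => map_mem_subfield F₁ σ (hB x hx i j)),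
      hmapl (cj B (x : Matrix ι ι F))ᵀ G' (fun i j => hB x hx j i)]
  obtain ⟨c, hc⟩ := invariant_unique (scalar_of_span hspan) σ (G := J)
    (G' := (B : Matrix ι ι F)ᵀ * G0 * (B : Matrix ι ι F).map σ) (isUnit_iff_ne_zero.mpr hJ) hinv (by
    intro x hx
    have e1 : (B : Matrix ι ι F) * (x : Matrix ι ι F) = cj B (x : Matrix ι ι F) * (B : Matrix ι ι F) := by
      rw [cj_apply, mul_assoc, Units.inv_mul, mul_one]
    calc _ = ((B : Matrix ι ι F) * (x : Matrix ι ι F))ᵀ * G0 *
          ((B : Matrix ι ι F) * (x : Matrix ι ι F)).map σ := by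
          simp [Matrix.transpose_mul, Matrix.map_mul, mul_assoc]
      _ = (B : Matrix ι ι F)ᵀ * ((cj B (x : Matrix ι ι F))ᵀ * G0 * (cj B (x : Matrix ι ι F)).map σ) *
          (B : Matrix ι ι F).map σ := by
          rw [e1]; simp [Matrix.transpose_mul, Matrix.map_mul, mul_assoc]
      _ = _ := by rw [hinv0 x hx])
  have hG0G' : G0 = c • G' := by
    have h1 := congrArg (fun X => Mᵀ * X * M.map σ) hc
    simp only [Matrix.mul_smul, Matrix.smul_mul] at h1
    have e2 : Mᵀ * (B : Matrix ι ι F)ᵀ = 1 := by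
      rw [← Matrix.transpose_mul, hM, Units.mul_inv, Matrix.transpose_one]
    have e3 : (B : Matrix ι ι F).map σ * M.map σ = 1 := by
      rw [← Matrix.map_mul, hM, Units.mul_inv, Matrix.map_one _ (map_zero _) (map_one _)]
    rw [← mul_assoc, ← mul_assoc, e2, one_mul, mul_assoc, e3, mul_one] at h1
    exact h1
  have hc0 : c ≠ 0 := fun h => hL₁ (by
    have h1 : G0 i₀ j₀ = 0 := by rw [hG0G', h, zero_smul]; rfl
    exact Subtype.ext h1)
  refine ⟨F₁, r, B⁻¹, c⁻¹, G0, hr, hcard, hne, inv_ne_zero hc0, hG0mem, ?_, fun x hx => ?_, hle⟩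
  · rw [← hM, ← hG', hG0G', smul_smul, inv_mul_cancel₀ hc0, one_smul]
  · rw [inv_inv]; exact hB x hx

theorem subfieldSubgroup_smul (F₁ : Subfield F) {Z : GL ι F} (hZ : Z ∈ Geo.scalars ι F) (B : GL ι F) :
    Geo.subfieldSubgroup F₁ (Z * B) = Geo.subfieldSubgroup F₁ B := by
  have h : MulAut.conj (Z * B) = MulAut.conj B := by
    refine MulEquiv.ext fun g => ?_
    obtain ⟨c, hc⟩ := (Geo.mem_scalars_iff Z).mp hZ
    have hcz : Z * (B * g * B⁻¹) = B * g * B⁻¹ * Z := Units.ext (by
      rw [Units.val_mul Z, Units.val_mul _ Z, hc, Matrix.smul_mul, one_mul, Matrix.mul_smul, mul_one])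
    simp only [MulAut.conj_apply, _root_.mul_inv_rev]
    rw [show Z * B * g * (B⁻¹ * Z⁻¹) = Z * (B * g * B⁻¹) * Z⁻¹ by group, hcz, mul_inv_cancel_right]
  simp only [Geo.subfieldSubgroup, h]

theorem sesq_mem {F₁ : Subfield F} {σ : F →+* F} (hσ : ∀ a ∈ F₁, σ a ∈ F₁) {G : Matrix ι ι F}
    (hG : ∀ i j, G i j ∈ F₁) {u v : ι → F} (hu : ∀ i, u i ∈ F₁) (hv : ∀ i, v i ∈ F₁) : sesq σ G u v ∈ F₁ := by
  simp only [sesq, dotProduct, Matrix.mulVec, Function.comp_apply]
  exact sum_mem fun i _ => mul_mem (hu i) (sum_mem fun j _ => mul_mem (hG i j) (hσ _ (hv j)))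

theorem sympForm_eq_sesq (m : ℕ) : Cfsg.sympForm m F = sesq (RingHom.id F) (Matrix.J (Fin m) F) := by
  funext u v
  simp [sesq, Cfsg.sympForm]

theorem gram_of_mem_spGL {m : ℕ} {g : GL (Fin m ⊕ Fin m) F} (hg : g ∈ Cfsg.spGL m F) :
    (g : Matrix (Fin m ⊕ Fin m) (Fin m ⊕ Fin m) F)ᵀ * Matrix.J (Fin m) F *
      (g : Matrix (Fin m ⊕ Fin m) (Fin m ⊕ Fin m) F).map (RingHom.id F) = Matrix.J (Fin m) F := by
  have h := (sesq_invariant_iff (RingHom.id F) (Matrix.J (Fin m) F)
    (g : Matrix (Fin m ⊕ Fin m) (Fin m ⊕ Fin m) F) 1).mp fun u v => by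
      rw [← sympForm_eq_sesq, one_mul]; exact hg u v
  rwa [one_smul] at h

/-- Class 5 for the symplectic group. -/
theorem symplectic_subfield [Fintype F] {m : ℕ} (hm : 1 ≤ m) {H P : Subgroup (GL (Fin m ⊕ Fin m) F)}
    (hH : H ≤ Cfsg.spGL m F) (hP : P ≤ Cfsg.spGL m F) (hHP : NormBy H P)
    (hspan : Submodule.span F (Geo.matrixSet P) = ⊤) {F₀ : Subfield F} (hF₀ : F₀ ≠ ⊤)
    (hreal : Geo.RealisableOver F₀ (Geo.matrixSet P)) :
    ∃ M, Geo.InSymplecticPartialClass m F M ∧ H ≤ M := by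
  classical
  have : Nonempty (Fin m ⊕ Fin m) := ⟨Sum.inl ⟨0, hm⟩⟩
  have hJ : (Matrix.J (Fin m) F).det ≠ 0 := by
    intro h0
    have h := Matrix.J_det_mul_J_det (Fin m) F
    rw [h0, zero_mul] at h
    exact zero_ne_one h
  obtain ⟨F₁, r, M, a, G₀, hr, hcard, -, ha, hG₀, hgram, -, hle⟩ :=
    exists_rational_gram (RingHom.id F) hJ hHP (fun x hx => gram_of_mem_spGL (hP hx)) hspan hF₀ hreal
  refine ⟨Geo.subfieldSubgroup F₁ M ⊓ Cfsg.spGL m F, ?_, le_inf hle hH⟩
  refine Or.inr (Or.inr (Or.inr (Or.inr (Or.inl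
    ⟨F₁, r, M, a⁻¹, hr, hcard, inv_ne_zero ha, fun u v hu hv => ?_, rfl⟩))))
  rw [sympForm_eq_sesq, sesq_mulVec, hgram, sesq_smul_matrix, ← mul_assoc, inv_mul_cancel₀ ha, one_mul]
  exact sesq_mem (fun _ h => h) hG₀ hu hv

/-- Class 5 for the unitary group. -/
theorem unitary_subfield [Fintype F] {n q : ℕ} (hF : Fintype.card F = q ^ 2) (hn : 2 ≤ n)
    {H P : Subgroup (GL (Fin n) F)} (hH : H ≤ Cfsg.GU n F q) (hPU : P ≤ Cfsg.GU n F q) (hHP : NormBy H P)
    (hspan : Submodule.span F (Geo.matrixSet P) = ⊤) {F₀ : Subfield F} (hF₀ : F₀ ≠ ⊤)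
    (hreal : Geo.RealisableOver F₀ (Geo.matrixSet P)) :
    ∃ M, Geo.InUnitaryPartialClass n F q M ∧ H ≤ M := by
  classical
  have : Nonempty (Fin n) := ⟨⟨0, by omega⟩⟩
  set σ := Unitary.conjHom hF with hσdef
  have hσσ : ∀ a, σ (σ a) = a := fun a => Unitary.pow_q_pow_q hF a
  obtain ⟨F₁, r, M, a, G₀, hr, hcard, -, ha0, hG₀, hgram, hMP, hle⟩ :=
    exists_rational_gram σ (J := (1 : Matrix (Fin n) (Fin n) F)) (by simp) hHP
      (fun x hx => gram_of_mem_GU hF (hPU hx)) hspan hF₀ hreal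
  have hσmem : ∀ b ∈ F₁, σ b ∈ F₁ := fun b hb => map_mem_subfield F₁ σ hb
  have hf : ∀ u v, Cfsg.hermForm n F q ((M : Matrix (Fin n) (Fin n) F) *ᵥ u)
      ((M : Matrix (Fin n) (Fin n) F) *ᵥ v) = a * sesq σ G₀ u v := fun u v => by
    rw [hermForm_eq_sesq hF, sesq_mulVec, hgram, sesq_smul_matrix]
  have hG₀det : G₀.det ≠ 0 := by
    intro h0
    have h1 := congrArg Matrix.det hgram
    rw [Matrix.det_mul, Matrix.det_mul, Matrix.det_transpose, Matrix.det_one, mul_one, Matrix.det_smul, h0,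
      mul_zero] at h1
    exact mul_ne_zero (Matrix.GeneralLinearGroup.det M).ne_zero (isUnit_det_map σ M).ne_zero h1
  have hrel : ∀ i j, σ a * σ (G₀ j i) = a * G₀ i j := by
    intro i j
    have h1 := congrArg (fun X : Matrix (Fin n) (Fin n) F => σ (X j i)) hgram
    have h2 := congrArg (fun X : Matrix (Fin n) (Fin n) F => X i j) hgram
    simp only [Matrix.smul_apply, smul_eq_mul, map_mul] at h1 h2
    rw [← h1, ← h2]
    simp only [mul_one, Matrix.mul_apply, Matrix.transpose_apply, Matrix.map_apply, map_sum, map_mul, hσσ]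
    exact Finset.sum_congr rfl fun k _ => mul_comm _ _
  obtain ⟨i₀, j₀, hne0⟩ : ∃ i j, G₀ i j ≠ 0 := by
    by_contra hc
    simp only [not_exists, not_not] at hc
    exact hG₀det (by rw [show G₀ = 0 from Matrix.ext hc, Matrix.det_zero])
  obtain ⟨l, hlmem, hl⟩ : ∃ l ∈ F₁, σ a = l * a := by
    refine ⟨σ a / a, ?_, by rw [div_mul_cancel₀ _ ha0]⟩
    have h1 : σ (G₀ j₀ i₀) ≠ 0 := fun h => by
      have := hrel i₀ j₀
      rw [h, mul_zero] at this
      exact mul_ne_zero ha0 hne0 this.symm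
    rw [show σ a / a = G₀ i₀ j₀ / σ (G₀ j₀ i₀) by
      rw [div_eq_div_iff ha0 h1, hrel i₀ j₀, mul_comm]]
    exact div_mem (hG₀ _ _) (hσmem _ (hG₀ _ _))
  have hll : σ l * l = 1 := by
    have h1 := congrArg σ hl
    rw [hσσ, map_mul, hl, ← mul_assoc] at h1
    exact (mul_eq_right₀ ha0).mp h1.symm
  have hl0 : l ≠ 0 := fun h => by simp [h] at hll
  -- scaling by a norm
  have hscale : ∀ μ ∈ F₁, μ ≠ 0 → σ μ = l * μ → ∃ Z : GL (Fin n) F, Z ∈ Geo.scalars (Fin n) F ∧
      ∀ u v : Fin n → F, (∀ i, u i ∈ F₁) → (∀ i, v i ∈ F₁) → 1 * Cfsg.hermForm n F q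
        (((Z * M : GL (Fin n) F) : Matrix (Fin n) (Fin n) F) *ᵥ u)
        (((Z * M : GL (Fin n) F) : Matrix (Fin n) (Fin n) F) *ᵥ v) ∈ F₁ := by
    intro μ hμmem hμ0 hμ
    have hb0 : a / μ ≠ 0 := div_ne_zero ha0 hμ0
    have hbfix : (a / μ) ^ q = a / μ := by
      rw [← conjHom_apply' hF, ← hσdef, map_div₀, hl, hμ, mul_div_mul_left _ _ hl0]
    obtain ⟨z, hz⟩ := Unitary.exists_norm_eq hF (c := (a / μ)⁻¹) (by rw [inv_pow, hbfix])
    have hz0 : z ≠ 0 := fun h => by
      rw [h, zero_pow (Nat.succ_ne_zero q)] at hz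
      exact inv_ne_zero hb0 hz.symm
    refine ⟨sc (Fin n) (Units.mk0 z hz0), sc_mem _, fun u v hu hv => ?_⟩
    rw [one_mul, Units.val_mul, sc_val, Matrix.smul_mul, one_mul, Matrix.smul_mulVec, Matrix.smul_mulVec,
      hermForm_eq_sesq hF]
    have e : ∀ x y : Fin n → F, sesq σ (1 : Matrix (Fin n) (Fin n) F) (z • x) (z • y) =
        z * σ z * sesq σ 1 x y := fun x y => by
      have hcomp : (σ ∘ (z • y)) = σ z • (σ ∘ y) := funext fun i => by simp
      simp only [sesq, hcomp, Matrix.mulVec_smul, smul_dotProduct, dotProduct_smul, smul_eq_mul]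
      ring
    rw [Units.val_mk0, e, ← hermForm_eq_sesq hF, hf, ← mul_assoc,
      show z * σ z * a = μ by
        rw [hσdef, conjHom_apply', ← pow_succ', hz]
        field_simp]
    exact mul_mem hμmem (sesq_mem hσmem hG₀ hu hv)
  by_cases hfix : ∀ x ∈ F₁, σ x = x
  · have hr2 : r = 2 := by
      have : Module.Finite F₁ F := Module.Finite.of_finite
      have : FiniteDimensional F₁ F := this
      have hrk : Module.finrank F₁ F = r := by
        have h1 : Nat.card F = Nat.card F₁ ^ Module.finrank F₁ F := Module.natCard_eq_pow_finrank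
        rw [Nat.card_eq_fintype_card (α := F), hcard] at h1
        have h2 : 1 < Nat.card F₁ := Finite.one_lt_card
        exact (Nat.pow_right_injective h2 h1).symm
      let σA : F ≃ₐ[F₁] F := AlgEquiv.ofRingEquiv (f := conjEquiv hF) (fun x => hfix x x.2)
      have ho : orderOf σA = 2 := orderOf_eq_prime (AlgEquiv.ext fun x => by
        rw [pow_two, AlgEquiv.mul_apply]; exact hσσ x) (fun h => by
        exact Unitary.conjHom_ne_id hF (RingHom.ext fun x => AlgEquiv.congr_fun h x))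
      have h3 : 2 ∣ r := by
        rw [← hrk, ← IsGalois.card_aut_eq_finrank, ← ho]
        exact orderOf_dvd_natCard σA
      exact ((Nat.prime_dvd_prime_iff_eq Nat.prime_two hr).mp h3).symm
    have hl2 : l = 1 ∨ l = -1 := mul_self_eq_one_iff.mp (by rw [hfix l hlmem] at hll; exact hll)
    have hG₀T : ∀ i j, l * G₀ j i = G₀ i j := fun i j => by
      have := hrel i j
      rw [hl, hfix _ (hG₀ j i)] at this
      exact mul_left_cancel₀ ha0 (by linear_combination this)
    by_cases hζ : (2 : F) ≠ 0 ∧ l = 1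
    · obtain ⟨h2, hl1⟩ := hζ
      obtain ⟨Z, hZ, hZf⟩ := hscale 1 (one_mem _) one_ne_zero (by rw [map_one, hl1, mul_one])
      refine ⟨Geo.subfieldSubgroup F₁ (Z * M) ⊓ Cfsg.GU n F q, ?_,
        le_inf (by rw [subfieldSubgroup_smul F₁ hZ]; exact hle) hH⟩
      refine Or.inr (Or.inr (Or.inr (Or.inr (Or.inr (Or.inl ⟨F₁, Z * M, ?_, hr2 ▸ hcard, hZf, rfl⟩)))))
      obtain ⟨p, m, hp, hchar, hqp, -⟩ := Unitary.exists_prime_pow hF
      rw [hqp]
      refine (hp.odd_of_ne_two ?_).pow
      rintro rfl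
      exact h2 (by exact_mod_cast CharP.cast_eq_zero F 2)
    · -- the form is alternating over the subfield
      have hneg : ∀ i j, G₀ i j = - G₀ j i := by
        intro i j
        rcases hl2 with h | h
        · have h2 : (2 : F) = 0 := by_contra fun h2 => hζ ⟨h2, h⟩
          have := hG₀T i j
          rw [h, one_mul] at this
          linear_combination (-1 : F) * this + G₀ j i * h2
        · rw [← hG₀T i j, h, neg_one_mul]
      have hdiag : ∀ i, G₀ i i = 0 := by
        intro i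
        by_cases h2 : (2 : F) = 0
        swap
        · have := hneg i i
          exact (mul_eq_zero.mp (by linear_combination this : (2 : F) * G₀ i i = 0)).resolve_left h2
        have hGT : G₀ᵀ = G₀ := Matrix.ext fun i j => by
          rw [Matrix.transpose_apply]; linear_combination (hneg j i) - G₀ i j * h2
        set Mi : Matrix (Fin n) (Fin n) F := ((M⁻¹ : GL (Fin n) F) : Matrix (Fin n) (Fin n) F) with hMi
        have hinvP : ∀ x ∈ P, (x : Matrix (Fin n) (Fin n) F)ᵀ * (Miᵀ * G₀ * Mi) *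
            (x : Matrix (Fin n) (Fin n) F) = Miᵀ * G₀ * Mi := by
          intro x hx
          set y := cj M⁻¹ (x : Matrix (Fin n) (Fin n) F) with hy
          have e1 : Mi * (x : Matrix (Fin n) (Fin n) F) = y * Mi := by
            rw [hy, cj_apply, inv_inv, mul_assoc, hMi, Units.mul_inv, mul_one]
          have e2 : y.map σ = y := Matrix.ext fun i j => hfix _ (hMP x hx i j)
          have e3 : (M : Matrix (Fin n) (Fin n) F) * y = (x : Matrix (Fin n) (Fin n) F) * M := by
            rw [hy, cj_apply, inv_inv, ← mul_assoc, ← mul_assoc, Units.mul_inv, one_mul]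
          have e4 : yᵀ * (a • G₀) * y = a • G₀ := by
            rw [← hgram]
            conv_lhs => arg 2; rw [← e2]
            calc yᵀ * ((M : Matrix (Fin n) (Fin n) F)ᵀ * 1 * (M : Matrix (Fin n) (Fin n) F).map σ) * y.map σ
                = ((M : Matrix (Fin n) (Fin n) F) * y)ᵀ * 1 * ((M : Matrix (Fin n) (Fin n) F) * y).map σ := by
                  simp [Matrix.transpose_mul, Matrix.map_mul, mul_assoc]
              _ = _ := by
                  rw [e3, Matrix.transpose_mul, Matrix.map_mul]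
                  have := gram_of_mem_GU hF (hPU hx)
                  simp only [mul_one] at this ⊢
                  rw [mul_assoc, ← mul_assoc ((x : Matrix (Fin n) (Fin n) F)ᵀ), this, one_mul]
          simp only [Matrix.mul_smul, Matrix.smul_mul] at e4
          calc _ = (Mi * (x : Matrix (Fin n) (Fin n) F))ᵀ * G₀ * (Mi * (x : Matrix (Fin n) (Fin n) F)) := by
                simp [Matrix.transpose_mul, mul_assoc]
            _ = Miᵀ * (yᵀ * G₀ * y) * Mi := by rw [e1]; simp [Matrix.transpose_mul, mul_assoc]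
            _ = _ := by rw [smul_right_injective _ ha0 e4]
        have hq0 := quad_eq_zero_of_invariant h2 (by simpa using hn) (absIrred_of_span hspan).1
          (G := Miᵀ * G₀ * Mi) (by simp [Matrix.transpose_mul, hGT, mul_assoc]) hinvP
          ((M : Matrix (Fin n) (Fin n) F) *ᵥ Pi.single i 1)
        rw [Matrix.dotProduct_mulVec, Matrix.vecMul_mulVec, ← Matrix.dotProduct_mulVec, Matrix.mulVec_mulVec,
          ← mul_assoc, ← mul_assoc, ← Matrix.transpose_mul, hMi, Units.inv_mul, Matrix.transpose_one, one_mul,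
          mul_assoc, Units.inv_mul, mul_one] at hq0
        simpa using hq0
      have heven : Even n := (Nat.even_or_odd n).resolve_right fun ho =>
        hG₀det (det_skew_eq_zero G₀ hneg hdiag (by simpa using ho))
      refine ⟨Geo.subfieldSubgroup F₁ M ⊓ Cfsg.GU n F q, ?_, le_inf hle hH⟩
      refine Or.inr (Or.inr (Or.inr (Or.inr (Or.inr (Or.inr (Or.inl
        ⟨F₁, M, a⁻¹, heven, hr2 ▸ hcard, inv_ne_zero ha0, ?_, fun u v hu hv => ?_, fun u hu => ?_, rfl⟩))))))
      · rw [← conjHom_apply' hF, ← hσdef, map_inv₀, hl, _root_.mul_inv_rev]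
        rcases hl2 with h | h
        · have h2 : (2 : F) = 0 := by_contra fun h2 => hζ ⟨h2, h⟩
          rw [h, inv_one, mul_one]
          linear_combination a⁻¹ * h2
        · rw [h, inv_neg, inv_one]; ring
      · rw [hf, ← mul_assoc, inv_mul_cancel₀ ha0, one_mul]
        exact sesq_mem hσmem hG₀ hu hv
      · rw [hf]
        have hcomp : σ ∘ u = u := funext fun i => hfix _ (hu i)
        simp only [sesq, hcomp]
        have hsum : u ⬝ᵥ G₀ *ᵥ u = ∑ p : Fin n × Fin n, u p.1 * G₀ p.1 p.2 * u p.2 := by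
          simp [dotProduct, Matrix.mulVec, Fintype.sum_prod_type, Finset.mul_sum, mul_assoc]
        have hzero : u ⬝ᵥ G₀ *ᵥ u = 0 := by
          rw [hsum]
          refine Finset.sum_involution (fun p _ => (p.2, p.1)) (fun p _ => ?_) (fun p _ hp h => hp ?_)
            (fun p _ => Finset.mem_univ _) (fun p _ => rfl)
          · simp only; rw [hneg p.1 p.2]; ring
          · have := congrArg Prod.fst h
            simp only at this
            rw [this, hdiag, mul_zero, zero_mul]
        rw [hzero, mul_zero]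
  · simp only [not_forall, exists_prop] at hfix
    obtain ⟨x, hx, hσx⟩ := hfix
    have hrodd : Odd r := by
      refine hr.odd_of_ne_two fun h => hσx ?_
      subst h
      have h1 : Nat.card F₁ = q := (Nat.pow_left_injective two_ne_zero (hF.symm.trans hcard)).symm
      have : Fintype F₁ := Fintype.ofFinite F₁
      have h2 : (⟨x, hx⟩ : F₁) ^ Fintype.card F₁ = ⟨x, hx⟩ := FiniteField.pow_card _
      rw [← Nat.card_eq_fintype_card, h1] at h2
      exact congrArg Subtype.val h2
    have key : ∀ t, σ (t + σ t / l) = l * (t + σ t / l) := by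
      intro t
      rw [map_add, map_div₀, hσσ, mul_add, mul_div_cancel₀ _ hl0,
        show t / σ l = l * t by rw [div_eq_iff (fun h => by simp [h] at hll)]; linear_combination -t * hll]
      ring
    obtain ⟨μ, hμmem, hμ0, hμ⟩ : ∃ μ ∈ F₁, μ ≠ 0 ∧ σ μ = l * μ := by
      by_cases h1 : (1 : F) + σ 1 / l = 0
      · refine ⟨x + σ x / l, add_mem hx (div_mem (hσmem x hx) hlmem), fun h => hσx ?_, key x⟩
        rw [map_one] at h1
        have h3 : l = -1 := by
          field_simp at h1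
          linear_combination h1
        rw [h3, div_neg, div_one, ← sub_eq_add_neg, sub_eq_zero] at h
        exact h.symm
      · exact ⟨1 + σ 1 / l, add_mem (one_mem _) (div_mem (hσmem 1 (one_mem _)) hlmem), h1, key 1⟩
    obtain ⟨Z, hZ, hZf⟩ := hscale μ hμmem hμ0 hμ
    refine ⟨Geo.subfieldSubgroup F₁ (Z * M) ⊓ Cfsg.GU n F q, ?_,
      le_inf (by rw [subfieldSubgroup_smul F₁ hZ]; exact hle) hH⟩
    exact Or.inr (Or.inr (Or.inr (Or.inr (Or.inl ⟨F₁, r, Z * M, hr, hrodd, hcard, hZf, rfl⟩))))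

end Cfsg.Agent.Aschbacher
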