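/-
Reductions for subgroups of SU_n(q).
Main results: `mdecomp_of_orth`, `su_reducible`, `sim_sup_scalars`, `quad_field_false`, `tensor_unitary_forms`,
`lines_of_planes`.
-/
import Cfsg.Agent.Lib.Aschbacher.FormMaster
import Cfsg.Agent.Lib.PrimeDim.UnitaryBasic

set_option autoImplicit false

namespace Cfsg.Agent.Aschbacher

open Matrix
open scoped Kronecker
open Cfsg.Agent.PrimeDim

variable {F : Type*} [Field F] {ι : Type} [Fintype ι] [DecidableEq ι]

/-- Orthogonal non-degenerate subspaces of total dimension `n` form a decomposition. -/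
theorem mdecomp_of_orth (f : (ι → F) → (ι → F) → F) (hadd : ∀ x y v, f (x + y) v = f x v + f y v)
    (hsmul : ∀ (c : F) x v, f (c • x) v = c * f x v) {m t : ℕ} (ht : 2 ≤ t) (hm : 0 < m)
    (hcard : t * m = Fintype.card ι) {D : Fin t → Submodule F (ι → F)}
    (hrk : ∀ i, Module.finrank F (D i) = m) (hnd : ∀ i, Geo.IsNondegenerateOn f (D i))
    (horth : ∀ i j, i ≠ j → Geo.AreOrthogonalFor f (D i) (D j)) :
    Geo.IsNondegenerateMDecomposition f m D := by
  classical
  let L : (ι → F) → (ι → F) →ₗ[F] F := fun w =>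
    { toFun := fun x => f x w, map_add' := fun x y => hadd x y w, map_smul' := fun c x => hsmul c x w }
  let S : ((i : Fin t) → D i) →ₗ[F] (ι → F) := ∑ i, (D i).subtype.comp (LinearMap.proj i)
  have hS : ∀ v : (i : Fin t) → D i, S v = ∑ i, (v i : ι → F) := fun v => by simp [S]
  have hinj : Function.Injective S := by
    rw [← LinearMap.ker_eq_bot, Submodule.eq_bot_iff]
    intro v hv
    funext i
    by_contra hvi
    obtain ⟨-, x, hx, hxi⟩ := hnd i (v i) (v i).2 (fun h0 => hvi (Subtype.ext h0))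
    refine hxi ?_
    have h1 : L x (S v) = L x (v i : ι → F) := by
      rw [hS, map_sum]
      exact Finset.sum_eq_single i (fun j _ hji => horth j i hji _ (v j).2 _ hx) (by simp)
    rw [LinearMap.mem_ker.mp hv, map_zero] at h1
    exact h1.symm
  refine ⟨⟨ht, hm, hrk, ?_, ?_⟩, hnd, horth⟩
  · intro i
    rw [Submodule.disjoint_def]
    intro x hx hx'
    by_contra hx0
    obtain ⟨-, y, hy, hxy⟩ := hnd i x hx hx0
    refine hxy ?_
    have hle : (⨆ j ≠ i, D j) ≤ LinearMap.ker (L y) := iSup₂_le fun j hj z hz => horth j i hj _ hz _ hy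
    exact hle hx'
  · rw [eq_top_iff]
    have hsurj : LinearMap.range S = ⊤ := by
      refine Submodule.eq_top_of_finrank_eq ?_
      rw [LinearMap.finrank_range_of_inj hinj, Module.finrank_pi_fintype, Module.finrank_fintype_fun_eq_card]
      simp [hrk, hcard]
    rw [← hsurj]
    rintro _ ⟨v, rfl⟩
    rw [hS]
    exact Submodule.sum_mem _ fun i _ => Submodule.mem_iSup_of_mem i (v i).2

/-- Stabilising both members stabilises the decomposition. -/
theorem le_decomposition_of_stab {t : ℕ} {D : Fin t → Submodule F (ι → F)} {H : Subgroup (GL ι F)}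
    (h : ∀ g ∈ H, ∀ i, ∀ w ∈ D i, (g : Matrix ι ι F) *ᵥ w ∈ D i) : H ≤ Geo.decompositionStabilizer D := by
  intro g hg
  refine ⟨1, fun i => ?_⟩
  rw [Equiv.Perm.one_apply]
  exact Submodule.eq_of_le_of_finrank_eq ((mapsTo_iff_mulVec _ _).mpr (h g hg i)) (finrank_map_gl _ _)

variable [Fintype F] {n q : ℕ}

local notation "hq" => Cfsg.hermForm n F q

theorem hermForm_unitaryPow (hF : Fintype.card F = q ^ 2) : Geo.IsUnitaryFormPow q hq :=
  ⟨(Unitary.hermForm_isHerm hF n).add_left, (Unitary.hermForm_isHerm hF n).smul_left,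
    fun v w => (Unitary.hermForm_isHerm hF n).conj_symm w v, (hermForm_unitary hF).nondegenerate⟩

theorem hermForm_eq_gram (hF : Fintype.card F = q ^ 2) :
    hq = Geo.formOfGram (Unitary.conjHom hF) (1 : Matrix (Fin n) (Fin n) F) := by
  funext u v
  rw [formOfGram_eq, hermForm_eq_sesq hF]
  rfl

theorem herm_one (hF : Fintype.card F = q ^ 2) :
    Herm (Unitary.conjHom hF) (1 : Matrix (Fin n) (Fin n) F) :=
  ⟨fun a => Unitary.pow_q_pow_q hF a, by rw [Matrix.det_one]; exact isUnit_one, 1, one_ne_zero, by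
    rw [Matrix.map_one _ (map_zero _) (map_one _), Matrix.transpose_one, one_smul]⟩

theorem sim_sup_scalars (hF : Fintype.card F = q ^ 2) {H : Subgroup (GL (Fin n) F)}
    (hHU : H ≤ Cfsg.GU n F q) :
    Sim (Unitary.conjHom hF) (1 : Matrix (Fin n) (Fin n) F) (H ⊔ Geo.scalars (Fin n) F) := by
  intro g hg
  obtain ⟨x, hx, z, hz, rfl⟩ := Subgroup.mem_sup_of_normal_right.mp hg
  obtain ⟨a, rfl⟩ := hz
  refine ⟨(a : F) * Unitary.conjHom hF (a : F), mul_ne_zero a.ne_zero ((map_ne_zero _).mpr a.ne_zero), ?_⟩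
  have hz : ((Units.map (Matrix.scalar (Fin n) : F →+* Matrix (Fin n) (Fin n) F).toMonoidHom a : GL (Fin n) F)
      : Matrix (Fin n) (Fin n) F) = (a : F) • 1 := by
    simp [Matrix.smul_one_eq_diagonal]
  have h1 := gram_of_mem_GU hF (hHU hx)
  rw [mul_one] at h1 ⊢
  rw [Units.val_mul, hz, Matrix.mul_smul, mul_one, Matrix.transpose_smul, map_smul', Matrix.smul_mul,
    Matrix.mul_smul, h1, smul_smul]

/-- A reducible subgroup of the unitary group. -/
theorem su_reducible (hF : Fintype.card F = q ^ 2) (h2 : 2 ≤ n) {H : Subgroup (GL (Fin n) F)}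
    (hHU : H ≤ Cfsg.GU n F q) (hirr : ¬ Geo.ActsIrreducibly (Geo.matrixSet H)) :
    (∃ W : Submodule F (Fin n → F), W ≠ ⊥ ∧ W ≠ ⊤ ∧ Geo.IsTotallySingularFor hq W ∧
      H ≤ Geo.subspaceStabilizer W) ∨
    (∃ W : Submodule F (Fin n → F), W ≠ ⊥ ∧ W ≠ ⊤ ∧ Geo.IsNondegenerateOn hq W ∧
      2 * Module.finrank F W < n ∧ H ≤ Geo.subspaceStabilizer W) ∨
    (∃ (m : ℕ) (D : Fin 2 → Submodule F (Fin n → F)), 2 * m = n ∧ Geo.IsNondegenerateMDecomposition hq m D ∧
      H ≤ Geo.decompositionStabilizer D) := by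
  classical
  have HH := Unitary.hermForm_isHerm hF n
  simp only [Geo.ActsIrreducibly, not_forall, not_or] at hirr
  obtain ⟨W, hW, hb, ht⟩ := hirr
  have hWm : ∀ g ∈ H, ∀ w ∈ W, (g : Matrix (Fin n) (Fin n) F) *ᵥ w ∈ W :=
    fun g hg => (mapsTo_iff_mulVec _ W).mp (hW _ (mem_matrixSet hg))
  set k := Module.finrank F W with hk
  let bW := Module.finBasis F W
  let Φ : (Fin n → F) →ₗ[F] (Fin k → F) :=
    LinearMap.pi fun i => Transvect.ufl (hermForm_unitary hF) (bW i : Fin n → F)
  set W' := LinearMap.ker Φ with hW'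
  have hmem : ∀ x, x ∈ W' ↔ ∀ w ∈ W, hq x w = 0 := by
    intro x
    rw [hW', LinearMap.mem_ker]
    constructor
    · intro h w hw
      have h1 := congrArg Subtype.val (bW.sum_repr ⟨w, hw⟩)
      simp only [Submodule.coe_sum, Submodule.coe_smul] at h1
      rw [← h1, HH.sum_right hF]
      refine Finset.sum_eq_zero fun i _ => ?_
      rw [HH.smul_right]
      have h2 : hq x (bW i : Fin n → F) = 0 := congrFun h i
      rw [h2, mul_zero]
    · intro h
      funext i
      exact h _ (bW i).2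
  have hW'm : ∀ g ∈ H, ∀ w ∈ W', (g : Matrix (Fin n) (Fin n) F) *ᵥ w ∈ W' := by
    intro g hg x hx
    rw [hmem] at hx ⊢
    intro w hw
    have h2 := hHU hg x (((g⁻¹ : GL (Fin n) F) : Matrix (Fin n) (Fin n) F) *ᵥ w)
    simp only [Units.coeHom_apply, Matrix.mulVec_mulVec w, Units.mul_inv, Matrix.one_mulVec] at h2
    rw [h2]
    exact hx _ (hWm g⁻¹ (inv_mem hg) w hw)
  have hstab : ∀ U : Submodule F (Fin n → F), (∀ g ∈ H, ∀ w ∈ U, (g : Matrix (Fin n) (Fin n) F) *ᵥ w ∈ U) →
      H ≤ Geo.subspaceStabilizer U := fun U hU g hg =>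
    Transvect.mem_stab_of_le fun w hw => by rw [Transvect.app_apply]; exact hU g hg w hw
  have hkn : k < n := by simpa using Submodule.finrank_lt ht
  have hdim : n ≤ k + Module.finrank F W' := by
    have h1 := LinearMap.finrank_range_add_finrank_ker Φ
    have h3 := Submodule.finrank_le (LinearMap.range Φ)
    simp at h1 h3
    rw [← hW'] at h1
    omega
  by_cases hts : W ⊓ W' = ⊥
  swap
  · refine Or.inl ⟨W ⊓ W', hts, fun h => ht (eq_top_iff.mpr (h ▸ inf_le_left)),
      fun u hu v hv => (hmem u).mp hu.2 v hv.1, hstab _ fun g hg w hw => ⟨hWm g hg w hw.1, hW'm g hg w hw.2⟩⟩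
  right
  have hsum := Submodule.finrank_sup_add_finrank_inf_eq W W'
  rw [hts, finrank_bot] at hsum
  have htop : W ⊔ W' = ⊤ := by
    refine Submodule.eq_top_of_finrank_eq ?_
    have h3 := Submodule.finrank_le (W ⊔ W')
    simp at h3 ⊢
    omega
  have hdim2 : k + Module.finrank F W' = n := by
    have h3 := Submodule.finrank_le (W ⊔ W')
    simp at h3
    omega
  have hndW : Geo.IsNondegenerateOn hq W := by
    intro w hw hw0
    obtain ⟨x, hx⟩ : ∃ x ∈ W, hq w x ≠ 0 := by
      by_contra hc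
      simp only [not_exists, not_and, not_not] at hc
      have : w ∈ W ⊓ W' := ⟨hw, (hmem w).mpr hc⟩
      rw [hts] at this
      exact hw0 this
    exact ⟨⟨x, hx.1, fun h => hx.2 ((HH.eq_zero_symm hF).mp h)⟩, x, hx⟩
  have hndW' : Geo.IsNondegenerateOn hq W' := by
    intro w hw hw0
    obtain ⟨y, hy⟩ := ((hermForm_unitary hF).nondegenerate w hw0).2
    obtain ⟨a, ha, c, hc, rfl⟩ := Submodule.mem_sup.mp (htop ▸ Submodule.mem_top : y ∈ W ⊔ W')
    rw [HH.add_right hF, (hmem w).mp hw a ha, zero_add] at hy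
    exact ⟨⟨c, hc, fun h => hy ((HH.eq_zero_symm hF).mp h)⟩, c, hc, hy⟩
  rcases Nat.lt_trichotomy (2 * k) n with h | h | h
  · exact Or.inl ⟨W, hb, ht, hndW, h, hstab W hWm⟩
  · refine Or.inr ⟨k, ![W, W'], h, mdecomp_of_orth _ HH.add_left HH.smul_left le_rfl ?_ (by simpa using h) ?_ ?_ ?_,
      le_decomposition_of_stab fun g hg i => ?_⟩
    · omega
    · exact Fin.forall_fin_two.mpr ⟨hk.symm, show Module.finrank F W' = k by omega⟩
    · exact Fin.forall_fin_two.mpr ⟨hndW, hndW'⟩
    · intro i j hij u hu v hv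
      fin_cases i <;> fin_cases j
      · exact absurd rfl hij
      · exact (HH.eq_zero_symm hF).mpr ((hmem v).mp hv u hu)
      · exact (hmem u).mp hu v hv
      · exact absurd rfl hij
    · fin_cases i
      · exact hWm g hg
      · exact hW'm g hg
  · refine Or.inl ⟨W', fun h' => ?_, fun h' => ?_, hndW', by omega, hstab W' hW'm⟩
    · rw [h', finrank_bot] at hdim2; omega
    · rw [h', inf_top_eq] at hts; exact hb hts

set_option maxHeartbeats 1000000 in
/-- No adjoint-closed field of degree two for a unitary form. -/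
theorem quad_field_false (hF : Fintype.card F = q ^ 2) {K : Subalgebra F (Matrix (Fin n) (Fin n) F)}
    (hK : Geo.IsFieldSubalgebra 2 K) (hadj : ∀ k ∈ K, adj (Unitary.conjHom hF) 1 k ∈ K) : False := by
  classical
  have h := herm_one (n := n) hF
  set σ := Unitary.conjHom hF with hσ
  have hne : Nontrivial (Matrix (Fin n) (Fin n) F) := by
    by_contra hn
    rw [not_nontrivial_iff_subsingleton] at hn
    have : Subsingleton K := ⟨fun a b => Subtype.ext (Subsingleton.elim _ _)⟩
    have h0 := hK.3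
    rw [Module.finrank_zero_of_subsingleton] at h0
    omega
  have hfield : IsField K := ⟨exists_pair_ne _, fun x y => Subtype.ext (hK.1 _ x.2 _ y.2), fun {x} hx => by
    obtain ⟨y, hy, hxy⟩ := hK.2 _ x.2 (fun h0 => hx (Subtype.ext h0))
    exact ⟨⟨y, hy⟩, Subtype.ext hxy⟩⟩
  letI : Field K := hfield.toField
  have : Finite (Matrix (Fin n) (Fin n) F) := inferInstanceAs (Finite (Fin n → Fin n → F))
  have : Fintype K := Fintype.ofFinite K
  let τ : K →+* K :=
    { toFun := fun x => ⟨adj σ 1 (x : Matrix (Fin n) (Fin n) F), hadj _ x.2⟩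
      map_one' := Subtype.ext (adj_one h)
      map_mul' := fun x y => Subtype.ext (by
        show adj σ 1 ((x : Matrix (Fin n) (Fin n) F) * (y : Matrix (Fin n) (Fin n) F))
          = adj σ 1 (x : Matrix (Fin n) (Fin n) F) * adj σ 1 (y : Matrix (Fin n) (Fin n) F)
        rw [adj_mul h]
        exact hK.1 _ (hadj _ y.2) _ (hadj _ x.2))
      map_zero' := Subtype.ext adj_zero
      map_add' := fun x y => Subtype.ext (adj_add _ _) }
  have hττ : ∀ x, τ (τ x) = x := fun x => Subtype.ext (adj_adj h _)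
  have hτc : ∀ c : F, τ (algebraMap F K c) = algebraMap F K (σ c) := fun c => Subtype.ext (by
    show adj σ 1 (algebraMap F (Matrix (Fin n) (Fin n) F) c) = algebraMap F (Matrix (Fin n) (Fin n) F) (σ c)
    rw [Algebra.algebraMap_eq_smul_one, Algebra.algebraMap_eq_smul_one, adj_smul, adj_one h])
  obtain ⟨c, hc⟩ : ∃ c, σ c ≠ c := by
    by_contra hh
    simp only [not_exists, not_not] at hh
    exact Unitary.conjHom_ne_id hF (RingHom.ext hh)
  set e := algebraMap F K c with he
  have heτ : τ e ≠ e := fun h' => hc ((algebraMap F K).injective (by rw [← hτc, ← he, h']))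
  let L : Subfield K := RingHom.eqLocusField τ (RingHom.id K)
  have hL : ∀ x, x ∈ L ↔ τ x = x := fun x => Iff.rfl
  have hd : e - τ e ≠ 0 := sub_ne_zero.mpr (Ne.symm heτ)
  have hdecomp : Function.Bijective fun p : L × L => (p.1 : K) + p.2 * e := by
    constructor
    · rintro ⟨a, b⟩ ⟨a', b'⟩ hab
      simp only at hab
      have h1 := congrArg τ hab
      rw [map_add, map_add, map_mul, map_mul, (hL _).mp a.2, (hL _).mp a'.2, (hL _).mp b.2, (hL _).mp b'.2] at h1
      have h2 : ((b : K) - b') * (e - τ e) = 0 := by linear_combination hab - h1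
      have h3 : (b : K) = b' := sub_eq_zero.mp ((mul_eq_zero.mp h2).resolve_right hd)
      exact Prod.ext (Subtype.ext (by rw [h3] at hab; exact add_right_cancel hab)) (Subtype.ext h3)
    · intro x
      set b := (x - τ x) / (e - τ e) with hb
      have hbL : τ b = b := by
        rw [hb, map_div₀, map_sub, map_sub, hττ, hττ, ← neg_sub x, ← neg_sub e, neg_div_neg_eq]
      refine ⟨(⟨x - b * e, ?_⟩, ⟨b, hbL⟩), by simp⟩
      rw [hL, map_sub, map_mul, hbL]
      have hb' : b * (e - τ e) = x - τ x := div_mul_cancel₀ _ hd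
      linear_combination hb'
  have hQ : Fintype.card F = q ^ 2 := hF
  have hKc : Nat.card K = Fintype.card F ^ 2 := by
    have h1 := Module.natCard_eq_pow_finrank (K := F) (V := K)
    rw [hK.3, Nat.card_eq_fintype_card (α := F)] at h1
    exact h1
  have hLc : Nat.card L = Fintype.card F := by
    have h1 := Nat.card_eq_of_bijective _ hdecomp
    rw [Nat.card_prod, hKc, sq] at h1
    exact Nat.mul_self_inj.mp h1
  have : Fintype L := Fintype.ofFinite L
  have hroot : ∀ y : K, y ∈ L → y ^ Fintype.card F = y := fun y hy => by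
    have h1 : (⟨y, hy⟩ : L) ^ Fintype.card L = ⟨y, hy⟩ := FiniteField.pow_card _
    rw [← Nat.card_eq_fintype_card, hLc] at h1
    exact congrArg Subtype.val h1
  -- at most `|F|` roots
  let S : Finset K := (Finset.univ : Finset L).image Subtype.val ∪ Finset.univ.image (algebraMap F K)
  have hS : S.card ≤ Fintype.card F := by
    have hne0 := FiniteField.X_pow_card_sub_X_ne_zero K (Fintype.one_lt_card (α := F))
    have hsub : S.val ≤ (Polynomial.X ^ Fintype.card F - Polynomial.X : Polynomial K).roots := by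
      refine (Multiset.le_iff_subset S.nodup).mpr fun y hy => ?_
      rw [Polynomial.mem_roots hne0]
      simp only [Polynomial.IsRoot.def, Polynomial.eval_sub, Polynomial.eval_pow, Polynomial.eval_X, sub_eq_zero]
      rcases Finset.mem_union.mp (show y ∈ S from hy) with h' | h'
      · obtain ⟨z, -, rfl⟩ := Finset.mem_image.mp h'
        exact hroot _ z.2
      · obtain ⟨z, -, rfl⟩ := Finset.mem_image.mp h'
        rw [← map_pow, FiniteField.pow_card]
    refine (Multiset.card_le_card hsub).trans ((Polynomial.card_roots' _).trans ?_)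
    rw [FiniteField.X_pow_card_sub_X_natDegree_eq K (Fintype.one_lt_card (α := F))]
  have he' : e ∈ S := Finset.mem_union_right _ (Finset.mem_image_of_mem _ (Finset.mem_univ c))
  have hTc : ((Finset.univ : Finset L).image Subtype.val).card = Fintype.card F := by
    rw [Finset.card_image_of_injective _ Subtype.val_injective, Finset.card_univ, ← Nat.card_eq_fintype_card, hLc]
  have hTS : (Finset.univ : Finset L).image Subtype.val = S :=
    Finset.eq_of_subset_of_card_le Finset.subset_union_left (hTc ▸ hS)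
  rw [← hTS] at he'
  obtain ⟨z, -, hz⟩ := Finset.mem_image.mp he'
  exact heτ (hz ▸ (hL _).mp z.2)

/-- A hermitian rescaling. -/
theorem exists_hermitian_scale (hF : Fintype.card F = q ^ 2) {k : ℕ} (hk : 0 < k)
    {G : Matrix (Fin k) (Fin k) F} (hG : Herm (Unitary.conjHom hF) G) :
    ∃ μ : F, μ ≠ 0 ∧ ((μ • G).map (Unitary.conjHom hF))ᵀ = μ • G := by
  set σ := Unitary.conjHom hF with hσ
  obtain ⟨ε, hε, hs⟩ := hG.symm
  have hG0 : ∃ i j, G i j ≠ 0 := by
    by_contra hc
    simp only [not_exists, not_not] at hc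
    have hd := hG.det
    have : Nonempty (Fin k) := ⟨⟨0, hk⟩⟩
    rw [show G = 0 from Matrix.ext hc, Matrix.det_zero] at hd
    exact not_isUnit_zero hd
  obtain ⟨i, j, hij⟩ := hG0
  have hεε : σ ε * ε = 1 := by
    have h1 := congrFun (congrFun hs i) j
    have h2 := congrFun (congrFun hs j) i
    simp only [Matrix.transpose_apply, Matrix.map_apply, Matrix.smul_apply, smul_eq_mul] at h1 h2
    have h3 := congrArg σ h1
    rw [hG.invol, map_mul, h2, ← mul_assoc] at h3
    exact (mul_eq_right₀ (fun h0 => mul_ne_zero hε hij (by rw [← h1, h0, map_zero]))).mp h3.symm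
  obtain ⟨t, ht⟩ : ∃ t, t + ε * σ t ≠ 0 := by
    by_contra hc
    simp only [not_exists, not_not] at hc
    have h1 := hc 1
    rw [map_one, mul_one] at h1
    refine Unitary.conjHom_ne_id hF (RingHom.ext fun x => ?_)
    have h2 := hc x
    rw [show ε = -1 by linear_combination h1] at h2
    show σ x = x
    linear_combination -h2
  refine ⟨t + ε * σ t, ht, ?_⟩
  rw [map_smul', Matrix.transpose_smul, hs, smul_smul]
  congr 1
  rw [map_add, map_mul, hG.invol]
  linear_combination t * hεε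

/-- The two factors of a tensor structure carry unitary forms. -/
theorem tensor_unitary_forms (hF : Fintype.card F = q ^ 2) {G : Subgroup (GL (Fin n) F)} {d t : ℕ}
    (hd : 0 < d) (ht : 0 < t) (hT : FTensor (Unitary.conjHom hF) 1 G d t) (e : Fin n ≃ Fin d × Fin t) :
    ∃ (P : GL (Fin n) F) (f₁ : (Fin d → F) → (Fin d → F) → F) (f₂ : (Fin t → F) → (Fin t → F) → F),
      Geo.IsUnitaryFormPow q f₁ ∧ Geo.IsUnitaryFormPow q f₂ ∧
      Geo.IsTensorFormStructure (fun x : F => x ^ q) hq f₁ f₂ e P ∧ G ≤ Geo.tensorProductSubgroup d t e P := by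
  obtain ⟨P, G1, G2, hle, heq, h1, h2⟩ := hT.2 e
  obtain ⟨μ, hμ, hμG⟩ := exists_hermitian_scale hF hd h1
  obtain ⟨ν, hν, hνG⟩ := exists_hermitian_scale hF ht h2
  have hform : ∀ {k : ℕ} (M : Matrix (Fin k) (Fin k) F), IsUnit M.det → (M.map (Unitary.conjHom hF))ᵀ = M →
      Geo.IsUnitaryFormPow q (Geo.formOfGram (Unitary.conjHom hF) M) ∧
      Geo.gramMatrix (Geo.formOfGram (Unitary.conjHom hF) M) = M := by
    intro k M hM hsym
    refine ⟨⟨fun x y v => ?_, fun c x v => ?_, fun v w => ?_, formOfGram_nondegenerate _ hM⟩, ?_⟩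
    · simp [formOfGram_eq, add_dotProduct]
    · simp [formOfGram_eq, smul_dotProduct]
    · rw [← conjHom_apply' hF]
      simp only [Geo.formOfGram, map_sum, map_mul]
      rw [Finset.sum_comm]
      refine Finset.sum_congr rfl fun a _ => Finset.sum_congr rfl fun b _ => ?_
      have h3 := congrFun (congrFun hsym b) a
      simp only [Matrix.transpose_apply, Matrix.map_apply] at h3
      rw [h3]
      simp only [conjHom_apply', Unitary.pow_q_pow_q hF]
      ring
    · ext a b
      rw [Geo.gramMatrix]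
      exact formOfGram_single _ M a b
  have hu : ∀ {k : ℕ} {c : F} {M : Matrix (Fin k) (Fin k) F}, c ≠ 0 → IsUnit M.det → IsUnit (c • M).det :=
    fun hc hM => by rw [Matrix.det_smul]; exact (IsUnit.mk0 _ hc).pow _ |>.mul hM
  obtain ⟨hf1, hg1⟩ := hform (μ • G1) (hu hμ h1.det) hμG
  obtain ⟨hf2, hg2⟩ := hform (ν • G2) (hu hν h2.det) hνG
  refine ⟨P, _, _, hf1, hf2, ⟨(μ * ν)⁻¹, inv_ne_zero (mul_ne_zero hμ hν), fun x y => ?_⟩, hle⟩
  rw [hg1, hg2, hermForm_eq_gram hF, formOfGram_mulVec, heq, Matrix.smul_kronecker, Matrix.kronecker_smul]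
  simp only [Geo.formOfGram, Finset.mul_sum]
  rw [← e.symm.sum_comp]
  refine Finset.sum_congr rfl fun a _ => ?_
  rw [← e.symm.sum_comp]
  refine Finset.sum_congr rfl fun b _ => ?_
  simp only [Function.comp_apply, Equiv.apply_symm_apply, tens_apply, Matrix.smul_apply, smul_eq_mul,
    Matrix.kroneckerMap_apply, conjHom_apply']
  field_simp

/-- Over F₄ a non-degenerate plane has exactly two non-singular lines. -/
theorem plane_two {V : Type*} [AddCommGroup V] [Module F V] (hF : Fintype.card F = 2 ^ 2)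
    {f : V → V → F} (hf : Unitary.IsHerm 2 f) (W : Submodule F V) (hW : Module.finrank F W = 2)
    (hnd : ∀ w ∈ W, w ≠ 0 → ∃ x ∈ W, f w x ≠ 0) :
    ∃ b : Fin 2 → V, (∀ i, b i ∈ W) ∧ (∀ i, f (b i) (b i) = 1) ∧ (∀ i j, i ≠ j → f (b i) (b j) = 0) ∧
      ∀ w ∈ W, f w w ≠ 0 → ∃ i, ∃ c : F, w = c • b i := by
  have hh := hf.comap W.subtype
  have : Module.Finite F W := Module.finite_of_finrank_eq_succ hW
  obtain ⟨b, hb⟩ := Unitary.exists_orthonormal_extend hF hh (fun x hx => by
    by_contra hx0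
    obtain ⟨y, hy, hxy⟩ := hnd x x.2 (fun h0 => hx0 (Subtype.ext h0))
    exact hxy (hx ⟨y, hy⟩)) (k := 0) (b := Fin.elim0) ⟨fun i => i.elim0, fun i => i.elim0⟩
    (Nat.zero_le 2) (hW.symm ▸ le_rfl)
  refine ⟨fun i => (b i : V), fun i => (b i).2, hb.1.1, fun i j hij => hb.1.2 hij, fun w hw hww => ?_⟩
  have hsum := Unitary.Orthonormal.eq_sum_of_card hh hb.1 (by rw [hW]; simp) ⟨w, hw⟩
  set a : Fin 2 → F := fun i => f w (b i) with ha
  have hsum' : (⟨w, hw⟩ : W) = ∑ i, a i • b i := hsum
  have hval : f w w = a 0 * a 0 ^ 2 + a 1 * a 1 ^ 2 := by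
    have h1 : (fun x y : W => f (W.subtype x) (W.subtype y)) ⟨w, hw⟩ ⟨w, hw⟩ = ∑ i, a i * a i ^ 2 := by
      rw [hsum']
      exact Unitary.Orthonormal.inner_sum hF hh hb.1 a a
    rw [Fin.sum_univ_two] at h1
    exact h1
  have hcube : ∀ c : F, c ≠ 0 → c * c ^ 2 = 1 := fun c hc => by
    have := FiniteField.pow_card_sub_one_eq_one c hc
    rw [hF] at this
    rw [← pow_succ']
    exact this
  have h2 : (2 : F) = 0 := by
    obtain ⟨p, m, hp, hchar, hpm, -⟩ := Unitary.exists_prime_pow hF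
    obtain rfl : p = 2 := (Nat.prime_dvd_prime_iff_eq hp Nat.prime_two).mp (by
      rw [hpm]; exact dvd_pow_self p (fun h0 => by simp [h0] at hpm))
    exact_mod_cast CharP.cast_eq_zero F 2
  by_cases h0 : a 0 = 0
  · refine ⟨1, a 1, ?_⟩
    have := congrArg Subtype.val hsum'
    rw [Fin.sum_univ_two, h0, zero_smul, zero_add] at this
    simpa using this
  · by_cases h1 : a 1 = 0
    · refine ⟨0, a 0, ?_⟩
      have := congrArg Subtype.val hsum'
      rw [Fin.sum_univ_two, h1, zero_smul, add_zero] at this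
      simpa using this
    · exact absurd (by rw [hval, hcube _ h0, hcube _ h1]; linear_combination h2) hww

/-- Over F₄ a decomposition into planes refines to lines. -/
theorem lines_of_planes (hF : Fintype.card F = 2 ^ 2) {t : ℕ} (D : Fin t → Submodule F (Fin n → F))
    (hD : Geo.IsNondegenerateMDecomposition (Cfsg.hermForm n F 2) 2 D) {H : Subgroup (GL (Fin n) F)}
    (hHU : H ≤ Cfsg.GU n F 2) (hle : H ≤ Geo.decompositionStabilizer D) :
    ∃ D' : Fin n → Submodule F (Fin n → F),
      Geo.IsNondegenerateMDecomposition (Cfsg.hermForm n F 2) 1 D' ∧ H ≤ Geo.decompositionStabilizer D' := by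
  classical
  have HH := Unitary.hermForm_isHerm hF n
  choose b hbW hb1 hb0 hball using fun i => plane_two hF HH (D i) (hD.decomp.finrank_eq i)
    (fun w hw hw0 => (hD.nondegenerate i w hw hw0).2)
  have htn : t * 2 = n := by
    have := decomp_card hD.decomp
    simpa using this
  let e : Fin n ≃ Fin t × Fin 2 := (finCongr htn.symm).trans finProdFinEquiv.symm
  let v : Fin n → Fin n → F := fun k => b (e k).1 (e k).2
  let D' : Fin n → Submodule F (Fin n → F) := fun k => Submodule.span F {v k}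
  have hv1 : ∀ k, Cfsg.hermForm n F 2 (v k) (v k) = 1 := fun k => hb1 _ _
  have hv0 : ∀ k, v k ≠ 0 := fun k h0 => by
    have := hv1 k
    rw [h0, HH.zero_left] at this
    exact zero_ne_one this
  have horth : ∀ k l, k ≠ l → Cfsg.hermForm n F 2 (v k) (v l) = 0 := by
    intro k l hkl
    by_cases h1 : (e k).1 = (e l).1
    · show Cfsg.hermForm n F 2 (b _ _) (b _ _) = 0
      rw [h1]
      exact hb0 _ _ _ (fun h2 => hkl (e.injective (Prod.ext h1 h2)))
    · exact hD.orthogonal _ _ h1 _ (hbW _ _) _ (hbW _ _)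
  have hnd : ∀ k, Geo.IsNondegenerateOn (Cfsg.hermForm n F 2) (D' k) := by
    intro k w hw hw0
    obtain ⟨c, rfl⟩ := Submodule.mem_span_singleton.mp hw
    have hc : c ≠ 0 := fun h0 => hw0 (by rw [h0, zero_smul])
    refine ⟨⟨v k, Submodule.mem_span_singleton_self _, ?_⟩, ⟨v k, Submodule.mem_span_singleton_self _, ?_⟩⟩
    · rw [HH.smul_right, hv1, mul_one]; exact pow_ne_zero _ hc
    · rw [HH.smul_left, hv1, mul_one]; exact hc
  refine ⟨D', mdecomp_of_orth _ HH.add_left HH.smul_left ?_ one_pos (by simp) (fun k => ?_) hnd ?_, ?_⟩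
  · have := hD.decomp.two_le; omega
  · exact finrank_span_singleton (hv0 k)
  · intro k l hkl u hu w hw
    obtain ⟨c, rfl⟩ := Submodule.mem_span_singleton.mp hu
    obtain ⟨c', rfl⟩ := Submodule.mem_span_singleton.mp hw
    rw [HH.smul_left, HH.smul_right, horth k l hkl, mul_zero, mul_zero]
  intro g hg
  obtain ⟨π, hπ⟩ := hle hg
  have himg : ∀ k, ∃ l, ∃ c : F, c ≠ 0 ∧ (g : Matrix (Fin n) (Fin n) F) *ᵥ v k = c • v l := by
    intro k
    have hmem : (g : Matrix (Fin n) (Fin n) F) *ᵥ v k ∈ D (π (e k).1) := by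
      rw [← hπ]; exact ⟨v k, hbW _ _, rfl⟩
    have hgv : Cfsg.hermForm n F 2 ((g : Matrix (Fin n) (Fin n) F) *ᵥ v k) ((g : Matrix (Fin n) (Fin n) F) *ᵥ v k)
        ≠ 0 := by
      rw [mem_GU_iff.mp (hHU hg), hv1]; exact one_ne_zero
    obtain ⟨i, c, hc⟩ := hball _ _ hmem hgv
    refine ⟨e.symm (π (e k).1, i), c, fun h0 => hgv (by rw [hc, h0, zero_smul, HH.zero_left]), ?_⟩
    simp [v, hc]
  choose f c hc0 hc using himg
  have hfi : Function.Injective f := by
    intro k l hkl
    by_contra hne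
    have h1 := mem_GU_iff.mp (hHU hg) (v k) (v l)
    rw [hc, hc, hkl, HH.smul_left, HH.smul_right, hv1, horth k l hne, mul_one] at h1
    exact mul_ne_zero (hc0 k) (pow_ne_zero _ (hc0 l)) h1
  refine ⟨Equiv.ofBijective f hfi.bijective_of_finite, fun k => ?_⟩
  simp only [D', Submodule.map_span, Set.image_singleton, Matrix.toLin'_apply, Equiv.ofBijective_apply, hc]
  exact Submodule.span_singleton_smul_eq (IsUnit.mk0 _ (hc0 k)) _

end Cfsg.Agent.Aschbacher
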