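/-
Mapping the outcomes of the form-aware Clifford analysis to the classes of the unitary groups, every dimension.
Main results: `exists_congr_one`, `unitary_field`, `unitary_decomp`, `unitary_traceReal`, `unitary_sympType`,
`unitary_core`, `unitary_tensorInduced`, `unitary_tensor_lt`, `unitary_tensor_two`.
-/
import Cfsg.Agent.Lib.Aschbacher.FormGeneral
import Cfsg.Agent.Lib.Aschbacher.FormSubfield
import Cfsg.Agent.Lib.Aschbacher.UnitaryReduce
import Cfsg.Agent.Lib.Unitary.Count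
import Cfsg.Agent.Lib.CharApp.Burnside

set_option autoImplicit false

namespace Cfsg.Agent.Aschbacher

open Matrix
open scoped commutatorElement
open Cfsg.Agent.PrimeDim

variable {F : Type*} [Field F] [Fintype F] {n q : ℕ}

local notation "hq" => Cfsg.hermForm n F q

theorem conj_apply (hF : Fintype.card F = q ^ 2) (x : F) : Unitary.conjHom hF x = x ^ q :=
  conjHom_apply' hF x

theorem formOfGram_unitaryPow (hF : Fintype.card F = q ^ 2) {k : ℕ} {M : Matrix (Fin k) (Fin k) F}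
    (hM : IsUnit M.det) (hsym : (M.map (Unitary.conjHom hF))ᵀ = M) :
    Geo.IsUnitaryFormPow q (Geo.formOfGram (Unitary.conjHom hF) M) := by
  refine ⟨fun x y v => ?_, fun c x v => ?_, fun v w => ?_, formOfGram_nondegenerate _ hM⟩
  · simp [formOfGram_eq, add_dotProduct]
  · simp [formOfGram_eq, smul_dotProduct]
  · rw [← conj_apply hF]
    simp only [Geo.formOfGram, map_sum, map_mul]
    rw [Finset.sum_comm]
    refine Finset.sum_congr rfl fun a _ => Finset.sum_congr rfl fun b _ => ?_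
    have h3 := congrFun (congrFun hsym b) a
    simp only [Matrix.transpose_apply, Matrix.map_apply] at h3
    rw [h3]
    simp only [conj_apply, Unitary.pow_q_pow_q hF]
    ring

/-- A non-degenerate hermitian matrix is congruent to the identity. -/
theorem exists_congr_one (hF : Fintype.card F = q ^ 2) {k : ℕ} {G : Matrix (Fin k) (Fin k) F}
    (hdet : IsUnit G.det) (hsym : (G.map (Unitary.conjHom hF))ᵀ = G) :
    ∃ A : GL (Fin k) F, (A : Matrix (Fin k) (Fin k) F)ᵀ * G *
      (A : Matrix (Fin k) (Fin k) F).map (Unitary.conjHom hF) = 1 := by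
  classical
  set σ := Unitary.conjHom hF with hσ
  have hU := formOfGram_unitaryPow hF hdet hsym
  have HH : Unitary.IsHerm q (Geo.formOfGram σ G) :=
    ⟨hU.add_left, hU.smul_left, fun x y => hU.herm y x⟩
  obtain ⟨c, hc⟩ := Unitary.exists_orthonormalBasis hF HH (fun x hx => by
    by_contra hx0
    obtain ⟨y, hy⟩ := (hU.nondegenerate x hx0).2
    exact hy (hx y))
  have hk : Module.finrank F (Fin k → F) = k := by simp
  let A₀ : Matrix (Fin k) (Fin k) F := Matrix.of fun i j => c (Fin.cast hk.symm j) i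
  have hcol : ∀ j, A₀ *ᵥ Pi.single j 1 = c (Fin.cast hk.symm j) := fun j => funext fun i => by
    simp [A₀]
  have hA : A₀ᵀ * G * A₀.map σ = 1 := by
    ext i j
    rw [← formOfGram_single σ (A₀ᵀ * G * A₀.map σ) i j, ← formOfGram_mulVec, hcol, hcol,
      Unitary.Orthonormal.apply hc, Matrix.one_apply]
    simp [Fin.cast_inj]
  have hu : IsUnit A₀.det := by
    have h1 := congrArg Matrix.det hA
    rw [Matrix.det_mul, Matrix.det_mul, Matrix.det_transpose, Matrix.det_one] at h1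
    exact isUnit_of_mul_isUnit_left (isUnit_of_mul_isUnit_left (h1 ▸ isUnit_one))
  refine ⟨((Matrix.isUnit_iff_isUnit_det A₀).mpr hu).unit, ?_⟩
  rw [IsUnit.unit_spec]
  exact hA

theorem trace_inv_gu (hF : Fintype.card F = q ^ 2) {P : Subgroup (GL (Fin n) F)} (hP : P ≤ Cfsg.GU n F q) :
    ∀ x ∈ P, ((x⁻¹ : GL (Fin n) F) : Matrix (Fin n) (Fin n) F).trace
      = Unitary.conjHom hF (x : Matrix (Fin n) (Fin n) F).trace := by
  have h : Inv (Unitary.conjHom hF) P (1 : Matrix (Fin n) (Fin n) F) :=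
    fun x hx => gram_of_mem_GU hF (hP hx)
  exact fun x hx => h.trace_inv (by simp) hx

/-- A normal spanning subgroup of isometries with real traces gives a subfield class. -/
theorem unitary_traceReal (hF : Fintype.card F = q ^ 2) (h2 : 2 ≤ n) {H P : Subgroup (GL (Fin n) F)}
    (hH : H ≤ Cfsg.GU n F q) (hPH : P ≤ H) (hn : NormBy H P)
    (hspan : Submodule.span F (Geo.matrixSet P) = ⊤)
    (htr : ∀ x ∈ P, ((x⁻¹ : GL (Fin n) F) : Matrix (Fin n) (Fin n) F).trace
      = (x : Matrix (Fin n) (Fin n) F).trace) :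
    ∃ M, Geo.InUnitaryPartialClass n F q M ∧ H ≤ M := by
  have : Nonempty (Fin n) := ⟨⟨0, by omega⟩⟩
  have hfix : ∀ x ∈ P, (x : Matrix (Fin n) (Fin n) F).trace ∈ Unitary.fixedField hF := fun x hx => by
    rw [Unitary.mem_fixedField, ← conj_apply hF, ← trace_inv_gu hF (hPH.trans hH) x hx, htr x hx]
  refine unitary_subfield hF h2 hH (hPH.trans hH) hn hspan (F₀ := Unitary.fixedField hF) (fun htop => ?_)
    (realisableOver_of_trace hspan (scalar_of_span hspan) _ hfix)
  refine Unitary.conjHom_ne_id hF (RingHom.ext fun x => ?_)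
  rw [conj_apply]
  exact (Unitary.mem_fixedField hF).mp (htop ▸ Subfield.mem_top x)

/-- A core is residual or in a subfield class. -/
theorem unitary_core (hF : Fintype.card F = q ^ 2) (h2 : 2 ≤ n) {H P : Subgroup (GL (Fin n) F)}
    (hH : H ≤ Cfsg.GU n F q) (hP : IsCore H P) :
    (∃ M, Geo.InUnitaryPartialClass n F q M ∧ H ≤ M) ∨ Geo.InUnitaryResidualClass H := by
  by_cases hsub : ∃ F₀ : Subfield F, F₀ ≠ ⊤ ∧ Geo.RealisableOver F₀ (Geo.matrixSet P)
  · obtain ⟨F₀, hF₀, hr⟩ := hsub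
    exact Or.inl (unitary_subfield hF h2 hH (hP.le.trans hH) hP.normal hP.span_eq hF₀ hr)
  by_cases hq' : ∃ Q : (Fin n → F) → F, Geo.IsNondegenerateQuadraticForm Q ∧
      Geo.FixesQuadForm (Geo.matrixSet P) Q
  · obtain ⟨Q, hQ, hQP⟩ := hq'
    exact Or.inl (unitary_traceReal hF h2 hH hP.le hP.normal hP.span_eq (trace_inv_of_quad hQ hQP))
  by_cases hs : ∃ f : (Fin n → F) → (Fin n → F) → F, Geo.IsSymplecticForm f ∧
      Geo.FixesForm (Geo.matrixSet P) f
  · obtain ⟨f, hf, hfP⟩ := hs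
    exact Or.inl (unitary_traceReal hF h2 hH hP.le hP.normal hP.span_eq (trace_inv_of_symplectic hf hfP))
  exact Or.inr ⟨P, ⟨hP.le, hP.normal, hP.perfect, hP.simple, hP.nonabelian, hP.centralizer_scalar,
    hP.absIrred, fun F₀ h h' => hsub ⟨F₀, h, h'⟩⟩, hq', hs⟩

/-- The minus one of a field of square order is a square. -/
theorem isSquare_neg_one_sq (hF : Fintype.card F = q ^ 2) : IsSquare (-1 : F) := by
  rw [FiniteField.isSquare_neg_one_iff, hF, Nat.pow_mod]
  have := Nat.mod_lt q (show 4 > 0 by norm_num)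
  interval_cases q % 4 <;> norm_num

/-- Symplectic type gives class 6 or a subfield class. -/
theorem unitary_sympType (hF : Fintype.card F = q ^ 2) (h2 : 2 ≤ n) {H : Subgroup (GL (Fin n) F)}
    (hH : H ≤ Cfsg.GU n F q) (hgood : Good (H ⊔ Geo.scalars (Fin n) F)) {r m z p f : ℕ}
    {R : Subgroup (GL (Fin n) F)} (hD : SympData (H ⊔ Geo.scalars (Fin n) F) r m z p f R) :
    ∃ M, Geo.InUnitaryPartialClass n F q M ∧ H ≤ M := by
  classical
  have : Nonempty (Fin n) := ⟨⟨0, by omega⟩⟩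
  obtain ⟨hp, hpc, hFc, hzf, hrp⟩ := hD.charP
  rw [Nat.card_eq_fintype_card] at hFc
  by_cases hmin : ∃ d, 0 < d ∧ d < f ∧ z ∣ p ^ d - 1
  · obtain ⟨d, hd0, hdf, hd⟩ := hmin
    obtain ⟨E, hE, htr⟩ := sympData_trace_mem hD hd0 hdf hd
    obtain ⟨P, hPR, hPH, hPn, hspan⟩ := sympData_isometries hgood hD
    exact unitary_subfield hF h2 hH (hPH.trans hH)
      (fun g hg => hPn g (le_sup_left (a := H) hg)) hspan hE
      (realisableOver_of_trace hspan (scalar_of_span hspan) _ fun x hx => htr x (hPR hx))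
  refine ⟨Geo.subgroupNormalizer R ⊓ Cfsg.GU n F q, ?_,
    le_inf (le_subgroupNormalizer fun g hg => hD.norm g (le_sup_left (a := H) hg)) hH⟩
  have hminf : Geo.IsMinimalFieldFor (Nat.card (Subgroup.center R)) p f F :=
    ⟨hp, hpc, hFc, hD.card_center.symm ▸ hzf,
      fun d hd0 hdf hd => hmin ⟨d, hd0, hdf, hD.card_center ▸ hd⟩⟩
  have hn : n = r ^ m := by simpa using hD.card_eq
  have hcardR : Nat.card R = n * n * z := by simpa using hD.card_group
  refine Or.inr (Or.inr (Or.inr (Or.inr (Or.inr (Or.inr (Or.inr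
    ⟨r, R, p, f, m, hD.sympType, absIrred_of_span hD.span, ?_, hrp, hminf, ?_, rfl⟩))))))
  · rw [hermForm_eq_gram hF]
    exact mem_similarityGroup_of_gram fun g hg => sim_sup_scalars hF hH g (hD.le hg)
  rcases hD.kind with ⟨hr, hz⟩ | ⟨hr, hz, -⟩ | ⟨-, -, hns⟩
  · exact Or.inl ⟨hr, hD.card_center.trans hz, hD.pos, by rw [hcardR, hn, hz]; ring⟩
  · refine Or.inr ⟨hr, ?_, hD.card_center.trans hz, by rw [hcardR, hn, hz, hr]; ring⟩
    have hp2 : p ≠ 2 := hr ▸ hrp.symm
    have h4 : z ∣ p ^ 2 - 1 := by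
      rw [hz]
      obtain ⟨j, hj⟩ := hp.odd_of_ne_two hp2
      exact ⟨j * (j + 1), by rw [hj]; ring_nf; omega⟩
    have hle : f ≤ 2 := by
      by_contra hlt
      exact hmin ⟨2, by norm_num, by omega, h4⟩
    rw [hF] at hFc
    have hq2 := Unitary.two_le_q hF
    interval_cases f
    · rw [pow_zero] at hFc; nlinarith
    · exfalso
      rw [pow_one] at hFc
      exact hp.not_isSquare ⟨q, by rw [← hFc, sq]⟩
    · rfl
  · exact absurd (isSquare_neg_one_sq hF) hns

/-- A field of prime degree closed under adjoints gives class 3. -/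
theorem unitary_field (hF : Fintype.card F = q ^ 2) {H : Subgroup (GL (Fin n) F)} (hH : H ≤ Cfsg.GU n F q)
    (h : FField (Unitary.conjHom hF) (1 : Matrix (Fin n) (Fin n) F) (H ⊔ Geo.scalars (Fin n) F)) :
    ∃ M, Geo.InUnitaryClass n F q M ∧ H ≤ M := by
  obtain ⟨r, K, hr, -, hK, hadj, hle⟩ := h
  have hodd : Odd r := hr.odd_of_ne_two fun h2 => quad_field_false hF (h2 ▸ hK) hadj
  refine ⟨Geo.subalgebraNormalizer K ⊓ Cfsg.GU n F q,
    Or.inr (Or.inl ⟨r, K, hr, hodd, hK, fun k hk => ⟨_, hadj k hk, ?_⟩, rfl⟩),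
    le_inf (le_sup_left.trans hle) hH⟩
  intro u v
  rw [hermForm_eq_gram hF]
  exact form_adj (herm_one hF) k u v

/-- A preserved orthogonal decomposition or totally singular pair gives class 2. -/
theorem unitary_decomp (hF : Fintype.card F = q ^ 2) {H : Subgroup (GL (Fin n) F)} (hH : H ≤ Cfsg.GU n F q)
    (h : FDecomp (Unitary.conjHom hF) (1 : Matrix (Fin n) (Fin n) F) (H ⊔ Geo.scalars (Fin n) F)) :
    ∃ M, Geo.InUnitaryPartialClass n F q M ∧ H ≤ M := by
  obtain ⟨m, t, D, htm, hle, hD⟩ := h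
  rw [← hermForm_eq_gram hF] at hD
  rcases hD with hD | ⟨rfl, hD, hts⟩
  · exact ⟨Geo.decompositionStabilizer D ⊓ Cfsg.GU n F q, Or.inr (Or.inr (Or.inl ⟨t, m, D, hD, rfl⟩)),
      le_inf (le_sup_left.trans hle) hH⟩
  · exact ⟨Geo.decompositionStabilizer D ⊓ Cfsg.GU n F q,
      Or.inr (Or.inr (Or.inr (Or.inl ⟨m, D, by simpa using htm, hD, hts, rfl⟩))),
      le_inf (le_sup_left.trans hle) hH⟩

/-- Tensor factors of different dimensions give class 4. -/
theorem unitary_tensor_lt (hF : Fintype.card F = q ^ 2) {H : Subgroup (GL (Fin n) F)} (hH : H ≤ Cfsg.GU n F q)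
    {d t : ℕ} (hd : 2 ≤ d) (hdt : d < t)
    (h : FTensor (Unitary.conjHom hF) (1 : Matrix (Fin n) (Fin n) F) (H ⊔ Geo.scalars (Fin n) F) d t) :
    ∃ M, Geo.InUnitaryClass n F q M ∧ H ≤ M := by
  have hcard : d * t = n := by simpa using h.1
  obtain ⟨P, f₁, f₂, hf₁, hf₂, hst, hle⟩ :=
    tensor_unitary_forms hF (by omega) (by omega) h (((finProdFinEquiv).trans (finCongr hcard)).symm)
  exact ⟨_ ⊓ Cfsg.GU n F q, Or.inr (Or.inr (Or.inl ⟨d, t, _, P, f₁, f₂, hd, hdt, hf₁, hf₂, hst, rfl⟩)),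
    le_inf (le_sup_left.trans hle) hH⟩

/-- Similitudes of the standard form over the field with four elements are isometries. -/
theorem similitude_eq_one (hF : Fintype.card F = 2 ^ 2) {k : ℕ} (hk : 0 < k) {g : GL (Fin k) F} {c : F}
    (h : (g : Matrix (Fin k) (Fin k) F)ᵀ * (g : Matrix (Fin k) (Fin k) F).map (Unitary.conjHom hF)
      = c • (1 : Matrix (Fin k) (Fin k) F)) : c = 1 := by
  set σ := Unitary.conjHom hF
  have hc : c ^ 2 = c := by
    have h1 : σ (((g : Matrix (Fin k) (Fin k) F)ᵀ * (g : Matrix (Fin k) (Fin k) F).map σ) ⟨0, hk⟩ ⟨0, hk⟩)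
        = ((g : Matrix (Fin k) (Fin k) F)ᵀ * (g : Matrix (Fin k) (Fin k) F).map σ) ⟨0, hk⟩ ⟨0, hk⟩ := by
      simp only [Matrix.mul_apply, Matrix.transpose_apply, Matrix.map_apply, map_sum, map_mul,
        show ∀ a, σ (σ a) = a from fun a => Unitary.pow_q_pow_q hF a]
      exact Finset.sum_congr rfl fun _ _ => mul_comm _ _
    rw [h] at h1
    simpa [σ, conj_apply] using h1
  have hc0 : c ≠ 0 := by
    intro h0
    rw [h0, zero_smul] at h
    have h1 := congrArg Matrix.det h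
    have : Nonempty (Fin k) := ⟨⟨0, hk⟩⟩
    rw [Matrix.det_mul, Matrix.det_transpose, Matrix.det_zero] at h1
    exact mul_ne_zero (Matrix.GeneralLinearGroup.det g).ne_zero (isUnit_det_map σ g).ne_zero h1
  exact mul_left_cancel₀ hc0 (by rw [mul_one, ← sq, hc])

/-- No perfect spanning group of similitudes in dimension three over the field with four elements. -/
theorem no_perfect_three (hF : Fintype.card F = 2 ^ 2) {J : Matrix (Fin 3) (Fin 3) F} (hJ : IsUnit J.det)
    (hsym : (J.map (Unitary.conjHom hF))ᵀ = J) {D : Subgroup (GL (Fin 3) F)}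
    (hperf : ⁅D, D⁆ = D) (hsim : Sim (Unitary.conjHom hF) J D) : D = ⊥ := by
  classical
  set σ := Unitary.conjHom hF
  obtain ⟨A, hA⟩ := exists_congr_one hF hJ hsym
  set D' : Subgroup (GL (Fin 3) F) := D.map (MulAut.conj A⁻¹).toMonoidHom with hD'
  suffices h : D' = ⊥ by
    rwa [hD', Subgroup.map_eq_bot_iff_of_injective] at h
    exact (MulAut.conj A⁻¹).injective
  have hperf' : ⁅D', D'⁆ = D' := by rw [hD', ← Subgroup.map_commutator, hperf]
  have hiso : ∀ g ∈ D', (g : Matrix (Fin 3) (Fin 3) F)ᵀ * (g : Matrix (Fin 3) (Fin 3) F).map σ = 1 := by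
    rintro _ ⟨g, hg, rfl⟩
    obtain ⟨c, -, hc⟩ := hsim g hg
    have key : ((MulAut.conj A⁻¹).toMonoidHom g : Matrix (Fin 3) (Fin 3) F)ᵀ *
        ((MulAut.conj A⁻¹).toMonoidHom g : Matrix (Fin 3) (Fin 3) F).map σ = c • 1 := by
      simp only [MulEquiv.coe_toMonoidHom, MulAut.conj_apply, inv_inv, Units.val_mul]
      obtain ⟨a, ha⟩ : ∃ a : Matrix (Fin 3) (Fin 3) F, a = (A : Matrix (Fin 3) (Fin 3) F) := ⟨_, rfl⟩
      obtain ⟨b, hb⟩ : ∃ b : Matrix (Fin 3) (Fin 3) F, b = ((A⁻¹ : GL (Fin 3) F) : Matrix (Fin 3) (Fin 3) F) :=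
        ⟨_, rfl⟩
      have hab : a * b = 1 := by rw [ha, hb, Units.mul_inv]
      rw [← ha, ← hb]
      rw [← ha] at hA
      have hJ' : bᵀ * b.map σ = J := by
        calc bᵀ * b.map σ = bᵀ * (aᵀ * J * a.map σ) * b.map σ := by rw [hA, mul_one]
          _ = (a * b)ᵀ * J * (a * b).map σ := by
              simp [Matrix.transpose_mul, Matrix.map_mul, mul_assoc]
          _ = J := by rw [hab, Matrix.transpose_one, one_mul, Matrix.map_one _ (map_zero _) (map_one _), mul_one]
      calc (b * (g : Matrix (Fin 3) (Fin 3) F) * a)ᵀ * (b * (g : Matrix (Fin 3) (Fin 3) F) * a).map σ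
          = aᵀ * ((g : Matrix (Fin 3) (Fin 3) F)ᵀ * (bᵀ * b.map σ) * (g : Matrix (Fin 3) (Fin 3) F).map σ) *
              a.map σ := by simp [Matrix.transpose_mul, Matrix.map_mul, mul_assoc]
        _ = c • 1 := by rw [hJ', hc, Matrix.mul_smul, Matrix.smul_mul, hA]
    rw [key, similitude_eq_one hF (by norm_num) key, one_smul]
  have hdet : ∀ g ∈ D', (g : Matrix (Fin 3) (Fin 3) F).det = 1 := by
    intro g hg
    have h1 : D'.map Matrix.GeneralLinearGroup.det = ⊥ := by
      rw [← hperf', Subgroup.map_commutator]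
      exact Subgroup.commutator_eq_bot_iff_le_centralizer.mpr fun x _ =>
        Subgroup.mem_centralizer_iff.mpr fun y _ => mul_comm y x
    have h2 : Matrix.GeneralLinearGroup.det g = 1 := Subgroup.mem_bot.mp (h1 ▸ ⟨g, hg, rfl⟩)
    simpa using congrArg Units.val h2
  let ι₀ : Cfsg.SU 3 F 2 →* GL (Fin 3) F :=
    Matrix.SpecialLinearGroup.toGL.comp (Cfsg.SU 3 F 2).subtype
  have hle : D' ≤ ι₀.range := by
    intro g hg
    refine ⟨⟨⟨(g : Matrix (Fin 3) (Fin 3) F), hdet g hg⟩, ?_⟩, Units.ext rfl⟩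
    refine (Unitary.mem_SU_iff (q := 2) _).mpr fun u v => ?_
    have h1 : ∀ a b : Fin 3 → F, Cfsg.hermForm 3 F 2 a b = Geo.formOfGram σ 1 a b := fun a b => by
      rw [hermForm_eq_gram hF]
    show Cfsg.hermForm 3 F 2 ((g : Matrix (Fin 3) (Fin 3) F) *ᵥ u) ((g : Matrix (Fin 3) (Fin 3) F) *ᵥ v) = _
    rw [h1, h1, formOfGram_mulVec, mul_one, hiso g hg]
  have hcard : Nat.card (Cfsg.SU 3 F 2) = 2 ^ 3 * 3 ^ 3 := by
    have h := Unitary.card_SU hF 3 (by norm_num)
    simp [Finset.prod_range_succ] at h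
    have h2 : ¬ Even 1 := by decide
    rw [Nat.card_eq_fintype_card]
    omega
  have : Finite (Cfsg.SU 3 F 2) := Nat.finite_of_card_ne_zero (by rw [hcard]; norm_num)
  have hsol : Group.IsSolvable (Cfsg.SU 3 F 2) :=
    CharApp.isSolvable_of_card_eq_prime_pow_mul 2 3 Nat.prime_two Nat.prime_three _ _ hcard 3 3 rfl
  have hinj : Function.Injective ι₀ :=
    Matrix.SpecialLinearGroup.toGL_injective.comp (Cfsg.SU 3 F 2).subtype_injective
  have hmap : (D'.comap ι₀).map ι₀ = D' := Subgroup.map_comap_eq_self hle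
  by_contra hne
  have hne' : D'.comap ι₀ ≠ ⊥ := fun h0 => hne (by rw [← hmap, h0, Subgroup.map_bot])
  refine (Group.IsSolvable.commutator_lt_of_ne_bot hne').ne (Subgroup.map_injective hinj ?_)
  rw [Subgroup.map_commutator, hmap, hperf']

/-- Tensor induction gives class 7 or a subfield class. -/
theorem unitary_tensorInduced (hF : Fintype.card F = q ^ 2) (h2 : 2 ≤ n) {H : Subgroup (GL (Fin n) F)}
    (hH : H ≤ Cfsg.GU n F q) {d k : ℕ} (hd : 2 ≤ d) (hk : 2 ≤ k)
    (htr : d = 2 → TraceReal (H ⊔ Geo.scalars (Fin n) F))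
    (hT : TIData (H ⊔ Geo.scalars (Fin n) F) d k) :
    ∃ M, Geo.InUnitaryClass n F q M ∧ H ≤ M := by
  classical
  have : Nonempty (Fin n) := ⟨⟨0, by omega⟩⟩
  by_cases hd2 : d = 2
  · obtain ⟨P, hPG, hPn, hperf, hspan, hPtr⟩ := htr hd2
    obtain ⟨M, hM, hle⟩ := unitary_traceReal hF h2 hH (perfect_le hPG hperf)
      (fun g hg => hPn g (le_sup_left (a := H) hg)) hspan hPtr
    exact ⟨M, Or.inl hM, hle⟩
  set σ := Unitary.conjHom hF with hσ
  obtain ⟨hcard, hgr⟩ := tensor_power_gram (herm_one hF) (sim_sup_scalars hF hH) (by omega) (by omega) hT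
  let e : Fin n ≃ (Fin k → Fin d) := Fintype.equivOfCardEq (by simp [hcard])
  obtain ⟨P, J₁, c, m, D₁, hc, hJ, hle, hgram, hJm, -, hperf, ⟨x, hx, hxs⟩, hsim, -⟩ := hgr e
  have hJH : Herm σ J₁ := by
    refine ⟨fun a => Unitary.pow_q_pow_q hF a, hJ, m, ?_, hJm⟩
    intro hm
    rw [hm, zero_smul, Matrix.transpose_eq_zero] at hJm
    have : Nonempty (Fin d) := ⟨⟨0, by omega⟩⟩
    have h1 : J₁ = 0 := by
      ext i j
      exact (map_eq_zero σ).mp (congrFun (congrFun hJm i) j)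
    rw [h1, Matrix.det_zero] at hJ
    exact not_isUnit_zero hJ
  obtain ⟨μ, hμ, hμJ⟩ := exists_hermitian_scale hF (by omega) hJH
  have hμdet : IsUnit (μ • J₁).det := by
    rw [Matrix.det_smul]; exact ((IsUnit.mk0 _ hμ).pow _).mul hJ
  by_cases hex : q = 2 ∧ d = 3
  · obtain ⟨rfl, rfl⟩ := hex
    refine absurd ?_ hxs
    have h1 : D₁ = ⊥ := no_perfect_three hF hμdet hμJ hperf (fun g hg => by
      obtain ⟨a, ha, hga⟩ := hsim g hg
      exact ⟨a, ha, by rw [Matrix.mul_smul, Matrix.smul_mul, hga, smul_comm]⟩)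
    rw [h1, Subgroup.mem_bot] at hx
    rw [hx]; exact one_mem _
  refine ⟨Geo.tensorWreathSubgroup d k e P ⊓ Cfsg.GU n F q, Or.inr (Or.inr (Or.inr
    ⟨d, k, e, P, Geo.formOfGram σ (μ • J₁), by omega, hk, hex, formOfGram_unitaryPow hF hμdet hμJ, ?_, rfl⟩)),
    le_inf (le_sup_left.trans hle) hH⟩
  refine tensorPowerFormStructure_of_gram σ (fun x => x ^ q) (fun x => (conj_apply hF x).symm)
    (hermForm_eq_gram hF) e P (c := c * (μ ^ k)⁻¹) (mul_ne_zero hc (inv_ne_zero (pow_ne_zero _ hμ))) _ ?_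
  rw [hgram]
  ext a b
  simp only [Matrix.smul_apply, Matrix.coe_reindexAlgEquiv, Matrix.reindex_apply, Matrix.submatrix_apply,
    pureMat_apply, smul_eq_mul, Finset.prod_mul_distrib, Finset.prod_const, Finset.card_univ, Fintype.card_fin]
  field_simp

theorem two_eq_zero_of_even (hF : Fintype.card F = q ^ 2) (hodd : ¬ Odd q) : (2 : F) = 0 := by
  obtain ⟨p, m, hp, hchar, hqp, -⟩ := Unitary.exists_prime_pow hF
  rcases hp.eq_two_or_odd' with rfl | hpo
  · exact_mod_cast CharP.cast_eq_zero F 2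
  · exact absurd (hqp ▸ hpo.pow) hodd

omit [Fintype F] in
theorem dotProduct_sym_zero_diag (h2 : (2 : F) = 0) {κ : Type} [Fintype κ] [DecidableEq κ] {S : Matrix κ κ F}
    (hsym : Sᵀ = S) (hdiag : ∀ a, S a a = 0) (u : κ → F) : u ⬝ᵥ S *ᵥ u = 0 := by
  have hs : ∀ a b, S a b = S b a := fun a b => congrFun (congrFun hsym b) a
  simp only [dotProduct, Matrix.mulVec, Finset.mul_sum]
  rw [← Fintype.sum_prod_type']
  refine Finset.sum_involution (fun p _ => (p.2, p.1)) (fun p _ => ?_) (fun p _ hp h => hp ?_)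
    (fun p _ => Finset.mem_univ _) (fun p _ => rfl)
  · show u p.1 * (S p.1 p.2 * u p.2) + u p.2 * (S p.2 p.1 * u p.1) = 0
    rw [hs p.2 p.1]
    linear_combination (u p.1 * S p.1 p.2 * u p.2) * h2
  · obtain ⟨a, b⟩ := p
    obtain rfl : b = a := congrArg Prod.fst h
    simp [hdiag]

/-- Two factors of dimension two: a subfield of index two. -/
theorem unitary_tensor_two (hF : Fintype.card F = q ^ 2) {H : Subgroup (GL (Fin n) F)} (hH : H ≤ Cfsg.GU n F q)
    (h : FTensor (Unitary.conjHom hF) (1 : Matrix (Fin n) (Fin n) F) (H ⊔ Geo.scalars (Fin n) F) 2 2) :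
    ∃ M, Geo.InUnitaryPartialClass n F q M ∧ H ≤ M := by
  classical
  have hn : n = 4 := by simpa using h.1.symm
  set σ := Unitary.conjHom hF with hσ
  let e : Fin n ≃ Fin 2 × Fin 2 := Fintype.equivOfCardEq (by simp [hn])
  obtain ⟨P, G1, G2, hle, hgram, h1, h2⟩ := h.2 e
  obtain ⟨ζ, hζ0, hζ⟩ := Unitary.exists_skew hF
  obtain ⟨μ, hμ, hμG⟩ := exists_hermitian_scale hF (by norm_num) h1
  obtain ⟨ν, hν, hνG⟩ := exists_hermitian_scale hF (by norm_num) h2
  let Alt : Matrix (Fin 2) (Fin 2) F := !![0, 1; -1, 0]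
  have hAσ : Alt.map σ = Alt := by ext i j; fin_cases i <;> fin_cases j <;> simp [Alt]
  have hAT : Altᵀ = -Alt := by ext i j; fin_cases i <;> fin_cases j <;> simp [Alt]
  have hAlt : ∀ a : Matrix (Fin 2) (Fin 2) F, aᵀ * Alt * a = a.det • Alt := by
    intro a
    ext i j
    fin_cases i <;> fin_cases j <;>
      simp [Alt, Matrix.det_fin_two, Matrix.mul_apply, Fin.sum_univ_two] <;> ring
  have hAdet : Alt.det = 1 := by simp [Alt, Matrix.det_fin_two]
  set K : Matrix (Fin 2) (Fin 2) F := ζ • Alt with hK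
  have hKsym : (K.map σ)ᵀ = K := by
    rw [hK, map_smul', hAσ, Matrix.transpose_smul, hAT, hσ, conj_apply, hζ, smul_neg, neg_smul, neg_neg]
  have hKdet : IsUnit K.det := by
    rw [hK, Matrix.det_smul, hAdet, mul_one]; exact (IsUnit.mk0 _ hζ0).pow _
  obtain ⟨B, hB⟩ := exists_congr_one hF hKdet hKsym
  have hchange : ∀ {G : Matrix (Fin 2) (Fin 2) F} {a : F}, a ≠ 0 → IsUnit G.det →
      ((a • G).map σ)ᵀ = a • G → ∃ A : GL (Fin 2) F, (A : Matrix (Fin 2) (Fin 2) F)ᵀ * G *
        (A : Matrix (Fin 2) (Fin 2) F).map σ = (a⁻¹ * ζ) • Alt := by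
    intro G a ha hG hs
    obtain ⟨A, hA⟩ := exists_congr_one hF (by rw [Matrix.det_smul]; exact ((IsUnit.mk0 _ ha).pow _).mul hG) hs
    refine ⟨A * B⁻¹, ?_⟩
    obtain ⟨b, hb⟩ : ∃ b : Matrix (Fin 2) (Fin 2) F, b = ((B⁻¹ : GL (Fin 2) F) : Matrix (Fin 2) (Fin 2) F) :=
      ⟨_, rfl⟩
    have hBb : (B : Matrix (Fin 2) (Fin 2) F) * b = 1 := by rw [hb, Units.mul_inv]
    have hKb : bᵀ * b.map σ = K := by
      calc bᵀ * b.map σ = bᵀ * ((B : Matrix (Fin 2) (Fin 2) F)ᵀ * K * (B : Matrix (Fin 2) (Fin 2) F).map σ) *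
            b.map σ := by rw [hB, mul_one]
        _ = ((B : Matrix (Fin 2) (Fin 2) F) * b)ᵀ * K * ((B : Matrix (Fin 2) (Fin 2) F) * b).map σ := by
            simp [Matrix.transpose_mul, Matrix.map_mul, mul_assoc]
        _ = K := by rw [hBb, Matrix.transpose_one, one_mul, Matrix.map_one _ (map_zero _) (map_one _), mul_one]
    rw [Units.val_mul, ← hb]
    calc ((A : Matrix (Fin 2) (Fin 2) F) * b)ᵀ * G * ((A : Matrix (Fin 2) (Fin 2) F) * b).map σ
        = a⁻¹ • (bᵀ * ((A : Matrix (Fin 2) (Fin 2) F)ᵀ * (a • G) * (A : Matrix (Fin 2) (Fin 2) F).map σ) *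
            b.map σ) := by
          simp [Matrix.transpose_mul, Matrix.map_mul, mul_assoc, smul_smul, ha]
      _ = (a⁻¹ * ζ) • Alt := by rw [hA, mul_one, hKb, hK, smul_smul]
  obtain ⟨A, hA⟩ := hchange hμ h1.det hμG
  obtain ⟨B', hB'⟩ := hchange hν h2.det hνG
  obtain ⟨T, hT, hTi⟩ := tens_unit_exists e A B'
  set P' := P * T with hP'
  set S : Matrix (Fin n) (Fin n) F := tens e Alt Alt with hS
  set c : F := μ⁻¹ * ζ * (ν⁻¹ * ζ) with hc
  have hgram' : (P' : Matrix (Fin n) (Fin n) F)ᵀ * (P' : Matrix (Fin n) (Fin n) F).map σ = c • S := by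
    calc (P' : Matrix (Fin n) (Fin n) F)ᵀ * (P' : Matrix (Fin n) (Fin n) F).map σ
        = (T : Matrix (Fin n) (Fin n) F)ᵀ * ((P : Matrix (Fin n) (Fin n) F)ᵀ * 1 *
            (P : Matrix (Fin n) (Fin n) F).map σ) * (T : Matrix (Fin n) (Fin n) F).map σ := by
          simp [hP', Matrix.transpose_mul, Matrix.map_mul, mul_assoc]
      _ = tens e ((A : Matrix (Fin 2) (Fin 2) F)ᵀ * G1 * (A : Matrix (Fin 2) (Fin 2) F).map σ)
            ((B' : Matrix (Fin 2) (Fin 2) F)ᵀ * G2 * (B' : Matrix (Fin 2) (Fin 2) F).map σ) := by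
          rw [hgram, hT, tens_transpose, tens_map, tens_mul, tens_mul]
      _ = c • S := by
          rw [hA, hB', hS]
          ext a b
          simp [tens_apply, hc]
          ring
  have hSσ : S.map σ = S := by rw [hS, tens_map, hAσ]
  have hST : Sᵀ = S := by
    rw [hS, tens_transpose, hAT]
    ext a b
    simp [tens_apply]
  have hne : ∀ {M : Matrix (Fin 2) (Fin 2) F}, IsUnit M.det → M ≠ 0 := fun hM h0 => by
    rw [h0, Matrix.det_zero] at hM; exact not_isUnit_zero hM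
  have hS0 : S ≠ 0 := fun h0 => by
    have : Nonempty (Fin n) := ⟨⟨0, by omega⟩⟩
    have h1 := congrArg Matrix.det h0
    rw [hS, det_tens, hAdet, Matrix.det_zero, one_pow, one_mul] at h1
    exact one_ne_zero h1
  have hcσ : σ c = c := by
    have h0 : (((P' : Matrix (Fin n) (Fin n) F)ᵀ * (P' : Matrix (Fin n) (Fin n) F).map σ).map σ)ᵀ
        = (P' : Matrix (Fin n) (Fin n) F)ᵀ * (P' : Matrix (Fin n) (Fin n) F).map σ := by
      simp [hσ, Matrix.map_mul, Matrix.transpose_mul, (herm_one (n := n) hF).map_map, Matrix.transpose_map]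
    rw [hgram', map_smul', Matrix.transpose_smul, hSσ, hST] at h0
    have h1 := h0.symm
    obtain ⟨i, j, hij⟩ : ∃ i j, S i j ≠ 0 := by
      by_contra hcon
      simp only [not_exists, not_not] at hcon
      exact hS0 (Matrix.ext hcon)
    exact mul_right_cancel₀ hij (congrFun (congrFun h1 i) j).symm
  have hcF : c ∈ Unitary.fixedField hF := by
    rw [Unitary.mem_fixedField, ← conj_apply hF]; exact hcσ
  have hentry : ∀ a b, S a b ∈ Unitary.fixedField hF := fun a b => by
    rw [Unitary.mem_fixedField, ← conj_apply hF]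
    exact congrFun (congrFun hSσ a) b
  have hrat : Geo.IsFormRationalStructure hq (Unitary.fixedField hF) 1 P' := by
    intro u v hu hv
    rw [one_mul, hermForm_eq_gram hF, formOfGram_mulVec, mul_one, hgram']
    simp only [Geo.formOfGram, Matrix.smul_apply, smul_eq_mul]
    refine sum_mem fun a _ => sum_mem fun b _ => ?_
    have : σ (v b) = v b := by rw [conj_apply hF]; exact (Unitary.mem_fixedField hF).mp (hv b)
    rw [this]
    exact mul_mem (mul_mem (hu a) (mul_mem hcF (hentry a b))) (hv b)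
  have hcard : Fintype.card F = Nat.card (Unitary.fixedField hF) ^ 2 := by
    rw [Unitary.card_fixedField]; exact hF
  have hHle : H ≤ Geo.subfieldSubgroup (Unitary.fixedField hF) P' := by
    intro g hg
    obtain ⟨a, b, hab⟩ := (mem_tensorProductSubgroup_iff e P' g).mp
      ((le_sup_left.trans hle).trans (tensorProductSubgroup_mul_le e P T A B' hT hTi) hg)
    set X := tens e (a : Matrix (Fin 2) (Fin 2) F) (b : Matrix (Fin 2) (Fin 2) F) with hX
    have hgi : (g : Matrix (Fin n) (Fin n) F) * P' = (P' : Matrix (Fin n) (Fin n) F) * X := by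
      rw [hab, cj_apply, mul_assoc, Units.inv_mul, mul_one]
    have hXS : Xᵀ * S * X.map σ = S := by
      have hc0 : c ≠ 0 := mul_ne_zero (mul_ne_zero (inv_ne_zero hμ) hζ0) (mul_ne_zero (inv_ne_zero hν) hζ0)
      have hg1 := gram_of_mem_GU hF (hH hg)
      rw [mul_one] at hg1
      refine (smul_right_injective _ hc0) ?_
      calc c • (Xᵀ * S * X.map σ) = Xᵀ * (c • S) * X.map σ := by simp
        _ = ((g : Matrix (Fin n) (Fin n) F) * (P' : Matrix (Fin n) (Fin n) F))ᵀ *
              ((g : Matrix (Fin n) (Fin n) F) * (P' : Matrix (Fin n) (Fin n) F)).map σ := by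
            rw [← hgram', hgi]; simp [Matrix.transpose_mul, Matrix.map_mul, mul_assoc]
        _ = (P' : Matrix (Fin n) (Fin n) F)ᵀ * ((g : Matrix (Fin n) (Fin n) F)ᵀ *
              (g : Matrix (Fin n) (Fin n) F).map σ) * (P' : Matrix (Fin n) (Fin n) F).map σ := by
            simp [Matrix.transpose_mul, Matrix.map_mul, mul_assoc]
        _ = c • S := by rw [hσ, hg1, mul_one, ← hσ, hgram']
    rw [hS, hX, tens_map, tens_transpose, tens_mul, tens_mul] at hXS
    have hu : ∀ x : GL (Fin 2) F, IsUnit ((x : Matrix (Fin 2) (Fin 2) F)ᵀ * Alt *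
        (x : Matrix (Fin 2) (Fin 2) F).map σ).det := fun x => by
      rw [Matrix.det_mul, Matrix.det_mul, Matrix.det_transpose, hAdet, mul_one]
      exact ((Matrix.isUnit_iff_isUnit_det _).mp x.isUnit).mul (isUnit_det_map σ x)
    obtain ⟨κ, hκ, hκ1, hκ2⟩ := tens_cancel e hXS (hne (hu a)) (hne (hu b))
    -- each factor is real up to a scalar
    have hreal : ∀ (x : GL (Fin 2) F) (l : F), (x : Matrix (Fin 2) (Fin 2) F)ᵀ * Alt *
        (x : Matrix (Fin 2) (Fin 2) F).map σ = l • Alt →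
        ∃ (w : F) (x₀ : Matrix (Fin 2) (Fin 2) F), w ≠ 0 ∧ (∀ i j, x₀ i j ∈ Unitary.fixedField hF) ∧
          (x : Matrix (Fin 2) (Fin 2) F) = w • x₀ := by
      intro x l hl
      set xm := (x : Matrix (Fin 2) (Fin 2) F)
      have hdx : xm.det ≠ 0 := (Matrix.GeneralLinearGroup.det x).ne_zero
      have hxσ : xm.map σ = (l / xm.det) • xm := by
        have hU : IsUnit (xmᵀ * Alt).det := by
          rw [Matrix.det_mul, Matrix.det_transpose, hAdet, mul_one]; exact IsUnit.mk0 _ hdx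
        have := Matrix.invertibleOfIsUnitDet _ hU
        refine (Matrix.mul_right_inj_of_invertible (xmᵀ * Alt) (x := xm.map σ)
          (y := (l / xm.det) • xm)).mp ?_
        rw [hl, Matrix.mul_smul, hAlt, smul_smul, div_mul_cancel₀ _ hdx]
      obtain ⟨i, j, hij⟩ : ∃ i j, xm i j ≠ 0 := by
        by_contra hcon
        simp only [not_exists, not_not] at hcon
        exact hdx (by rw [show xm = 0 from Matrix.ext hcon, Matrix.det_zero])
      refine ⟨xm i j, (xm i j)⁻¹ • xm, hij, fun i' j' => ?_, by rw [smul_smul, mul_inv_cancel₀ hij, one_smul]⟩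
      rw [Unitary.mem_fixedField, ← conj_apply hF, Matrix.smul_apply, smul_eq_mul, map_mul, map_inv₀]
      have e1 := congrFun (congrFun hxσ i) j
      have e2 := congrFun (congrFun hxσ i') j'
      simp only [Matrix.map_apply, Matrix.smul_apply, smul_eq_mul] at e1 e2
      have hl0 : l / xm.det ≠ 0 := fun h0 => hij (by
        rw [h0, zero_mul] at e1; exact (map_eq_zero σ).mp e1)
      have hl1 : l ≠ 0 := fun h0 => hl0 (by rw [h0, zero_div])
      rw [← hσ, e1, e2]
      field_simp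
    obtain ⟨wa, a₀, hwa, ha₀, haw⟩ := hreal a κ⁻¹
      (by conv_rhs => rw [hκ1, smul_smul, inv_mul_cancel₀ hκ, one_smul])
    obtain ⟨wb, b₀, hwb, hb₀, hbw⟩ := hreal b κ hκ2
    have hX' : X = (wa * wb) • tens e a₀ b₀ := by
      rw [hX, haw, hbw]
      ext i j
      simp [tens_apply]; ring
    obtain ⟨X₀, hX₀⟩ : ∃ X₀ : Matrix (Fin n) (Fin n) (Unitary.fixedField hF),
        X₀.map (Unitary.fixedField hF).subtype = tens e a₀ b₀ :=
      ⟨Matrix.of fun i j => ⟨tens e a₀ b₀ i j, by rw [tens_apply]; exact mul_mem (ha₀ _ _) (hb₀ _ _)⟩, rfl⟩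
    have hdet0 : IsUnit X₀.det := by
      refine isUnit_iff_ne_zero.mpr fun h0 => ?_
      have h1 := RingHom.map_det (Unitary.fixedField hF).subtype X₀
      rw [h0, map_zero, RingHom.mapMatrix_apply, hX₀] at h1
      have h2 : X.det ≠ 0 := by
        rw [hX, det_tens]
        exact mul_ne_zero (pow_ne_zero _ (Matrix.GeneralLinearGroup.det a).ne_zero)
          (pow_ne_zero _ (Matrix.GeneralLinearGroup.det b).ne_zero)
      exact h2 (by rw [hX', Matrix.det_smul, ← h1, mul_zero])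
    let x₀ : GL (Fin n) (Unitary.fixedField hF) := ((Matrix.isUnit_iff_isUnit_det X₀).mpr hdet0).unit
    refine ⟨Matrix.GeneralLinearGroup.map (Unitary.fixedField hF).subtype x₀ *
      sc (Fin n) (Units.mk0 (wa * wb) (mul_ne_zero hwa hwb)),
      mul_mem (Subgroup.mem_sup_left ⟨x₀, rfl⟩) (Subgroup.mem_sup_right (sc_mem _)), ?_⟩
    refine Units.ext ?_
    simp only [MulEquiv.coe_toMonoidHom, MulAut.conj_apply]
    rw [← cj_coe, hab, Units.val_mul, sc_val, Matrix.mul_smul, mul_one, hX', ← hX₀]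
    rfl
  by_cases hodd : Odd q
  · exact ⟨_, Or.inr (Or.inr (Or.inr (Or.inr (Or.inr (Or.inl
      ⟨Unitary.fixedField hF, P', hodd, hcard, hrat, rfl⟩))))), le_inf hHle hH⟩
  refine ⟨_, Or.inr (Or.inr (Or.inr (Or.inr (Or.inr (Or.inr (Or.inl
    ⟨Unitary.fixedField hF, P', 1, by rw [hn]; decide, hcard, one_ne_zero, ?_, hrat, ?_, rfl⟩)))))),
    le_inf hHle hH⟩
  · rw [one_pow]
    exact (two_eq_zero_of_even hF hodd).symm ▸ (one_add_one_eq_two : (1 : F) + 1 = 2)
  · intro u hu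
    have h2' : (2 : F) = 0 := two_eq_zero_of_even hF hodd
    rw [hermForm_eq_gram hF, formOfGram_mulVec, mul_one, hgram']
    have : σ ∘ u = u := funext fun i => by
      rw [Function.comp_apply, conj_apply hF]; exact (Unitary.mem_fixedField hF).mp (hu i)
    rw [formOfGram_eq, this, Matrix.smul_mulVec, dotProduct_smul, smul_eq_mul]
    suffices h0 : u ⬝ᵥ S *ᵥ u = 0 by rw [h0, mul_zero]
    -- a symmetric matrix with zero diagonal in characteristic two
    have hdiag : ∀ a, S a a = 0 := fun a => by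
      rw [hS, tens_apply]
      have : ∀ i : Fin 2, Alt i i = 0 := fun i => by fin_cases i <;> simp [Alt]
      rw [this, zero_mul]
    exact dotProduct_sym_zero_diag h2' hST hdiag u

end Cfsg.Agent.Aschbacher
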