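/-
Invariant quadratic forms in characteristic two for subgroups of symplectic groups.
Main results: `symp_class8`, `symp_class8_of_op`, `symp_class8_of_split`, `semilinear_zero_of_irreducible`.
-/
import Cfsg.Agent.Lib.Aschbacher.FormGeneral
import Cfsg.Agent.Lib.Aschbacher.FormSubfield
import Cfsg.Agent.Lib.Aschbacher.FormUnitary

set_option autoImplicit false

namespace Cfsg.Agent.Aschbacher

open Matrix
open Cfsg.Agent.PrimeDim

variable {F : Type*} [Field F] {ι : Type} [Fintype ι] [DecidableEq ι]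

theorem not_odd_card_of_two_eq_zero [Fintype F] (h2 : (2 : F) = 0) : ¬ Odd (Fintype.card F) := by
  rintro ⟨k, hk⟩
  have h1 := FiniteField.cast_card_eq_zero F
  rw [hk, Nat.cast_add, Nat.cast_mul, Nat.cast_ofNat, h2, zero_mul, zero_add, Nat.cast_one] at h1
  exact one_ne_zero h1

theorem exists_sq_char_two [Finite F] (h2 : (2 : F) = 0) (a : F) : ∃ b : F, b ^ 2 = a := by
  have : CharP F 2 := CharTwo.of_one_ne_zero_of_two_eq_zero one_ne_zero h2
  have : ExpChar F 2 := ExpChar.prime Nat.prime_two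
  obtain ⟨b, hb⟩ := (Finite.injective_iff_surjective.mp (frobenius F 2).injective) a
  exact ⟨b, by rwa [frobenius_def] at hb⟩

/-- An additive map with `D (c v) = c² D v` has a non-trivial zero in dimension at least two. -/
theorem exists_zero_of_semilinear [Finite F] (h2 : (2 : F) = 0) (hn : 2 ≤ Fintype.card ι)
    {D : (ι → F) → F} (hadd : ∀ u v, D (u + v) = D u + D v) (hsmul : ∀ (c : F) v, D (c • v) = c ^ 2 * D v) :
    ∃ v : ι → F, v ≠ 0 ∧ D v = 0 := by
  classical
  obtain ⟨i⟩ : Nonempty ι := Fintype.card_pos_iff.mp (by omega)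
  obtain ⟨j, hj⟩ := Fintype.exists_ne_of_one_lt_card (by omega) i
  by_cases hi : D (Pi.single i 1) = 0
  · exact ⟨_, by simp, hi⟩
  obtain ⟨a, ha⟩ := exists_sq_char_two h2 (D (Pi.single j 1) / D (Pi.single i 1))
  refine ⟨a • Pi.single i 1 + Pi.single j 1, fun h => ?_, ?_⟩
  · have := congrFun h j
    simp [hj] at this
  · rw [hadd, hsmul, ha, div_mul_cancel₀ _ hi]
    linear_combination (D (Pi.single j 1)) * h2

/-- Such a map vanishes if its zero set is invariant under an irreducible set. -/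
theorem semilinear_zero_of_irreducible [Finite F] (h2 : (2 : F) = 0) (hn : 2 ≤ Fintype.card ι)
    {D : (ι → F) → F} (hadd : ∀ u v, D (u + v) = D u + D v) (hsmul : ∀ (c : F) v, D (c • v) = c ^ 2 * D v)
    {S : Set (Matrix ι ι F)} (hS : Geo.ActsIrreducibly S) (hinv : ∀ s ∈ S, ∀ v, D v = 0 → D (s *ᵥ v) = 0)
    (v : ι → F) : D v = 0 := by
  let W : Submodule F (ι → F) :=
    { carrier := {u | D u = 0}
      zero_mem' := by
        show D 0 = 0
        have := hsmul 0 0
        simpa using this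
      add_mem' := fun {a b} ha hb => by
        show D (a + b) = 0
        rw [hadd, show D a = 0 from ha, show D b = 0 from hb, add_zero]
      smul_mem' := fun c u hu => by
        show D (c • u) = 0
        rw [hsmul, show D u = 0 from hu, mul_zero] }
  rcases hS W (fun s hs => (mapsTo_iff_mulVec s W).mpr fun w hw => hinv s hs w hw) with h | h
  · obtain ⟨u, hu0, hu⟩ := exists_zero_of_semilinear h2 hn hadd hsmul
    exact absurd ((Submodule.mem_bot F).mp (h ▸ (show u ∈ W from hu))) hu0
  · exact (show v ∈ W from h ▸ Submodule.mem_top)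

variable {m : ℕ}

local notation "N" => Fin m ⊕ Fin m
local notation "J" => Matrix.J (Fin m) F
local notation "fs" => Cfsg.sympForm m F

theorem sympForm_eq_gram : fs = Geo.formOfGram (RingHom.id F) J := by
  rw [sympForm_eq_sesq, sesq_eq_formOfGram]

theorem isUnit_det_J : IsUnit (J).det := Matrix.isUnit_det_J _ _

theorem herm_J : Herm (RingHom.id F) J :=
  ⟨fun _ => rfl, isUnit_det_J, -1, by norm_num, by simp [Matrix.J_transpose]⟩

theorem sympForm_swap (u v : N → F) : fs v u = - fs u v := by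
  have h := form_swap (herm_J (m := m) (F := F)) u v (ε := -1) (by simp [Matrix.J_transpose])
  rw [← sympForm_eq_gram] at h
  simp only [RingHom.id_apply] at h
  linear_combination h

theorem sympForm_self (v : N → F) : fs v v = 0 := by
  simp [Cfsg.sympForm, Matrix.J, Matrix.mulVec, dotProduct, Fintype.sum_sum_type, Matrix.fromBlocks,
    Matrix.one_apply, Finset.sum_neg_distrib, mul_comm]

variable [Fintype F]

/-- Class 8 from an invariant quadratic form with the symplectic form as polar form. -/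
theorem symp_class8 (h2 : (2 : F) = 0) {H : Subgroup (GL N F)} (hH : H ≤ Cfsg.spGL m F) (Q : (N → F) → F)
    (hsmul : ∀ (c : F) v, Q (c • v) = c ^ 2 * Q v) (hpol : ∀ u v, Q (u + v) - Q u - Q v = fs u v)
    (hinv : ∀ g ∈ H, ∀ v, Q ((g : Matrix N N F) *ᵥ v) = Q v) :
    ∃ M, Geo.InSymplecticPartialClass m F M ∧ H ≤ M := by
  have hpf : QuadraticMap.polar Q = Geo.formOfGram (RingHom.id F) J := by
    rw [← sympForm_eq_gram]
    exact funext fun u => funext fun v => hpol u v
  refine ⟨Geo.quadSimilarityGroup Q ⊓ Cfsg.spGL m F,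
    Or.inr (Or.inr (Or.inr (Or.inr (Or.inr (Or.inr
      ⟨Q, not_odd_card_of_two_eq_zero h2, ⟨hsmul, ?_, ?_⟩, hpol, rfl⟩))))),
    le_inf (fun g hg => ⟨1, fun v => by rw [hinv g hg v, Units.val_one, one_mul]⟩) hH⟩
  · rw [hpf]; exact formOfGram_bilinear J
  · rw [hpf]; exact formOfGram_nondegenerate (RingHom.id F) isUnit_det_J

/-- Class 8 from an operator `X` with `X + X* = 1` whose class `{X, 1 - X}` is preserved. -/
theorem symp_class8_of_op (h2 : (2 : F) = 0) {H : Subgroup (GL N F)} (hH : H ≤ Cfsg.spGL m F) (X : Matrix N N F)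
    (hX : ∀ u v, fs (X *ᵥ u) v + fs u (X *ᵥ v) = fs u v)
    (hperm : ∀ g ∈ H, (∀ v, X *ᵥ ((g : Matrix N N F) *ᵥ v) = (g : Matrix N N F) *ᵥ (X *ᵥ v)) ∨
      ∀ v, X *ᵥ ((g : Matrix N N F) *ᵥ v) = (g : Matrix N N F) *ᵥ v - (g : Matrix N N F) *ᵥ (X *ᵥ v)) :
    ∃ M, Geo.InSymplecticPartialClass m F M ∧ H ≤ M := by
  have hb : Geo.IsBilinearForm fs := by rw [sympForm_eq_gram]; exact formOfGram_bilinear J
  refine symp_class8 h2 hH (fun v => fs (X *ᵥ v) v) (fun c v => ?_) (fun u v => ?_) fun g hg v => ?_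
  · show fs (X *ᵥ (c • v)) (c • v) = _
    rw [Matrix.mulVec_smul, hb.smul_left, hb.smul_right]; ring
  · show fs (X *ᵥ (u + v)) (u + v) - fs (X *ᵥ u) u - fs (X *ᵥ v) v = _
    rw [Matrix.mulVec_add, hb.add_left, hb.add_right, hb.add_right, sympForm_swap u (X *ᵥ v)]
    linear_combination hX u v - fs u (X *ᵥ v) * h2
  · show fs (X *ᵥ ((g : Matrix N N F) *ᵥ v)) ((g : Matrix N N F) *ᵥ v) = fs (X *ᵥ v) v
    have hiso : ∀ a b, fs ((g : Matrix N N F) *ᵥ a) ((g : Matrix N N F) *ᵥ b) = fs a b := fun a b => hH hg a b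
    rcases hperm g hg with h | h
    · rw [h, hiso]
    · rw [h, ← Matrix.mulVec_sub, hiso, sub_eq_add_neg, hb.add_left, sympForm_self,
        ← neg_one_smul F (X *ᵥ v), hb.smul_left]
      linear_combination -(fs (X *ᵥ v) v) * h2

/-- Class 8 from a tensor splitting of the form into two alternating forms. -/
theorem symp_class8_of_split (h2 : (2 : F) = 0) {H : Subgroup (GL N F)} (hH : H ≤ Cfsg.spGL m F) {d t : ℕ}
    (e : N ≃ Fin d × Fin t) (P : GL N F) (G1 : Matrix (Fin d) (Fin d) F) (G2 : Matrix (Fin t) (Fin t) F) {c : F}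
    (h1 : G1ᵀ = G1) (h1d : ∀ i, G1 i i = 0) (h2s : G2ᵀ = G2) (h2d : ∀ k, G2 k k = 0)
    (hgram : (P : Matrix N N F)ᵀ * J * (P : Matrix N N F) = c • tens e G1 G2)
    (S : Set (N → F)) (hSspan : Submodule.span F S = ⊤)
    (hSpure : ∀ s ∈ S, ∃ (u : Fin d → F) (w : Fin t → F),
      s = (P : Matrix N N F) *ᵥ fun a => u (e a).1 * w (e a).2)
    (hHS : ∀ g ∈ H, ∀ s ∈ S, (g : Matrix N N F) *ᵥ s ∈ S) :
    ∃ M, Geo.InSymplecticPartialClass m F M ∧ H ≤ M := by
  classical
  have hb : Geo.IsBilinearForm fs := by rw [sympForm_eq_gram]; exact formOfGram_bilinear J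
  let X : (N → F) → Fin d → Fin t → F := fun v i k =>
    (((P⁻¹ : GL N F) : Matrix N N F) *ᵥ v) (e.symm (i, k))
  let g2 : (Fin t → F) → (Fin t → F) → F := fun x y => x ⬝ᵥ G2 *ᵥ y
  have hg2s : ∀ x y, g2 x y = g2 y x := fun x y => by
    show x ⬝ᵥ G2 *ᵥ y = y ⬝ᵥ G2 *ᵥ x
    rw [Matrix.dotProduct_mulVec, ← Matrix.mulVec_transpose, h2s, dotProduct_comm]
  let Q : (N → F) → F := fun v => c * ∑ i, ∑ j, if i < j then G1 i j * g2 (X v i) (X v j) else 0
  have hXadd : ∀ u v i, X (u + v) i = X u i + X v i := fun u v i => by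
    ext k; simp [X, Matrix.mulVec_add]
  have hsmul : ∀ (a : F) v, Q (a • v) = a ^ 2 * Q v := by
    intro a v
    have hXs : ∀ i, X (a • v) i = a • X v i := fun i => by ext k; simp [X, Matrix.mulVec_smul]
    have hterm : ∀ i j, (if i < j then G1 i j * g2 (X (a • v) i) (X (a • v) j) else 0) =
        a ^ 2 * (if i < j then G1 i j * g2 (X v i) (X v j) else 0) := fun i j => by
      rw [hXs, hXs]
      split_ifs
      · simp [g2, Matrix.mulVec_smul]; ring
      · rw [mul_zero]
    show c * _ = a ^ 2 * (c * _)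
    simp only [hterm, ← Finset.mul_sum]
    ring
  have hfs : ∀ u v, fs u v = c * ∑ i, ∑ j, G1 i j * g2 (X u i) (X v j) := by
    intro u v
    have hu : u = (P : Matrix N N F) *ᵥ (((P⁻¹ : GL N F) : Matrix N N F) *ᵥ u) := by
      rw [Matrix.mulVec_mulVec, Units.mul_inv, Matrix.one_mulVec]
    have hv : v = (P : Matrix N N F) *ᵥ (((P⁻¹ : GL N F) : Matrix N N F) *ᵥ v) := by
      rw [Matrix.mulVec_mulVec, Units.mul_inv, Matrix.one_mulVec]
    conv_lhs => rw [sympForm_eq_gram, hu, hv]
    rw [formOfGram_mulVec, RingHom.coe_id, Matrix.map_id, hgram]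
    simp only [Geo.formOfGram, Matrix.smul_apply, smul_eq_mul, id_eq, tens_apply]
    rw [← e.symm.sum_comp, Fintype.sum_prod_type]
    simp only [Finset.mul_sum]
    refine Finset.sum_congr rfl fun i _ => ?_
    rw [Finset.sum_comm (s := Finset.univ) (t := Finset.univ)]
    simp only [g2, X, dotProduct, Matrix.mulVec, Finset.mul_sum]
    rw [← e.symm.sum_comp, Fintype.sum_prod_type]
    refine Finset.sum_congr rfl fun j _ => ?_
    rw [Finset.sum_comm]
    refine Finset.sum_congr rfl fun k _ => Finset.sum_congr rfl fun l _ => ?_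
    simp only [Equiv.apply_symm_apply]
    ring
  have hpol : ∀ u v, Q (u + v) - Q u - Q v = fs u v := by
    intro u v
    have hflip : ∑ i, ∑ j, (if i < j then G1 i j * g2 (X v i) (X u j) else 0) =
        ∑ i, ∑ j, (if j < i then G1 i j * g2 (X u i) (X v j) else 0) := by
      rw [Finset.sum_comm]
      refine Finset.sum_congr rfl fun i _ => Finset.sum_congr rfl fun j _ => ?_
      split_ifs
      · rw [hg2s, show G1 j i = G1 i j from congrFun (congrFun h1 i) j]
      · rfl
    have hsum : ∑ i, ∑ j, (if i < j then G1 i j * g2 (X u i) (X v j) else 0) +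
        ∑ i, ∑ j, (if j < i then G1 i j * g2 (X u i) (X v j) else 0) =
        ∑ i, ∑ j, G1 i j * g2 (X u i) (X v j) := by
      simp only [← Finset.sum_add_distrib]
      refine Finset.sum_congr rfl fun i _ => Finset.sum_congr rfl fun j _ => ?_
      rcases lt_trichotomy i j with hij | rfl | hij
      · simp [hij, not_lt.mpr hij.le]
      · simp [h1d]
      · simp [hij, not_lt.mpr hij.le]
    have hexp : ∀ i j, (if i < j then G1 i j * g2 (X (u + v) i) (X (u + v) j) else 0) =
        (if i < j then G1 i j * g2 (X u i) (X u j) else 0) + (if i < j then G1 i j * g2 (X v i) (X v j) else 0) +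
        ((if i < j then G1 i j * g2 (X u i) (X v j) else 0) + (if i < j then G1 i j * g2 (X v i) (X u j) else 0)) := by
      intro i j
      rw [hXadd, hXadd]
      split_ifs
      · simp only [g2, add_dotProduct, Matrix.mulVec_add, dotProduct_add]; ring
      · simp
    rw [hfs, ← hsum, ← hflip]
    show c * _ - c * _ - c * _ = _
    simp only [hexp, Finset.sum_add_distrib]
    ring
  have hQS : ∀ s ∈ S, Q s = 0 := by
    intro s hs
    obtain ⟨u, w, rfl⟩ := hSpure s hs
    have hX : ∀ i, X ((P : Matrix N N F) *ᵥ fun a => u (e a).1 * w (e a).2) i = u i • w := fun i => by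
      ext k
      simp [X, Matrix.mulVec_mulVec, Units.inv_mul]
    show c * _ = 0
    rw [Finset.sum_eq_zero fun i _ => Finset.sum_eq_zero fun j _ => ?_, mul_zero]
    rw [hX, hX]
    simp only [g2, Matrix.mulVec_smul, smul_dotProduct, dotProduct_smul, dotProduct_sym_zero_diag h2 h2s h2d w,
      smul_zero, mul_zero, ite_self]
  refine symp_class8 h2 hH Q hsmul hpol fun g hg v => ?_
  let D : (N → F) → F := fun v => Q ((g : Matrix N N F) *ᵥ v) - Q v
  have hDadd : ∀ a b, D (a + b) = D a + D b := fun a b => by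
    have e1 := hpol ((g : Matrix N N F) *ᵥ a) ((g : Matrix N N F) *ᵥ b)
    have e2 := hpol a b
    have e3 : fs ((g : Matrix N N F) *ᵥ a) ((g : Matrix N N F) *ᵥ b) = fs a b := hH hg a b
    show Q ((g : Matrix N N F) *ᵥ (a + b)) - Q (a + b) = _
    rw [Matrix.mulVec_add]
    simp only [D]
    linear_combination e1 - e2 + e3
  have hv : v ∈ Submodule.span F S := by rw [hSspan]; trivial
  suffices h : D v = 0 from sub_eq_zero.mp h
  induction hv using Submodule.span_induction with
  | mem s hs => simp [D, hQS s hs, hQS _ (hHS g hg s hs)]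
  | zero => simpa using hDadd 0 0
  | add a b _ _ ha hb => rw [hDadd, ha, hb, add_zero]
  | smul a b _ hb =>
    show Q ((g : Matrix N N F) *ᵥ (a • b)) - Q (a • b) = 0
    rw [Matrix.mulVec_smul, hsmul, hsmul, ← mul_sub]
    exact mul_eq_zero_of_right _ hb

end Cfsg.Agent.Aschbacher
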