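/-
Mapping the outcomes of the form-aware Clifford analysis to the classes of the symplectic groups, every dimension.
Main results: `symp_sim`, `symp_decomp`, `symp_field`, `symp_tensor`, `symp_tensorInduced`, `symp_core`.
-/
import Cfsg.Agent.Lib.Aschbacher.SympForms
import Cfsg.Agent.Lib.Aschbacher.FormMaster

set_option autoImplicit false

namespace Cfsg.Agent.Aschbacher

open Matrix
open scoped commutatorElement
open Cfsg.Agent.PrimeDim

variable {F : Type*} [Field F] {m : ℕ}

local notation "N" => Fin m ⊕ Fin m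
local notation "J" => Matrix.J (Fin m) F
local notation "fs" => Cfsg.sympForm m F

theorem gram_spGL {g : GL N F} (hg : g ∈ Cfsg.spGL m F) :
    (g : Matrix N N F)ᵀ * J * (g : Matrix N N F) = J := by
  simpa using gram_of_mem_spGL hg

theorem symp_sim {H : Subgroup (GL N F)} (hH : H ≤ Cfsg.spGL m F) :
    Sim (RingHom.id F) J (H ⊔ Geo.scalars N F) :=
  sim_isometries_sup_scalars fun g hg => gram_of_mem_spGL (hH hg)

theorem symplecticForm_of_gram {d : ℕ} {G : Matrix (Fin d) (Fin d) F} (hdet : IsUnit G.det) (hskew : Gᵀ = -G)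
    (halt : ∀ u, u ⬝ᵥ G *ᵥ u = 0) : Geo.IsSymplecticForm (Geo.formOfGram (RingHom.id F) G) := by
  refine ⟨formOfGram_bilinear G, fun v w => ?_, fun v => ?_, formOfGram_nondegenerate _ hdet⟩
  · simp only [formOfGram_eq, RingHom.coe_id, Function.id_comp]
    rw [Matrix.dotProduct_mulVec, ← Matrix.mulVec_transpose, hskew, dotProduct_comm, Matrix.neg_mulVec,
      dotProduct_neg]
  · simpa [formOfGram_eq] using halt v

theorem symmetricForm_of_gram {d : ℕ} {G : Matrix (Fin d) (Fin d) F} (hdet : IsUnit G.det) (hsym : Gᵀ = G) :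
    Geo.IsSymmetricForm (Geo.formOfGram (RingHom.id F) G) := by
  refine ⟨formOfGram_bilinear G, fun v w => ?_, formOfGram_nondegenerate _ hdet⟩
  simp only [formOfGram_eq, RingHom.coe_id, Function.id_comp]
  rw [Matrix.dotProduct_mulVec, ← Matrix.mulVec_transpose, hsym, dotProduct_comm]

theorem skew_alternating (h2 : (2 : F) ≠ 0) {κ : Type} [Fintype κ] {G : Matrix κ κ F} (hskew : Gᵀ = -G)
    (u : κ → F) : u ⬝ᵥ G *ᵥ u = 0 := by
  have h : u ⬝ᵥ G *ᵥ u = -(u ⬝ᵥ G *ᵥ u) := by
    conv_lhs => rw [Matrix.dotProduct_mulVec, ← Matrix.mulVec_transpose, hskew, dotProduct_comm, Matrix.neg_mulVec,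
      dotProduct_neg]
  exact (mul_eq_zero.mp (by linear_combination h : (2 : F) * (u ⬝ᵥ G *ᵥ u) = 0)).resolve_left h2

variable [Fintype F]

theorem two_ne_zero_or (F : Type*) [Field F] [Fintype F] :
    ((2 : F) = 0) ∨ (2 : F) ≠ 0 ∧ Odd (Fintype.card F) := by
  by_cases h : (2 : F) = 0
  · exact Or.inl h
  · exact Or.inr ⟨h, by simpa using odd_card_of_two_ne_zero h⟩

/-- Orthogonal decompositions and totally singular pairs. -/
theorem symp_decomp {H : Subgroup (GL N F)} (hH : H ≤ Cfsg.spGL m F)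
    (h : FDecomp (RingHom.id F) J (H ⊔ Geo.scalars N F)) :
    ∃ M, Geo.InSymplecticPartialClass m F M ∧ H ≤ M := by
  classical
  obtain ⟨k, t, D, htm, hle, hD⟩ := h
  rw [← sympForm_eq_gram] at hD
  have hHD : H ≤ Geo.decompositionStabilizer D := le_sup_left.trans hle
  rcases hD with hD | ⟨rfl, hD, hts⟩
  · exact ⟨_, Or.inr (Or.inr (Or.inl ⟨t, k, D, hD, rfl⟩)), le_inf hHD hH⟩
  obtain rfl : k = m := by simp at htm; omega
  rcases two_ne_zero_or F with h2 | ⟨-, hodd⟩
  swap
  · exact ⟨_, Or.inr (Or.inr (Or.inr (Or.inl ⟨D, hodd, hD, hts, rfl⟩))), le_inf hHD hH⟩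
  -- the projection gives a quadratic form
  have hc : IsCompl (D 0) (D 1) := by
    refine ⟨(hD.indep 0).mono_right (le_iSup₂_of_le (1 : Fin 2) (by decide) le_rfl), codisjoint_iff.mpr ?_⟩
    rw [eq_top_iff, ← hD.iSup_eq_top]
    exact iSup_le (Fin.forall_fin_two.mpr ⟨le_sup_left, le_sup_right⟩)
  let π : (Fin k ⊕ Fin k → F) →ₗ[F] (Fin k ⊕ Fin k → F) :=
    (D 0).subtype ∘ₗ (D 0).projectionOnto (D 1) hc
  have hπ : ∀ a ∈ D 0, ∀ b ∈ D 1, π (a + b) = a := by
    intro a ha b hb
    simp only [π, LinearMap.comp_apply, Submodule.subtype_apply, map_add, Submodule.coe_add]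
    rw [show (D 0).projectionOnto (D 1) hc a = ⟨a, ha⟩ from Submodule.projectionOnto_apply_left hc ⟨a, ha⟩,
      show (D 0).projectionOnto (D 1) hc b = 0 from Submodule.projectionOnto_apply_right hc ⟨b, hb⟩]
    simp
  have hdec : ∀ v, ∃ a ∈ D 0, ∃ b ∈ D 1, v = a + b := fun v => by
    obtain ⟨a, ha, b, hb, hab⟩ := Submodule.mem_sup.mp (hc.sup_eq_top ▸ Submodule.mem_top : v ∈ D 0 ⊔ D 1)
    exact ⟨a, ha, b, hb, hab.symm⟩
  have hX : ∀ v, LinearMap.toMatrix' π *ᵥ v = π v := fun v => by rw [← Matrix.toLin'_apply, Matrix.toLin'_toMatrix']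
  refine symp_class8_of_op h2 hH (LinearMap.toMatrix' π) (fun u v => ?_) fun g hg => ?_
  · obtain ⟨a, ha, b, hb, rfl⟩ := hdec u
    obtain ⟨a', ha', b', hb', rfl⟩ := hdec v
    rw [hX, hX, hπ a ha b hb, hπ a' ha' b' hb']
    have hb' : Geo.IsBilinearForm (Cfsg.sympForm k F) := by rw [sympForm_eq_gram]; exact formOfGram_bilinear _
    rw [hb'.add_right, hb'.add_left, hb'.add_left, hb'.add_right, hb'.add_right, hts 0 a ha a' ha',
      hts 1 b hb b' ‹b' ∈ D 1›]
    ring
  · obtain ⟨τ, hτ⟩ := hHD hg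
    have hmaps : ∀ i, ∀ w ∈ D i, (g : Matrix (Fin k ⊕ Fin k) (Fin k ⊕ Fin k) F) *ᵥ w ∈ D (τ i) :=
      fun i w hw => hτ i ▸ ⟨w, hw, by rw [Matrix.toLin'_apply]⟩
    rcases (show (τ 0 = 0 ∧ τ 1 = 1) ∨ (τ 0 = 1 ∧ τ 1 = 0) by
      have h01 : τ 0 ≠ τ 1 := fun h => by simpa using τ.injective h
      omega) with ⟨h0, h1⟩ | ⟨h0, h1⟩
    · left
      intro v
      obtain ⟨a, ha, b, hb, rfl⟩ := hdec v
      rw [hX, hX, hπ a ha b hb, Matrix.mulVec_add, hπ _ (h0 ▸ hmaps 0 a ha) _ (h1 ▸ hmaps 1 b hb)]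
    · right
      intro v
      obtain ⟨a, ha, b, hb, rfl⟩ := hdec v
      rw [hX, hX, hπ a ha b hb, Matrix.mulVec_add, add_comm, hπ _ (h1 ▸ hmaps 1 b hb) _ (h0 ▸ hmaps 0 a ha)]
      abel

set_option maxHeartbeats 800000 in
/-- Fields of prime degree. -/
theorem symp_field (hm : 1 ≤ m) {H : Subgroup (GL N F)} (hH : H ≤ Cfsg.spGL m F)
    (h : FField (RingHom.id F) J (H ⊔ Geo.scalars N F)) :
    ∃ M, Geo.InSymplecticClass m F M ∧ H ≤ M := by
  classical
  have : Nonempty N := ⟨Sum.inl ⟨0, hm⟩⟩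
  have : Finite (Matrix N N F) := inferInstanceAs (Finite (N → N → F))
  obtain ⟨r, K, hr, -, hK, hadj, hle⟩ := h
  have hHK : H ≤ Geo.subalgebraNormalizer K := le_sup_left.trans hle
  have hJ := herm_J (m := m) (F := F)
  have hfield : IsField K := ⟨exists_pair_ne _, fun x y => Subtype.ext (hK.comm _ x.2 _ y.2), fun {x} hx => by
    obtain ⟨y, hy, hxy⟩ := hK.inv _ x.2 (fun h0 => hx (Subtype.ext h0))
    exact ⟨⟨y, hy⟩, Subtype.ext hxy⟩⟩
  letI : Field K := hfield.toField
  by_cases hsa : ∀ k ∈ K, adj (RingHom.id F) J k = k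
  · -- self-adjoint
    have hself : Geo.IsSelfAdjointFor fs K := fun k hk u v => by
      rw [sympForm_eq_gram, form_adj hJ, hsa k hk]
    have halt : ∀ k ∈ K, ∀ v, fs (k *ᵥ v) v = 0 := by
      intro k hk v
      rcases two_ne_zero_or F with h2 | ⟨h2, -⟩
      · have h2K : (2 : K) = 0 := by
          rw [← map_ofNat (algebraMap F K) 2, h2, map_zero]
        obtain ⟨a, ha⟩ := exists_sq_char_two h2K ⟨k, hk⟩
        have ha' : k = (a : Matrix N N F) * (a : Matrix N N F) := by
          rw [sq] at ha; exact (congrArg Subtype.val ha).symm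
        rw [ha', ← Matrix.mulVec_mulVec, hself _ a.2, sympForm_self]
      · have h1 := sympForm_swap (k *ᵥ v) v
        rw [← hself k hk v v] at h1
        exact (mul_eq_zero.mp (by linear_combination h1 : (2 : F) * fs (k *ᵥ v) v = 0)).resolve_left h2
    exact ⟨_, Or.inr (Or.inl ⟨r, K, hr, hK, hself, halt, rfl⟩), le_inf hHK hH⟩
  have : Finite K := Finite.of_injective (fun x : K => (x : Matrix N N F)) Subtype.val_injective
  let τ : K →ₐ[F] K :=
    { toFun := fun x => ⟨adj (RingHom.id F) J x, hadj _ x.2⟩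
      map_one' := Subtype.ext (adj_one hJ)
      map_mul' := fun x y => Subtype.ext (by
        show adj (RingHom.id F) J ((x : Matrix N N F) * (y : Matrix N N F)) = _
        rw [adj_mul hJ]
        exact hK.comm _ (hadj _ y.2) _ (hadj _ x.2))
      map_zero' := Subtype.ext adj_zero
      map_add' := fun x y => Subtype.ext (adj_add _ _)
      commutes' := fun c => Subtype.ext (by
        show adj (RingHom.id F) J (algebraMap F (Matrix N N F) c) = algebraMap F (Matrix N N F) c
        rw [Algebra.algebraMap_eq_smul_one, adj_smul, adj_one hJ]; rfl) }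
  have hττ : ∀ x, τ (τ x) = x := fun x => Subtype.ext (adj_adj hJ _)
  let τe : K ≃ₐ[F] K := AlgEquiv.ofAlgHom τ τ (AlgHom.ext hττ) (AlgHom.ext hττ)
  have hτne : τe ≠ 1 := fun h0 => hsa fun k hk => congrArg Subtype.val (AlgEquiv.congr_fun h0 ⟨k, hk⟩)
  have ho : orderOf τe = 2 := orderOf_eq_prime (AlgEquiv.ext fun x => by
    rw [pow_two, AlgEquiv.mul_apply]; exact hττ x) hτne
  have : FiniteDimensional F K := Module.Finite.of_finite
  have hr2 : r = 2 := by
    have h1 : 2 ∣ r := by
      rw [← hK.finrank_eq, ← IsGalois.card_aut_eq_finrank, ← ho]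
      exact orderOf_dvd_natCard τe
    exact ((Nat.prime_dvd_prime_iff_eq Nat.prime_two hr).mp h1).symm
  subst hr2
  have hnsa : ¬ Geo.IsSelfAdjointFor fs K := by
    intro hs
    refine hsa fun k hk => ?_
    ext i j
    obtain ⟨a, ha⟩ : ∃ a, a = adj (RingHom.id F) J k := ⟨_, rfl⟩
    rw [← ha]
    by_contra hne
    have hz : ∀ v u, fs u (a *ᵥ v - k *ᵥ v) = 0 := fun v u => by
      have h1 := hs k hk u v
      rw [sympForm_eq_gram] at h1
      rw [form_adj hJ, ← ha] at h1
      rw [sympForm_eq_gram, sub_eq_add_neg, (formOfGram_bilinear J).add_right, ← neg_one_smul F (k *ᵥ v),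
        (formOfGram_bilinear J).smul_right, h1]
      ring
    by_cases h0 : a *ᵥ Pi.single j 1 - k *ᵥ Pi.single j 1 = 0
    · have := congrFun h0 i
      simp [sub_eq_zero] at this
      exact hne this
    · obtain ⟨u, hu⟩ := (formOfGram_nondegenerate (RingHom.id F) (isUnit_det_J (m := m) (F := F)) _ h0).1
      exact hu (by rw [← sympForm_eq_gram]; exact hz _ u)
  rcases two_ne_zero_or F with h2 | ⟨-, hodd⟩
  swap
  · refine ⟨_, Or.inr (Or.inr (Or.inl ⟨K, hodd, hK, fun k hk => ⟨_, hadj k hk, fun u v => ?_⟩, hnsa, rfl⟩)),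
      le_inf hHK hH⟩
    rw [sympForm_eq_gram]
    exact form_adj hJ k u v
  -- characteristic two: an invariant quadratic form
  obtain ⟨b, hb⟩ : ∃ b : K, τ b ≠ b := by
    by_contra hc
    simp only [not_exists, not_not] at hc
    exact hτne (AlgEquiv.ext hc)
  have h2K : (2 : K) = 0 := by rw [← map_ofNat (algebraMap F K) 2, h2, map_zero]
  have hd0 : b + τ b ≠ 0 := fun h0 => hb (by linear_combination h0 - b * h2K)
  set w : K := b / (b + τ b) with hw
  have hwτ : w + τ w = 1 := by
    rw [hw, map_div₀, map_add, hττ, add_comm (τ b) b, ← add_div, div_self hd0]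
  have hw1 : (w : Matrix N N F) + adj (RingHom.id F) J (w : Matrix N N F) = 1 := congrArg Subtype.val hwτ
  have hfix : ∀ x : K, τ x = x → ∃ c : F, algebraMap F K c = x := by
    intro x hx
    by_contra hxc
    simp only [not_exists] at hxc
    have hτw : τ w ≠ w := fun h0 => by
      rw [h0] at hwτ
      exact one_ne_zero (hwτ.symm.trans (by linear_combination w * h2K))
    have hindep : LinearIndependent F ![(1 : K), x] := by
      rw [linearIndependent_fin2]
      refine ⟨fun h0 => hxc 0 (by rw [map_zero]; exact h0.symm), fun c h0 => ?_⟩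
      simp only [Matrix.cons_val_one, Matrix.cons_val_zero] at h0
      have hc : c ≠ 0 := fun hc => by rw [hc, zero_smul] at h0; exact zero_ne_one h0
      refine hxc c⁻¹ ?_
      have h1 := congrArg (fun t => c⁻¹ • t) h0
      simp only [inv_smul_smul₀ hc] at h1
      rw [h1, Algebra.algebraMap_eq_smul_one]
    have hspan := hindep.span_eq_top_of_card_eq_finrank' (by rw [Fintype.card_fin, hK.finrank_eq])
    refine hτw ?_
    have hmem : w ∈ LinearMap.eqLocus τ.toLinearMap LinearMap.id := by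
      have hle : Submodule.span F (Set.range ![(1 : K), x]) ≤ LinearMap.eqLocus τ.toLinearMap LinearMap.id := by
        rw [Submodule.span_le]
        rintro _ ⟨i, rfl⟩
        fin_cases i
        · exact map_one τ
        · exact hx
      exact hle (hspan ▸ Submodule.mem_top)
    exact hmem
  obtain ⟨c, hc⟩ := hfix (w * τ w) (by rw [map_mul, hττ, mul_comm])
  refine (symp_class8_of_op h2 hH (w : Matrix N N F) (fun u v => ?_) fun g hg => ?_).imp fun M hM => ⟨Or.inl hM.1, hM.2⟩
  · rw [sympForm_eq_gram, form_adj hJ]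
    have hbl := formOfGram_bilinear (F := F) J
    rw [← hbl.add_right, ← Matrix.add_mulVec, add_comm, hw1, Matrix.one_mulVec]
  · have hg' : g ∈ H ⊔ Geo.scalars N F := le_sup_left (a := H) hg
    have hmem : cj g (w : Matrix N N F) ∈ K := by rw [cj_apply]; exact (hHK hg _).mp w.2
    set x : K := ⟨cj g (w : Matrix N N F), hmem⟩ with hx
    have hxτ : τ x = ⟨cj g ((τ w : K) : Matrix N N F), by
        rw [cj_apply]; exact (hHK hg _).mp (τ w).2⟩ := Subtype.ext (adj_cj hJ (symp_sim hH) hg' _)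
    have h1 : x + τ x = 1 := Subtype.ext (by
      rw [hxτ]
      show cj g (w : Matrix N N F) + cj g ((τ w : K) : Matrix N N F) = 1
      rw [← map_add, show ((w : Matrix N N F) + ((τ w : K) : Matrix N N F)) = 1 from hw1, map_one])
    have h3 : x * τ x = w * τ w := Subtype.ext (by
      rw [hxτ]
      show cj g (w : Matrix N N F) * cj g ((τ w : K) : Matrix N N F) = (w : Matrix N N F) * ((τ w : K) : Matrix N N F)
      rw [← map_mul, show (w : Matrix N N F) * ((τ w : K) : Matrix N N F) = algebraMap F (Matrix N N F) c from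
        (congrArg Subtype.val hc).symm, AlgHom.commutes])
    have h4 : (x - w) * (x - τ w) = 0 := by linear_combination -h3 + x * h1 - x * hwτ
    have hcomm : ∀ y : Matrix N N F, cj g (w : Matrix N N F) = y → ∀ v,
        y *ᵥ ((g : Matrix N N F) *ᵥ v) = (g : Matrix N N F) *ᵥ ((w : Matrix N N F) *ᵥ v) := by
      intro y hy v
      rw [← hy, cj_apply, Matrix.mulVec_mulVec, Matrix.mulVec_mulVec, mul_assoc, Units.inv_mul, mul_one]
    rcases mul_eq_zero.mp h4 with h5 | h5
    · exact Or.inl (hcomm _ (congrArg Subtype.val (sub_eq_zero.mp h5)))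
    · refine Or.inr fun v => ?_
      have h6 := hcomm _ (congrArg Subtype.val (sub_eq_zero.mp h5)) v
      have h7 : ((τ w : K) : Matrix N N F) = 1 - (w : Matrix N N F) :=
        eq_sub_of_add_eq ((add_comm _ _).trans (congrArg Subtype.val hwτ))
      rw [h7, Matrix.sub_mulVec, Matrix.one_mulVec] at h6
      rw [← h6, sub_sub_cancel]

/-- A skew-adjoint two-dimensional algebra from a symmetric binary factor. -/
theorem tensor_two_reduce (hm : 1 ≤ m) (h2 : (2 : F) ≠ 0) {G : Subgroup (GL N F)}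
    (hG : Sim (RingHom.id F) J G) (hirr : Geo.ActsIrreducibly (Geo.matrixSet G)) {d : ℕ} (hd : 0 < d)
    (e : N ≃ Fin d × Fin 2) (P : GL N F) {G1 : Matrix (Fin d) (Fin d) F} {G2 : Matrix (Fin 2) (Fin 2) F}
    (hle : G ≤ Geo.tensorProductSubgroup d 2 e P)
    (hgram : (P : Matrix N N F)ᵀ * J * (P : Matrix N N F) = tens e G1 G2)
    (hd1 : IsUnit G1.det) (hd2 : IsUnit G2.det) (hsym : G2ᵀ = G2) :
    FDecomp (RingHom.id F) J G ∨ FField (RingHom.id F) J G := by
  classical
  have : Nonempty N := ⟨Sum.inl ⟨0, hm⟩⟩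
  have hJ := herm_J (m := m) (F := F)
  let Alt : Matrix (Fin 2) (Fin 2) F := !![0, 1; -1, 0]
  have hAT : Altᵀ = -Alt := by ext i j; fin_cases i <;> fin_cases j <;> simp [Alt]
  have hAlt : ∀ a : Matrix (Fin 2) (Fin 2) F, aᵀ * Alt * a = a.det • Alt := by
    intro a
    ext i j
    fin_cases i <;> fin_cases j <;>
      simp [Alt, Matrix.det_fin_two, Matrix.mul_apply, Fin.sum_univ_two] <;> ring
  have hAdet : Alt.det = 1 := by simp [Alt, Matrix.det_fin_two]
  set K : Matrix (Fin 2) (Fin 2) F := G2⁻¹ * Alt with hK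
  have hG2K : G2 * K = Alt := by rw [hK, Matrix.mul_nonsing_inv_cancel_left _ _ hd2]
  set Y : Matrix N N F := cj P (tens e (1 : Matrix (Fin d) (Fin d) F) K) with hY
  have hPd : IsUnit (P : Matrix N N F).det := (Matrix.isUnit_iff_isUnit_det _).mp P.isUnit
  have hYadj : adj (RingHom.id F) J Y = -Y := by
    have hYP : Y * (P : Matrix N N F) = (P : Matrix N N F) * tens e 1 K := by
      rw [hY, cj_apply, mul_assoc, Units.inv_mul, mul_one]
    have h1 : (P : Matrix N N F)ᵀ * (Yᵀ * J) * (P : Matrix N N F) =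
        (P : Matrix N N F)ᵀ * (J * (-Y)) * (P : Matrix N N F) := by
      calc (P : Matrix N N F)ᵀ * (Yᵀ * J) * (P : Matrix N N F)
          = (Y * (P : Matrix N N F))ᵀ * J * (P : Matrix N N F) := by
            rw [Matrix.transpose_mul]; simp [mul_assoc]
        _ = (tens e 1 K)ᵀ * tens e G1 G2 := by rw [hYP, Matrix.transpose_mul, ← hgram]; simp [mul_assoc]
        _ = tens e G1 (-Alt) := by
            rw [tens_transpose, tens_mul, Matrix.transpose_one, one_mul,
              show Kᵀ * G2 = (G2 * K)ᵀ by rw [Matrix.transpose_mul G2 K, hsym], hG2K, hAT]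
        _ = -(tens e G1 G2 * tens e 1 K) := by
            rw [tens_mul, mul_one, hG2K]; ext a b; simp [tens_apply]
        _ = _ := by rw [← hgram, mul_assoc _ _ (tens e 1 K), ← hYP]; simp [mul_assoc]
    have h3 : Yᵀ * J = J * (-Y) := by
      have hu : IsUnit ((P : Matrix N N F)ᵀ) := (Matrix.isUnit_iff_isUnit_det _).mpr (by rw [Matrix.det_transpose]; exact hPd)
      exact hu.mul_left_cancel (P.isUnit.mul_right_cancel h1)
    rw [adj, RingHom.coe_id, Matrix.map_id, mul_assoc, h3, Matrix.nonsing_inv_mul_cancel_left _ _ hJ.det]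
  let C : Subalgebra F (Matrix N N F) := Algebra.adjoin F {Y}
  have hYC : Y ∈ C := Algebra.subset_adjoin rfl
  have hcC : ∀ x ∈ C, ∀ y ∈ C, x * y = y * x := fun x hx y hy =>
    congrArg Subtype.val ((Algebra.adjoinCommRingOfComm F (s := {Y}) (by simp)).mul_comm ⟨x, hx⟩ ⟨y, hy⟩)
  have hadj : ∀ x ∈ C, adj (RingHom.id F) J x ∈ C := by
    intro x hx
    induction hx using Algebra.adjoin_induction with
    | mem y hy => rw [Set.mem_singleton_iff.mp hy, hYadj]; exact neg_mem hYC
    | algebraMap r =>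
      rw [Algebra.algebraMap_eq_smul_one, adj_smul, adj_one hJ]
      exact Subalgebra.smul_mem _ (one_mem _) _
    | add a b _ _ ha hb => rw [adj_add]; exact add_mem ha hb
    | mul a b _ _ ha hb => rw [adj_mul hJ]; exact mul_mem hb ha
  have hCn : NormAlg G C := by
    intro g hg x hx
    induction hx using Algebra.adjoin_induction with
    | mem y hy =>
      rw [Set.mem_singleton_iff.mp hy]
      obtain ⟨a, b, hab⟩ := (mem_tensorProductSubgroup_iff e P g).mp (hle hg)
      obtain ⟨c, hc, hgc⟩ := hG g hg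
      rw [RingHom.coe_id, Matrix.map_id] at hgc
      set A := (a : Matrix (Fin d) (Fin d) F)
      set B := (b : Matrix (Fin 2) (Fin 2) F)
      have hgP : (g : Matrix N N F) * (P : Matrix N N F) = (P : Matrix N N F) * tens e A B := by
        rw [hab, cj_apply, mul_assoc, Units.inv_mul, mul_one]
      have h1 : tens e (Aᵀ * G1 * A) (Bᵀ * G2 * B) = tens e (c • G1) G2 := by
        calc tens e (Aᵀ * G1 * A) (Bᵀ * G2 * B) = (tens e A B)ᵀ * tens e G1 G2 * tens e A B := by
              rw [tens_transpose, tens_mul, tens_mul]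
          _ = ((g : Matrix N N F) * (P : Matrix N N F))ᵀ * J * ((g : Matrix N N F) * (P : Matrix N N F)) := by
              rw [hgP, ← hgram, Matrix.transpose_mul]; simp [mul_assoc]
          _ = c • tens e G1 G2 := by
              rw [← hgram, Matrix.transpose_mul]
              calc (P : Matrix N N F)ᵀ * (g : Matrix N N F)ᵀ * J * ((g : Matrix N N F) * (P : Matrix N N F))
                  = (P : Matrix N N F)ᵀ * ((g : Matrix N N F)ᵀ * J * (g : Matrix N N F)) * (P : Matrix N N F) := by
                    simp [mul_assoc]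
                _ = _ := by rw [hgc, Matrix.mul_smul, Matrix.smul_mul]
          _ = tens e (c • G1) G2 := (tens_smul_left e c G1 G2).symm
      have hne : ∀ {k : ℕ} {Z : Matrix (Fin k) (Fin k) F}, 0 < k → IsUnit Z.det → Z ≠ 0 := by
        intro k Z hk hZ h0
        have : Nonempty (Fin k) := ⟨⟨0, hk⟩⟩
        rw [h0, Matrix.det_zero] at hZ
        exact not_isUnit_zero hZ
      have hda : IsUnit A.det := (Matrix.isUnit_iff_isUnit_det _).mp a.isUnit
      have hdb : IsUnit B.det := (Matrix.isUnit_iff_isUnit_det _).mp b.isUnit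
      obtain ⟨l, hl, -, hl2⟩ := tens_cancel e h1
        (hne hd (by rw [Matrix.det_mul, Matrix.det_mul, Matrix.det_transpose]; exact (hda.mul hd1).mul hda))
        (hne two_pos (by rw [Matrix.det_mul, Matrix.det_mul, Matrix.det_transpose]; exact (hdb.mul hd2).mul hdb))
      set Bi := ((b⁻¹ : GL (Fin 2) F) : Matrix (Fin 2) (Fin 2) F) with hBi
      have hBBi : B * Bi = 1 := by rw [hBi, Units.mul_inv]
      have hconj : B * K * Bi = (l / B.det) • K := by
        have h3 : Bᵀ * G2 * (B * K * Bi) * B = (l • Alt : Matrix (Fin 2) (Fin 2) F) := by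
          calc Bᵀ * G2 * (B * K * Bi) * B = (Bᵀ * G2 * B) * K * (Bi * B) := by simp [mul_assoc]
            _ = _ := by rw [hl2, hBi, Units.inv_mul, mul_one, Matrix.smul_mul, hG2K]
        have h4 : Bᵀ * G2 * ((l / B.det) • K) * B = l • Alt := by
          rw [Matrix.mul_smul, Matrix.smul_mul, mul_assoc Bᵀ, hG2K, hAlt, smul_smul,
            div_mul_cancel₀ _ hdb.ne_zero]
        have hu : IsUnit (Bᵀ * G2) := (Matrix.isUnit_iff_isUnit_det _).mpr (by
          rw [Matrix.det_mul, Matrix.det_transpose]; exact hdb.mul hd2)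
        exact hu.mul_left_cancel (b.isUnit.mul_right_cancel (h3.trans h4.symm))
      have : cj g Y = (l / B.det) • Y := by
        have hT : cj g Y = cj P (tens e A B * tens e 1 K * tens e ((a⁻¹ : GL (Fin d) F) : Matrix (Fin d) (Fin d) F) Bi) := by
          have hPX : (g : Matrix N N F) = cj P (tens e A B) := hab
          have hgi : ((g⁻¹ : GL N F) : Matrix N N F) =
              cj P (tens e ((a⁻¹ : GL (Fin d) F) : Matrix (Fin d) (Fin d) F) Bi) := by
            refine (left_inv_eq_right_inv (b := ((g⁻¹ : GL N F) : Matrix N N F))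
              (a := (g : Matrix N N F)) (Units.inv_mul g) ?_)
            rw [hPX, ← map_mul, tens_mul, hBBi, Units.mul_inv, tens_one, map_one]
          rw [cj_apply g, hgi, hPX, hY, ← map_mul, ← map_mul]
        rw [hT, tens_mul, tens_mul, mul_one, Units.mul_inv, hconj, hY, ← map_smul]
        congr 1
        ext i j
        simp [tens_apply]
        ring
      rw [this]
      exact Subalgebra.smul_mem _ hYC _
    | algebraMap r => rw [AlgHom.commutes]; exact Subalgebra.algebraMap_mem _ r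
    | add a b _ _ ha hb => rw [map_add]; exact add_mem ha hb
    | mul a b _ _ ha hb => rw [map_mul]; exact mul_mem ha hb
  rcases field_or_idems hirr hCn hcC with hfield | ⟨m', t, ee, he⟩
  swap
  · exact Or.inl (decomp_of_idems hJ hG hirr hcC hadj he)
  obtain ⟨r, K', hr, hdvd, -, hK', hnorm, hτ⟩ := exists_prime_degree hcC hfield fun h1 => by
    obtain ⟨c, hc⟩ := eq_smul_one_of_finrank_eq_one h1 hYC
    have h3 : adj (RingHom.id F) J Y = Y := by rw [hc, adj_smul, adj_one hJ]; rfl
    rw [hYadj] at h3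
    have hY0 : Y = 0 := by
      ext i j
      have h4 := congrFun (congrFun h3 i) j
      simp only [Matrix.neg_apply] at h4
      exact (mul_eq_zero.mp (by linear_combination -h4 : (2 : F) * Y i j = 0)).resolve_left h2
    have h5 := congrArg (cj P⁻¹) hY0
    rw [hY, cj_inv_cj, map_zero] at h5
    have hKd : IsUnit K.det := by
      rw [hK, Matrix.det_mul, hAdet, mul_one]; exact Matrix.isUnit_nonsing_inv_det _ hd2
    have h6 := congrArg Matrix.det h5
    rw [det_tens, Matrix.det_one, one_pow, one_mul, Matrix.det_zero] at h6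
    exact (pow_ne_zero _ hKd.ne_zero) h6
  exact Or.inr ⟨r, K', hr, hdvd, hK', hτ (adj (RingHom.id F) J) hadj (fun x k => adj_pow hJ x k),
    (hnorm G hCn).le_normalizer⟩

/-- Tensor decompositions. -/
theorem symp_tensor (hm : 1 ≤ m) {H : Subgroup (GL N F)} (hH : H ≤ Cfsg.spGL m F)
    (hirr : Geo.ActsIrreducibly (Geo.matrixSet H)) {d t : ℕ} (hd : 2 ≤ d) (ht : 2 ≤ t)
    (h : FTensor (RingHom.id F) J (H ⊔ Geo.scalars N F) d t) :
    ∃ M, Geo.InSymplecticClass m F M ∧ H ≤ M := by
  classical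
  have hJ := herm_J (m := m) (F := F)
  let e : N ≃ Fin d × Fin t := Fintype.equivOfCardEq (by rw [← h.1]; simp)
  obtain ⟨P, G1, G2, hle, hgram, h1, h2⟩ := h.2 e
  rw [RingHom.coe_id, Matrix.map_id] at hgram
  obtain ⟨ε1, -, hs1⟩ := h1.symm
  obtain ⟨ε2, -, hs2⟩ := h2.symm
  rw [RingHom.coe_id, Matrix.map_id] at hs1 hs2
  have hne : ∀ {k : ℕ} {Z : Matrix (Fin k) (Fin k) F}, 0 < k → IsUnit Z.det → ∃ i j, Z i j ≠ 0 := by
    intro k Z hk hZ
    by_contra hc
    simp only [not_exists, not_not] at hc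
    have : Nonempty (Fin k) := ⟨⟨0, hk⟩⟩
    rw [show Z = 0 from Matrix.ext hc, Matrix.det_zero] at hZ
    exact not_isUnit_zero hZ
  have hprod : ε1 * ε2 = -1 := by
    have h3 : (tens e G1 G2)ᵀ = -(tens e G1 G2) := by
      rw [← hgram, Matrix.transpose_mul, Matrix.transpose_mul, Matrix.J_transpose, Matrix.transpose_transpose]
      simp [mul_assoc]
    rw [tens_transpose, hs1, hs2] at h3
    obtain ⟨i, j, hij⟩ := hne (by omega) h1.det
    obtain ⟨k, l, hkl⟩ := hne (by omega) h2.det
    have h4 := congrFun (congrFun h3 (e.symm (i, k))) (e.symm (j, l))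
    simp [tens_apply] at h4
    exact mul_right_cancel₀ (mul_ne_zero hij hkl) (by linear_combination h4)
  have hsq1 : ε1 * ε1 = 1 := by
    obtain ⟨i, j, hij⟩ := hne (by omega) h1.det
    have e1 := congrFun (congrFun hs1 i) j
    have e2 := congrFun (congrFun hs1 j) i
    simp only [Matrix.transpose_apply, Matrix.smul_apply, smul_eq_mul] at e1 e2
    rw [e1, ← mul_assoc] at e2
    exact mul_right_cancel₀ hij (e2.symm.trans (one_mul _).symm)
  have hHT : H ≤ Geo.tensorProductSubgroup d t e P := le_sup_left.trans hle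
  rcases two_ne_zero_or F with h2' | ⟨h2', hodd⟩
  · -- characteristic two
    have hneg : ∀ x : F, -x = x := fun x => by linear_combination -x * h2'
    have hε1 : ε1 = 1 := (mul_self_eq_one_iff.mp hsq1).elim id (fun h => h.trans (hneg 1))
    have hε2 : ε2 = 1 := by rw [hε1, one_mul] at hprod; exact hprod.trans (hneg 1)
    rw [hε1, one_smul] at hs1
    rw [hε2, one_smul] at hs2
    -- both factors are alternating, as `H` is irreducible
    have key : ∀ {d t : ℕ}, 2 ≤ d → 0 < t → ∀ (e : N ≃ Fin d × Fin t) (G1 : Matrix (Fin d) (Fin d) F)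
        (G2 : Matrix (Fin t) (Fin t) F), IsUnit G1.det → IsUnit G2.det → G1ᵀ = G1 →
        (P : Matrix N N F)ᵀ * J * (P : Matrix N N F) = tens e G1 G2 →
        H ≤ Geo.tensorProductSubgroup d t e P → ∀ i, G1 i i = 0 := by
      intro d t hd ht e G1 G2 hd1 hd2 hs hgram hle
      by_contra hc
      simp only [not_forall] at hc
      obtain ⟨i₀, hi₀⟩ := hc
      let q1 : (Fin d → F) → F := fun u => u ⬝ᵥ G1 *ᵥ u
      have hadd : ∀ u v, q1 (u + v) = q1 u + q1 v := fun u v => by
        have hsw : v ⬝ᵥ G1 *ᵥ u = u ⬝ᵥ G1 *ᵥ v := by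
          rw [Matrix.dotProduct_mulVec, ← Matrix.mulVec_transpose, hs, dotProduct_comm]
        simp only [q1, Matrix.mulVec_add, add_dotProduct, dotProduct_add, hsw]
        linear_combination (u ⬝ᵥ G1 *ᵥ v) * h2'
      have hsmul : ∀ (c : F) u, q1 (c • u) = c ^ 2 * q1 u := fun c u => by
        simp [q1, Matrix.mulVec_smul]; ring
      have hq0 : q1 0 = 0 := by simpa using hsmul 0 0
      let col : (N → F) → Fin t → Fin d → F := fun v k i =>
        (((P⁻¹ : GL N F) : Matrix N N F) *ᵥ v) (e.symm (i, k))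
      let W : Submodule F (N → F) :=
        { carrier := {v | ∀ k, q1 (col v k) = 0}
          zero_mem' := fun k => by
            show q1 (col 0 k) = 0
            rw [show col 0 k = 0 by ext i; simp [col], hq0]
          add_mem' := fun {a b} ha hb k => by
            show q1 (col (a + b) k) = 0
            rw [show col (a + b) k = col a k + col b k by ext i; simp [col, Matrix.mulVec_add], hadd, ha k, hb k,
              add_zero]
          smul_mem' := fun c a ha k => by
            show q1 (col (c • a) k) = 0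
            rw [show col (c • a) k = c • col a k by ext i; simp [col, Matrix.mulVec_smul], hsmul, ha k, mul_zero] }
      have hcolP : ∀ (x : N → F) k, col ((P : Matrix N N F) *ᵥ x) k = fun i => x (e.symm (i, k)) := fun x k => by
        ext i; simp [col, Matrix.mulVec_mulVec, Units.inv_mul]
      have hWinv : ∀ g ∈ H, ∀ v ∈ W, (g : Matrix N N F) *ᵥ v ∈ W := by
        intro g hg v hv k
        obtain ⟨a, b, hab⟩ := (mem_tensorProductSubgroup_iff e P g).mp (hle hg)
        set A := (a : Matrix (Fin d) (Fin d) F)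
        set B := (b : Matrix (Fin t) (Fin t) F)
        have hgP : (g : Matrix N N F) * (P : Matrix N N F) = (P : Matrix N N F) * tens e A B := by
          rw [hab, cj_apply, mul_assoc, Units.inv_mul, mul_one]
        have hT : tens e (Aᵀ * G1 * A) (Bᵀ * G2 * B) = tens e G1 G2 := by
          calc tens e (Aᵀ * G1 * A) (Bᵀ * G2 * B) = (tens e A B)ᵀ * tens e G1 G2 * tens e A B := by
                rw [tens_transpose, tens_mul, tens_mul]
            _ = ((g : Matrix N N F) * (P : Matrix N N F))ᵀ * J * ((g : Matrix N N F) * (P : Matrix N N F)) := by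
                rw [hgP, ← hgram, Matrix.transpose_mul]; simp [mul_assoc]
            _ = (P : Matrix N N F)ᵀ * ((g : Matrix N N F)ᵀ * J * (g : Matrix N N F)) * (P : Matrix N N F) := by
                rw [Matrix.transpose_mul]; simp [mul_assoc]
            _ = tens e G1 G2 := by rw [gram_spGL (hH hg), hgram]
        have hu : ∀ {k : ℕ} (x : GL (Fin k) F) {Z : Matrix (Fin k) (Fin k) F}, IsUnit Z.det → 0 < k →
            (x : Matrix (Fin k) (Fin k) F)ᵀ * Z * (x : Matrix (Fin k) (Fin k) F) ≠ 0 := by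
          intro k x Z hZ hk h0
          have : Nonempty (Fin k) := ⟨⟨0, hk⟩⟩
          have h1 := congrArg Matrix.det h0
          rw [Matrix.det_mul, Matrix.det_mul, Matrix.det_transpose, Matrix.det_zero] at h1
          exact mul_ne_zero (mul_ne_zero (Matrix.GeneralLinearGroup.det x).ne_zero hZ.ne_zero)
            (Matrix.GeneralLinearGroup.det x).ne_zero h1
        obtain ⟨l, hl, hl1, -⟩ := tens_cancel e hT (hu a hd1 (by omega)) (hu b hd2 ht)
        have hqa : ∀ u, l * q1 (A *ᵥ u) = q1 u := fun u => by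
          show l * ((A *ᵥ u) ⬝ᵥ G1 *ᵥ (A *ᵥ u)) = u ⬝ᵥ G1 *ᵥ u
          conv_rhs => rw [hl1, Matrix.smul_mulVec, dotProduct_smul, smul_eq_mul]
          congr 1
          rw [← Matrix.mulVec_mulVec, ← Matrix.mulVec_mulVec, Matrix.dotProduct_mulVec u, Matrix.vecMul_transpose]
        set x := ((P⁻¹ : GL N F) : Matrix N N F) *ᵥ v with hx
        have hgv : (g : Matrix N N F) *ᵥ v = (P : Matrix N N F) *ᵥ (tens e A B *ᵥ x) := by
          rw [hx, Matrix.mulVec_mulVec, Matrix.mulVec_mulVec, ← hgP, mul_assoc, Units.mul_inv, mul_one]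
        rw [hgv, hcolP]
        have hcolT : (fun i => (tens e A B *ᵥ x) (e.symm (i, k))) = A *ᵥ (∑ l, B k l • col v l) := by
          ext i
          simp only [Matrix.mulVec, dotProduct, tens_apply, Equiv.apply_symm_apply, Finset.sum_apply, Pi.smul_apply,
            smul_eq_mul, Finset.mul_sum]
          rw [← e.symm.sum_comp, Fintype.sum_prod_type]
          refine Finset.sum_congr rfl fun j _ => Finset.sum_congr rfl fun l _ => ?_
          simp [col, hx, Matrix.mulVec, dotProduct]
          ring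
        show q1 (fun i => (tens e A B *ᵥ x) (e.symm (i, k))) = 0
        rw [hcolT]
        refine (mul_eq_zero.mp ((hqa _).trans ?_)).resolve_left hl
        let T : (Fin d → F) →+ F := ⟨⟨q1, hq0⟩, hadd⟩
        show T (∑ l, B k l • col v l) = 0
        rw [map_sum]
        exact Finset.sum_eq_zero fun l _ => by
          show q1 (B k l • col v l) = 0
          rw [hsmul, hv l, mul_zero]
      rcases hirr W (by
        rintro _ ⟨g, hg, rfl⟩
        exact (mapsTo_iff_mulVec _ W).mpr (hWinv g hg)) with hbot | htop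
      · obtain ⟨y, hy0, hy⟩ := exists_zero_of_semilinear h2' (by simpa using hd) hadd hsmul
        let k₀ : Fin t := ⟨0, ht⟩
        set x : N → F := fun a => if (e a).2 = k₀ then y (e a).1 else 0 with hx
        have hxW : (P : Matrix N N F) *ᵥ x ∈ W := fun k => by
          rw [hcolP]
          by_cases hk : k = k₀
          · simpa [hx, hk] using hy
          · rw [show (fun i => x (e.symm (i, k))) = (0 : Fin d → F) from funext fun i => by simp [hx, hk]]
            exact hq0
        rw [hbot, Submodule.mem_bot] at hxW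
        refine hy0 (funext fun i => ?_)
        have h3 := congrFun (congrArg (fun v => col v k₀) hxW) i
        simp only [hcolP] at h3
        simpa [hx, col] using h3
      · let k₀ : Fin t := ⟨0, ht⟩
        have hmem : (P : Matrix N N F) *ᵥ Pi.single (e.symm (i₀, k₀)) 1 ∈ W := htop ▸ Submodule.mem_top
        have h3 := hmem k₀
        rw [hcolP] at h3
        refine hi₀ ?_
        have h4 : (fun i => (Pi.single (e.symm (i₀, k₀)) 1 : N → F) (e.symm (i, k₀))) = Pi.single i₀ 1 := by
          ext i; by_cases hi : i = i₀ <;> simp [hi]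
        rw [h4] at h3
        simpa [q1] using h3
    have hd1 := key hd (by omega) e G1 G2 h1.det h2.det hs1 hgram hHT
    have hd2 := key ht (by omega) (e.trans (Equiv.prodComm _ _)) G2 G1 h2.det h1.det hs2
      (hgram.trans (tens_prodComm e G1 G2).symm) (by rw [← tensorProductSubgroup_swap]; exact hHT)
    let S : Set (N → F) := {s | ∃ (u : Fin d → F) (w : Fin t → F),
      s = (P : Matrix N N F) *ᵥ fun a => u (e a).1 * w (e a).2}
    have hspan : Submodule.span F S = ⊤ := by
      rw [eq_top_iff]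
      intro v _
      set x := ((P⁻¹ : GL N F) : Matrix N N F) *ᵥ v with hx
      have hv : v = ∑ a, x a • ((P : Matrix N N F) *ᵥ Pi.single a 1) := by
        calc v = (P : Matrix N N F) *ᵥ x := by rw [hx, Matrix.mulVec_mulVec, Units.mul_inv, Matrix.one_mulVec]
          _ = (P : Matrix N N F) *ᵥ ∑ a, x a • (Pi.single a 1 : N → F) := by
              congr 1
              ext i
              simp [Pi.single_apply]
          _ = _ := by rw [Matrix.mulVec_sum]; simp [Matrix.mulVec_smul]
      rw [hv]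
      refine Submodule.sum_mem _ fun a _ => Submodule.smul_mem _ _ (Submodule.subset_span
        ⟨Pi.single (e a).1 1, Pi.single (e a).2 1, ?_⟩)
      congr 1
      ext b
      by_cases hb : b = a
      · subst hb; simp
      · rw [Pi.single_eq_of_ne hb]
        by_cases h' : (e b).1 = (e a).1
        · rw [Pi.single_eq_of_ne (fun h'' => hb (e.injective (Prod.ext h' h''))), mul_zero]
        · rw [Pi.single_eq_of_ne h', zero_mul]
    refine (symp_class8_of_split h2' hH e P G1 G2 (c := 1) hs1 hd1 hs2 hd2 (by rw [one_smul]; exact hgram) S hspan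
      (fun s hs => hs) ?_).imp fun M hM => ⟨Or.inl hM.1, hM.2⟩
    rintro g hg _ ⟨u, w, rfl⟩
    obtain ⟨a, b, hab⟩ := (mem_tensorProductSubgroup_iff e P g).mp (hHT hg)
    refine ⟨(a : Matrix (Fin d) (Fin d) F) *ᵥ u, (b : Matrix (Fin t) (Fin t) F) *ᵥ w, ?_⟩
    rw [hab, cj_apply, Matrix.mulVec_mulVec, mul_assoc, Units.inv_mul, mul_one, ← Matrix.mulVec_mulVec]
    congr 1
    ext c
    simp only [Matrix.mulVec, dotProduct, tens_apply, Finset.sum_mul_sum]
    rw [← e.symm.sum_comp, Fintype.sum_prod_type]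
    refine Finset.sum_congr rfl fun i _ => Finset.sum_congr rfl fun j _ => ?_
    simp only [Equiv.apply_symm_apply]
    ring
  -- odd characteristic: one factor is alternating
  have key : ∀ {d t : ℕ}, 2 ≤ d → 2 ≤ t → ∀ (e : N ≃ Fin d × Fin t) (G1 : Matrix (Fin d) (Fin d) F)
      (G2 : Matrix (Fin t) (Fin t) F), IsUnit G1.det → IsUnit G2.det → G1ᵀ = -G1 → G2ᵀ = G2 →
      (P : Matrix N N F)ᵀ * J * (P : Matrix N N F) = tens e G1 G2 →
      H ⊔ Geo.scalars N F ≤ Geo.tensorProductSubgroup d t e P → ∃ M, Geo.InSymplecticClass m F M ∧ H ≤ M := by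
    intro d t hd ht e G1 G2 hd1 hd2 hs1 hs2 hgram hle
    rcases (show t = 2 ∨ 3 ≤ t by omega) with rfl | ht3
    · rcases tensor_two_reduce hm h2' (symp_sim hH) (irred_sup_scalars hirr) (by omega) e P hle hgram hd1 hd2 hs2
        with h | h
      · exact (symp_decomp hH h).imp fun M hM => ⟨Or.inl hM.1, hM.2⟩
      · exact symp_field hm hH h
    · refine ⟨Geo.tensorProductSubgroup d t e P ⊓ Cfsg.spGL m F, Or.inr (Or.inr (Or.inr (Or.inl
        ⟨d, t, e, P, _, _, hodd, ht3, symplecticForm_of_gram hd1 hs1 (skew_alternating h2' hs1),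
          symmetricForm_of_gram hd2 hs2, ?_, rfl⟩))), le_inf (le_sup_left.trans hle) hH⟩
      refine tensorFormStructure_of_gram (RingHom.id F) id (fun x => rfl) sympForm_eq_gram e P (c := 1) one_ne_zero
        G1 G2 ?_
      rw [RingHom.coe_id, Matrix.map_id, one_smul]
      exact hgram
  rcases mul_self_eq_one_iff.mp hsq1 with hε | hε
  · rw [hε, one_mul] at hprod
    rw [hε, one_smul] at hs1
    rw [hprod, neg_one_smul] at hs2
    exact key ht hd (e.trans (Equiv.prodComm _ _)) G2 G1 h2.det h1.det hs2 hs1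
      (hgram.trans (tens_prodComm e G1 G2).symm) (by rw [← tensorProductSubgroup_swap]; exact hle)
  · rw [hε, neg_one_mul, neg_inj] at hprod
    rw [hε, neg_one_smul] at hs1
    rw [hprod, one_smul] at hs2
    exact key hd ht e G1 G2 h1.det h2.det hs1 hs2 hgram hle

/-- The product vectors of a tensor power are permuted by its stabiliser. -/
theorem wreath_pure_invariant {d k : ℕ} (e : N ≃ (Fin k → Fin d)) (P : GL N F) :
    ∀ g ∈ Geo.tensorWreathSubgroup d k e P, ∀ s ∈ {s : N → F | ∃ w : Fin k → Fin d → F,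
      s = (P : Matrix N N F) *ᵥ fun a => ∏ i, w i (e a i)},
      (g : Matrix N N F) *ᵥ s ∈ {s : N → F | ∃ w : Fin k → Fin d → F,
        s = (P : Matrix N N F) *ᵥ fun a => ∏ i, w i (e a i)} := by
  classical
  have hstd : ∀ g ∈ Geo.tensorWreathStandard d k F, ∀ w : Fin k → Fin d → F, ∃ w' : Fin k → Fin d → F,
      (g : Matrix (Fin k → Fin d) (Fin k → Fin d) F) *ᵥ (fun x => ∏ i, w i (x i)) =
        fun x => ∏ i, w' i (x i) := by
    intro g hg
    let T : Set ((Fin k → Fin d) → F) := Set.range fun w : Fin k → Fin d → F => fun x => ∏ i, w i (x i)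
    have : Finite (Fin k → Fin d → F) := inferInstance
    have hT : ∀ a : GL (Fin k → Fin d) F, Set.MapsTo (fun v => (a : Matrix (Fin k → Fin d) (Fin k → Fin d) F) *ᵥ v) T T →
        Set.MapsTo (fun v => ((a⁻¹ : GL (Fin k → Fin d) F) : Matrix (Fin k → Fin d) (Fin k → Fin d) F) *ᵥ v) T T := by
      intro a ha v hv
      have hinj : Set.InjOn (fun v => (a : Matrix (Fin k → Fin d) (Fin k → Fin d) F) *ᵥ v) T := fun x _ y _ h => by
        have := congrArg (fun v => ((a⁻¹ : GL (Fin k → Fin d) F) : Matrix (Fin k → Fin d) (Fin k → Fin d) F) *ᵥ v) h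
        simpa [Matrix.mulVec_mulVec, Units.inv_mul] using this
      obtain ⟨u, hu, huv⟩ := ((Set.finite_range _).injOn_iff_bijOn_of_mapsTo ha).mp hinj |>.surjOn hv
      simp only at huv ⊢
      rw [← huv, Matrix.mulVec_mulVec, Units.inv_mul, Matrix.one_mulVec]
      exact hu
    suffices h : Set.MapsTo (fun v => (g : Matrix (Fin k → Fin d) (Fin k → Fin d) F) *ᵥ v) T T from fun w => (h ⟨w, rfl⟩).imp fun _ => Eq.symm
    induction hg using Subgroup.closure_induction with
    | mem a ha =>
      rintro _ ⟨w, rfl⟩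
      rcases ha with ⟨gs, hgs⟩ | ⟨τ, hτ⟩
      · refine ⟨fun i => (gs i : Matrix (Fin d) (Fin d) F) *ᵥ w i, funext fun x => ?_⟩
        simp only [Matrix.mulVec, dotProduct, hgs, ← Finset.prod_mul_distrib]
        rw [Fintype.prod_sum]
      · refine ⟨fun i => w (τ⁻¹ i), funext fun x => ?_⟩
        simp only [Matrix.mulVec, dotProduct, hτ, ite_mul, one_mul, zero_mul, Finset.sum_ite_eq', Finset.mem_univ,
          if_true, Function.comp_apply]
        exact Fintype.prod_equiv τ⁻¹ _ _ (fun i => by simp)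
    | one => intro v hv; simpa using hv
    | mul a b _ _ ha hb =>
      intro v hv
      show ((a * b : GL (Fin k → Fin d) F) : Matrix (Fin k → Fin d) (Fin k → Fin d) F) *ᵥ v ∈ T
      rw [Units.val_mul, ← Matrix.mulVec_mulVec]
      exact ha (hb hv)
    | inv a _ ha => exact hT a ha
  rintro _ ⟨_, ⟨g, hg, rfl⟩, rfl⟩ _ ⟨w, rfl⟩
  obtain ⟨w', hw'⟩ := hstd g hg w
  refine ⟨w', ?_⟩
  simp only [MulEquiv.coe_toMonoidHom, MulAut.conj_apply, Units.val_mul, ← Matrix.mulVec_mulVec]
  rw [Matrix.mulVec_mulVec _ ((P⁻¹ : GL N F) : Matrix N N F), Units.inv_mul, Matrix.one_mulVec]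
  congr 1
  funext a
  have h1 := congrFun hw' (e a)
  rw [← h1]
  show (Matrix.reindexAlgEquiv F F e.symm (g : Matrix (Fin k → Fin d) (Fin k → Fin d) F) *ᵥ fun b => ∏ i, w i (e b i)) a = _
  simp only [Matrix.mulVec, dotProduct, Matrix.coe_reindexAlgEquiv, Matrix.reindex_apply, Equiv.symm_symm,
    Matrix.submatrix_apply]
  exact e.sum_comp (fun x => (g : Matrix (Fin k → Fin d) (Fin k → Fin d) F) (e a) x * ∏ i, w i (x i))

set_option maxHeartbeats 800000 in
/-- Tensor induction. -/
theorem symp_tensorInduced (hm : 1 ≤ m) {H : Subgroup (GL N F)} (hH : H ≤ Cfsg.spGL m F) {d k : ℕ} (hd : 2 ≤ d)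
    (hk : 2 ≤ k) (hT : TIData (H ⊔ Geo.scalars N F) d k) : ∃ M, Geo.InSymplecticClass m F M ∧ H ≤ M := by
  classical
  have : Nonempty N := ⟨Sum.inl ⟨0, hm⟩⟩
  have : Nonempty (Fin d) := ⟨⟨0, by omega⟩⟩
  obtain ⟨hcard, hgr⟩ := tensor_power_gram herm_J (symp_sim hH) (by omega) (by omega) hT
  obtain ⟨k', rfl⟩ : ∃ k', k = k' + 1 := ⟨k - 1, by omega⟩
  let e : N ≃ (Fin (k' + 1) → Fin d) := Fintype.equivOfCardEq (by simp only [Fintype.card_pi, Fintype.card_fin,
    Finset.prod_const, Finset.card_univ, hcard])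
  obtain ⟨P, J₁, c, μ, D₁, hc, hJ, hle, hgram, hJm, hrel, hperf, ⟨x, hx, hxs⟩, hsim, hspanD⟩ := hgr e
  rw [RingHom.coe_id, Matrix.map_id] at hgram hJm
  have hsymJ : ((J).map (RingHom.id F))ᵀ = (-1 : F) • J := by simp [Matrix.J_transpose]
  have hμk : μ ^ (k' + 1) = -1 := by
    have h := hrel (-1) hsymJ
    rw [RingHom.id_apply] at h
    exact mul_left_cancel₀ hc (by linear_combination h)
  have hμμ : μ * μ = 1 := by
    obtain ⟨i, j, hij⟩ : ∃ i j, J₁ i j ≠ 0 := by
      by_contra hcon
      simp only [not_exists, not_not] at hcon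
      rw [show J₁ = 0 from Matrix.ext hcon, Matrix.det_zero] at hJ
      exact not_isUnit_zero hJ
    have e1 := congrFun (congrFun hJm i) j
    have e2 := congrFun (congrFun hJm j) i
    simp only [Matrix.transpose_apply, Matrix.smul_apply, smul_eq_mul] at e1 e2
    rw [e1, ← mul_assoc] at e2
    exact mul_right_cancel₀ hij (e2.symm.trans (one_mul _).symm)
  have hHW : H ≤ Geo.tensorWreathSubgroup d (k' + 1) e P := le_sup_left.trans hle
  rcases two_ne_zero_or F with h2 | ⟨h2, hodd⟩
  · have hμ : μ = 1 := (mul_self_eq_one_iff.mp hμμ).elim id (fun h => by linear_combination h + (-1 : F) * h2)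
    rw [hμ, one_smul] at hJm
    -- the factor form is alternating
    have hDiso : ∀ g ∈ D₁, (g : Matrix (Fin d) (Fin d) F)ᵀ * J₁ * (g : Matrix (Fin d) (Fin d) F) = J₁ := by
      let L : Subgroup (GL (Fin d) F) :=
        { carrier := {g | (g : Matrix (Fin d) (Fin d) F)ᵀ * J₁ * (g : Matrix (Fin d) (Fin d) F) = J₁}
          one_mem' := by simp
          mul_mem' := fun {a b} ha hb => by
            show ((a * b : GL (Fin d) F) : Matrix (Fin d) (Fin d) F)ᵀ * J₁ * _ = J₁
            rw [Units.val_mul, Matrix.transpose_mul]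
            calc _ = (b : Matrix (Fin d) (Fin d) F)ᵀ * ((a : Matrix (Fin d) (Fin d) F)ᵀ * J₁ *
                  (a : Matrix (Fin d) (Fin d) F)) * (b : Matrix (Fin d) (Fin d) F) := by simp [mul_assoc]
              _ = _ := by rw [show _ = J₁ from ha, show _ = J₁ from hb]
          inv_mem' := fun {a} ha => by
            show ((a⁻¹ : GL (Fin d) F) : Matrix (Fin d) (Fin d) F)ᵀ * J₁ * _ = J₁
            calc _ = ((a⁻¹ : GL (Fin d) F) : Matrix (Fin d) (Fin d) F)ᵀ * ((a : Matrix (Fin d) (Fin d) F)ᵀ * J₁ *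
                  (a : Matrix (Fin d) (Fin d) F)) * ((a⁻¹ : GL (Fin d) F) : Matrix (Fin d) (Fin d) F) := by
                  rw [show _ = J₁ from ha]
              _ = ((a : Matrix (Fin d) (Fin d) F) * ((a⁻¹ : GL (Fin d) F) : Matrix (Fin d) (Fin d) F))ᵀ * J₁ *
                  ((a : Matrix (Fin d) (Fin d) F) * ((a⁻¹ : GL (Fin d) F) : Matrix (Fin d) (Fin d) F)) := by
                  rw [Matrix.transpose_mul]; simp [mul_assoc]
              _ = J₁ := by rw [Units.mul_inv, Matrix.transpose_one, one_mul, mul_one] }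
      have hcs : ∀ g ∈ D₁, ∃ a : F, (g : Matrix (Fin d) (Fin d) F)ᵀ * J₁ * (g : Matrix (Fin d) (Fin d) F) = a • J₁ :=
        fun g hg => let ⟨a, _, ha⟩ := hsim g hg; ⟨a, by rw [RingHom.coe_id, Matrix.map_id] at ha; exact ha⟩
      choose! s hs using hcs
      have hJ0 : J₁ ≠ 0 := fun h0 => by rw [h0, Matrix.det_zero] at hJ; exact not_isUnit_zero hJ
      have hmul : ∀ g ∈ D₁, ∀ h ∈ D₁, s (g * h) = s g * s h := fun g hg h hh => by
        refine smul_left_injective F hJ0 ?_
        show s (g * h) • J₁ = (s g * s h) • J₁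
        rw [← hs _ (mul_mem hg hh), Units.val_mul, Matrix.transpose_mul]
        calc _ = (h : Matrix (Fin d) (Fin d) F)ᵀ * ((g : Matrix (Fin d) (Fin d) F)ᵀ * J₁ *
              (g : Matrix (Fin d) (Fin d) F)) * (h : Matrix (Fin d) (Fin d) F) := by simp [mul_assoc]
          _ = _ := by rw [hs g hg, Matrix.mul_smul, Matrix.smul_mul, hs h hh, smul_smul]
      have hs1 : s 1 = 1 := smul_left_injective F hJ0 (by
        show s 1 • J₁ = (1 : F) • J₁
        rw [← hs 1 (one_mem _)]; simp)
      have hle' : D₁ ≤ L := by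
        rw [← hperf, Subgroup.commutator_le]
        intro a ha b hb
        have hab := mul_mem (mul_mem (mul_mem ha hb) (inv_mem ha)) (inv_mem hb)
        show _ = J₁
        rw [commutatorElement_def, hs _ hab, hmul _ (mul_mem (mul_mem ha hb) (inv_mem ha)) _ (inv_mem hb),
          hmul _ (mul_mem ha hb) _ (inv_mem ha), hmul a ha b hb,
          show s a * s b * s a⁻¹ * s b⁻¹ = (s a * s a⁻¹) * (s b * s b⁻¹) by ring,
          ← hmul a ha _ (inv_mem ha), ← hmul b hb _ (inv_mem hb), mul_inv_cancel, mul_inv_cancel, hs1, one_mul,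
          one_smul]
      exact fun g hg => hle' hg
    have halt : ∀ u, u ⬝ᵥ J₁ *ᵥ u = 0 :=
      quad_eq_zero_of_invariant h2 (by simpa using hd) (irred_of_span hspanD) hJm hDiso
    have hdiag : ∀ i, J₁ i i = 0 := fun i => by simpa using halt (Pi.single i 1)
    let e' : N ≃ Fin d × Fin (d ^ k') :=
      e.trans ((Fin.consEquiv fun _ => Fin d).symm.trans (Equiv.prodCongr (Equiv.refl _) finFunctionFinEquiv))
    let G2 : Matrix (Fin (d ^ k')) (Fin (d ^ k')) F :=
      Matrix.of fun a b => ∏ i, J₁ (finFunctionFinEquiv.symm a i) (finFunctionFinEquiv.symm b i)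
    have hG2 : G2ᵀ = G2 := by
      ext a b
      simp only [Matrix.transpose_apply, G2, Matrix.of_apply]
      exact Finset.prod_congr rfl fun i _ => congrFun (congrFun hJm _) _
    have hG2d : ∀ a, G2 a a = 0 := fun a => Finset.prod_eq_zero (Finset.mem_univ (⟨0, by omega⟩ : Fin k')) (hdiag _)
    refine (symp_class8_of_split h2 hH e' P J₁ G2 (c := c) hJm hdiag hG2 hG2d ?_
      {s | ∃ w : Fin (k' + 1) → Fin d → F, s = (P : Matrix N N F) *ᵥ fun a => ∏ i, w i (e a i)} ?_ ?_
      fun g hg => wreath_pure_invariant e P g (hHW hg)).imp fun M hM => ⟨Or.inl hM.1, hM.2⟩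
    · rw [hgram]
      congr 1
      ext a b
      simp [tens_apply, e', G2, pureMat_apply, Fin.prod_univ_succ, Fin.tail]
    · rw [eq_top_iff]
      intro v _
      set y := ((P⁻¹ : GL N F) : Matrix N N F) *ᵥ v with hy
      have hv : v = ∑ a, y a • ((P : Matrix N N F) *ᵥ Pi.single a 1) := by
        calc v = (P : Matrix N N F) *ᵥ y := by rw [hy, Matrix.mulVec_mulVec, Units.mul_inv, Matrix.one_mulVec]
          _ = (P : Matrix N N F) *ᵥ ∑ a, y a • (Pi.single a 1 : N → F) := by
              congr 1; ext i; simp [Pi.single_apply]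
          _ = _ := by rw [Matrix.mulVec_sum]; simp [Matrix.mulVec_smul]
      rw [hv]
      refine Submodule.sum_mem _ fun a _ => Submodule.smul_mem _ _ (Submodule.subset_span
        ⟨fun i => Pi.single (e a i) 1, ?_⟩)
      congr 1
      ext b
      by_cases hb : b = a
      · subst hb; simp
      · obtain ⟨i, hi⟩ : ∃ i, e b i ≠ e a i := Function.ne_iff.mp (e.injective.ne hb)
        rw [Pi.single_eq_of_ne hb]
        exact (Finset.prod_eq_zero (Finset.mem_univ i) (Pi.single_eq_of_ne hi _)).symm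
    · rintro s ⟨w, rfl⟩
      refine ⟨w 0, fun y => ∏ i, w (Fin.succ i) (finFunctionFinEquiv.symm y i), ?_⟩
      congr 1
      ext a
      simp [e', Fin.prod_univ_succ, Fin.tail]
  have hμ : μ = -1 := (mul_self_eq_one_iff.mp hμμ).resolve_left fun h => by
    rw [h, one_pow] at hμk
    exact h2 (by linear_combination hμk)
  have hkodd : Odd (k' + 1) := by
    rw [hμ] at hμk
    rcases Nat.even_or_odd (k' + 1) with hev | hod
    · rw [hev.neg_one_pow] at hμk
      exact absurd (by linear_combination hμk : (2 : F) = 0) h2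
    · exact hod
  have hskew : J₁ᵀ = -J₁ := by rw [hJm, hμ, neg_one_smul]
  have hex : ¬ (Fintype.card F = 3 ∧ d = 2) := by
    rintro ⟨hq, rfl⟩
    have : Finite (Matrix (Fin 2) (Fin 2) F) := inferInstanceAs (Finite (Fin 2 → Fin 2 → F))
    have : Finite (GL (Fin 2) F) := Finite.of_injective Units.val Units.val_injective
    have hcard2 : Nat.card (GL (Fin 2) F) = 2 ^ 4 * 3 ^ 1 := by
      rw [Matrix.card_GL_field, hq, Fin.prod_univ_two]; norm_num
    have : Group.IsSolvable (GL (Fin 2) F) :=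
      CharApp.isSolvable_of_card_eq_prime_pow_mul 2 3 Nat.prime_two Nat.prime_three _ _ hcard2 4 1 rfl
    have hbot : D₁ = ⊥ := by
      by_contra hne
      exact (Group.IsSolvable.commutator_lt_of_ne_bot hne).ne hperf
    rw [hbot, Subgroup.mem_bot] at hx
    exact hxs (by rw [hx]; exact one_mem _)
  refine ⟨Geo.tensorWreathSubgroup d (k' + 1) e P ⊓ Cfsg.spGL m F, Or.inr (Or.inr (Or.inr (Or.inr
    ⟨d, k' + 1, e, P, Geo.formOfGram (RingHom.id F) J₁, hodd, hkodd, ?_, hex,
      symplecticForm_of_gram hJ hskew (skew_alternating h2 hskew), ?_, rfl⟩))), le_inf hHW hH⟩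
  · obtain ⟨j, hj⟩ := hkodd; omega
  · refine tensorPowerFormStructure_of_gram (RingHom.id F) id (fun x => rfl) sympForm_eq_gram e P hc J₁ ?_
    rw [RingHom.coe_id, Matrix.map_id]
    exact hgram

/-- A core is residual, or in a subfield class, or fixes a quadratic form (class 8). -/
theorem symp_core (hm : 1 ≤ m) {H P : Subgroup (GL N F)} (hH : H ≤ Cfsg.spGL m F) (hP : IsCore H P) :
    (∃ M, Geo.InSymplecticPartialClass m F M ∧ H ≤ M) ∨ Geo.InSymplecticResidualClass H := by
  classical
  have : Nonempty N := ⟨Sum.inl ⟨0, hm⟩⟩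
  have hPS : P ≤ Cfsg.spGL m F := hP.le.trans hH
  by_cases hsub : ∃ F₀ : Subfield F, F₀ ≠ ⊤ ∧ Geo.RealisableOver F₀ (Geo.matrixSet P)
  · obtain ⟨F₀, hF₀, hr⟩ := hsub
    exact Or.inl (symplectic_subfield hm hH hPS hP.normal hP.span_eq hF₀ hr)
  by_cases hu : ∃ (σ : F ≃+* F) (f : (N → F) → (N → F) → F), Geo.IsUnitaryForm σ f ∧
      Geo.FixesForm (Geo.matrixSet P) f
  · obtain ⟨σ, f, hf, hfP⟩ := hu
    exfalso
    refine hsub ⟨RingHom.eqLocusField (σ : F →+* F) (RingHom.id F), fun htop => hf.ne_refl (RingEquiv.ext fun x => ?_),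
      realisableOver_of_trace hP.span_eq (scalar_of_span hP.span_eq) _ fun x hx => ?_⟩
    · exact (show x ∈ RingHom.eqLocusField (σ : F →+* F) (RingHom.id F) from htop ▸ Subfield.mem_top x)
    · have h1 := trace_inv_of_unitary hf hfP x hx
      have h2 : ((x⁻¹ : GL N F) : Matrix N N F).trace = (x : Matrix N N F).trace := by
        have hI : Inv (RingHom.id F) P J := fun g hg => gram_of_mem_spGL (hPS hg)
        simpa using hI.trace_inv (isUnit_det_J (m := m) (F := F)) hx
      show (σ : F →+* F) _ = _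
      rw [RingHom.id_apply]
      exact h1.symm.trans h2
  by_cases hQ : ∃ Q : (N → F) → F, Geo.IsNondegenerateQuadraticForm Q ∧ Geo.FixesQuadForm (Geo.matrixSet P) Q
  swap
  · exact Or.inr ⟨P, ⟨hP.le, hP.normal, hP.perfect, hP.simple, hP.nonabelian, hP.centralizer_scalar,
      hP.absIrred, fun F₀ h h' => hsub ⟨F₀, h, h'⟩⟩, hQ, hu⟩
  left
  obtain ⟨Q, hQ, hQP⟩ := hQ
  set B := Geo.gramMatrix (QuadraticMap.polar Q) with hB
  have hpol : ∀ u v, QuadraticMap.polar Q u v = Geo.formOfGram (RingHom.id F) B u v :=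
    eq_formOfGram (RingHom.id F) hQ.polar_bilinear.add_left hQ.polar_bilinear.smul_left
      hQ.polar_bilinear.add_right hQ.polar_bilinear.smul_right
  have hBinv : Inv (RingHom.id F) P B := inv_gramMatrix hpol fun s hs u v => by
    simp only [QuadraticMap.polar, ← Matrix.mulVec_add, hQP s hs]
  obtain ⟨l, hl⟩ := invariant_unique (scalar_of_span hP.span_eq) (RingHom.id F) (isUnit_det_J (m := m) (F := F))
    (fun x hx => gram_of_mem_spGL (hPS hx)) hBinv
  have hl0 : l ≠ 0 := by
    rintro rfl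
    refine (det_gramMatrix_ne_zero (RingHom.id F) hpol hQ.nondegenerate).ne_zero ?_
    rw [hl, zero_smul, Matrix.det_zero]
  have hpolfs : ∀ u v, QuadraticMap.polar Q u v = l * fs u v := fun u v => by
    rw [hpol, hl, sympForm_eq_gram, formOfGram_eq, formOfGram_eq, Matrix.smul_mulVec, dotProduct_smul, smul_eq_mul]
  rcases two_ne_zero_or F with h2 | ⟨h2, -⟩
  swap
  · exfalso
    obtain ⟨v, hv⟩ : ∃ v : N → F, v ≠ 0 := ⟨Pi.single (Sum.inl ⟨0, hm⟩) 1, by simp⟩
    obtain ⟨w, hw⟩ := (hQ.nondegenerate v hv).1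
    refine hw ?_
    have h3 : QuadraticMap.polar Q w v = QuadraticMap.polar Q v w := QuadraticMap.polar_comm Q w v
    rw [hpolfs, hpolfs, sympForm_swap v w] at h3
    rw [hpolfs, mul_eq_zero]
    right
    have h6 : fs v w = 0 :=
      (mul_eq_zero.mp (mul_left_cancel₀ hl0 (by linear_combination -h3 : l * (2 * fs v w) = l * 0))).resolve_left h2
    rw [sympForm_swap v w, h6, neg_zero]
  -- rescale and show invariance under `H`
  let Q' : (N → F) → F := fun v => l⁻¹ * Q v
  have hsmul : ∀ (a : F) v, Q' (a • v) = a ^ 2 * Q' v := fun a v => by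
    show l⁻¹ * Q (a • v) = a ^ 2 * (l⁻¹ * Q v)
    rw [hQ.smul]; ring
  have hpol' : ∀ u v, Q' (u + v) - Q' u - Q' v = fs u v := fun u v => by
    show l⁻¹ * Q (u + v) - l⁻¹ * Q u - l⁻¹ * Q v = _
    have := hpolfs u v
    rw [QuadraticMap.polar] at this
    field_simp
    linear_combination this
  refine symp_class8 h2 hH Q' hsmul hpol' fun g hg v => ?_
  let D : (N → F) → F := fun v => Q' ((g : Matrix N N F) *ᵥ v) - Q' v
  have hDadd : ∀ a b, D (a + b) = D a + D b := fun a b => by
    have e1 := hpol' ((g : Matrix N N F) *ᵥ a) ((g : Matrix N N F) *ᵥ b)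
    have e2 := hpol' a b
    have e3 : fs ((g : Matrix N N F) *ᵥ a) ((g : Matrix N N F) *ᵥ b) = fs a b := hH hg a b
    show Q' ((g : Matrix N N F) *ᵥ (a + b)) - Q' (a + b) = _
    rw [Matrix.mulVec_add]
    simp only [D]
    linear_combination e1 - e2 + e3
  refine sub_eq_zero.mp (semilinear_zero_of_irreducible h2 (by simp; omega) hDadd (fun a v => ?_)
    (irred_of_span hP.span_eq) ?_ v)
  · show Q' _ - Q' _ = a ^ 2 * (Q' _ - Q' _)
    rw [Matrix.mulVec_smul, hsmul, hsmul]; ring
  · rintro _ ⟨x, hx, rfl⟩ w hw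
    show Q' ((g : Matrix N N F) *ᵥ ((x : Matrix N N F) *ᵥ w)) - Q' ((x : Matrix N N F) *ᵥ w) = 0
    have h1 : Q ((x : Matrix N N F) *ᵥ w) = Q w := hQP _ (mem_matrixSet hx) w
    have h4 : (g : Matrix N N F) *ᵥ ((x : Matrix N N F) *ᵥ w) =
        ((g * x * g⁻¹ : GL N F) : Matrix N N F) *ᵥ ((g : Matrix N N F) *ᵥ w) := by
      rw [Matrix.mulVec_mulVec, Matrix.mulVec_mulVec, ← Units.val_mul, ← Units.val_mul, inv_mul_cancel_right]
    have h5 := hQP _ (mem_matrixSet (hP.normal g hg x hx)) ((g : Matrix N N F) *ᵥ w)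
    show l⁻¹ * Q _ - l⁻¹ * Q _ = 0
    rw [h4, h5, h1]
    exact hw

end Cfsg.Agent.Aschbacher
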