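/-
Outcomes of the form-aware Clifford analysis for orthogonal groups in odd dimension over a field of odd order.
Main results: `eq_one_of_transpose_eq_smul`, `orth_decomp_isometric`, `monomial_subfield`, `orth_field`,
`symm_congr`, `orth_sympData_false`, `orth_core`.
-/
import Cfsg.Agent.Lib.Aschbacher.FormSymplectic
import Cfsg.Agent.Lib.PrimeDim.OrthCases
import Cfsg.Agent.Lib.QuadClass.Odd

set_option autoImplicit false
set_option linter.unusedSectionVars false

namespace Cfsg.Agent.Aschbacher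

open Matrix
open scoped commutatorElement
open Cfsg.Agent.PrimeDim
open QuadraticMap (polar)

variable {ι : Type} [Fintype ι] [DecidableEq ι] {F : Type*} [Field F]

/-- In odd dimension a non-degenerate matrix proportional to its transpose is symmetric. -/
theorem eq_one_of_transpose_eq_smul {κ : Type} [Fintype κ] [DecidableEq κ] {J : Matrix κ κ F}
    (hodd : Odd (Fintype.card κ)) (hdet : IsUnit J.det) {μ : F} (h : Jᵀ = μ • J) : μ = 1 := by
  have : Nonempty κ := Fintype.card_pos_iff.mp hodd.pos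
  have h1 : μ ^ Fintype.card κ = 1 := by
    have h0 := congrArg Matrix.det h
    rw [Matrix.det_transpose, Matrix.det_smul] at h0
    exact mul_right_cancel₀ hdet.ne_zero (h0.symm.trans (one_mul _).symm)
  have h2 : μ ^ 2 = 1 := by
    obtain ⟨i, j, hij⟩ : ∃ i j, J i j ≠ 0 := by
      by_contra hc
      simp only [not_exists, not_not] at hc
      exact hdet.ne_zero (by rw [show J = 0 from Matrix.ext hc, Matrix.det_zero])
    have e1 := congrFun (congrFun h i) j
    have e2 := congrFun (congrFun h j) i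
    simp only [Matrix.transpose_apply, Matrix.smul_apply, smul_eq_mul] at e1 e2
    rw [e1, ← mul_assoc, ← sq] at e2
    exact mul_right_cancel₀ hij (e2.symm.trans (one_mul _).symm)
  obtain ⟨k, hk⟩ := hodd
  rwa [hk, pow_succ, pow_mul, h2, one_pow, one_mul] at h1

/-- In odd dimension a non-degenerate reflexive Gram matrix is symmetric. -/
theorem Herm.symm_of_odd {κ : Type} [Fintype κ] [DecidableEq κ] {J : Matrix κ κ F}
    (h : Herm (RingHom.id F) J) (hodd : Odd (Fintype.card κ)) : Jᵀ = J := by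
  obtain ⟨ε, -, hε⟩ := h.symm
  rw [RingHom.coe_id, Matrix.map_id] at hε
  rw [eq_one_of_transpose_eq_smul hodd h.det hε, one_smul] at hε
  exact hε

variable [Fintype F]

/-- A non-degenerate symmetric matrix of odd degree is congruent to a scalar one. -/
theorem symm_congr (h2 : (2 : F) ≠ 0) {d : ℕ} (hd : Odd d) {G : Matrix (Fin d) (Fin d) F} (hdet : IsUnit G.det)
    (hsym : Gᵀ = G) : ∃ (a : F) (A : GL (Fin d) F), a ≠ 0 ∧
      (A : Matrix (Fin d) (Fin d) F)ᵀ * G * (A : Matrix (Fin d) (Fin d) F) = a • 1 := by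
  classical
  set c := G.det with hc
  let Q₁ : QuadraticForm F (Fin d → F) := G.toQuadraticForm'
  let Q₂ : QuadraticForm F (Fin d → F) := QuadClass.diagForm fun _ => c
  have hp₁ : ∀ u v, polar ⇑Q₁ u v = 2 * (u ⬝ᵥ G *ᵥ v) := by
    intro u v
    show polar ⇑(LinearMap.BilinMap.toQuadraticMap (Matrix.toLinearMap₂' F G)) u v = _
    rw [LinearMap.BilinMap.polar_toQuadraticMap, Matrix.toLinearMap₂'_apply', Matrix.toLinearMap₂'_apply',
      Matrix.dotProduct_mulVec v, ← Matrix.mulVec_transpose, hsym, dotProduct_comm (G *ᵥ v)]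
    ring
  have hd₁ : QuadClass.disc Q₁ = 2 ^ d * c := by
    rw [QuadClass.disc_eq,
      show (Matrix.of fun i j : Fin d => polar ⇑Q₁ (Pi.single i 1) (Pi.single j 1)) = (2 : F) • G from ?_,
      Matrix.det_smul, Fintype.card_fin]
    ext i j
    simp [hp₁]
  have hd₂ : QuadClass.disc Q₂ = 2 ^ d * c ^ d := by
    rw [QuadClass.disc_diag, Finset.prod_const, Finset.card_univ, Fintype.card_fin]
  have hn₁ : Q₁.polarBilin.Nondegenerate := by
    refine LinearMap.BilinForm.nondegenerate_toMatrix'_iff.1 (Matrix.nondegenerate_iff_det_ne_zero.2 ?_)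
    show QuadClass.disc Q₁ ≠ 0
    rw [hd₁]
    exact mul_ne_zero (pow_ne_zero _ h2) hdet.ne_zero
  have hn₂ : Q₂.polarBilin.Nondegenerate := by
    refine LinearMap.BilinForm.nondegenerate_toMatrix'_iff.1 (Matrix.nondegenerate_iff_det_ne_zero.2 ?_)
    show QuadClass.disc Q₂ ≠ 0
    rw [hd₂]
    exact mul_ne_zero (pow_ne_zero _ h2) (pow_ne_zero _ hdet.ne_zero)
  obtain ⟨e⟩ := (QuadClass.equivalent_iff_disc h2 Q₂ Q₁ hn₂ hn₁).mpr (by
    obtain ⟨k, hk⟩ := hd
    exact ⟨2 ^ d * c ^ (k + 1), by rw [hd₁, hd₂, hk]; ring⟩)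
  let A₀ : Matrix (Fin d) (Fin d) F := LinearMap.toMatrix' e.toLinearEquiv.toLinearMap
  have hA₀ : ∀ v, A₀ *ᵥ v = e v := fun v => by
    rw [← Matrix.toLin'_apply, Matrix.toLin'_toMatrix']; rfl
  have hu : IsUnit A₀ := (Matrix.isUnit_iff_isUnit_det _).mpr (by
    rw [LinearMap.det_toMatrix']; exact e.toLinearEquiv.isUnit_det')
  refine ⟨c, hu.unit, hdet.ne_zero, ?_⟩
  rw [IsUnit.unit_spec]
  ext i j
  have h1 : polar ⇑Q₁ (e (Pi.single i 1)) (e (Pi.single j 1)) = polar ⇑Q₂ (Pi.single i 1) (Pi.single j 1) := by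
    simp only [QuadraticMap.polar, ← map_add, e.map_app]
  rw [hp₁, ← hA₀, ← hA₀] at h1
  have h3 : polar ⇑Q₂ (Pi.single i 1) (Pi.single j 1) = 2 * (c • (1 : Matrix (Fin d) (Fin d) F)) i j := by
    simp only [QuadraticMap.polar, Q₂, QuadClass.diagForm_apply]
    rw [← Finset.sum_sub_distrib, ← Finset.sum_sub_distrib]
    rcases eq_or_ne i j with rfl | hne
    · rw [Finset.sum_eq_single i]
      · simp; ring
      · intro k _ hk; simp [Pi.single_apply, hk]
      · simp
    · rw [Matrix.smul_apply, Matrix.one_apply_ne hne, smul_zero, mul_zero]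
      refine Finset.sum_eq_zero fun k _ => ?_
      rcases eq_or_ne k i with rfl | hk
      · simp [Pi.single_apply, hne]
      · simp [Pi.single_apply, hk]
  rw [h3] at h1
  rw [← mul_left_cancel₀ h2 h1, Matrix.mulVec_single_one, Matrix.mulVec_single_one]
  simp only [Matrix.mul_apply, dotProduct, Matrix.mulVec, Matrix.col_apply, Matrix.transpose_apply,
    Finset.sum_mul, Finset.mul_sum]
  rw [Finset.sum_comm]
  exact Finset.sum_congr rfl fun x _ => Finset.sum_congr rfl fun y _ => by ring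

variable {Q : QuadraticForm F (ι → F)} (hQ : Q.polarBilin.Nondegenerate)

theorem polar_eq_gram (Q : QuadraticForm F (ι → F)) :
    polar ⇑Q = Geo.formOfGram (RingHom.id F) (gramQ Q) := by
  rw [polar_eq_sesq, sesq_eq_formOfGram]

include hQ

theorem herm_gramQ : Herm (RingHom.id F) (gramQ Q) :=
  ⟨fun _ => rfl, isUnit_gram hQ, 1, one_ne_zero, by
    rw [RingHom.coe_id, Matrix.map_id, gramQ_transpose, one_smul]⟩

omit hQ in
theorem sim_gramQ {H : Subgroup (GL ι F)} (hH : H ≤ Cfsg.isometryGroup F ⇑Q) :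
    Sim (RingHom.id F) (gramQ Q) (H ⊔ Geo.scalars ι F) :=
  sim_isometries_sup_scalars fun g hg => by
    rw [RingHom.coe_id, Matrix.map_id]
    exact gram_of_isometry (hH hg)

omit hQ in
theorem adj_gramQ (X : Matrix ι ι F) : adj (RingHom.id F) (gramQ Q) X = adjB Q X := by
  rw [adj, adjB, RingHom.coe_id, Matrix.map_id]

omit hQ in
/-- An irreducible group of isometries makes the members of a decomposition it preserves isometric. -/
theorem orth_decomp_isometric {H : Subgroup (GL ι F)} (hH : H ≤ Cfsg.isometryGroup F ⇑Q)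
    (hirr : Geo.ActsIrreducibly (Geo.matrixSet H)) {m t : ℕ} {D : Fin t → Submodule F (ι → F)}
    (hD : Geo.IsMDecomposition m D) (hle : H ≤ Geo.decompositionStabilizer D) (i j : Fin t) :
    Geo.AreIsometricFor (⇑Q) (D i) (D j) := by
  classical
  obtain ⟨g, hg, hgij⟩ : ∃ g ∈ H, (D i).map (Matrix.toLin' (g : Matrix ι ι F)) = D j := by
    by_contra hcon
    let S : Set (Fin t) := {l | ∃ g ∈ H, (D i).map (Matrix.toLin' (g : Matrix ι ι F)) = D l}
    have hi : i ∈ S := ⟨1, one_mem H, by simp⟩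
    let W : Submodule F (ι → F) := ⨆ l ∈ S, D l
    have hW : ∀ h ∈ H, ∀ w ∈ W, (h : Matrix ι ι F) *ᵥ w ∈ W := by
      intro h hh w hw
      have hmap : W.map (Matrix.toLin' (h : Matrix ι ι F)) ≤ W := by
        simp only [W, Submodule.map_iSup]
        refine iSup₂_le fun l hl => ?_
        obtain ⟨π, hπ⟩ := hle hh
        obtain ⟨g, hg, hgl⟩ := hl
        refine (hπ l).le.trans (le_iSup₂_of_le (π l) ⟨h * g, mul_mem hh hg, ?_⟩ le_rfl)
        rw [Units.val_mul, Matrix.toLin'_mul, Submodule.map_comp, hgl, hπ]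
      exact hmap ⟨w, hw, Matrix.toLin'_apply _ _⟩
    have hne : ∀ l, D l ≠ ⊥ := fun l hl => by
      have h1 := hD.finrank_eq l
      rw [hl, finrank_bot] at h1
      exact hD.pos.ne h1
    rcases eq_bot_or_top hirr W hW with hWb | hWt
    · exact hne i (le_bot_iff.mp (hWb ▸ le_iSup₂_of_le (f := fun l (_ : l ∈ S) => D l) i hi le_rfl))
    · refine hne j (le_bot_iff.mp ?_)
      have h1 : W ≤ ⨆ l, ⨆ (_ : l ≠ j), D l := iSup₂_le fun l hl => le_iSup₂_of_le l (fun h => by
        subst h; exact hcon hl) le_rfl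
      exact (le_inf le_rfl ((hWt ▸ le_top : D j ≤ W).trans h1)).trans (hD.indep j).le_bot
  let L : (ι → F) ≃ₗ[F] (ι → F) := LinearEquiv.ofBijective (Matrix.toLin' (g : Matrix ι ι F))
    ⟨Matrix.mulVec_injective_iff_isUnit.2 g.isUnit,
      LinearMap.injective_iff_surjective.1 (Matrix.mulVec_injective_iff_isUnit.2 g.isUnit)⟩
  exact ⟨LinearEquiv.ofSubmodules L _ _ hgij, fun w => Orth.Q_ap ⟨g, hH hg⟩ (w : ι → F)⟩

/-- A monomial group over a non-prime field lies in a subfield group carrying the form. -/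
theorem monomial_subfield (h2 : (2 : F) ≠ 0) (hgram : ∀ (F₁ : Subfield F) i j, gramQ Q i j ∈ F₁)
    (hodd : Odd (Fintype.card ι)) (hq : ¬ (Fintype.card F).Prime) {H : Subgroup (GL ι F)}
    (hH : H ≤ Cfsg.isometryGroup F ⇑Q) {t : ℕ} (ht : t = Fintype.card ι) {D : Fin t → Submodule F (ι → F)}
    (hD : Geo.IsOrthogonalMDecomposition (⇑Q) 1 D) (hle : H ≤ Geo.decompositionStabilizer D) :
    ∃ (F₁ : Subfield F) (r : ℕ) (B : GL ι F), r.Prime ∧ Fintype.card F = Nat.card F₁ ^ r ∧
      Geo.IsQuadFormRationalStructure (⇑Q) F₁ B ∧ H ≤ Geo.subfieldSubgroup F₁ B := by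
  classical
  have hnetop : (⊥ : Subfield F) ≠ ⊤ := by
    intro h
    obtain ⟨p, hp⟩ := CharP.exists F
    have : Fact p.Prime := ⟨CharP.char_is_prime F p⟩
    refine hq ?_
    have h1 : Nat.card (⊥ : Subfield F) = p := Subfield.card_bot F p
    rw [h, Nat.card_congr (Equiv.subtypeUnivEquiv fun x => Subfield.mem_top x), Nat.card_eq_fintype_card] at h1
    rw [h1]; exact this.out
  obtain ⟨F₁, -, -, r, hr, hc⟩ := exists_maximal_subfield (⊥ : Subfield F) hnetop
  choose d' hd' using fun i => finrank_eq_one_iff'.mp (hD.decomp.decomp.finrank_eq i)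
  let d0 : Fin t → (ι → F) := fun i => ((d' i : D i) : ι → F)
  have hd0 : ∀ i, d0 i ≠ 0 := fun i h => (hd' i).1 (Subtype.ext h)
  have hdline : ∀ i, ∀ x ∈ D i, ∃ c : F, x = c • d0 i := fun i x hx => by
    obtain ⟨c, hc⟩ := (hd' i).2 ⟨x, hx⟩
    exact ⟨c, (congrArg Subtype.val hc).symm⟩
  obtain ⟨i₀⟩ : Nonempty (Fin t) := ⟨⟨0, ht ▸ hodd.pos⟩⟩
  choose eiso heiso using fun i => hD.isometric i₀ i
  let d : Fin t → (ι → F) := fun i => ((eiso i (d' i₀) : D i) : ι → F)
  set a := Q (d0 i₀) with ha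
  have hQd : ∀ i, Q (d i) = a := fun i => heiso i _
  have hdD : ∀ i, d i ∈ D i := fun i => (eiso i (d' i₀)).2
  have hdne : ∀ i, d i ≠ 0 := fun i h => hd0 i₀ (by
    have h1 : eiso i (d' i₀) = 0 := Subtype.ext h
    exact congrArg Subtype.val ((LinearEquiv.map_eq_zero_iff _).mp h1))
  have ha0 : a ≠ 0 := fun h => by
    obtain ⟨⟨y, hy, hne⟩, -⟩ := hD.decomp.nondegenerate i₀ (d0 i₀) (d' i₀).2 (hd0 i₀)
    obtain ⟨c, rfl⟩ := hdline i₀ y hy
    rw [Orth.pl_smul_left, Orth.pl_self, ← ha, h, mul_zero, mul_zero] at hne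
    exact hne rfl
  have hli : LinearIndependent F d := hD.decomp.decomp.indep.linearIndependent D hdD hdne
  let φ : ι ≃ Fin t := (Fintype.equivFin ι).trans (finCongr ht.symm)
  let P0 : Matrix ι ι F := Matrix.of fun x i => d (φ i) x
  have hP0u : IsUnit P0 := by
    rw [← Matrix.linearIndependent_cols_iff_isUnit]
    exact hli.comp φ φ.injective
  have hcol : ∀ i, P0 *ᵥ Pi.single i 1 = d (φ i) := fun i => by rw [Matrix.mulVec_single_one]; rfl
  have hPG : P0ᵀ * gramQ Q * P0 = (2 * a) • (1 : Matrix ι ι F) := by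
    ext i j
    have hid : P0.map (RingHom.id F) = P0 := by ext i j; rfl
    have h1 : (P0ᵀ * gramQ Q * P0) i j = polar ⇑Q (d (φ i)) (d (φ j)) := by
      rw [← hcol, ← hcol, polar_eq_sesq Q, sesq_mulVec, sesq_single, hid]
    rw [h1, Matrix.smul_apply, Matrix.one_apply]
    split
    · next h => subst h; rw [Orth.pl_self, hQd]; simp
    · next h =>
      rw [hD.decomp.orthogonal _ _ (fun hh => h (φ.injective hh)) _ (hdD _) _ (hdD _)]; simp
  obtain ⟨m, hm⟩ := hodd
  set k := (gramQ Q).det / 2 ^ (2 * m + 1) with hk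
  set t' := P0.det / a ^ m with ht'
  have hP0det : P0.det ≠ 0 := ((Matrix.isUnit_iff_isUnit_det _).mp hP0u).ne_zero
  have ht0 : t' ≠ 0 := div_ne_zero hP0det (pow_ne_zero _ ha0)
  have hak : a = t' ^ 2 * k := by
    have h1 := congrArg Matrix.det hPG
    rw [Matrix.det_mul, Matrix.det_mul, Matrix.det_transpose, Matrix.det_smul, Matrix.det_one, mul_one, hm,
      mul_pow] at h1
    rw [ht', hk]
    field_simp
    linear_combination -h1
  let B : GL ι F := Units.map (Matrix.scalar ι : F →+* Matrix ι ι F).toMonoidHom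
    (Units.mk0 t'⁻¹ (inv_ne_zero ht0)) * hP0u.unit
  have hBval : (B : Matrix ι ι F) = t'⁻¹ • P0 := by
    ext i j; simp [B, Matrix.scalar_apply, Matrix.diagonal_mul]
  have h2F : (2 : F) ∈ F₁ := by exact_mod_cast natCast_mem F₁ 2
  have hkmem : k ∈ F₁ := by
    refine div_mem ?_ (pow_mem h2F _)
    let M₀ : Matrix ι ι F₁ := fun i j => ⟨gramQ Q i j, hgram F₁ i j⟩
    have := RingHom.map_det F₁.subtype M₀
    rw [show F₁.subtype.mapMatrix M₀ = gramQ Q by ext i j; rfl] at this
    rw [← this]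
    exact M₀.det.2
  refine ⟨F₁, r, B, hr, hc, fun u hu => ?_, ?_⟩
  · have hid : ((B : Matrix ι ι F)).map (RingHom.id F) = (B : Matrix ι ι F) := by ext i j; rfl
    have h1 : polar ⇑Q ((B : Matrix ι ι F) *ᵥ u) ((B : Matrix ι ι F) *ᵥ u) = 2 * (k * (u ⬝ᵥ u)) := by
      rw [polar_eq_sesq Q, sesq_mulVec, hid, hBval, Matrix.transpose_smul, Matrix.smul_mul, Matrix.smul_mul,
        Matrix.mul_smul, hPG, smul_smul, smul_smul]
      simp only [sesq, RingHom.coe_id, Function.id_comp, Matrix.smul_mulVec, Matrix.one_mulVec,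
        dotProduct_smul, smul_eq_mul]
      rw [hak]
      field_simp
    rw [Orth.pl_self] at h1
    rw [mul_left_cancel₀ h2 h1]
    exact mul_mem hkmem (sum_mem fun i _ => mul_mem (hu i) (hu i))
  · intro g hg
    obtain ⟨π, hπ⟩ := hle hg
    have hgd : ∀ i, ∃ s : F, (s = 1 ∨ s = -1) ∧ (g : Matrix ι ι F) *ᵥ d i = s • d (π i) := by
      intro i
      have hmem : (g : Matrix ι ι F) *ᵥ d i ∈ D (π i) := by rw [← hπ i]; exact ⟨_, hdD i, rfl⟩
      obtain ⟨c, hc⟩ := hdline _ _ hmem
      obtain ⟨c', hc'⟩ := hdline _ _ (hdD (π i))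
      have hc'0 : c' ≠ 0 := fun h => hdne (π i) (by rw [hc', h, zero_smul])
      refine ⟨c / c', ?_, by rw [hc, hc', smul_smul, div_mul_cancel₀ _ hc'0]⟩
      have h1 : Q ((g : Matrix ι ι F) *ᵥ d i) = a := (Orth.Q_ap ⟨g, hH hg⟩ (d i)).trans (hQd i)
      rw [show (g : Matrix ι ι F) *ᵥ d i = (c / c') • d (π i) by
        rw [hc, hc', smul_smul, div_mul_cancel₀ _ hc'0], Orth.Q_smul, hQd] at h1
      exact mul_self_eq_one_iff.mp ((mul_eq_right₀ ha0).mp h1)
    have hent : ∀ i j, cj hP0u.unit⁻¹ (g : Matrix ι ι F) i j ∈ F₁ := by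
      intro i j
      obtain ⟨s, hs, hgj⟩ := hgd (φ j)
      have hcol' : cj hP0u.unit⁻¹ (g : Matrix ι ι F) *ᵥ Pi.single j 1 = Pi.single (φ.symm (π (φ j))) s := by
        rw [cj_apply, inv_inv, ← Matrix.mulVec_mulVec, ← Matrix.mulVec_mulVec,
          show ((hP0u.unit : GL ι F) : Matrix ι ι F) *ᵥ Pi.single j 1 = d (φ j) from hcol j, hgj,
          show s • d (π (φ j)) = ((hP0u.unit : GL ι F) : Matrix ι ι F) *ᵥ Pi.single (φ.symm (π (φ j))) s by
            rw [show (Pi.single (φ.symm (π (φ j))) s : ι → F) = s • Pi.single (φ.symm (π (φ j))) 1 by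
              rw [← Pi.single_smul, smul_eq_mul, mul_one], Matrix.mulVec_smul,
              show ((hP0u.unit : GL ι F) : Matrix ι ι F) *ᵥ Pi.single (φ.symm (π (φ j))) 1 = d (π (φ j)) by
                rw [IsUnit.unit_spec, hcol, Equiv.apply_symm_apply]],
          Matrix.mulVec_mulVec, Units.inv_mul, Matrix.one_mulVec]
      have h1 := congrFun hcol' i
      rw [Matrix.mulVec_single_one] at h1
      rw [show cj hP0u.unit⁻¹ (g : Matrix ι ι F) i j = _ from h1, Pi.single_apply]
      split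
      · rcases hs with rfl | rfl
        · exact one_mem _
        · exact neg_mem (one_mem _)
      · exact zero_mem _
    simp only [Geo.subfieldSubgroup, B, conj_scalar_mul hQ]
    refine ⟨(hP0u.unit⁻¹ * g * hP0u.unit), ?_, by simp [mul_assoc]⟩
    refine mem_range_sup_scalars 1 fun i j => ?_
    rw [Units.val_one, one_mul]
    have := hent i j
    rw [cj_coe, inv_inv] at this
    exact this

set_option maxHeartbeats 800000 in
/-- A normalised adjoint-closed field has self-adjoint elements and degree less than the dimension. -/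
theorem orth_field (h2 : (2 : F) ≠ 0) (hodd : Odd (Fintype.card ι)) (hn : 2 ≤ Fintype.card ι)
    {H : Subgroup (GL ι F)} (hH : H ≤ Cfsg.isometryGroup F ⇑Q) (hS : H ≤ Geo.specialLinear ι F)
    (hirr : Geo.ActsIrreducibly (Geo.matrixSet H))
    (h : FField (RingHom.id F) (gramQ Q) (H ⊔ Geo.scalars ι F)) :
    ∃ (r : ℕ) (K : Subalgebra F (Matrix ι ι F)), r.Prime ∧ Fintype.card ι ≠ r ∧ Geo.IsFieldSubalgebra r K ∧
      Geo.IsSelfAdjointFor (polar ⇑Q) K ∧ H ≤ Geo.subalgebraNormalizer K := by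
  classical
  have : Nonempty ι := Fintype.card_pos_iff.mp hodd.pos
  have : Finite (Matrix ι ι F) := inferInstanceAs (Finite (ι → ι → F))
  obtain ⟨r, K, hr, hrn, hK, hadj, hle⟩ := h
  have hHK : H ≤ Geo.subalgebraNormalizer K := le_sup_left.trans hle
  have hfield : IsField K := ⟨exists_pair_ne _, fun x y => Subtype.ext (hK.comm _ x.2 _ y.2), fun {x} hx => by
    obtain ⟨y, hy, hxy⟩ := hK.inv _ x.2 (fun h0 => hx (Subtype.ext h0))
    exact ⟨⟨y, hy⟩, Subtype.ext hxy⟩⟩
  letI : Field K := hfield.toField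
  have : FiniteDimensional F K := Module.Finite.of_finite
  have hherm := herm_gramQ hQ
  let τ : K →ₐ[F] K :=
    { toFun := fun x => ⟨adj (RingHom.id F) (gramQ Q) x, hadj _ x.2⟩
      map_one' := Subtype.ext (adj_one hherm)
      map_mul' := fun x y => Subtype.ext (by
        show adj (RingHom.id F) (gramQ Q) ((x : Matrix ι ι F) * (y : Matrix ι ι F)) = _
        rw [adj_mul hherm]
        exact hK.comm _ (hadj _ y.2) _ (hadj _ x.2))
      map_zero' := Subtype.ext adj_zero
      map_add' := fun x y => Subtype.ext (adj_add _ _)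
      commutes' := fun c => Subtype.ext (by
        show adj (RingHom.id F) (gramQ Q) (algebraMap F (Matrix ι ι F) c) = algebraMap F (Matrix ι ι F) c
        rw [Algebra.algebraMap_eq_smul_one, adj_smul, adj_one hherm]; rfl) }
  have hsa : ∀ k ∈ K, adj (RingHom.id F) (gramQ Q) k = k := fun k hk => congrArg Subtype.val
    (involution_trivial (F := F) (L := K) (by rw [hK.finrank_eq]; exact hodd.of_dvd_nat hrn) τ
      (fun x => Subtype.ext (adj_adj hherm _)) ⟨k, hk⟩)
  have hself : Geo.IsSelfAdjointFor (polar ⇑Q) K := fun k hk u v => by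
    rw [polar_eq_gram, form_adj hherm, hsa k hk]
  by_cases hrn' : Fintype.card ι = r
  swap
  · exact ⟨r, K, hr, hrn', hK, hself, hHK⟩
  exfalso
  -- the centraliser of `K` is `K`
  have hcent : ∀ M : Matrix ι ι F, (∀ k ∈ K, M * k = k * M) → M ∈ K := by
    intro M hM
    obtain ⟨v, hv⟩ := exists_ne (0 : ι → F)
    let ev : K →ₗ[F] (ι → F) :=
      { toFun := fun k => (k : Matrix ι ι F) *ᵥ v
        map_add' := fun a b => Matrix.add_mulVec _ _ _
        map_smul' := fun c a => Matrix.smul_mulVec c _ _ }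
    have hinj : Function.Injective ev := by
      rw [injective_iff_map_eq_zero]
      intro k hk
      by_contra hk0
      obtain ⟨y, -, hy⟩ := hK.inv _ k.2 (fun h0 => hk0 (Subtype.ext h0))
      refine hv ?_
      calc v = ((k : Matrix ι ι F) * y) *ᵥ v := by rw [hy, Matrix.one_mulVec]
        _ = (y * (k : Matrix ι ι F)) *ᵥ v := by rw [mul_eq_one_comm.mp hy, hy]
        _ = y *ᵥ ((k : Matrix ι ι F) *ᵥ v) := (Matrix.mulVec_mulVec _ _ _).symm
        _ = 0 := by rw [show (k : Matrix ι ι F) *ᵥ v = 0 from hk, Matrix.mulVec_zero]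
    have hsurj : Function.Surjective ev := (LinearMap.injective_iff_surjective_of_finrank_eq_finrank
      (by rw [hK.finrank_eq, Module.finrank_fintype_fun_eq_card, hrn'])).mp hinj
    obtain ⟨k, hk⟩ := hsurj (M *ᵥ v)
    have hk' : (k : Matrix ι ι F) *ᵥ v = M *ᵥ v := hk
    have hMk : M = (k : Matrix ι ι F) := by
      refine Matrix.toLin'.injective (LinearMap.ext fun w => ?_)
      obtain ⟨l, hl⟩ := hsurj w
      rw [Matrix.toLin'_apply, Matrix.toLin'_apply, ← hl]
      show M *ᵥ ((l : Matrix ι ι F) *ᵥ v) = (k : Matrix ι ι F) *ᵥ ((l : Matrix ι ι F) *ᵥ v)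
      rw [Matrix.mulVec_mulVec, hM _ l.2, ← Matrix.mulVec_mulVec, ← hk', Matrix.mulVec_mulVec,
        Matrix.mulVec_mulVec, hK.comm _ l.2 _ k.2]
    exact hMk ▸ k.2
  have hone : ∀ x ∈ H, (x : Matrix ι ι F) ∈ K → x = 1 := by
    intro x hx hxK
    have h1 : ((x⁻¹ : GL ι F) : Matrix ι ι F) = (x : Matrix ι ι F) := by
      rw [← adjB_of_isometry hQ (hH hx), ← adj_gramQ, hsa _ hxK]
    have h3 : (⟨(x : Matrix ι ι F), hxK⟩ : K) * ⟨(x : Matrix ι ι F), hxK⟩ = 1 := Subtype.ext (by
      show (x : Matrix ι ι F) * (x : Matrix ι ι F) = 1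
      nth_rewrite 1 [← h1]
      exact Units.inv_mul x)
    rcases mul_self_eq_one_iff.mp h3 with h4 | h4
    · exact Units.ext (congrArg Subtype.val h4)
    · exfalso
      have h5 : (x : Matrix ι ι F) = -1 := congrArg Subtype.val h4
      have h6 : (x : Matrix ι ι F).det = 1 := congrArg Units.val (MonoidHom.mem_ker.mp (hS hx))
      rw [h5, Matrix.det_neg, Matrix.det_one, mul_one, hodd.neg_one_pow] at h6
      exact h2 (by linear_combination -h6)
  have hcomm : ∀ g ∈ H, ∀ g' ∈ H, g * g' = g' * g := by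
    intro g hg g' hg'
    let c : ∀ g ∈ H, K →ₐ[F] K := fun g hg => AlgHom.codRestrict ((cj g).comp K.val) K fun k => by
      show cj g (k : Matrix ι ι F) ∈ K
      rw [cj_apply]
      exact (hHK hg _).mp k.2
    have hc : ∀ (g : GL ι F) (hg : g ∈ H) (k : K), ((c g hg k : K) : Matrix ι ι F) = cj g k := fun _ _ _ => rfl
    have hab : ∀ φ ψ : K →ₐ[F] K, φ.comp ψ = ψ.comp φ := by
      intro φ ψ
      obtain ⟨i, rfl⟩ := (FiniteField.bijective_frobeniusAlgHom_pow F K).2 φ
      obtain ⟨j, rfl⟩ := (FiniteField.bijective_frobeniusAlgHom_pow F K).2 ψ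
      exact pow_mul_comm _ _ _
    rw [← commutatorElement_eq_one_iff_mul_comm]
    refine hone _ ?_ (hcent _ fun k hk => ?_)
    · rw [commutatorElement_def]
      exact mul_mem (mul_mem (mul_mem hg hg') (inv_mem hg)) (inv_mem hg')
    rw [← cj_eq_self_iff, commutatorElement_def]
    set x := c g⁻¹ (inv_mem hg) (c g'⁻¹ (inv_mem hg') ⟨k, hk⟩) with hx
    have h1 := congrArg Subtype.val (AlgHom.congr_fun (hab (c g hg) (c g' hg')) x)
    simp only [AlgHom.comp_apply, hc, hx, cj_cj] at h1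
    rw [show g * g' * g⁻¹ * g'⁻¹ = g * (g' * (g⁻¹ * g'⁻¹)) by simp [mul_assoc], h1]
    simp [cj_apply]
  rcases clifford_abelian (hrn' ▸ hr) hirr (normBy_self H) hcomm (not_all_scalar hn hirr) with
    ⟨e, he⟩ | ⟨hf, -⟩
  · obtain ⟨i, j, hij⟩ := Fintype.exists_pair_of_one_lt_card (show 1 < Fintype.card ι by omega)
    obtain ⟨g, hg, hgij⟩ := he.trans i j
    have hfix : cj g (e i) = e i := by
      have hcA := alg_comm hcomm
      rw [cj_eq_self_iff]
      exact hcA _ (Algebra.subset_adjoin (mem_matrixSet hg)) _ (he.mem i)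
    rw [hfix] at hgij
    have h1 := he.ortho i j hij
    rw [← hgij, he.idem] at h1
    have h3 := he.rank_one i
    rw [h1, map_zero, LinearMap.range_zero, finrank_bot] at h3
    omega
  · exact no_field hQ hodd hH (not_all_scalar hn hirr) hf

/-- There is no symplectic-type situation in odd dimension. -/
theorem orth_sympData_false (h2 : (2 : F) ≠ 0) (hodd : Odd (Fintype.card ι)) (hn : 2 ≤ Fintype.card ι)
    {H : Subgroup (GL ι F)} (hH : H ≤ Cfsg.isometryGroup F ⇑Q) (hS : H ≤ Geo.specialLinear ι F)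
    (hgood : Good (H ⊔ Geo.scalars ι F)) {r m z p f : ℕ} {R : Subgroup (GL ι F)}
    (hD : SympData (H ⊔ Geo.scalars ι F) r m z p f R) : False := by
  classical
  have : Nonempty ι := Fintype.card_pos_iff.mp hodd.pos
  obtain ⟨P, hPR, hPH, -, hspan⟩ := sympData_isometries hgood hD
  have hcomm : ∀ x ∈ P, ∀ y ∈ P, x * y = y * x := by
    intro x hx y hy
    obtain ⟨b, hb⟩ := (Geo.mem_scalars_iff _).mp (hD.comm x (hPR hx) y (hPR hy))
    have hmem : ⁅x, y⁆ ∈ H := by
      rw [commutatorElement_def]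
      exact mul_mem (mul_mem (mul_mem (hPH hx) (hPH hy)) (inv_mem (hPH hx))) (inv_mem (hPH hy))
    have h1 := gram_of_isometry (hH hmem)
    rw [hb, Matrix.transpose_smul, Matrix.transpose_one, Matrix.smul_mul, Matrix.mul_smul, one_mul, mul_one,
      smul_smul] at h1
    have h3 : (b : F) * b = 1 := by
      obtain ⟨i, j, hij⟩ : ∃ i j, gramQ Q i j ≠ 0 := by
        by_contra hc
        simp only [not_exists, not_not] at hc
        exact gramQ_det Q hQ (by rw [show gramQ Q = 0 from Matrix.ext hc, Matrix.det_zero])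
      have e1 := congrFun (congrFun h1 i) j
      simp only [Matrix.smul_apply, smul_eq_mul] at e1
      exact mul_right_cancel₀ hij (e1.trans (one_mul _).symm)
    have h4 : (b : F) ^ Fintype.card ι = 1 := by
      have h5 : ((⁅x, y⁆ : GL ι F) : Matrix ι ι F).det = 1 := congrArg Units.val (MonoidHom.mem_ker.mp (hS hmem))
      rwa [hb, Matrix.det_smul, Matrix.det_one, mul_one] at h5
    obtain ⟨k, hk⟩ := hodd
    rw [hk, pow_succ, pow_mul, sq, h3, one_pow, one_mul] at h4
    rw [← commutatorElement_eq_one_iff_mul_comm]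
    exact Units.ext (by rw [hb, h4, one_smul, Units.val_one])
  obtain ⟨i, j, hij⟩ := Fintype.exists_pair_of_one_lt_card (show 1 < Fintype.card ι by omega)
  have hall : ∀ A B : Matrix ι ι F, A * B = B * A := by
    intro A B
    refine comm_of_span hspan A ?_ B
    rintro _ ⟨x, hx, rfl⟩
    refine (comm_of_span hspan (x : Matrix ι ι F) ?_ A).symm
    rintro _ ⟨y, hy, rfl⟩
    exact congrArg Units.val (hcomm x hx y hy)
  have h6 := congrFun (congrFun (hall (Matrix.single i j (1 : F)) (Matrix.single j i (1 : F))) i) i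
  simp [hij] at h6

/-- A core is residual or in a subfield class. -/
theorem orth_core (h2 : (2 : F) ≠ 0) (hgram : ∀ (F₁ : Subfield F) i j, gramQ Q i j ∈ F₁)
    (hodd : Odd (Fintype.card ι)) {H P : Subgroup (GL ι F)} (hH : H ≤ Cfsg.isometryGroup F ⇑Q)
    (hP : IsCore H P) :
    (∃ (F₁ : Subfield F) (r : ℕ) (B : GL ι F), r.Prime ∧ Fintype.card F = Nat.card F₁ ^ r ∧
      Geo.IsQuadFormRationalStructure (⇑Q) F₁ B ∧ H ≤ Geo.subfieldSubgroup F₁ B) ∨
    Geo.InOrthogonalResidualClass H := by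
  classical
  have : Nonempty ι := Fintype.card_pos_iff.mp hodd.pos
  have hPI : P ≤ Cfsg.isometryGroup F ⇑Q := hP.le.trans hH
  by_cases hsub : ∃ F₀ : Subfield F, F₀ ≠ ⊤ ∧ Geo.RealisableOver F₀ (Geo.matrixSet P)
  · obtain ⟨F₀, hF₀, hr⟩ := hsub
    obtain ⟨F₁, r, B, hr', hc, -, hform, hle⟩ :=
      exists_quad_rational hQ h2 hgram hodd hP.normal hPI hP.span_eq hP.absIrred hF₀ hr
    exact Or.inl ⟨F₁, r, B, hr', hc, hform, hle⟩
  refine Or.inr ⟨P, ⟨hP.le, hP.normal, hP.perfect, hP.simple, hP.nonabelian, hP.centralizer_scalar,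
      hP.absIrred, fun F₀ h h' => hsub ⟨F₀, h, h'⟩⟩, ?_⟩
  rintro ⟨σ, f, hf, hfP⟩
  refine hsub ⟨RingHom.eqLocusField (σ : F →+* F) (RingHom.id F), fun htop => hf.ne_refl (RingEquiv.ext fun x => ?_),
    realisableOver_of_trace hP.span_eq (scalar_of_span hP.span_eq) _ fun x hx => ?_⟩
  · exact (show x ∈ RingHom.eqLocusField (σ : F →+* F) (RingHom.id F) from htop ▸ Subfield.mem_top x)
  · have h1 := trace_inv_of_unitary hf hfP x hx
    have h3 : ((x⁻¹ : GL ι F) : Matrix ι ι F).trace = (x : Matrix ι ι F).trace := by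
      have hI : Inv (RingHom.id F) P (gramQ Q) := fun g hg => by
        rw [RingHom.coe_id, Matrix.map_id]; exact gram_of_isometry (hPI hg)
      simpa using hI.trace_inv (isUnit_gram hQ) hx
    show (σ : F →+* F) _ = _
    rw [RingHom.id_apply]
    exact h1.symm.trans h3

end Cfsg.Agent.Aschbacher
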