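/-
Geometric subgroups do not contain the group Ω of a non-degenerate quadratic form (any characteristic, dimension ≥ 5).
Main results: `card_lower_gen`, `not_omega_le_mdecomp`, `not_omega_le_field`, `not_omega_le_tensor`,
`not_omega_le_wreath`, `exists_frame_three`.
-/
import Cfsg.Agent.Lib.PrimeDim.OrthBasic
import Cfsg.Agent.Lib.Orth.DecompTools
import Cfsg.Agent.Lib.Orth.TensorThree
import Cfsg.Agent.Lib.Transvect.TensorFrame

set_option autoImplicit false

namespace Cfsg.Agent.Aschbacher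

open Matrix Module
open QuadraticMap (polar)
open Orth (HPair perp eich ap IsoGrp)

variable {ι : Type} [Fintype ι] [DecidableEq ι] {F : Type*} [Field F] [Fintype F]
variable {Q : QuadraticForm F (ι → F)} (hQ : Q.polarBilin.Nondegenerate) (hn : 5 ≤ Fintype.card ι)
include hQ hn

theorem omega_pair {e f : ι → F} (hp : HPair Q e f) : Cfsg.Omega F ⇑Q = Orth.eichPair Q e f :=
  Orth.omega_eq_eichPair ⟨hQ, .inr (by omega)⟩ (by omega) (.inr hn) hp

theorem eich_mem_omega (u w : ι → F) : eich Q u w ∈ Cfsg.Omega F ⇑Q :=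
  Orth.eichGen_le_omega hQ (by omega) (.inr hn) (Orth.eich_mem_eichGen u w)

theorem singular_transitive {u v : ι → F} (hu : u ≠ 0) (hu0 : Q u = 0) (hv : v ≠ 0) (hv0 : Q v = 0) :
    ∃ g ∈ Cfsg.Omega F ⇑Q, ∃ c : F, c ≠ 0 ∧ ap g u = c • v := by
  obtain ⟨e, f, hp⟩ := Orth.exists_hpair hQ (by omega)
  rw [omega_pair hQ hn hp]
  obtain ⟨g1, hg1, c1, hc1, h1⟩ := hp.exists_move_singular hQ (by omega) hu hu0
  obtain ⟨g2, hg2, c2, hc2, h2'⟩ := hp.exists_move_singular hQ (by omega) hv hv0
  refine ⟨g2⁻¹ * g1, mul_mem (inv_mem hg2) hg1, c1 / c2, div_ne_zero hc1 hc2, ?_⟩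
  rw [Orth.ap_mul, h1, show c1 • f = (c1 / c2) • (c2 • f) by rw [smul_smul, div_mul_cancel₀ _ hc2], ← h2',
    map_smul, Orth.ap_inv_ap]

/-- A set stable under Ω with a non-zero vector is large. -/
theorem card_lower_gen {x : ι → F} (hx : x ≠ 0) {S : Type*} [Finite S] (π : S → (ι → F))
    (hS : ∀ g ∈ Cfsg.Omega F ⇑Q, ∃ s, π s = ap g x) :
    Fintype.card F ^ (Fintype.card ι - 2) ≤ Nat.card S := by
  obtain ⟨e, f, hp⟩ := Orth.exists_hpair hQ (by omega)
  have hfe : polar ⇑Q f e = 1 := by rw [Orth.pl_comm]; exact hp.pf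
  have hff : polar ⇑Q f f = 0 := by rw [Orth.pl_self, hp.qf, mul_zero]
  have hee : polar ⇑Q e e = 0 := by rw [Orth.pl_self, hp.qe, mul_zero]
  let v : perp Q e f → (ι → F) := fun w => (Q x - Q (w : ι → F)) • e + (1 : F) • f + (w : ι → F)
  have hQv : ∀ w, Q (v w) = Q x := fun w => by
    rw [hp.Q_comb w.2]; ring
  have hfv : ∀ w, polar ⇑Q f (v w) = Q x - Q (w : ι → F) := fun w => by
    simp only [v, Orth.pl_add_right, Orth.pl_smul_right, hfe, hff, (Orth.mem_perp.1 w.2).2]; ring
  have hev : ∀ w, polar ⇑Q e (v w) = 1 := fun w => by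
    simp only [v, Orth.pl_add_right, Orth.pl_smul_right, hp.pf, hee, (Orth.mem_perp.1 w.2).1]; ring
  have hvinj : Function.Injective v := fun w w' h => by
    have h1 := (hfv w).symm.trans ((congrArg _ h).trans (hfv w'))
    refine Subtype.ext ?_
    have h' := h
    simp only [v] at h'
    rw [h1] at h'
    exact add_left_cancel h'
  have hv0 : ∀ w, v w ≠ 0 := fun w h => by
    have := hev w
    rw [h, Orth.pl_zero_right] at this
    exact zero_ne_one this
  obtain ⟨Ψ, hinj, hΨ⟩ : ∃ Ψ : perp Q e f → (ι → F), Function.Injective Ψ ∧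
      ∀ w, ∃ g ∈ Cfsg.Omega F ⇑Q, ap g x = Ψ w := by
    have hΩ := omega_pair hQ hn hp
    by_cases hQx : Q x = 0
    · choose g hg c hc hgv using fun w => singular_transitive hQ hn hx hQx (hv0 w) ((hQv w).trans hQx)
      refine ⟨fun w => c w • v w, fun w w' h => hvinj ?_, fun w => ⟨g w, hg w, hgv w⟩⟩
      have h1 : c w = c w' := by
        have := congrArg (polar ⇑Q e) h
        simpa [Orth.pl_smul_right, hev] using this
      simp only [h1] at h
      exact smul_right_injective _ (hc w') h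
    · choose g hg hgv using fun w => hp.exists_move_norm hQ (by omega) (x := v w) (by rw [hQv]; exact hQx)
      obtain ⟨g0, hg0, hg0x⟩ := hp.exists_move_norm hQ (by omega) hQx
      refine ⟨v, hvinj, fun w => ⟨(g w)⁻¹ * g0, hΩ ▸ mul_mem (inv_mem (hg w)) hg0, ?_⟩⟩
      rw [Orth.ap_mul, hg0x, show e + Q x • f = e + Q (v w) • f by rw [hQv], ← hgv, Orth.ap_inv_ap]
  have hex : ∀ w, ∃ s, π s = Ψ w := fun w => by
    obtain ⟨g, hg, h⟩ := hΨ w
    rw [← h]
    exact hS g hg
  choose s hs using hex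
  have h1 : Nat.card (perp Q e f) ≤ Nat.card S :=
    Nat.card_le_card_of_injective s fun a b h => hinj (by rw [← hs, ← hs, h])
  refine le_trans ?_ h1
  rw [Module.natCard_eq_pow_finrank (K := F) (V := perp Q e f), Nat.card_eq_fintype_card]
  have := Orth.card_le_finrank_perp (Q := Q) e f
  exact Nat.pow_le_pow_right Fintype.card_pos (by omega)

/-- A decomposition with few, small members is moved by Ω. -/
theorem not_omega_le_mdecomp {t m : ℕ} {D : Fin t → Submodule F (ι → F)} (hD : Geo.IsMDecomposition m D)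
    (hsize : t * Fintype.card F ^ m < Fintype.card F ^ (Fintype.card ι - 2)) :
    ¬ Geo.omegaGL ⇑Q ≤ Geo.decompositionStabilizer D := by
  classical
  intro hle
  let i : Fin t := ⟨0, by have := hD.two_le; omega⟩
  obtain ⟨x, hx, hx0⟩ := Submodule.exists_mem_ne_zero_of_ne_bot (p := D i) fun h => by
    have := hD.finrank_eq i
    rw [h, finrank_bot] at this
    exact hD.pos.ne this
  let b : ∀ j, Basis (Fin m) F (D j) := fun j => Module.finBasisOfFinrankEq F (D j) (hD.finrank_eq j)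
  have h1 := card_lower_gen hQ hn hx0 (S := Fin t × (Fin m → F))
    (fun s => (((b s.1).equivFun.symm s.2 : D s.1) : ι → F)) fun g hg => by
      obtain ⟨π, hπ⟩ := hle (Orth.coe_mem_omegaGL.2 hg)
      have hmem : ap g x ∈ D (π i) := by
        rw [← hπ i]; exact ⟨_, hx, rfl⟩
      exact ⟨(π i, (b (π i)).equivFun ⟨_, hmem⟩), by simp⟩
  rw [Nat.card_prod, Nat.card_fun, Nat.card_fin, Nat.card_eq_fintype_card, Nat.card_fin] at h1
  omega

/-- Ω normalises no proper extension field inside the matrix algebra. -/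
theorem not_omega_le_field {r : ℕ} (hr : 2 ≤ r) {K : Subalgebra F (Matrix ι ι F)}
    (hK : Geo.IsFieldSubalgebra r K) : ¬ Geo.omegaGL ⇑Q ≤ Geo.subalgebraNormalizer K := by
  classical
  intro hle
  have : Nonempty ι := Fintype.card_pos_iff.mp (by omega)
  obtain ⟨e, f, hp⟩ := Orth.exists_hpair hQ (by omega)
  have hperp := Orth.card_le_finrank_perp (Q := Q) e f
  have he0 : e ≠ 0 := fun h => by
    have := hp.pf
    rw [h, Orth.pl_zero_left] at this
    exact zero_ne_one this
  -- every Eichler element commutes with K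
  have hcomm : ∀ w, polar ⇑Q e w = 0 → ∀ k ∈ K, ∀ x,
      ((eich Q e w : IsoGrp Q) : GL ι F).1 *ᵥ (k *ᵥ x) = k *ᵥ (((eich Q e w : IsoGrp Q) : GL ι F).1 *ᵥ x) := by
    intro w hw k hk x
    set g : GL ι F := ((eich Q e w : IsoGrp Q) : GL ι F) with hg
    have hk' : PrimeDim.cj g k ∈ K := (hle (Orth.coe_mem_omegaGL.2 (eich_mem_omega hQ hn e w)) k).1 hk
    have hgx : ∀ y, polar ⇑Q e y = 0 → polar ⇑Q w y = 0 → g.1 *ᵥ y = y := fun y h1 h2 => by
      rw [hg, ← Orth.ap_apply, Orth.eich_ap hp.qe hw, h1, h2]; simp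
    let φ : (ι → F) →ₗ[F] F × F × F × F :=
      (Q.polarBilin e).prod ((Q.polarBilin w).prod (((Q.polarBilin e).comp (Matrix.toLin' k)).prod
        ((Q.polarBilin w).comp (Matrix.toLin' k))))
    obtain ⟨y, hy, hy0⟩ := Submodule.exists_mem_ne_zero_of_ne_bot (p := LinearMap.ker φ) fun h => by
      have := LinearMap.finrank_le_finrank_of_injective (LinearMap.ker_eq_bot.1 h)
      simp [Module.finrank_fintype_fun_eq_card] at this
      omega
    have hy' : φ y = 0 := hy
    have y1 : polar ⇑Q e y = 0 := congrArg Prod.fst hy'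
    have y2 : polar ⇑Q w y = 0 := congrArg (fun z => z.2.1) hy'
    have y3 : polar ⇑Q e (k *ᵥ y) = 0 := congrArg (fun z => z.2.2.1) hy'
    have y4 : polar ⇑Q w (k *ᵥ y) = 0 := congrArg (fun z => z.2.2.2) hy'
    have hkd : (PrimeDim.cj g k - k) *ᵥ y = 0 := by
      have h1 := PrimeDim.mulVec_cj g k y
      rw [hgx y y1 y2, hgx (k *ᵥ y) y3 y4] at h1
      rw [Matrix.sub_mulVec, h1, sub_self]
    have heq : PrimeDim.cj g k = k := by
      by_contra hne
      obtain ⟨z, hz, hz1⟩ := hK.inv _ (K.sub_mem hk' hk) (sub_ne_zero.mpr hne)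
      rw [hK.comm _ (K.sub_mem hk' hk) z hz] at hz1
      apply hy0
      rw [← Matrix.one_mulVec y, ← hz1, ← Matrix.mulVec_mulVec, hkd, Matrix.mulVec_zero]
    rw [PrimeDim.cj_eq_self_iff] at heq
    rw [Matrix.mulVec_mulVec, Matrix.mulVec_mulVec, heq]
  -- so K fixes the line of e
  have hline : ∀ w ∈ perp Q e f, w ≠ 0 → ∀ k ∈ K, k *ᵥ e ∈ Submodule.span F {e, w} := by
    intro w hw hw0 k hk
    have hwe := (Orth.mem_perp.1 hw).1
    have hwS : w ∉ Submodule.span F {e} := fun h => by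
      obtain ⟨c, rfl⟩ := Submodule.mem_span_singleton.1 h
      have := (Orth.mem_perp.1 hw).2
      rw [Orth.pl_smul_right, Orth.pl_comm, hp.pf, mul_one] at this
      rw [this, zero_smul] at hw0
      exact hw0 rfl
    obtain ⟨x, -, hx, hxw⟩ := Orth.exists_dual_in hQ (W := ⊤)
      (fun z _ hz => by
        obtain ⟨y, hy⟩ := Orth.exists_polar_ne hQ hz
        exact ⟨y, Submodule.mem_top, hy⟩) (le_top (a := Submodule.span F {e})) Submodule.mem_top hwS
    have hxe : polar ⇑Q e x = 0 := by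
      rw [Orth.pl_comm]; exact hx e (Submodule.mem_span_singleton_self e)
    rw [Orth.pl_comm] at hxw
    have h := hcomm w hwe k hk x
    rw [← Orth.ap_apply, ← Orth.ap_apply, Orth.eich_ap hp.qe hwe, Orth.eich_ap hp.qe hwe, hxe, hxw, mul_zero,
      add_zero, zero_smul, add_zero, one_smul, Matrix.mulVec_sub] at h
    have h' : k *ᵥ e = (polar ⇑Q w (k *ᵥ x) + Q w * polar ⇑Q e (k *ᵥ x)) • e - polar ⇑Q e (k *ᵥ x) • w := by
      refine (sub_sub_cancel (k *ᵥ x) (k *ᵥ e)).symm.trans ?_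
      rw [← h]
      abel
    rw [h']
    exact sub_mem (Submodule.smul_mem _ _ (Submodule.subset_span (by simp)))
      (Submodule.smul_mem _ _ (Submodule.subset_span (by simp)))
  obtain ⟨w, hw, hw0⟩ := Submodule.exists_mem_ne_zero_of_ne_bot (p := perp Q e f) fun h => by
    rw [h, finrank_bot] at hperp; omega
  obtain ⟨w', hw', hw'n⟩ : ∃ w' ∈ perp Q e f, w' ∉ Submodule.span F {e, w} := by
    by_contra h
    push Not at h
    have := (Submodule.finrank_mono (show perp Q e f ≤ Submodule.span F {e, w} from h)).trans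
      (finrank_span_le_card _)
    have h2 : ({e, w} : Set (ι → F)).toFinset.card ≤ 2 := by
      simp only [Set.toFinset_insert, Set.toFinset_singleton]
      exact Finset.card_le_two
    omega
  have hw'0 : w' ≠ 0 := fun h => hw'n (h ▸ zero_mem _)
  have hKbot : K = ⊥ := by
    refine eq_bot_iff.mpr fun k hk => ?_
    obtain ⟨a, b, h1⟩ := Submodule.mem_span_pair.1 (hline w hw hw0 k hk)
    obtain ⟨a', b', h2⟩ := Submodule.mem_span_pair.1 (hline w' hw' hw'0 k hk)
    have hb' : b' = 0 := by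
      by_contra hb
      refine hw'n (Submodule.mem_span_pair.2 ⟨b'⁻¹ * (a - a'), b'⁻¹ * b, ?_⟩)
      rw [mul_smul, mul_smul, ← smul_add, sub_smul, sub_add_eq_add_sub, h1, ← h2, add_sub_cancel_left,
        smul_smul, inv_mul_cancel₀ hb, one_smul]
    rw [hb', zero_smul, add_zero] at h2
    have hz : (k - a' • (1 : Matrix ι ι F)) = 0 := by
      by_contra hne
      have hm := K.sub_mem hk (K.smul_mem K.one_mem a')
      obtain ⟨z, hz, hz1⟩ := hK.inv _ hm hne
      rw [hK.comm _ hm z hz] at hz1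
      apply he0
      rw [← Matrix.one_mulVec e, ← hz1, ← Matrix.mulVec_mulVec, Matrix.sub_mulVec, Matrix.smul_mulVec,
        Matrix.one_mulVec, h2, sub_self, Matrix.mulVec_zero]
    rw [sub_eq_zero.1 hz]
    exact Subalgebra.smul_mem _ (one_mem _) a'
  have h1 := hK.finrank_eq
  rw [hKbot, Subalgebra.finrank_bot] at h1
  omega

/-- Ω preserves no tensor decomposition with small factors. -/
theorem not_omega_le_tensor {d t : ℕ} (hd : 1 ≤ d) (ht : 1 ≤ t) (hsize : d + t < Fintype.card ι - 2)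
    (e : ι ≃ Fin d × Fin t) (P : GL ι F) :
    ¬ Geo.omegaGL ⇑Q ≤ Geo.tensorProductSubgroup d t e P := by
  classical
  intro hle
  set a : Fin d → F := Pi.single ⟨0, hd⟩ 1 with ha
  set w : Fin t → F := Pi.single ⟨0, ht⟩ 1 with hw
  have hx : Transvect.tp e P a w ≠ 0 := by
    intro h
    rw [Transvect.tp_apply, Transvect.app_apply] at h
    have h' := congrFun (Matrix.mulVec_injective_iff_isUnit.2 P.isUnit
      (h.trans (Matrix.mulVec_zero _).symm)) (e.symm (⟨0, hd⟩, ⟨0, ht⟩))
    simp [ha, hw] at h'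
  have h1 := card_lower_gen hQ hn hx (S := (Fin d → F) × (Fin t → F))
    (fun s => Transvect.tp e P s.1 s.2) fun g hg => by
      obtain ⟨A, B, h⟩ := Transvect.exists_app_tp (hle (Orth.coe_mem_omegaGL.2 hg))
      exact ⟨(Transvect.app A a, Transvect.app B w), by rw [← h, Transvect.app_apply, Orth.ap_apply]⟩
  simp only [Nat.card_eq_fintype_card, Fintype.card_prod, Fintype.card_pi, Finset.prod_const, Finset.card_univ, Fintype.card_fin, ← pow_add] at h1
  exact absurd h1 (not_le.2 (Nat.pow_lt_pow_right Fintype.one_lt_card hsize))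

/-- Ω preserves no tensor power decomposition with small factors. -/
theorem not_omega_le_wreath {d t : ℕ} (hd : 1 ≤ d) (hsize : d * t < Fintype.card ι - 2)
    (e : ι ≃ (Fin t → Fin d)) (P : GL ι F) :
    ¬ Geo.omegaGL ⇑Q ≤ Geo.tensorWreathSubgroup d t e P := by
  classical
  intro hle
  let pv : (Fin t → Fin d → F) → (Fin t → Fin d) → F := fun u a => ∏ i, u i (a i)
  let T : GL (Fin t → Fin d) F → Prop := fun g => ∀ u, ∃ u', g.1 *ᵥ pv u = pv u'
  have hpure : ∀ g : GL (Fin t → Fin d) F, Geo.IsPureTensor d t g → T g := by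
    rintro g ⟨gs, hgs⟩ u
    refine ⟨fun i => (gs i : Matrix (Fin d) (Fin d) F) *ᵥ u i, funext fun a => ?_⟩
    show ∑ b, g.1 a b * ∏ i, u i (b i) = ∏ i, ∑ j, (gs i : Matrix (Fin d) (Fin d) F) (a i) j * u i j
    rw [Finset.prod_univ_sum, Fintype.piFinset_univ]
    refine Finset.sum_congr rfl fun b _ => ?_
    rw [hgs, ← Finset.prod_mul_distrib]
  have hperm : ∀ g : GL (Fin t → Fin d) F, Geo.IsFactorPermutation d t g → T g := by
    rintro g ⟨σ, hσ⟩ u
    refine ⟨fun i => u (σ.symm i), funext fun a => ?_⟩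
    show ∑ b, g.1 a b * ∏ i, u i (b i) = ∏ i, u (σ.symm i) (a i)
    simp only [hσ, ite_mul, one_mul, zero_mul, Finset.sum_ite_eq', Finset.mem_univ, if_true,
      Function.comp_apply]
    exact Fintype.prod_equiv σ _ _ fun i => by simp
  have hpow : ∀ g : GL (Fin t → Fin d) F, T g → ∀ k : ℕ, T (g ^ k) := by
    intro g hg k
    induction k with
    | zero => exact fun u => ⟨u, by simp⟩
    | succ k ih =>
      intro u
      obtain ⟨u1, h1⟩ := hg u
      obtain ⟨u2, h2⟩ := ih u1
      exact ⟨u2, by rw [pow_succ, Units.val_mul, ← Matrix.mulVec_mulVec, h1, h2]⟩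
  have : Finite (GL (Fin t → Fin d) F) := Finite.of_injective Units.val Units.val_injective
  have hinv : ∀ g : GL (Fin t → Fin d) F, T g → T g⁻¹ := fun g hg => by
    have hk : g⁻¹ = g ^ (orderOf g - 1) := inv_eq_of_mul_eq_one_right (by
      rw [← pow_succ', Nat.sub_add_cancel (orderOf_pos g), pow_orderOf_eq_one])
    rw [hk]
    exact hpow g hg _
  have hall : ∀ g ∈ Geo.tensorWreathStandard d t F, T g := by
    intro g hg
    induction hg using Subgroup.closure_induction with
    | mem x hx => exact hx.elim (hpure x) (hperm x)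
    | one => exact fun u => ⟨u, by simp⟩
    | mul x y _ _ hx hy =>
      intro u
      obtain ⟨u1, h1⟩ := hy u
      obtain ⟨u2, h2⟩ := hx u1
      exact ⟨u2, by rw [Units.val_mul, ← Matrix.mulVec_mulVec, h1, h2]⟩
    | inv x _ hx => exact hinv x hx
  let π : (Fin t → Fin d → F) → (ι → F) := fun u => P.1 *ᵥ (pv u ∘ e)
  set u0 : Fin t → Fin d → F := fun _ => Pi.single ⟨0, hd⟩ 1 with hu0
  have hx : π u0 ≠ 0 := by
    intro h
    have h' := congrFun (Matrix.mulVec_injective_iff_isUnit.2 P.isUnit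
      (h.trans (Matrix.mulVec_zero _).symm)) (e.symm fun _ => ⟨0, hd⟩)
    simp [pv, hu0] at h'
  have h1 := card_lower_gen hQ hn hx π fun g hg => by
    obtain ⟨_, ⟨h, hh, rfl⟩, hgh⟩ := hle (Orth.coe_mem_omegaGL.2 hg)
    obtain ⟨u', hu'⟩ := hall h hh u0
    refine ⟨u', ?_⟩
    rw [Orth.ap_apply, ← hgh]
    show P.1 *ᵥ (pv u' ∘ e) = (P * Geo.glReindex e.symm h * P⁻¹ : GL ι F).1 *ᵥ (P.1 *ᵥ (pv u0 ∘ e))
    rw [Units.val_mul, Units.val_mul, Matrix.mulVec_mulVec, mul_assoc, Units.inv_mul, mul_one,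
      ← Matrix.mulVec_mulVec, ← hu']
    congr 1
    show (h.1 *ᵥ pv u0) ∘ e = (Matrix.reindex e.symm e.symm h.1) *ᵥ (pv u0 ∘ e)
    rw [Matrix.reindex_apply, Matrix.submatrix_mulVec_equiv]
    simp [Function.comp_assoc]
  rw [Nat.card_fun, Nat.card_fun, Nat.card_eq_fintype_card, Nat.card_fin, Nat.card_fin, ← pow_mul] at h1
  exact absurd h1 (not_le.2 (Nat.pow_lt_pow_right Fintype.one_lt_card hsize))

omit hn in
/-- Over three elements a decomposition into three-dimensional members refines canonically to a frame. -/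
theorem exists_frame_three (h3 : Fintype.card F = 3) (h2 : (2 : F) ≠ 0) {t : ℕ}
    {D : Fin t → Submodule F (ι → F)} (hD : Geo.IsOrthogonalMDecomposition (⇑Q) 3 D) :
    ∃ (N : ℕ) (D' : Fin N → Submodule F (ι → F)), N = Fintype.card ι ∧
      Geo.IsOrthogonalMDecomposition (⇑Q) 1 D' ∧
      Geo.decompositionStabilizer D ⊓ Cfsg.isometryGroup F ⇑Q ≤ Geo.decompositionStabilizer D' := by
  classical
  have hcard := Orth.card_eq_mul hQ hD
  have ht2 := hD.decomp.decomp.two_le
  let i0 : Fin t := ⟨0, by omega⟩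
  let b : Basis (Fin 3) F (D i0) := Module.finBasisOfFinrankEq F _ (hD.decomp.decomp.finrank_eq i0)
  let L : (Fin 3 → F) ≃ₗ[F] D i0 := b.equivFun.symm
  let R : QuadraticForm F (Fin 3 → F) := Q.comp ((D i0).subtype ∘ₗ L.toLinearMap)
  have hRp : ∀ x y, polar ⇑R x y = polar ⇑Q (L x : ι → F) (L y : ι → F) := fun x y => by
    simp [R, QuadraticMap.polar]
  have hR : R.polarBilin.Nondegenerate := by
    have hleft : ∀ x, (∀ y, polar ⇑R x y = 0) → x = 0 := by
      intro x hx
      by_contra hx0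
      obtain ⟨⟨y, hy, hxy⟩, -⟩ := hD.decomp.nondegenerate i0 _ (L x).2
        (fun h => hx0 (L.map_eq_zero_iff.1 (Subtype.ext h)))
      apply hxy
      have := hx (L.symm ⟨y, hy⟩)
      rw [hRp, LinearEquiv.apply_symm_apply, Orth.pl_comm] at this
      exact this
    exact ⟨fun x hx => hleft x hx, fun x hx => hleft x fun y => by rw [Orth.pl_comm]; exact hx y⟩
  obtain ⟨c, u, hc, huQ, huo, hu⟩ := Orth.exists_orth_frame_three h3 h2 hR
  choose E hE using fun i => hD.isometric i0 i
  have hEp : ∀ i (x y : D i0), polar ⇑Q (E i x : ι → F) (E i y : ι → F) = polar ⇑Q (x : ι → F) (y : ι → F) :=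
    fun i x y => by
      simp only [QuadraticMap.polar, ← Submodule.coe_add, ← map_add, hE]
  -- the frame
  let w : Fin t × Fin 3 → (ι → F) := fun l => (E l.1 (L (u l.2)) : ι → F)
  have hwD : ∀ l, w l ∈ D l.1 := fun l => (E l.1 (L (u l.2))).2
  have hwQ : ∀ l, Q (w l) = c := fun l => by
    rw [show Q (w l) = Q (L (u l.2) : ι → F) from hE _ _]; exact huQ l.2
  have hwo : ∀ l l', l ≠ l' → polar ⇑Q (w l) (w l') = 0 := by
    rintro ⟨i, k⟩ ⟨i', k'⟩ hne
    rcases eq_or_ne i i' with rfl | hii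
    · show polar ⇑Q (E i (L (u k)) : ι → F) (E i (L (u k')) : ι → F) = 0
      rw [hEp, ← hRp]
      exact huo k k' fun h => hne (by rw [h])
    · exact hD.decomp.orthogonal i i' hii _ (hwD (i, k)) _ (hwD (i', k'))
  have h2c : (2 : F) * c ≠ 0 := mul_ne_zero h2 hc
  have hli : LinearIndependent F w := by
    rw [Fintype.linearIndependent_iff]
    intro a ha l
    have h := congrArg (fun z => Q.polarBilin z (w l)) ha
    simp only [map_sum, LinearMap.sum_apply, map_smul, LinearMap.smul_apply, smul_eq_mul, map_zero,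
      LinearMap.zero_apply, QuadraticMap.polarBilin_apply_apply] at h
    rw [Finset.sum_eq_single l (fun l' _ hne => by rw [hwo l' l hne, mul_zero]) (by simp), Orth.pl_self,
      hwQ] at h
    exact (mul_eq_zero.1 h).resolve_right h2c
  let φ : Fin (Fintype.card ι) ≃ Fin t × Fin 3 := (finCongr hcard).trans finProdFinEquiv.symm
  let D' : Fin (Fintype.card ι) → Submodule F (ι → F) := fun l => F ∙ w (φ l)
  have hli' : LinearIndependent F fun l => w (φ l) := hli.comp _ φ.injective
  have hne : ∀ l, w l ≠ 0 := hli.ne_zero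
  have hdec : Geo.IsMDecomposition 1 D' := by
    refine ⟨by nlinarith, one_pos, fun l => finrank_span_singleton (hne _),
      hli'.iSupIndep_span_singleton, ?_⟩
    rw [← Submodule.span_range_eq_iSup]
    exact hli'.span_eq_top_of_card_eq_finrank' (by rw [Fintype.card_fin, Module.finrank_fintype_fun_eq_card])
  refine ⟨_, D', rfl, ⟨⟨hdec, fun l x hx hx0 => ?_, fun l l' hll x hx y hy => ?_⟩, fun l l' => ?_⟩, ?_⟩
  · obtain ⟨a, rfl⟩ := Submodule.mem_span_singleton.1 hx
    have ha : a ≠ 0 := fun h => hx0 (by rw [h, zero_smul])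
    have hne' : polar ⇑Q (w (φ l)) (a • w (φ l)) ≠ 0 := by
      rw [Orth.pl_smul_right, Orth.pl_self, hwQ]; exact mul_ne_zero ha h2c
    exact ⟨⟨w (φ l), Submodule.mem_span_singleton_self _, hne'⟩,
      ⟨w (φ l), Submodule.mem_span_singleton_self _, by rw [Orth.pl_comm]; exact hne'⟩⟩
  · obtain ⟨a, rfl⟩ := Submodule.mem_span_singleton.1 hx
    obtain ⟨a', rfl⟩ := Submodule.mem_span_singleton.1 hy
    rw [Orth.pl_smul_left, Orth.pl_smul_right, hwo _ _ (fun h => hll (φ.injective h)), mul_zero, mul_zero]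
  · refine ⟨(LinearEquiv.toSpanNonzeroSingleton F _ _ (hne (φ l))).symm.trans
      (LinearEquiv.toSpanNonzeroSingleton F _ _ (hne (φ l'))), fun x => ?_⟩
    obtain ⟨a, rfl⟩ := (LinearEquiv.toSpanNonzeroSingleton F _ _ (hne (φ l))).surjective x
    rw [LinearEquiv.trans_apply, LinearEquiv.symm_apply_apply]
    show Q (a • w (φ l')) = Q (a • w (φ l))
    rw [Orth.Q_smul, Orth.Q_smul, hwQ, hwQ]
  · rintro g ⟨hgD, hgI⟩
    obtain ⟨σ, hσ⟩ := hgD
    have key : ∀ l, ∃ l', ∃ a : F, a ≠ 0 ∧ g.1 *ᵥ w l = a • w l' := by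
      intro l
      have hmem : g.1 *ᵥ w l ∈ D (σ l.1) := by rw [← hσ l.1]; exact ⟨_, hwD l, rfl⟩
      obtain ⟨k', hk'⟩ := hu (L.symm ((E (σ l.1)).symm ⟨_, hmem⟩)) (by
        show Q (L (L.symm _) : ι → F) = c
        rw [LinearEquiv.apply_symm_apply, ← hE, LinearEquiv.apply_symm_apply]
        exact (Orth.Q_ap ⟨g, hgI⟩ (w l)).trans (hwQ l))
      obtain ⟨a, ha⟩ := Submodule.mem_span_singleton.1 hk'
      have h' : g.1 *ᵥ w l = a • w (σ l.1, k') := by
        have := congrArg (fun z => ((E (σ l.1) (L z) : D (σ l.1)) : ι → F)) ha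
        simp only [map_smul, LinearEquiv.apply_symm_apply, Submodule.coe_smul] at this
        exact this.symm
      refine ⟨(σ l.1, k'), a, fun h => hne l ?_, h'⟩
      rw [h, zero_smul] at h'
      exact Matrix.mulVec_injective_iff_isUnit.2 g.isUnit (h'.trans (Matrix.mulVec_zero _).symm)
    choose π a ha hπ using key
    have hinj : Function.Injective π := by
      intro l l' hll
      by_contra hne'
      have h1 : g.1 *ᵥ (a l' • w l - a l • w l') = 0 := by
        rw [Matrix.mulVec_sub, Matrix.mulVec_smul, Matrix.mulVec_smul, hπ, hπ, hll, smul_smul, smul_smul,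
          mul_comm, sub_self]
      have h2' := Matrix.mulVec_injective_iff_isUnit.2 g.isUnit (h1.trans (Matrix.mulVec_zero _).symm)
      exact hne' (hli.eq_of_smul_apply_eq_smul_apply (a l') (a l) l l' (ha l') (sub_eq_zero.mp h2'))
    refine ⟨(φ.trans (Equiv.ofBijective π hinj.bijective_of_finite)).trans φ.symm, fun l => ?_⟩
    simp only [D', Submodule.map_span, Set.image_singleton, Matrix.toLin'_apply, hπ, Equiv.trans_apply,
      Equiv.apply_symm_apply, Equiv.ofBijective_apply]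
    exact Submodule.span_singleton_smul_eq (IsUnit.mk0 _ (ha _)) _

end Cfsg.Agent.Aschbacher
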