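/-
Basic facts for the subgroups of Ω in even dimension, any characteristic.
Main results: `eq_inf_of_le`, `not_omega_le_subspace`, `not_omega_le_subfield`, `omega_dick`,
`no_swap_singular`, `Outcome`, `even_reducible`.
-/
import Cfsg.Agent.Lib.Aschbacher.EvenType
import Cfsg.Agent.Lib.Aschbacher.OrthNotLe
import Cfsg.Agent.Lib.Aschbacher.FormOrthOdd
import Cfsg.Agent.Lib.Orth.Singular

set_option autoImplicit false
set_option linter.unusedSectionVars false

namespace Cfsg.Agent.Aschbacher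

open Matrix Module
open scoped commutatorElement
open Cfsg.Agent.PrimeDim
open QuadraticMap (polar)
open Orth (HPair perp eich ap IsoGrp perpSub)

variable {ι : Type} [Fintype ι] [DecidableEq ι] {F : Type*} [Field F] [Fintype F]
variable {Q : QuadraticForm F (ι → F)}

/-- A subgroup of `Ω` lies in the isometry group. -/
theorem le_iso {H : Subgroup (GL ι F)} (hH : H ≤ Geo.omegaGL ⇑Q) : H ≤ Cfsg.isometryGroup F ⇑Q :=
  fun g hg => by
    obtain ⟨h, -, rfl⟩ := hH hg
    exact h.2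

/-- Maximality turns containment in a class member into equality. -/
theorem eq_inf_of_le {H M : Subgroup (GL ι F)} (hH : Geo.IsMaximalIn (Geo.omegaGL ⇑Q) H) (hle : H ≤ M)
    (hn : ¬ Geo.omegaGL ⇑Q ≤ M) : H = M ⊓ Geo.omegaGL ⇑Q := by
  rcases hH.2 (M ⊓ Geo.omegaGL ⇑Q) (le_inf hle hH.1.le) inf_le_right with h | h
  · exact h.symm
  · exact absurd (h.symm.le.trans inf_le_left) hn

theorem invariant_stab {G : Subgroup (GL ι F)} {U : Submodule F (ι → F)}
    (h : ∀ g ∈ G, ∀ u ∈ U, (g : Matrix ι ι F) *ᵥ u ∈ U) : G ≤ Geo.subspaceStabilizer U := fun g hg v => by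
  refine ⟨h g hg v, fun hv => ?_⟩
  have := h g⁻¹ (inv_mem hg) _ hv
  simpa [Matrix.mulVec_mulVec] using this

theorem stab_mem {U : Submodule F (ι → F)} {g : GL ι F} (hg : g ∈ Geo.subspaceStabilizer U) {u : ι → F}
    (hu : u ∈ U) : (g : Matrix ι ι F) *ᵥ u ∈ U := (hg u).1 hu

theorem iso_Q {g : GL ι F} (hg : g ∈ Cfsg.isometryGroup F ⇑Q) (v : ι → F) :
    Q ((g : Matrix ι ι F) *ᵥ v) = Q v := Orth.Q_ap ⟨g, hg⟩ v

theorem iso_polar {g : GL ι F} (hg : g ∈ Cfsg.isometryGroup F ⇑Q) (u v : ι → F) :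
    polar ⇑Q ((g : Matrix ι ι F) *ᵥ u) ((g : Matrix ι ι F) *ᵥ v) = polar ⇑Q u v := by
  simp only [polar, ← Matrix.mulVec_add, iso_Q hg]

theorem irred_invariant {H : Subgroup (GL ι F)} (hirr : Geo.ActsIrreducibly (Geo.matrixSet H))
    {W : Submodule F (ι → F)} (hW : ∀ g ∈ H, ∀ w ∈ W, (g : Matrix ι ι F) *ᵥ w ∈ W) : W = ⊥ ∨ W = ⊤ :=
  eq_bot_or_top hirr W hW

section

variable (hQ : Q.polarBilin.Nondegenerate) (hn : 5 ≤ Fintype.card ι)
include hQ hn

/-- `Ω` fixes no proper subspace. -/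
theorem not_omega_le_subspace {U : Submodule F (ι → F)} (hb : U ≠ ⊥) (ht : U ≠ ⊤) :
    ¬ Geo.omegaGL ⇑Q ≤ Geo.subspaceStabilizer U := by
  intro hle
  have hU : ∀ g ∈ Cfsg.Omega F ⇑Q, ∀ x ∈ U, ap g x ∈ U := fun g hg =>
    Orth.coe_mem_stabilizer.1 (hle (Orth.coe_mem_omegaGL.2 hg))
  by_cases hin : ∃ u ∈ U, u ≠ 0 ∧ Q u = 0
  · obtain ⟨u, huU, hu, hu0⟩ := hin
    have hall : ∀ v, Q v = 0 → v ∈ U := by
      intro v hv
      by_cases hv0 : v = 0
      · rw [hv0]; exact zero_mem _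
      obtain ⟨g, hg, c, hc, h⟩ := singular_transitive hQ hn hu hu0 hv0 hv
      have := U.smul_mem c⁻¹ (hU g hg u huU)
      rwa [h, smul_smul, inv_mul_cancel₀ hc, one_smul] at this
    obtain ⟨e, f, hp⟩ := Orth.exists_hpair hQ (by omega)
    refine ht (Submodule.eq_top_iff'.mpr fun x => ?_)
    have hperp : ∀ z ∈ perp Q e f, z ∈ U := fun z hz => by
      have h1 := hall ((-Q z) • e + (1 : F) • f + z) (by rw [hp.Q_comb hz]; ring)
      exact (U.add_mem_iff_right (U.add_mem (U.smul_mem _ (hall e hp.qe)) (U.smul_mem _ (hall f hp.qf)))).mp h1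
    rw [Orth.decomp (Q := Q) e f x]
    exact U.add_mem (U.add_mem (U.smul_mem _ (hall e hp.qe)) (U.smul_mem _ (hall f hp.qf)))
      (hperp _ (hp.wPart_mem x))
  · obtain ⟨x, hxU, hx⟩ := U.exists_mem_ne_zero_of_ne_bot hb
    obtain ⟨u, hu, hu0⟩ := Forms.exists_singular_of_three_le (Q.comp (Orth.orthFam Q ![x]).subtype)
      (by have := Orth.card_le_finrank_orthFam (Q := Q) ![x]; omega)
    have hu' : (u : ι → F) ≠ 0 := fun h => hu (Subtype.ext h)
    replace hu0 : Q (u : ι → F) = 0 := hu0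
    have hxu : polar ⇑Q x (u : ι → F) = 0 := Orth.mem_orthFam.1 u.2 0
    have hperp : ∀ w, polar ⇑Q (u : ι → F) w = 0 → polar ⇑Q w x = 0 := by
      intro w hw
      by_contra hne
      have h1 := U.sub_mem (hU _ (eich_mem_omega hQ hn (u : ι → F) w) x hxU) hxU
      rw [Orth.eich_ap hu0 hw, Orth.pl_comm Q (u : ι → F) x, hxu, zero_smul, add_zero, mul_zero, add_zero,
        sub_sub_cancel_left, ← neg_smul, U.smul_mem_iff (neg_ne_zero.mpr hne)] at h1
      exact hin ⟨u, h1, hu', hu0⟩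
    have hxmem : x ∈ Submodule.span F {(u : ι → F)} := by
      rw [← Orth.perpSub_perpSub hQ (Submodule.span F {(u : ι → F)})]
      intro w hw
      exact hperp w (hw _ (Submodule.mem_span_singleton_self _))
    obtain ⟨c, hc⟩ := Submodule.mem_span_singleton.1 hxmem
    exact hin ⟨x, hxU, hx, by rw [← hc, QuadraticMap.map_smul, hu0, smul_zero]⟩

/-- `Ω` is not rational over a proper subfield. -/
theorem not_omega_le_subfield {F₁ : Subfield F} {r : ℕ} (hr : 2 ≤ r)
    (hcard : Fintype.card F = Nat.card F₁ ^ r) (B : GL ι F) :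
    ¬ Geo.omegaGL ⇑Q ≤ Geo.subfieldSubgroup F₁ B := by
  classical
  intro hle
  obtain ⟨i0⟩ : Nonempty ι := Fintype.card_pos_iff.mp (by omega)
  set Rg : Subgroup (GL ι F) :=
    ((Matrix.GeneralLinearGroup.map (F₁.subtype : F₁ →+* F)).range).map (MulAut.conj B).toMonoidHom with hRg
  have hperf : Geo.omegaGL ⇑Q ≤ ⁅Geo.omegaGL ⇑Q, Geo.omegaGL ⇑Q⁆ := by
    rw [Geo.omegaGL, ← Subgroup.map_commutator]
    exact Subgroup.map_mono (Orth.omega_le_commutator_omega ⟨hQ, .inr (by omega)⟩ hn)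
  have hsub : Geo.omegaGL ⇑Q ≤ Rg := by
    refine hperf.trans ((Subgroup.commutator_mono hle hle).trans ?_)
    rw [Geo.subfieldSubgroup, ← Subgroup.map_commutator]
    exact Subgroup.map_mono (commutator_sup_scalars_le _)
  have hb0 : (B : Matrix ι ι F) *ᵥ Pi.single i0 1 ≠ 0 := fun h => by
    have h' := congrArg (((B⁻¹ : GL ι F) : Matrix ι ι F) *ᵥ ·) h
    simp only [Matrix.mulVec_mulVec, Units.inv_mul, Matrix.one_mulVec, Matrix.mulVec_zero] at h'
    simpa using congrFun h' i0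
  have h1 := card_lower_gen hQ hn hb0 (S := ι → F₁)
    (fun u => (B : Matrix ι ι F) *ᵥ fun i => (u i : F)) fun g hg => by
      obtain ⟨_, ⟨m, rfl⟩, hm⟩ := hsub (Orth.coe_mem_omegaGL.2 hg)
      refine ⟨fun i => (m : Matrix ι ι F₁) i i0, ?_⟩
      rw [Orth.ap_apply, ← hm]
      show _ = (B * Matrix.GeneralLinearGroup.map (F₁.subtype : F₁ →+* F) m * B⁻¹ : GL ι F).1 *ᵥ _
      rw [Units.val_mul, Units.val_mul, ← Matrix.mulVec_mulVec, ← Matrix.mulVec_mulVec,
        Matrix.mulVec_mulVec _ _ (B : Matrix ι ι F), Units.inv_mul, Matrix.one_mulVec,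
        Matrix.mulVec_single_one]
      rfl
  have : Fintype F₁ := Fintype.ofFinite F₁
  rw [Nat.card_fun, Nat.card_eq_fintype_card (α := ι), hcard, ← pow_mul] at h1
  have h2 := (Nat.pow_le_pow_iff_right (Finite.one_lt_card (α := F₁))).1 h1
  have h3 : 2 * (Fintype.card ι - 2) ≤ r * (Fintype.card ι - 2) := Nat.mul_le_mul_right _ hr
  omega

/-- Elements of `Ω` have Dickson sign one. -/
theorem omega_dick {g : IsoGrp Q} (hg : (g : GL ι F) ∈ Geo.omegaGL ⇑Q) : Orth.dick g = 1 :=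
  ((Orth.mem_omega_iff ⟨hQ, .inr (by omega)⟩ g).1 (Orth.coe_mem_omegaGL.1 hg)).1

/-- `Ω` does not interchange complementary singular halves of odd dimension. -/
theorem no_swap_singular {k : ℕ} (hι : Fintype.card ι = 2 * k) (hk : Odd k)
    {U : Submodule F (ι → F)} (hUd : finrank F U = k) (hU : ∀ u ∈ U, Q u = 0) {g : GL ι F}
    (hg : g ∈ Geo.omegaGL ⇑Q) : U ⊓ U.map (Matrix.toLin' (g : Matrix ι ι F)) ≠ ⊥ := by
  obtain ⟨h, -, rfl⟩ := Orth.mem_omegaGL_iff.1 hg
  intro hbot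
  have h3 := OrthAct.dick_eq_parity ⟨hQ, .inr (by omega)⟩ hι hUd hU h
  rw [show U.map (ap h) = U.map (Matrix.toLin' ((h : GL ι F) : Matrix ι ι F)) from rfl, hbot, finrank_bot,
    Nat.sub_zero, hk.neg_one_pow, omega_dick hQ hn hg] at h3
  norm_num at h3

end

theorem two_zero_of_not_odd (h : ¬ Odd (Fintype.card F)) : (2 : F) = 0 := by
  obtain ⟨p, hp⟩ := CharP.exists F
  obtain ⟨e, hpp, hcard⟩ := FiniteField.card F p
  rcases hpp.eq_two_or_odd' with rfl | hodd
  · exact_mod_cast CharP.cast_eq_zero F 2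
  · exact absurd (hcard ▸ hodd.pow) h

theorem odd_of_two_ne_zero (h : (2 : F) ≠ 0) : Odd (Fintype.card F) := by
  by_contra hc
  exact h (two_zero_of_not_odd hc)

theorem not_odd_of_two_zero (h : (2 : F) = 0) : ¬ Odd (Fintype.card F) := fun hc =>
  two_ne_zero_of_odd_card hc h

/-- In characteristic two non-degenerate subspaces have even dimension. -/
theorem nd_even (h2 : (2 : F) = 0) {W : Submodule F (ι → F)} (hW : ND Q W) : Even (finrank F W) := by
  have h := Forms.even_finrank_sub_ker (Q.comp W.subtype).polarBilin (fun x => by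
    show polar ⇑Q (x : ι → F) x = 0
    rw [Orth.pl_self, h2, zero_mul])
  have hk : LinearMap.ker (Q.comp W.subtype).polarBilin = ⊥ :=
    LinearMap.ker_eq_bot'.2 fun x hx => (res_nondeg hW).1 x fun y => by rw [hx]; rfl
  rwa [hk, finrank_bot, Nat.sub_zero] at h

/-- In a hyperbolic plane over at most three elements the vectors of norm one span one line. -/
theorem plane_vec (hQ : Q.polarBilin.Nondegenerate) (hq : Fintype.card F ≤ 3) {W : Submodule F (ι → F)}
    (hW : ND Q W) (hd : finrank F W = 2) (hp : Geo.IsPlusTypeOn ⇑Q W) :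
    ∃ v ∈ W, Q v = 1 ∧ ∀ x ∈ W, Q x = 1 → x ∈ Submodule.span F {v} := by
  obtain ⟨U, hU, hU0, hUd⟩ := hp
  obtain ⟨e, he, he0⟩ := Submodule.exists_mem_ne_zero_of_ne_bot (p := U) fun h => by
    rw [h, finrank_bot, hd] at hUd; omega
  obtain ⟨f, hf, hQf, hef⟩ := Orth.exists_hpair_in hQ hW (hU he) he0 (hU0 e he)
  refine ⟨e + f, W.add_mem (hU he) hf, by rw [Orth.Q_add, hU0 e he, hQf, hef]; ring, fun x hx hQx => ?_⟩
  obtain ⟨h1, h2⟩ := Orth.coords_two hd (hU he) hf (hU0 e he) hQf hef hx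
  rw [hQx] at h2
  set a := polar ⇑Q x f
  set b := polar ⇑Q x e
  have ha : a ≠ 0 := fun h => by rw [h, zero_mul] at h2; exact one_ne_zero h2
  have hab : b = a := by
    have h3 := FiniteField.pow_card_sub_one_eq_one a ha
    have h4 : a * a = 1 := by
      rcases (by have := Fintype.one_lt_card (α := F); omega : Fintype.card F = 2 ∨ Fintype.card F = 3) with
        h | h <;> rw [h] at h3
      · rw [pow_one] at h3; rw [h3, mul_one]
      · rw [← pow_two]; exact h3
    exact mul_left_cancel₀ ha (h2.symm.trans h4.symm)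
  exact Submodule.mem_span_singleton.2 ⟨a, by rw [h1, hab, smul_add]⟩

/-- The outcomes for a reducible maximal subgroup of `Ω`. -/
theorem even_reducible (hQ : Q.polarBilin.Nondegenerate) {k : ℕ} (hι : Fintype.card ι = 2 * k)
    (hk : 4 ≤ k) {H : Subgroup (GL ι F)} (hH : Geo.IsMaximalIn (Geo.omegaGL ⇑Q) H)
    (hirr : ¬ Geo.ActsIrreducibly (Geo.matrixSet H)) :
    (∃ W : Submodule F (ι → F), W ≠ ⊥ ∧ Geo.IsTotallySingularQuad ⇑Q W ∧
      (Geo.IsPlusTypeOn ⇑Q ⊤ → finrank F W + 1 ≠ k) ∧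
      H = Geo.subspaceStabilizer W ⊓ Geo.omegaGL ⇑Q) ∨
    (Odd (Fintype.card F) ∧ ∃ W : Submodule F (ι → F), W ≠ ⊥ ∧ W ≠ ⊤ ∧ Odd (finrank F W) ∧
      finrank F W ≤ k ∧ Geo.IsNondegenerateOn (polar ⇑Q) W ∧
      H = Geo.subspaceStabilizer W ⊓ Geo.omegaGL ⇑Q) ∨
    (∃ W : Submodule F (ι → F), W ≠ ⊥ ∧ Even (finrank F W) ∧ finrank F W ≤ k ∧
      Geo.IsNondegenerateOn (polar ⇑Q) W ∧
      (finrank F W = 2 → Geo.IsPlusTypeOn ⇑Q W → 4 ≤ Fintype.card F) ∧
      H = Geo.subspaceStabilizer W ⊓ Geo.omegaGL ⇑Q) ∨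
    (¬ Odd (Fintype.card F) ∧ ∃ v : ι → F, Q v ≠ 0 ∧
      H = Geo.subspaceStabilizer (Submodule.span F {v}) ⊓ Geo.omegaGL ⇑Q) ∨
    (∃ D : Fin 2 → Submodule F (ι → F), Geo.IsOrthogonalMDecomposition ⇑Q k D ∧
      H = Geo.decompositionStabilizer D ⊓ Geo.omegaGL ⇑Q) := by
  classical
  have hn : 5 ≤ Fintype.card ι := by omega
  have : Nonempty ι := Fintype.card_pos_iff.mp (by omega)
  have hI := le_iso hH.1.le
  set G := H ⊔ Geo.scalars ι F with hGdef
  have hHG : H ≤ G := le_sup_left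
  have hirrG : ¬ Geo.ActsIrreducibly (Geo.matrixSet G) := fun hG => hirr fun W hW => by
    refine hG W ?_
    rintro _ ⟨g, hg, rfl⟩
    obtain ⟨a, ha, z, hz, rfl⟩ := Subgroup.mem_sup_of_normal_right.mp hg
    obtain ⟨c, hc⟩ := (Geo.mem_scalars_iff z).mp hz
    refine (mapsTo_iff_mulVec _ W).mpr fun w hw => ?_
    show ((a * z : GL ι F) : Matrix ι ι F) *ᵥ w ∈ W
    rw [Units.val_mul, hc, Matrix.mul_smul, mul_one, Matrix.smul_mulVec]
    exact W.smul_mem _ ((mapsTo_iff_mulVec _ W).mp (hW _ (mem_matrixSet ha)) w hw)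
  have hmax : ∀ M : Subgroup (GL ι F), H ≤ M → ¬ Geo.omegaGL ⇑Q ≤ M → H = M ⊓ Geo.omegaGL ⇑Q :=
    fun M => eq_inf_of_le hH
  -- a non-singular point
  have hpoint : ∀ v : ι → F, Q v ≠ 0 → (∀ g ∈ H, (g : Matrix ι ι F) *ᵥ v ∈ Submodule.span F {v}) →
      H = Geo.subspaceStabilizer (Submodule.span F {v}) ⊓ Geo.omegaGL ⇑Q := by
    intro v hv hfix
    have hv0 : v ≠ 0 := fun h => hv (by rw [h, QuadraticMap.map_zero])
    refine hmax _ (invariant_stab fun g hg u hu => ?_) (not_omega_le_subspace hQ hn ?_ ?_)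
    · obtain ⟨c, rfl⟩ := Submodule.mem_span_singleton.1 hu
      rw [Matrix.mulVec_smul]
      exact Submodule.smul_mem _ _ (hfix g hg)
    · simpa using hv0
    · intro h
      have h1 := finrank_span_singleton (K := F) hv0
      rw [h, finrank_top, Orth.finrank_space] at h1
      omega
  -- a non-degenerate subspace
  have hnd : ∀ W : Submodule F (ι → F), W ≠ ⊥ → Geo.IsNondegenerateOn (polar ⇑Q) W → finrank F W ≤ k →
      H ≤ Geo.subspaceStabilizer W →
    (Odd (Fintype.card F) ∧ ∃ W : Submodule F (ι → F), W ≠ ⊥ ∧ W ≠ ⊤ ∧ Odd (finrank F W) ∧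
      finrank F W ≤ k ∧ Geo.IsNondegenerateOn (polar ⇑Q) W ∧
      H = Geo.subspaceStabilizer W ⊓ Geo.omegaGL ⇑Q) ∨
    (∃ W : Submodule F (ι → F), W ≠ ⊥ ∧ Even (finrank F W) ∧ finrank F W ≤ k ∧
      Geo.IsNondegenerateOn (polar ⇑Q) W ∧
      (finrank F W = 2 → Geo.IsPlusTypeOn ⇑Q W → 4 ≤ Fintype.card F) ∧
      H = Geo.subspaceStabilizer W ⊓ Geo.omegaGL ⇑Q) ∨
    (¬ Odd (Fintype.card F) ∧ ∃ v : ι → F, Q v ≠ 0 ∧
      H = Geo.subspaceStabilizer (Submodule.span F {v}) ⊓ Geo.omegaGL ⇑Q) := by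
    intro W hb hW hWk hle
    have ht : W ≠ ⊤ := fun h => by rw [h, finrank_top, Orth.finrank_space] at hWk; omega
    have hWnd : ND Q W := Orth.nondegOn_of_geo hW
    have heq := hmax _ hle (not_omega_le_subspace hQ hn hb ht)
    rcases Nat.even_or_odd (finrank F W) with hev | hodd
    swap
    · exact .inl ⟨odd_of_two_ne_zero fun h => Nat.not_even_iff_odd.2 hodd (nd_even h hWnd),
        W, hb, ht, hodd, hWk, hW, heq⟩
    by_cases hsmall : finrank F W = 2 ∧ Geo.IsPlusTypeOn ⇑Q W ∧ Fintype.card F ≤ 3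
    swap
    · exact .inr (.inl ⟨W, hb, hev, hWk, hW, fun h1 h2 => by
        by_contra h3; exact hsmall ⟨h1, h2, by omega⟩, heq⟩)
    obtain ⟨h1, h2, h3⟩ := hsmall
    obtain ⟨v, hv, hQv, hfix⟩ := plane_vec hQ h3 hWnd h1 h2
    have hv1 : Q v ≠ 0 := by rw [hQv]; exact one_ne_zero
    have hpt := hpoint v hv1 fun g hg => hfix _ (stab_mem (hle hg) hv) (by rw [iso_Q (hI hg), hQv])
    by_cases hodd : Odd (Fintype.card F)
    swap
    · exact .inr (.inr ⟨hodd, v, hv1, hpt⟩)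
    have hv0 : v ≠ 0 := fun h => hv1 (by rw [h, QuadraticMap.map_zero])
    refine .inl ⟨hodd, _, by simpa using hv0, fun h => ?_, ?_, ?_, ?_, hpt⟩
    · have h4 := finrank_span_singleton (K := F) hv0
      rw [h, finrank_top, Orth.finrank_space] at h4
      omega
    · rw [finrank_span_singleton hv0]; exact odd_one
    · rw [finrank_span_singleton hv0]; omega
    · intro w hw hw0
      obtain ⟨c, rfl⟩ := Submodule.mem_span_singleton.1 hw
      have hne : polar ⇑Q (c • v) v ≠ 0 := by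
        rw [Orth.pl_smul_left, Orth.pl_self, hQv, mul_one]
        exact mul_ne_zero (fun h => hw0 (by rw [h, zero_smul])) (two_ne_zero_of_odd_card hodd)
      exact ⟨⟨v, Submodule.mem_span_singleton_self v, fun h => hne (by rw [Orth.pl_comm]; exact h)⟩,
        v, Submodule.mem_span_singleton_self v, hne⟩
  -- a totally singular subspace
  have hts : ∀ W : Submodule F (ι → F), W ≠ ⊥ → (∀ w ∈ W, Q w = 0) → H ≤ Geo.subspaceStabilizer W →
    (∃ W : Submodule F (ι → F), W ≠ ⊥ ∧ Geo.IsTotallySingularQuad ⇑Q W ∧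
      (Geo.IsPlusTypeOn ⇑Q ⊤ → finrank F W + 1 ≠ k) ∧
      H = Geo.subspaceStabilizer W ⊓ Geo.omegaGL ⇑Q) := by
    intro W hb hW hle
    have h1 := Forms.two_mul_finrank_singular_le Q hQ W hW
    rw [Orth.finrank_space] at h1
    have heq := hmax _ hle (not_omega_le_subspace hQ hn hb fun h => by
      rw [h, finrank_top, Orth.finrank_space] at h1; omega)
    refine ⟨W, hb, hW, fun hp hd => ?_, heq⟩
    obtain ⟨U0, -, hU0, hU0d⟩ := hp
    rw [finrank_top, Orth.finrank_space] at hU0d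
    obtain ⟨K, hK, hKlt⟩ := Orth.submaximal_stabilizer_not_maximal ⟨hQ, .inr (by omega)⟩ hι (by omega)
      (by omega : finrank F U0 = k) hU0 hW hd
    rw [← heq] at hK
    rcases hH.2 K hK.le hKlt.le with h | h
    · exact hK.ne h.symm
    · exact hKlt.ne h
  have hsim : Sim (RingHom.id F) (gramQ Q) G := sim_gramQ hI
  rcases reducible_split (herm_gramQ hQ) hsim hirrG with
    ⟨W, hb, hW, hle⟩ | ⟨W, hb, -, hW, hd, hle⟩ | ⟨k', D, hk', hD, hle⟩
  · rw [← polar_eq_gram] at hW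
    have hle' := hHG.trans hle
    by_cases h2 : (2 : F) = 0
    swap
    · refine .inl (hts W hb (fun w hw => ?_) hle')
      have h1 := hW w hw w hw
      rw [Orth.pl_self] at h1
      exact (mul_eq_zero.mp h1).resolve_left h2
    let W0 : Submodule F (ι → F) :=
      { carrier := {w | w ∈ W ∧ Q w = 0}
        zero_mem' := ⟨zero_mem _, QuadraticMap.map_zero _⟩
        add_mem' := fun {a b} ha hb => ⟨add_mem ha.1 hb.1, by
          rw [Orth.Q_add, ha.2, hb.2, hW a ha.1 b hb.1, add_zero, add_zero]⟩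
        smul_mem' := fun c w hw => ⟨W.smul_mem c hw.1, by rw [Orth.Q_smul, hw.2, mul_zero]⟩ }
    have hW0s : H ≤ Geo.subspaceStabilizer W0 := invariant_stab fun g hg u hu =>
      ⟨stab_mem (hle' hg) hu.1, by rw [iso_Q (hI hg)]; exact hu.2⟩
    by_cases hW0 : W0 = ⊥
    swap
    · exact .inl (hts W0 hW0 (fun w hw => hw.2) hW0s)
    obtain ⟨v, hv, hv0⟩ := Submodule.exists_mem_ne_zero_of_ne_bot hb
    have hQv : Q v ≠ 0 := fun h => hv0 (by
      have : v ∈ W0 := ⟨hv, h⟩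
      rwa [hW0, Submodule.mem_bot] at this)
    refine .inr (.inr (.inr (.inl ⟨not_odd_of_two_zero h2, v, hQv, hpoint v hQv fun g hg => ?_⟩)))
    have h1 : (g : Matrix ι ι F) *ᵥ v - v ∈ W0 := by
      refine ⟨W.sub_mem (stab_mem (hle' hg) hv) hv, ?_⟩
      rw [sub_eq_add_neg, Orth.Q_add, QuadraticMap.map_neg, iso_Q (hI hg), Orth.pl_neg_right,
        hW _ (stab_mem (hle' hg) hv) v hv, neg_zero, add_zero]
      linear_combination Q v * h2
    rw [hW0, Submodule.mem_bot, sub_eq_zero] at h1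
    rw [h1]
    exact Submodule.mem_span_singleton_self v
  · rw [← polar_eq_gram] at hW
    rcases hnd W hb hW (by omega) (hHG.trans hle) with h | h | h
    · exact .inr (.inl h)
    · exact .inr (.inr (.inl h))
    · exact .inr (.inr (.inr (.inl h)))
  · rw [← polar_eq_gram] at hD
    obtain rfl : k' = k := by omega
    have hHD := hHG.trans hle
    by_cases hsw : ∀ g ∈ H, (D 0).map (Matrix.toLin' (g : Matrix ι ι F)) = D 0
    · rcases hnd (D 0) (fun h => by have := hD.decomp.finrank_eq 0; rw [h, finrank_bot] at this; omega)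
        (hD.nondegenerate 0) (hD.decomp.finrank_eq 0).le
        (invariant_stab fun g hg u hu => (hsw g hg).le ⟨u, hu, Matrix.toLin'_apply _ _⟩) with h | h | h
      · exact .inr (.inl h)
      · exact .inr (.inr (.inl h))
      · exact .inr (.inr (.inr (.inl h)))
    · simp only [not_forall, exists_prop] at hsw
      obtain ⟨g, hg, hne⟩ := hsw
      obtain ⟨π, hπ⟩ := hHD hg
      have hπ0 : π 0 = 1 := by
        by_contra h
        exact hne (by rw [hπ 0, show π 0 = 0 by omega])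
      have h01 : Geo.AreIsometricFor ⇑Q (D 0) (D 1) := by
        refine Orth.areIsometric_of_maps (g := ⟨g, hI hg⟩) (fun w hw => ?_) ?_
        · rw [← hπ0, ← hπ 0]
          exact ⟨w, hw, rfl⟩
        · rw [hD.decomp.finrank_eq, hD.decomp.finrank_eq]
      have hO : Geo.IsOrthogonalMDecomposition ⇑Q k' D := by
        refine ⟨hD, fun i j => ?_⟩
        obtain ⟨e, he⟩ := h01
        fin_cases i <;> fin_cases j
        · exact ⟨LinearEquiv.refl F _, fun _ => rfl⟩
        · exact ⟨e, he⟩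
        · exact ⟨e.symm, fun w => by rw [← he, e.apply_symm_apply]⟩
        · exact ⟨LinearEquiv.refl F _, fun _ => rfl⟩
      refine .inr (.inr (.inr (.inr ⟨D, hO, hmax _ hHD (not_omega_le_mdecomp hQ hn hD.decomp ?_)⟩)))
      have h1 := Fintype.one_lt_card (α := F)
      rw [hι, show 2 * k' - 2 = k' + (k' - 2) by omega, pow_add, mul_comm 2]
      refine Nat.mul_lt_mul_of_pos_left ?_ (by positivity)
      calc 2 < 2 ^ 2 := by norm_num
        _ ≤ Fintype.card F ^ 2 := Nat.pow_le_pow_left h1 2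
        _ ≤ _ := Nat.pow_le_pow_right (by omega) (by omega)

end Cfsg.Agent.Aschbacher
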