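/-
Cores of subgroups of orthogonal groups in any dimension: residual, or rational over a subfield.
Main results: `exists_rational_form`, `plus_of_rational_two`, `even_core`.
-/
import Cfsg.Agent.Lib.Aschbacher.FormOrthOdd
import Cfsg.Agent.Lib.Aschbacher.EvenType
import Cfsg.Agent.Lib.Forms.Classify
import Mathlib.RingTheory.AdjoinRoot
import Mathlib.FieldTheory.Finite.GaloisField

set_option autoImplicit false
set_option linter.unusedSectionVars false

namespace Cfsg.Agent.Aschbacher

open Matrix
open Cfsg.Agent.PrimeDim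
open QuadraticMap (polar)

variable {ι : Type} [Fintype ι] [DecidableEq ι] {F : Type*} [Field F] [Fintype F]
variable {Q : QuadraticForm F (ι → F)}

/-- A rational realisation of a spanning group of isometries carries a multiple of the form. -/
theorem exists_rational_form (hQ : Q.polarBilin.Nondegenerate) (hn : 2 ≤ Fintype.card ι)
    {P : Subgroup (GL ι F)} (hPU : P ≤ Cfsg.isometryGroup F ⇑Q)
    (hirr : Geo.ActsAbsolutelyIrreducibly (Geo.matrixSet P)) {F₁ : Subfield F} (B : GL ι F)
    (hB : ∀ x ∈ P, ∀ i j, cj B (x : Matrix ι ι F) i j ∈ F₁) :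
    ∃ c : F, c ≠ 0 ∧ Geo.IsQuadFormRationalStructure (fun v => c * Q v) F₁ B⁻¹ := by
  classical
  have : Nonempty ι := Fintype.card_pos_iff.mp (by omega)
  set G := gramQ Q with hG
  set Bi : Matrix ι ι F := ((B⁻¹ : GL ι F) : Matrix ι ι F) with hBi
  set G' : Matrix ι ι F := Biᵀ * G * Bi with hG'
  have hBiB : Bi * (B : Matrix ι ι F) = 1 := Units.inv_mul B
  have hBBi : (B : Matrix ι ι F) * Bi = 1 := Units.mul_inv B
  have hGdet : G.det ≠ 0 := gramQ_det Q hQ
  have hG'det : G'.det ≠ 0 := by
    rw [hG', Matrix.det_mul, Matrix.det_mul, Matrix.det_transpose]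
    exact mul_ne_zero (mul_ne_zero (Matrix.GeneralLinearGroup.det B⁻¹).ne_zero hGdet)
      (Matrix.GeneralLinearGroup.det B⁻¹).ne_zero
  have e1 : ∀ x : GL ι F, Bi * cj B (x : Matrix ι ι F) = (x : Matrix ι ι F) * Bi := fun x => by
    rw [cj_apply, ← mul_assoc, ← mul_assoc, hBiB, one_mul]
  have hinv' : ∀ x ∈ P, (cj B (x : Matrix ι ι F))ᵀ * G' * cj B (x : Matrix ι ι F) = G' := by
    intro x hx
    calc _ = (Bi * cj B (x : Matrix ι ι F))ᵀ * G * (Bi * cj B (x : Matrix ι ι F)) := by
          simp [hG', Matrix.transpose_mul, mul_assoc]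
      _ = Biᵀ * ((x : Matrix ι ι F)ᵀ * G * (x : Matrix ι ι F)) * Bi := by
          rw [e1]; simp [Matrix.transpose_mul, mul_assoc]
      _ = G' := by rw [gram_of_isometry (hPU hx)]
  obtain ⟨i₀, j₀, hne0⟩ : ∃ i j, G' i j ≠ 0 := by
    by_contra hc
    simp only [not_exists, not_not] at hc
    exact hG'det (by rw [show G' = 0 from Matrix.ext hc, Matrix.det_zero])
  obtain ⟨L₁, hL₁⟩ : ∃ L : F →ₗ[F₁] F₁, L (G' i₀ j₀) ≠ 0 := by
    by_contra hc
    simp only [not_exists, not_not] at hc
    exact hne0 (Module.forall_dual_apply_eq_zero_iff F₁ _ |>.mp hc)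
  let L : F → F := fun a => (L₁ a : F)
  set G0 : Matrix ι ι F := G'.map L with hG0
  have hG0mem : ∀ i j, G0 i j ∈ F₁ := fun i j => (L₁ (G' i j)).2
  have hLsum : ∀ (g : ι → F), L (∑ k, g k) = ∑ k, L (g k) := by
    intro g
    simp only [L, map_sum]
    push_cast
    rfl
  have hLmul : ∀ c ∈ F₁, ∀ a, L (c * a) = c * L a := by
    intro c hc a
    have := L₁.map_smul ⟨c, hc⟩ a
    simp only [L]
    rw [show c * a = (⟨c, hc⟩ : F₁) • a from rfl, this]
    rfl
  have hmapl : ∀ (A M : Matrix ι ι F), (∀ i j, A i j ∈ F₁) → (A * M).map L = A * M.map L := by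
    intro A M hA
    ext i j
    simp only [Matrix.map_apply, Matrix.mul_apply, hLsum]
    exact Finset.sum_congr rfl fun k _ => hLmul _ (hA i k) _
  have hmapr : ∀ (A M : Matrix ι ι F), (∀ i j, A i j ∈ F₁) → (M * A).map L = M.map L * A := by
    intro A M hA
    ext i j
    simp only [Matrix.map_apply, Matrix.mul_apply, hLsum]
    exact Finset.sum_congr rfl fun k _ => by rw [mul_comm, hLmul _ (hA k j) _, mul_comm]
  have hinv0 : ∀ x ∈ P, (cj B (x : Matrix ι ι F))ᵀ * G0 * cj B (x : Matrix ι ι F) = G0 := by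
    intro x hx
    conv_rhs => rw [hG0, ← hinv' x hx]
    rw [hmapr _ _ (hB x hx), hmapl (cj B (x : Matrix ι ι F))ᵀ G' (fun i j => hB x hx j i)]
  have hid : ∀ M : Matrix ι ι F, M.map (RingHom.id F) = M := fun M => by ext i j; rfl
  obtain ⟨c, hc⟩ := invariant_unique hirr.2 (RingHom.id F) (G := G) (G' := (B : Matrix ι ι F)ᵀ * G0 *
      (B : Matrix ι ι F)) (isUnit_iff_ne_zero.mpr hGdet)
      (fun x hx => by rw [hid]; exact gram_of_isometry (hPU hx)) (by
    intro x hx
    rw [hid]
    have e2 : (B : Matrix ι ι F) * (x : Matrix ι ι F) = cj B (x : Matrix ι ι F) * (B : Matrix ι ι F) := by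
      rw [cj_apply, mul_assoc, Units.inv_mul, mul_one]
    calc _ = ((B : Matrix ι ι F) * (x : Matrix ι ι F))ᵀ * G0 * ((B : Matrix ι ι F) * (x : Matrix ι ι F)) := by
          simp [Matrix.transpose_mul, mul_assoc]
      _ = (B : Matrix ι ι F)ᵀ * ((cj B (x : Matrix ι ι F))ᵀ * G0 * cj B (x : Matrix ι ι F)) *
          (B : Matrix ι ι F) := by
          rw [e2]; simp [Matrix.transpose_mul, mul_assoc]
      _ = _ := by rw [hinv0 x hx])
  have hTBBi : Biᵀ * (B : Matrix ι ι F)ᵀ = 1 := by rw [← Matrix.transpose_mul, hBBi, Matrix.transpose_one]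
  have hG0G' : G0 = c • G' := by
    have h1 := congrArg (fun M => Biᵀ * M * Bi) hc
    simp only [Matrix.mul_smul, Matrix.smul_mul] at h1
    rw [← mul_assoc, ← mul_assoc, hTBBi, one_mul, mul_assoc, hBBi, mul_one] at h1
    exact h1
  have hc0 : c ≠ 0 := fun h => hL₁ (by
    have h1 : G0 i₀ j₀ = 0 := by rw [hG0G', h, zero_smul]; rfl
    exact Subtype.ext h1)
  let R : QuadraticForm F (ι → F) := c • Q.comp (Matrix.toLin' Bi)
  have hR : ∀ u, R u = c * Q (Bi *ᵥ u) := fun u => by simp [R]
  have hRpol : ∀ u v, (∀ i, u i ∈ F₁) → (∀ i, v i ∈ F₁) → polar ⇑R u v ∈ F₁ := by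
    intro u v hu hv
    have h1 : polar ⇑R u v = c * polar ⇑Q (Bi *ᵥ u) (Bi *ᵥ v) := by
      simp only [polar, hR, Matrix.mulVec_add]; ring
    rw [h1, polar_eq_gram, formOfGram_mulVec, hid, ← hG, ← hG', Geo.formOfGram, Finset.mul_sum]
    refine sum_mem fun i _ => ?_
    rw [Finset.mul_sum]
    refine sum_mem fun j _ => ?_
    rw [RingHom.id_apply, show c * (u i * G' i j * v j) = u i * (c * G' i j) * v j by ring,
      show c * G' i j = G0 i j by rw [hG0G']; rfl]
    exact mul_mem (mul_mem (hu i) (hG0mem i j)) (hv j)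
  refine ⟨c, hc0, fun u hu => ?_⟩
  show c * Q (Bi *ᵥ u) ∈ F₁
  rw [← hR]
  by_cases h2 : (2 : F) = 0
  swap
  · have h1 := hRpol u u hu hu
    rw [Orth.pl_self] at h1
    have h2F : (2 : F) ∈ F₁ := by exact_mod_cast natCast_mem F₁ 2
    have := mul_mem (inv_mem h2F) h1
    rwa [← mul_assoc, inv_mul_cancel₀ h2, one_mul] at this
  -- characteristic two: the defect of the diagonal is an invariant semilinear functional
  obtain ⟨π, hπ⟩ : ∃ π : F →ₗ[F₁] F, (∀ a ∈ F₁, π a = 0) ∧ ∀ a, π a = 0 → a ∈ F₁ := by
    let p : Submodule F₁ F := Submodule.span F₁ {(1 : F)}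
    obtain ⟨q', hq'⟩ := Submodule.exists_isCompl p
    refine ⟨q'.subtype ∘ₗ q'.linearProjOfIsCompl p hq'.symm, fun a ha => ?_, fun a ha => ?_⟩
    · have hmem : a ∈ p := Submodule.mem_span_singleton.2 ⟨⟨a, ha⟩, by
        rw [Subfield.smul_def, smul_eq_mul, mul_one]⟩
      show (q'.linearProjOfIsCompl p hq'.symm a : F) = 0
      exact congrArg Subtype.val ((Submodule.linearProjOfIsCompl_apply_eq_zero_iff hq'.symm).2 hmem)
    · have h0 : q'.linearProjOfIsCompl p hq'.symm a = 0 := Subtype.ext ha
      have hmem : a ∈ p := (Submodule.linearProjOfIsCompl_apply_eq_zero_iff hq'.symm).1 h0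
      obtain ⟨r, hr⟩ := Submodule.mem_span_singleton.1 hmem
      rw [← hr, Subfield.smul_def, smul_eq_mul, mul_one]
      exact r.2
  have hπmul : ∀ a ∈ F₁, ∀ b, π (a * b) = a * π b := fun a ha b => by
    rw [show a * b = (⟨a, ha⟩ : F₁) • b from rfl, map_smul]; rfl
  refine hπ.2 _ ?_
  let δ : ι → F := fun i => π (R (Pi.single i 1))
  let D : (ι → F) → F := fun w => ∑ i, w i * w i * δ i
  have hDadd : ∀ v w, D (v + w) = D v + D w := fun v w => by
    simp only [D, ← Finset.sum_add_distrib]
    exact Finset.sum_congr rfl fun i _ => by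
      simp only [Pi.add_apply]; linear_combination (v i * w i * δ i) * h2
  have hDsmul : ∀ (a : F) v, D (a • v) = a * a * D v := fun a v => by
    simp only [D, Finset.mul_sum, Pi.smul_apply, smul_eq_mul]
    exact Finset.sum_congr rfl fun i _ => by ring
  have hD0 : D 0 = 0 := by simp [D]
  have hrat : ∀ w : ι → F, (∀ i, w i ∈ F₁) → π (R w) = D w := by
    intro w hw
    have key : ∀ s : Finset ι, π (R (∑ i ∈ s, w i • (Pi.single i 1 : ι → F))) =
        ∑ i ∈ s, w i * w i * δ i := by
      intro s
      induction s using Finset.induction with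
      | empty => simp
      | insert j s hj ih =>
        rw [Finset.sum_insert hj, Finset.sum_insert hj, Orth.Q_add, map_add, map_add, ih, Orth.Q_smul,
          hπmul _ (mul_mem (hw j) (hw j)), hπ.1 _ (hRpol _ _ (fun i => ?_) (fun i => ?_)), add_zero]
        · by_cases hi : i = j
          · subst hi; simp [hw]
          · simp [hi]
        · rw [Finset.sum_apply]
          exact sum_mem fun l _ => by
            by_cases hl : i = l
            · subst hl; simp [hw]
            · simp [hl]
    have h1 := key Finset.univ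
    rwa [← pi_eq_sum_univ' w] at h1
  rw [hrat u hu]
  have hinvD : ∀ x ∈ P, ∀ w, D (cj B (x : Matrix ι ι F) *ᵥ w) = D w := by
    intro x hx
    set X := cj B (x : Matrix ι ι F) with hX
    have hRX : ∀ w, R (X *ᵥ w) = R w := fun w => by
      rw [hR, hR, Matrix.mulVec_mulVec, hX, e1, ← Matrix.mulVec_mulVec]
      congr 1
      exact Orth.Q_ap ⟨x, hPU hx⟩ _
    have hXs : ∀ i, D (X *ᵥ Pi.single i 1) = D (Pi.single i 1) := fun i => by
      rw [← hrat, ← hrat, hRX]
      · intro j; by_cases hj : j = i
        · subst hj; simp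
        · simp [hj]
      · intro j; rw [Matrix.mulVec_single_one]; exact hB x hx j i
    intro w
    rw [pi_eq_sum_univ' w]
    induction (Finset.univ : Finset ι) using Finset.induction with
    | empty => simp
    | insert j s hj ih =>
      rw [Finset.sum_insert hj, Matrix.mulVec_add, hDadd, hDadd, ih, Matrix.mulVec_smul, hDsmul, hDsmul, hXs]
  let K : Submodule F (ι → F) :=
    { carrier := {w | D (B *ᵥ w) = 0}
      add_mem' := fun {a b} (ha : D _ = 0) (hb : D _ = 0) => by
        show D _ = 0
        rw [Matrix.mulVec_add, hDadd, ha, hb, add_zero]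
      zero_mem' := by show D _ = 0; rw [Matrix.mulVec_zero, hD0]
      smul_mem' := fun a w (hw : D _ = 0) => by
        show D _ = 0
        rw [Matrix.mulVec_smul, hDsmul, hw, mul_zero] }
  have hK : ∀ x ∈ P, ∀ w ∈ K, (x : Matrix ι ι F) *ᵥ w ∈ K := by
    intro x hx w (hw : D _ = 0)
    show D _ = 0
    rw [Matrix.mulVec_mulVec, show (B : Matrix ι ι F) * (x : Matrix ι ι F) =
      cj B (x : Matrix ι ι F) * (B : Matrix ι ι F) by rw [cj_apply, mul_assoc, Units.inv_mul, mul_one],
      ← Matrix.mulVec_mulVec, hinvD x hx, hw]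
  rcases eq_bot_or_top hirr.1 K hK with hb | ht
  · exfalso
    obtain ⟨v, w, hvw, hD⟩ := Fintype.exists_ne_map_eq_of_card_lt (fun v : ι → F => D (B *ᵥ v)) (by
      rw [Fintype.card_pi, Finset.prod_const, Finset.card_univ]
      exact lt_self_pow₀ Fintype.one_lt_card (by omega))
    refine hvw (sub_eq_zero.1 ?_)
    have hm : v - w ∈ K := by
      show D _ = 0
      have h4 := hDadd ((B : Matrix ι ι F) *ᵥ (v - w)) ((B : Matrix ι ι F) *ᵥ w)
      rw [← Matrix.mulVec_add, sub_add_cancel] at h4
      linear_combination hD - h4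
    rwa [hb, Submodule.mem_bot] at hm
  · have h1 : Bi *ᵥ u ∈ K := ht.symm ▸ Submodule.mem_top
    have h3 : D ((B : Matrix ι ι F) *ᵥ (Bi *ᵥ u)) = 0 := h1
    rwa [Matrix.mulVec_mulVec, hBBi, Matrix.one_mulVec] at h3

/-- A rational structure over the subfield of index two gives plus type in even dimension. -/
theorem plus_of_rational_two (hQ : Q.polarBilin.Nondegenerate) {k : ℕ} (hι : Fintype.card ι = 2 * k)
    {F₁ : Subfield F} (hcard : Fintype.card F = Nat.card F₁ ^ 2) (P : GL ι F) {ζ : F} (hζ : ζ ≠ 0)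
    (hst : Geo.IsQuadFormRationalStructure (fun v => ζ * Q v) F₁ P) : Geo.IsPlusTypeOn ⇑Q ⊤ := by
  classical
  let emb : (ι → F₁) →ₗ[F₁] (ι → F) :=
    { toFun := fun u i => (u i : F), map_add' := fun u v => rfl, map_smul' := fun a u => rfl }
  let pe : (ι → F₁) → (ι → F) := fun u => (P : Matrix ι ι F) *ᵥ emb u
  have hpadd : ∀ u v, pe (u + v) = pe u + pe v := fun u v => by
    simp only [pe, map_add, Matrix.mulVec_add]
  have hpsmul : ∀ (a : F₁) u, pe (a • u) = (a : F) • pe u := fun a u => by
    simp only [pe, map_smul]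
    rw [← Matrix.mulVec_smul]
    rfl
  let Q₁ : QuadraticForm F₁ (ι → F₁) := QuadraticMap.ofPolar
    (fun u => ⟨ζ * Q (pe u), hst _ fun i => (u i).2⟩)
    (fun a u => Subtype.ext (by
      show ζ * Q (pe (a • u)) = (a * a : F) * (ζ * Q (pe u))
      rw [hpsmul, Orth.Q_smul]; ring))
    (fun u u' v => Subtype.ext (by
      simp only [polar, AddSubgroupClass.coe_sub, AddMemClass.coe_add, hpadd]
      have h1 := Orth.pl_add_left Q (pe u) (pe u') (pe v)
      simp only [polar] at h1
      linear_combination ζ * h1))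
    (fun a u v => Subtype.ext (by
      simp only [polar, AddSubgroupClass.coe_sub, smul_eq_mul, MulMemClass.coe_mul, hpadd, hpsmul]
      have h1 := Orth.pl_smul_left Q (a : F) (pe u) (pe v)
      simp only [polar] at h1
      linear_combination ζ * h1))
  have hQ₁ : ∀ u, (Q₁ u : F) = ζ * Q (pe u) := fun u => rfl
  have hpol : ∀ u v, ((polar ⇑Q₁ u v : F₁) : F) = ζ * polar ⇑Q (pe u) (pe v) := fun u v => by
    simp only [polar, AddSubgroupClass.coe_sub, hQ₁, hpadd]; ring
  have hsingle : ∀ i, emb (Pi.single i 1) = Pi.single i 1 := fun i => by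
    funext j
    show ((Pi.single i (1 : F₁) : ι → F₁) j : F) = _
    by_cases hj : j = i
    · subst hj; simp
    · simp [hj]
  have hnd : Q₁.polarBilin.Nondegenerate := by
    have key : ∀ u, (∀ v, polar ⇑Q₁ u v = 0) → u = 0 := by
      intro u hu
      have h1 : ∀ i, polar ⇑Q (pe u) ((P : Matrix ι ι F) *ᵥ Pi.single i 1) = 0 := fun i => by
        have h3 := hpol u (Pi.single i 1)
        rw [hu] at h3
        simp only [pe, hsingle, ZeroMemClass.coe_zero] at h3
        exact (mul_eq_zero.1 h3.symm).resolve_left hζ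
      have h2 : pe u = 0 := hQ.1 _ fun y => by
        show polar ⇑Q (pe u) y = 0
        obtain ⟨z, rfl⟩ : ∃ z, (P : Matrix ι ι F) *ᵥ z = y := ⟨((P⁻¹ : GL ι F) : Matrix ι ι F) *ᵥ y, by
          rw [Matrix.mulVec_mulVec, Units.mul_inv, Matrix.one_mulVec]⟩
        rw [pi_eq_sum_univ' z]
        induction (Finset.univ : Finset ι) using Finset.induction with
        | empty => simp [Orth.pl_zero_right]
        | insert j s hj ih =>
          rw [Finset.sum_insert hj, Matrix.mulVec_add, Orth.pl_add_right, ih, Matrix.mulVec_smul,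
            Orth.pl_smul_right, h1, mul_zero, add_zero]
      have h4 : emb u = 0 := Matrix.mulVec_injective_iff_isUnit.2 P.isUnit (h2.trans (Matrix.mulVec_zero _).symm)
      funext i
      exact Subtype.ext (congrFun h4 i)
    exact ⟨fun u hu => key u hu, fun v hv => key v fun u => by rw [QuadraticMap.polar_comm]; exact hv u⟩
  have model : ∀ {κ : Type} [Fintype κ] [DecidableEq κ] (e : (κ → F₁) ≃ₗ[F₁] (ι → F₁))
      (R : QuadraticForm F (κ → F)), (∀ v : κ → F₁, (Q₁ (e v) : F) = R fun j => (v j : F)) →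
      ∀ S : Submodule F (κ → F), (∀ s ∈ S, R s = 0) → Module.finrank F S = k → Geo.IsPlusTypeOn ⇑Q ⊤ := by
    intro κ _ _ e R hR S hS hSd
    let vec : κ → ι → F := fun j => pe (e (Pi.single j 1))
    let L : (κ → F) →ₗ[F] (ι → F) :=
      { toFun := fun v => ∑ j, v j • vec j
        map_add' := fun a b => by simp [add_smul, Finset.sum_add_distrib]
        map_smul' := fun a b => by simp [Finset.smul_sum, smul_smul] }
    have hL : ∀ v : κ → F₁, L (fun j => (v j : F)) = pe (e v) := by
      intro v
      show ∑ j, (v j : F) • vec j = _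
      conv_rhs => rw [pi_eq_sum_univ' v]
      induction (Finset.univ : Finset κ) using Finset.induction with
      | empty => simp [pe]
      | insert j s hj ih => rw [Finset.sum_insert hj, Finset.sum_insert hj, map_add, hpadd, ih, map_smul, hpsmul]
    have hsurj : Function.Surjective L := by
      rw [← LinearMap.range_eq_top, eq_top_iff]
      intro y _
      obtain ⟨z, rfl⟩ : ∃ z, (P : Matrix ι ι F) *ᵥ z = y := ⟨((P⁻¹ : GL ι F) : Matrix ι ι F) *ᵥ y, by
        rw [Matrix.mulVec_mulVec, Units.mul_inv, Matrix.one_mulVec]⟩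
      rw [pi_eq_sum_univ' z, Matrix.mulVec_sum]
      refine Submodule.sum_mem _ fun i _ => ?_
      rw [Matrix.mulVec_smul]
      exact Submodule.smul_mem _ _ ⟨fun j => (e.symm (Pi.single i 1) j : F), by
        rw [hL, LinearEquiv.apply_symm_apply]; simp only [pe, hsingle]⟩
    have hinj : Function.Injective L := (LinearMap.injective_iff_surjective_of_finrank_eq_finrank (by
      rw [Module.finrank_fintype_fun_eq_card, Module.finrank_fintype_fun_eq_card]
      simpa using e.finrank_eq)).2 hsurj
    have heq : ∀ v, ζ * Q (L v) = R v := by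
      let D : QuadraticForm F (κ → F) := ζ • Q.comp L - R
      have hD : ∀ v, D v = ζ * Q (L v) - R v := fun v => by simp [D]
      have hrat : ∀ v : κ → F₁, D (fun j => (v j : F)) = 0 := fun v => by
        rw [hD, hL, ← hR, hQ₁, sub_self]
      have hone : ∀ j, D (Pi.single j 1) = 0 := fun j => by
        have h1 := hrat (Pi.single j 1)
        rwa [show (fun l => ((Pi.single j (1 : F₁) : κ → F₁) l : F)) = Pi.single j 1 from funext fun l => by
          by_cases hl : l = j
          · subst hl; simp
          · simp [hl]] at h1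
      have hpair : ∀ i j, i ≠ j → polar ⇑D (Pi.single i 1) (Pi.single j 1) = 0 := fun i j hij => by
        have h1 := hrat (Pi.single i 1 + Pi.single j 1)
        rw [show (fun l => ((((Pi.single i 1 : κ → F₁) + (Pi.single j 1 : κ → F₁)) l : F₁) : F)) =
          Pi.single i 1 + Pi.single j 1 from funext fun l => by
          by_cases hl : l = j
          · subst hl; simp [Ne.symm hij]
          · by_cases hl' : l = i
            · subst hl'; simp [hl]
            · simp [hl, hl']] at h1
        simp only [polar, h1, hone, sub_zero]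
      intro v
      refine sub_eq_zero.1 ((hD v).symm.trans ?_)
      rw [pi_eq_sum_univ' v]
      induction (Finset.univ : Finset κ) using Finset.induction with
      | empty => simp
      | insert j s hj ih =>
        rw [Finset.sum_insert hj, Orth.Q_add, ih, Orth.Q_smul, hone, mul_zero, zero_add, zero_add,
          Orth.pl_smul_left]
        have : ∀ t : Finset κ, j ∉ t → polar ⇑D (Pi.single j 1) (∑ l ∈ t, v l • (Pi.single l 1 : κ → F)) = 0 := by
          intro t
          induction t using Finset.induction with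
          | empty => intro; simp [Orth.pl_zero_right]
          | insert l t hl ih' =>
            intro hjt
            rw [Finset.mem_insert, not_or] at hjt
            rw [Finset.sum_insert hl, Orth.pl_add_right, Orth.pl_smul_right, hpair j l hjt.1, mul_zero,
              ih' hjt.2, add_zero]
        rw [this s hj, mul_zero]
    refine ⟨S.map L, le_top, ?_, ?_⟩
    · rintro _ ⟨s, hs, rfl⟩
      have h1 := heq s
      rw [hS s hs] at h1
      exact (mul_eq_zero.1 h1).resolve_left hζ
    · rw [← (Submodule.equivMapOfInjective L hinj S).finrank_eq, hSd, finrank_top, Orth.finrank_space, hι]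
  rcases Forms.classify Q₁ hnd with ⟨m, e, he⟩ | ⟨m, a, b, e, hab, he⟩ | ⟨m, c, e, -, -, -⟩
  · have hm : m = k := by
      have := e.finrank_eq
      simp [Module.finrank_fintype_fun_eq_card, hι] at this
      omega
    refine model e (Forms.qfPlus m F) (fun v => ?_) (Forms.plusMax₁ m) (Forms.plusMax₁_singular m)
      ((Forms.finrank_plusMax₁ m).trans hm)
    rw [he, Forms.qfPlus_apply, Forms.qfPlus_apply]
    simp [Cfsg.quadFormPlus]
  · have hm : m + 1 = k := by
      have := e.finrank_eq
      simp [Module.finrank_fintype_fun_eq_card, hι] at this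
      omega
    obtain ⟨r, hr⟩ : ∃ r : F, r ^ 2 + (a : F) * r + b = 0 := by
      let p : Polynomial F₁ := Polynomial.X ^ 2 + Polynomial.C a * Polynomial.X + Polynomial.C b
      have hdeg : p.natDegree = 2 := by simp only [p]; compute_degree!
      have hirr : Irreducible p := by
        rw [Polynomial.irreducible_iff_roots_eq_zero_of_degree_le_three (by omega) (by omega)]
        refine Multiset.eq_zero_of_forall_notMem fun x hx => ?_
        have h1 := (Polynomial.mem_roots'.1 hx).2
        simp only [p, Polynomial.IsRoot, Polynomial.eval_add, Polynomial.eval_mul, Polynomial.eval_pow,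
          Polynomial.eval_X, Polynomial.eval_C] at h1
        exact one_ne_zero (hab x 1 (by linear_combination h1)).2
      have : Fact (Irreducible p) := ⟨hirr⟩
      have hfr : Module.finrank F₁ F = 2 := by
        have h1 := Module.natCard_eq_pow_finrank (K := F₁) (V := F)
        rw [Nat.card_eq_fintype_card (α := F), hcard] at h1
        exact (Nat.pow_right_injective (Finite.one_lt_card (α := F₁)) h1).symm
      obtain ⟨f⟩ := FiniteField.nonempty_algHom_of_finrank_dvd (F := F₁) (K := AdjoinRoot p) (L := F) (by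
        rw [(AdjoinRoot.powerBasis hirr.ne_zero).finrank, AdjoinRoot.powerBasis_dim, hdeg, hfr])
      refine ⟨f (AdjoinRoot.root p), ?_⟩
      have h1 := congrArg f (AdjoinRoot.eval₂_root p)
      simp only [p, Polynomial.eval₂_add, Polynomial.eval₂_mul, Polynomial.eval₂_pow, Polynomial.eval₂_X,
        Polynomial.eval₂_C, map_add, map_mul, map_pow, map_zero, ← AdjoinRoot.algebraMap_eq,
        AlgHom.commutes] at h1
      exact h1
    let sg : (Fin m → F) × F →ₗ[F] ((Fin m ⊕ Fin m) ⊕ Fin 2 → F) :=
      { toFun := fun x => Sum.elim (Sum.elim x.1 0) ![r * x.2, x.2]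
        map_add' := fun x y => by
          funext j
          rcases j with (i | i) | i
          · simp
          · simp
          · fin_cases i <;> simp [mul_add]
        map_smul' := fun s x => by
          funext j
          rcases j with (i | i) | i
          · simp
          · simp
          · fin_cases i <;> simp [mul_left_comm] }
    refine model e (Forms.qfMinus m F (a : F) (b : F)) (fun v => ?_) (LinearMap.range sg) ?_ ?_
    · rw [he, Forms.qfMinus_apply, Forms.qfMinus_apply]
      simp [Cfsg.quadFormMinus]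
    · rintro _ ⟨x, rfl⟩
      rw [Forms.qfMinus_apply]
      simp [Cfsg.quadFormMinus, sg]
      linear_combination (x.2 ^ 2) * hr
    · rw [LinearMap.finrank_range_of_inj, Module.finrank_prod, Module.finrank_fintype_fun_eq_card,
        Module.finrank_self, Fintype.card_fin, hm]
      intro x y hxy
      refine Prod.ext (funext fun i => ?_) ?_
      · simpa [sg] using congrFun hxy (.inl (.inl i))
      · simpa [sg] using congrFun hxy (.inr 1)
  · exfalso
    have := e.finrank_eq
    simp [Module.finrank_fintype_fun_eq_card, hι] at this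
    omega

/-- A core is residual or gives a rational structure. -/
theorem even_core (hQ : Q.polarBilin.Nondegenerate) {k : ℕ} (hk : 1 ≤ k) (hι : Fintype.card ι = 2 * k)
    {H P : Subgroup (GL ι F)} (hH : H ≤ Cfsg.isometryGroup F ⇑Q) (hP : IsCore H P) :
    (∃ (F₁ : Subfield F) (r : ℕ) (B : GL ι F) (ζ : F), r.Prime ∧ Fintype.card F = Nat.card F₁ ^ r ∧ ζ ≠ 0 ∧
      Geo.IsQuadFormRationalStructure (fun v => ζ * Q v) F₁ B ∧ (¬ Geo.IsPlusTypeOn ⇑Q ⊤ → Odd r) ∧
      H ≤ Geo.subfieldSubgroup F₁ B) ∨
    Geo.InOrthogonalResidualClass H := by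
  classical
  have : Nonempty ι := Fintype.card_pos_iff.mp (by omega)
  have hPI : P ≤ Cfsg.isometryGroup F ⇑Q := hP.le.trans hH
  by_cases hsub : ∃ F₀ : Subfield F, F₀ ≠ ⊤ ∧ Geo.RealisableOver F₀ (Geo.matrixSet P)
  · obtain ⟨F₀, hF₀, hr⟩ := hsub
    obtain ⟨F₁, r, B, hr', hc, -, -, hB, hle⟩ := le_subfield_of_realisable hP.normal hP.span_eq hF₀ hr
    obtain ⟨c, hc0, hst⟩ := exists_rational_form hQ (by omega) hPI hP.absIrred B hB
    refine Or.inl ⟨F₁, r, B⁻¹, c, hr', hc, hc0, hst, fun hm => ?_, hle⟩
    rcases hr'.eq_two_or_odd' with rfl | h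
    · exact absurd (plus_of_rational_two hQ hι hc _ hc0 hst) hm
    · exact h
  refine Or.inr ⟨P, ⟨hP.le, hP.normal, hP.perfect, hP.simple, hP.nonabelian, hP.centralizer_scalar,
      hP.absIrred, fun F₀ h h' => hsub ⟨F₀, h, h'⟩⟩, ?_⟩
  rintro ⟨σ, f, hf, hfP⟩
  refine hsub ⟨RingHom.eqLocusField (σ : F →+* F) (RingHom.id F), fun htop => hf.ne_refl (RingEquiv.ext fun x => ?_),
    realisableOver_of_trace hP.span_eq (scalar_of_span hP.span_eq) _ fun x hx => ?_⟩
  · exact (show x ∈ RingHom.eqLocusField (σ : F →+* F) (RingHom.id F) from htop ▸ Subfield.mem_top x)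
  · have h1 := trace_inv_of_unitary hf hfP x hx
    have h3 : ((x⁻¹ : GL ι F) : Matrix ι ι F).trace = (x : Matrix ι ι F).trace := by
      have hI : Inv (RingHom.id F) P (gramQ Q) := fun g hg => by
        rw [RingHom.coe_id, Matrix.map_id]; exact gram_of_isometry (hPI hg)
      simpa using hI.trace_inv (isUnit_gram hQ) hx
    show (σ : F →+* F) _ = _
    rw [RingHom.id_apply]
    exact h1.symm.trans h3

end Cfsg.Agent.Aschbacher
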