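/-
Decompositions preserved by an irreducible maximal subgroup of Ω in even dimension.
Main results: `decomp_outcome`, `orth_decomp_of_family`, `halves_singular`, `plus_of_four`,
`two_halves_disc`, `frame_disc`, `monomial_subfield_even`, `plane_sum_reducible`.
-/
import Cfsg.Agent.Lib.Aschbacher.EvenBase

set_option autoImplicit false
set_option linter.unusedSectionVars false

namespace Cfsg.Agent.Aschbacher

open Matrix Module
open Cfsg.Agent.PrimeDim
open QuadraticMap (polar)
open Orth (perpSub)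

variable {ι : Type} [Fintype ι] [DecidableEq ι] {F : Type*} [Field F] [Fintype F]
variable {Q : QuadraticForm F (ι → F)}

/-- In dimensions 8 to 12 every decomposition has few small members. -/
theorem size_ok {n t m q : ℕ} (hn : n = 8 ∨ n = 10 ∨ n = 12) (ht : 2 ≤ t) (htm : t * m = n) (hq : 2 ≤ q) :
    t * q ^ m < q ^ (n - 2) := by
  have hm : 1 ≤ m := by
    rcases Nat.eq_zero_or_pos m with h | h
    · subst h; omega
    · exact h
  have ht12 : t ≤ 12 := by
    have : t * 1 ≤ t * m := Nat.mul_le_mul_left _ hm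
    omega
  have hm6 : m ≤ 6 := by
    have : 2 * m ≤ t * m := Nat.mul_le_mul_right _ ht
    omega
  have key : t < 2 ^ (n - 2 - m) ∧ m ≤ n - 2 := by
    rcases hn with rfl | rfl | rfl <;> interval_cases t <;> interval_cases m <;> omega
  calc t * q ^ m < q ^ (n - 2 - m) * q ^ m :=
        Nat.mul_lt_mul_of_pos_right (key.1.trans_le (Nat.pow_le_pow_left hq _)) (pow_pos (by omega) _)
    _ = q ^ (n - 2) := by rw [← pow_add, Nat.sub_add_cancel key.2]

/-- A decomposition preserved by an irreducible maximal subgroup is its stabiliser's. -/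
theorem decomp_outcome (hQ : Q.polarBilin.Nondegenerate)
    (hn : Fintype.card ι = 8 ∨ Fintype.card ι = 10 ∨ Fintype.card ι = 12) {H : Subgroup (GL ι F)}
    (hH : Geo.IsMaximalIn (Geo.omegaGL ⇑Q) H) (hirr : Geo.ActsIrreducibly (Geo.matrixSet H)) {t m : ℕ}
    {D : Fin t → Submodule F (ι → F)} (hD : Geo.IsNondegenerateMDecomposition (polar ⇑Q) m D)
    (htm : t * m = Fintype.card ι) (hle : H ≤ Geo.decompositionStabilizer D) :
    Geo.IsOrthogonalMDecomposition ⇑Q m D ∧ H = Geo.decompositionStabilizer D ⊓ Geo.omegaGL ⇑Q :=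
  ⟨⟨hD, orth_decomp_isometric (le_iso hH.1.le) hirr hD.decomp hle⟩,
    eq_inf_of_le hH hle (not_omega_le_mdecomp hQ (by omega) hD.decomp
      (size_ok hn hD.decomp.two_le htm (Fintype.one_lt_card (α := F))))⟩

theorem toLin'_injective (g : GL ι F) : Function.Injective (Matrix.toLin' (g : Matrix ι ι F)) :=
  fun a b h => by
    rw [Matrix.toLin'_apply, Matrix.toLin'_apply] at h
    exact Matrix.mulVec_injective_iff_isUnit.2 g.isUnit h

theorem map_of_mem {U V : Submodule F (ι → F)} (g : GL ι F) (hd : finrank F U = finrank F V)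
    (h : ∀ u ∈ U, (g : Matrix ι ι F) *ᵥ u ∈ V) : U.map (Matrix.toLin' (g : Matrix ι ι F)) = V :=
  Submodule.eq_of_le_of_finrank_eq (by rintro _ ⟨u, hu, rfl⟩; rw [Matrix.toLin'_apply]; exact h u hu)
    ((Submodule.equivMapOfInjective _ (toLin'_injective g) U).finrank_eq.symm.trans hd)

/-- Pairwise orthogonal non-degenerate subspaces filling the dimension, permuted by `H`. -/
theorem orth_decomp_of_family (hQ : Q.polarBilin.Nondegenerate) {H : Subgroup (GL ι F)} {t m : ℕ}
    (E : Fin t → Submodule F (ι → F)) (ht : 2 ≤ t) (hm : 1 ≤ m) (htm : t * m = Fintype.card ι)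
    (hd : ∀ i, finrank F (E i) = m) (hnd : ∀ i, ND Q (E i))
    (horth : ∀ i j, i ≠ j → ∀ a ∈ E i, ∀ b ∈ E j, polar ⇑Q a b = 0)
    (hperm : ∀ g ∈ H, ∀ i, ∃ j, ∀ u ∈ E i, (g : Matrix ι ι F) *ᵥ u ∈ E j) :
    Geo.IsNondegenerateMDecomposition (polar ⇑Q) m E ∧ H ≤ Geo.decompositionStabilizer E := by
  classical
  have hgeo : ∀ i, Geo.IsNondegenerateOn (polar ⇑Q) (E i) := fun i => Orth.geoNondegOn (hnd i)
  have hind : iSupIndep E := by
    intro i
    rw [disjoint_iff]
    refine disjoint_of_orth (hnd i) fun a ha b hb => ?_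
    have hle : (⨆ (j) (_ : j ≠ i), E j) ≤ LinearMap.ker (Q.polarBilin a) :=
      iSup₂_le fun j hj b hb => horth i j hj.symm a ha b hb
    exact hle hb
  have hne : ∀ i, E i ≠ ⊥ := fun i h => by
    have := hd i
    rw [h, finrank_bot] at this
    omega
  have hinj : Function.Injective E := fun i j h => by
    by_contra hne'
    have h1 := hind.pairwiseDisjoint hne'
    rw [Function.onFun, h, disjoint_self] at h1
    exact hne j h1
  have hsum : ∀ s : Finset (Fin t), finrank F ↥(⨆ i ∈ s, E i) = s.card * m := by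
    intro s
    induction s using Finset.induction_on with
    | empty =>
      have h0 : (⨆ j ∈ (∅ : Finset (Fin t)), E j) = ⊥ := by simp
      rw [h0, finrank_bot]; simp
    | @insert i s hi ih =>
      rw [Finset.iSup_insert, finrank_sup_orth (hnd i) (fun a ha b hb => ?_), hd, ih,
        Finset.card_insert_of_notMem hi]
      · ring
      · have hle : (⨆ j ∈ s, E j) ≤ LinearMap.ker (Q.polarBilin a) :=
          iSup₂_le fun j hj b hb => horth i j (fun h => hi (h ▸ hj)) a ha b hb
        exact hle hb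
  have htop : iSup E = ⊤ := by
    refine Submodule.eq_top_of_finrank_eq ?_
    have := hsum Finset.univ
    rw [show (⨆ i ∈ (Finset.univ : Finset (Fin t)), E i) = iSup E by simp, Finset.card_univ,
      Fintype.card_fin] at this
    rw [this, Orth.finrank_space, htm]
  refine ⟨⟨⟨ht, hm, hd, hind, htop⟩, hgeo, fun i j h => horth i j h⟩, fun g hg => ?_⟩
  choose π hπ using hperm g hg
  have hmap : ∀ i, (E i).map (Matrix.toLin' (g : Matrix ι ι F)) = E (π i) := fun i =>
    map_of_mem g ((hd i).trans (hd _).symm) (hπ i)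
  have hπinj : Function.Injective π := fun i j h => hinj
    (Submodule.map_injective_of_injective (toLin'_injective g) ((hmap i).trans (h ▸ (hmap j).symm)))
  exact ⟨Equiv.ofBijective π (Finite.injective_iff_bijective.1 hπinj), hmap⟩

/-- Complementary isotropic halves of an irreducible group are singular, and of even dimension. -/
theorem halves_singular (hQ : Q.polarBilin.Nondegenerate) {k : ℕ} (hι : Fintype.card ι = 2 * k)
    (hk : 4 ≤ k) {H : Subgroup (GL ι F)} (hH : H ≤ Geo.omegaGL ⇑Q)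
    (hirr : Geo.ActsIrreducibly (Geo.matrixSet H)) {D : Fin 2 → Submodule F (ι → F)}
    (hD : Geo.IsMDecomposition k D) (hts : ∀ i, Geo.IsTotallySingularFor (polar ⇑Q) (D i))
    (hle : H ≤ Geo.decompositionStabilizer D) :
    (∀ i, Geo.IsTotallySingularQuad ⇑Q (D i)) ∧ Even k ∧ Geo.IsPlusTypeOn ⇑Q ⊤ := by
  classical
  have hI := le_iso hH
  have hperp : ∀ i, ∀ a ∈ D i, ∀ b ∈ D i, polar ⇑Q a b = 0 := fun i => hts i
  have hne : D 0 ≠ ⊥ := fun h => by have := hD.finrank_eq 0; rw [h, finrank_bot] at this; omega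
  have hdisj : D 0 ⊓ D 1 = ⊥ :=
    disjoint_iff.1 (hD.indep.pairwiseDisjoint (show (0 : Fin 2) ≠ 1 by decide))
  have hQ0 : ∀ i, Geo.IsTotallySingularQuad ⇑Q (D i) := by
    by_cases h2 : (2 : F) = 0
    swap
    · intro i w hw
      have h1 := hperp i w hw w hw
      rw [Orth.pl_self] at h1
      exact (mul_eq_zero.mp h1).resolve_left h2
    let K : Fin 2 → Submodule F (ι → F) := fun i =>
      { carrier := {w | w ∈ D i ∧ Q w = 0}
        zero_mem' := ⟨zero_mem _, QuadraticMap.map_zero _⟩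
        add_mem' := fun {a b} ha hb => ⟨add_mem ha.1 hb.1, by
          rw [Orth.Q_add, ha.2, hb.2, hperp i a ha.1 b hb.1, add_zero, add_zero]⟩
        smul_mem' := fun c w hw => ⟨(D i).smul_mem c hw.1, by rw [Orth.Q_smul, hw.2, mul_zero]⟩ }
    have hKD : ∀ i, K i ≤ D i := fun i w hw => hw.1
    have hinv : ∀ g ∈ H, ∀ w ∈ K 0 ⊔ K 1, (g : Matrix ι ι F) *ᵥ w ∈ K 0 ⊔ K 1 := by
      intro g hg w hw
      obtain ⟨π, hπ⟩ := hle hg
      have hmem : ∀ i, ∀ u ∈ K i, (g : Matrix ι ι F) *ᵥ u ∈ K 0 ⊔ K 1 := by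
        intro i u hu
        have h1 : (g : Matrix ι ι F) *ᵥ u ∈ K (π i) := by
          refine ⟨?_, by rw [iso_Q (hI hg)]; exact hu.2⟩
          rw [← hπ i]; exact ⟨u, hu.1, Matrix.toLin'_apply _ _⟩
        rcases (by omega : π i = 0 ∨ π i = 1) with h | h <;> rw [h] at h1
        · exact Submodule.mem_sup_left h1
        · exact Submodule.mem_sup_right h1
      obtain ⟨u, hu, v, hv, rfl⟩ := Submodule.mem_sup.1 hw
      rw [Matrix.mulVec_add]
      exact add_mem (hmem 0 u hu) (hmem 1 v hv)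
    have : CharP F 2 := CharTwo.of_one_ne_zero_of_two_eq_zero one_ne_zero h2
    have : ExpChar F 2 := ExpChar.prime Nat.prime_two
    have hsq : Function.Surjective (frobenius F 2 : F → F) :=
      Finite.injective_iff_surjective.mp (frobenius F 2).injective
    have hKne : K 0 ≠ ⊥ := by
      intro hK
      have hsub : D 0 ≤ K 0 ∨ ∃ v, D 0 ≤ F ∙ v := by
        by_cases hv : ∀ w ∈ D 0, Q w = 0
        · exact .inl fun w hw => ⟨hw, hv w hw⟩
        · simp only [not_forall, exists_prop] at hv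
          obtain ⟨v, hv, hv0⟩ := hv
          refine .inr ⟨v, fun w hw => ?_⟩
          obtain ⟨c, hc⟩ := hsq (Q w / Q v)
          rw [frobenius_def] at hc
          have : w + c • v ∈ K 0 := ⟨add_mem hw ((D 0).smul_mem c hv), by
            rw [Orth.Q_add, Orth.Q_smul, hperp 0 w hw _ ((D 0).smul_mem c hv), ← sq, hc,
              div_mul_cancel₀ _ hv0]
            linear_combination Q w * h2⟩
          rw [hK, Submodule.mem_bot] at this
          exact Submodule.mem_span_singleton.2 ⟨-c, by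
            rw [neg_smul, eq_neg_of_add_eq_zero_left this]⟩
      rcases hsub with h | ⟨v, h⟩
      · exact hne (le_bot_iff.1 (hK ▸ h))
      · have h1 := (Submodule.finrank_mono h).trans (finrank_span_le_card {v})
        rw [hD.finrank_eq] at h1
        simp at h1
        omega
    have htop := (irred_invariant hirr hinv).resolve_left fun h =>
      hKne (le_bot_iff.1 (h ▸ le_sup_left))
    have hle01 : finrank F ↥(K 0) + finrank F ↥(K 1) = 2 * k := by
      have h1 := Submodule.finrank_sup_add_finrank_inf_eq (K 0) (K 1)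
      rw [htop, finrank_top, Orth.finrank_space, le_bot_iff.1 ((inf_le_inf (hKD 0) (hKD 1)).trans hdisj.le),
        finrank_bot, add_zero] at h1
      omega
    intro i w hw
    have hd0 := Submodule.finrank_mono (hKD 0)
    have hd1 := Submodule.finrank_mono (hKD 1)
    rw [hD.finrank_eq] at hd0 hd1
    have heq : K i = D i := Submodule.eq_of_le_of_finrank_le (hKD i) (by
      rw [hD.finrank_eq]; fin_cases i <;> simp only [Fin.zero_eta, Fin.mk_one] <;> omega)
    exact (heq.ge hw).2
  refine ⟨hQ0, ?_, ⟨D 0, le_top, hQ0 0, by rw [hD.finrank_eq, finrank_top, Orth.finrank_space, hι]⟩⟩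
  by_contra hodd
  rw [Nat.not_even_iff_odd] at hodd
  by_cases hsw : ∀ g ∈ H, ∀ u ∈ D 0, (g : Matrix ι ι F) *ᵥ u ∈ D 0
  · rcases irred_invariant hirr hsw with h | h
    · exact hne h
    · have := hD.finrank_eq 0
      rw [h, finrank_top, Orth.finrank_space] at this
      omega
  · simp only [not_forall, exists_prop] at hsw
    obtain ⟨g, hg, u, hu, hgu⟩ := hsw
    obtain ⟨π, hπ⟩ := hle hg
    have h1 : π 0 = 1 := by
      by_contra h
      exact hgu ((show (D 0).map (Matrix.toLin' (g : Matrix ι ι F)) = D 0 by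
        rw [hπ 0, show π 0 = 0 by omega]).le ⟨u, hu, Matrix.toLin'_apply _ _⟩)
    refine no_swap_singular hQ (by omega) hι hodd (hD.finrank_eq 0) (hQ0 0) (hH hg) ?_
    rw [hπ 0, h1, hdisj]

theorem exists_minus_one_sum : ∃ a b : F, 1 + a ^ 2 + b ^ 2 = 0 := by
  by_cases h2 : (2 : F) = 0
  · exact ⟨1, 0, by linear_combination h2⟩
  · obtain ⟨x, y, h⟩ := QuadClass.exists_one_eq h2 (neg_ne_zero.2 (one_ne_zero (α := F)))
      (neg_ne_zero.2 one_ne_zero)
    exact ⟨x, y, by linear_combination -h⟩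

/-- Four orthogonal isometric members give plus type. -/
theorem plus_of_four {m : ℕ} {D : Fin 4 → Submodule F (ι → F)}
    (hD : Geo.IsOrthogonalMDecomposition ⇑Q m D) (hcard : Fintype.card ι = 4 * m) :
    Geo.IsPlusTypeOn ⇑Q ⊤ := by
  choose e he using fun j => hD.isometric 0 j
  obtain ⟨a, b, hab⟩ := exists_minus_one_sum (F := F)
  let p : Fin 4 → (D 0 →ₗ[F] (ι → F)) := fun j => (D j).subtype ∘ₗ (e j).toLinearMap
  have hp : ∀ j w, p j w ∈ D j := fun j w => (e j w).2
  have hQp : ∀ j w, Q (p j w) = Q (w : ι → F) := fun j w => he j w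
  have ho : ∀ i j, i ≠ j → ∀ v w, polar ⇑Q (p i v) (p j w) = 0 := fun i j h v w =>
    hD.decomp.orthogonal i j h _ (hp i v) _ (hp j w)
  have hpol : ∀ i v w, polar ⇑Q (p i v) (p i w) = polar ⇑Q (v : ι → F) (w : ι → F) := fun i v w => by
    simp only [polar, ← map_add, hQp]; rfl
  let L : D 0 × D 0 →ₗ[F] (ι → F) :=
    (p 0 + a • p 1 + b • p 2).comp (LinearMap.fst F _ _) + ((-b) • p 1 + a • p 2 + p 3).comp (LinearMap.snd F _ _)
  have hL : ∀ v w, L (v, w) = (p 0 v + a • p 1 v + b • p 2 v) + ((-b) • p 1 w + a • p 2 w + p 3 w) :=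
    fun _ _ => rfl
  refine ⟨LinearMap.range L, le_top, ?_, ?_⟩
  · rintro _ ⟨⟨v, w⟩, rfl⟩
    rw [hL]
    simp only [Orth.Q_add, Orth.Q_smul, Orth.pl_add_left, Orth.pl_add_right, Orth.pl_smul_left,
      Orth.pl_smul_right, hQp, hpol, ho 0 1 (by decide), ho 0 2 (by decide), ho 0 3 (by decide),
      ho 1 2 (by decide), ho 1 3 (by decide), ho 2 3 (by decide), ho 2 1 (by decide), mul_zero, add_zero,
      zero_add]
    linear_combination (Q (v : ι → F) + Q (w : ι → F)) * hab
  · have hker : ∀ v w, L (v, w) = 0 → v = 0 ∧ w = 0 := by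
      intro v w h
      rw [hL] at h
      constructor
      · by_contra hv
        obtain ⟨y, hy, hne⟩ := member_nd hD 0 v v.2 (fun h' => hv (Subtype.ext h'))
        have h1 := congrArg (fun x => polar ⇑Q x (p 0 ⟨y, hy⟩)) h
        simp only [Orth.pl_add_left, Orth.pl_smul_left, Orth.pl_zero_left, hpol, ho 1 0 (by decide),
          ho 2 0 (by decide), ho 3 0 (by decide), mul_zero, add_zero, zero_add] at h1
        exact hne h1
      · by_contra hw
        obtain ⟨y, hy, hne⟩ := member_nd hD 0 w w.2 (fun h' => hw (Subtype.ext h'))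
        have h1 := congrArg (fun x => polar ⇑Q x (p 3 ⟨y, hy⟩)) h
        simp only [Orth.pl_add_left, Orth.pl_smul_left, Orth.pl_zero_left, hpol, ho 1 3 (by decide),
          ho 2 3 (by decide), ho 0 3 (by decide), mul_zero, add_zero, zero_add] at h1
        exact hne h1
    rw [LinearMap.finrank_range_of_inj ((injective_iff_map_eq_zero L).2 fun x hx => by
      obtain ⟨h1, h2⟩ := hker x.1 x.2 hx
      exact Prod.ext h1 h2), Module.finrank_prod, finrank_top, Orth.finrank_space,
      hD.decomp.decomp.finrank_eq, hcard]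
    omega

/-- Two orthogonal halves of odd dimension: isometry against type. -/
theorem two_halves_disc (hQ : Q.polarBilin.Nondegenerate) (h2 : (2 : F) ≠ 0) {k : ℕ} (hk : Odd k)
    (hι : Fintype.card ι = 2 * k) {D : Fin 2 → Submodule F (ι → F)}
    (hD : Geo.IsNondegenerateMDecomposition (polar ⇑Q) k D) :
    Geo.IsPlusTypeOn ⇑Q ⊤ ↔ (Geo.AreIsometricFor ⇑Q (D 0) (D 1) ↔ IsSquare (-1 : F)) := by
  classical
  have hnd : ∀ i, ND Q (D i) := fun i => Orth.nondegOn_of_geo (hD.nondegenerate i)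
  have horth := hD.orthogonal 0 1 (by decide)
  let b : ∀ i, (Fin k → F) ≃ₗ[F] D i := fun i =>
    (Module.finBasisOfFinrankEq F (D i) (hD.decomp.finrank_eq i)).equivFun.symm
  let R : Fin 2 → QuadraticForm F (Fin k → F) := fun i => Q.comp ((D i).subtype ∘ₗ (b i).toLinearMap)
  have hR : ∀ i, (R i).polarBilin.Nondegenerate := by
    intro i
    have key : ∀ v, (∀ w, polar ⇑(R i) v w = 0) → v = 0 := by
      intro v hv
      by_contra h
      obtain ⟨y, hy, hne⟩ := hnd i _ (b i v).2 (fun h' => h ((b i).injective (by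
        rw [map_zero]; exact Subtype.ext h')))
      have := hv ((b i).symm ⟨y, hy⟩)
      simp only [polar, R, QuadraticMap.comp_apply, ← map_add] at this
      simp only [polar] at hne
      simp at this
      exact hne this
    refine ⟨fun v hv => key v fun w => hv w, fun v hv => key v fun w => ?_⟩
    rw [QuadraticMap.polar_comm]
    exact hv w
  have hdne : ∀ i, QuadClass.disc (R i) ≠ 0 := fun i => QuadClass.disc_ne_zero _ (hR i)
  -- isometry is a square condition
  have hiso : Geo.AreIsometricFor ⇑Q (D 0) (D 1) ↔ IsSquare (QuadClass.disc (R 0) * QuadClass.disc (R 1)) := by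
    rw [← QuadClass.equivalent_iff_disc h2 _ _ (hR 0) (hR 1)]
    constructor
    · rintro ⟨e, he⟩
      exact ⟨⟨(b 0).trans (e.trans (b 1).symm), fun v => by
        show Q ((b 1 ((b 1).symm (e (b 0 v))) : D 1) : ι → F) = Q ((b 0 v : D 0) : ι → F)
        rw [LinearEquiv.apply_symm_apply, he]⟩⟩
    · rintro ⟨f⟩
      exact ⟨(b 0).symm.trans (f.toLinearEquiv.trans (b 1)), fun w => by
        have := f.map_app ((b 0).symm w)
        simp only [R, QuadraticMap.comp_apply, LinearMap.coe_comp, LinearEquiv.coe_coe, Function.comp_apply,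
          LinearEquiv.apply_symm_apply] at this
        exact this⟩
  -- the discriminant of the whole
  let P : QuadraticForm F (Fin k ⊕ Fin k → F) :=
    (R 0).comp (LinearMap.funLeft F F Sum.inl) + (R 1).comp (LinearMap.funLeft F F Sum.inr)
  let L : (Fin k ⊕ Fin k → F) →ₗ[F] (ι → F) :=
    (D 0).subtype ∘ₗ (b 0).toLinearMap ∘ₗ LinearMap.funLeft F F Sum.inl +
      (D 1).subtype ∘ₗ (b 1).toLinearMap ∘ₗ LinearMap.funLeft F F Sum.inr
  have hL : Function.Injective L := by
    rw [← LinearMap.ker_eq_bot, Submodule.eq_bot_iff]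
    intro v hv
    have h0 : ((b 0 (v ∘ Sum.inl) : D 0) : ι → F) ∈ D 0 ⊓ D 1 := ⟨(b 0 _).2, by
      rw [eq_neg_of_add_eq_zero_left (show ((b 0 (v ∘ Sum.inl) : D 0) : ι → F) +
        ((b 1 (v ∘ Sum.inr) : D 1) : ι → F) = 0 from hv)]
      exact (D 1).neg_mem (b 1 _).2⟩
    rw [disjoint_of_orth (hnd 0) horth, Submodule.mem_bot] at h0
    have h1 : ((b 1 (v ∘ Sum.inr) : D 1) : ι → F) = 0 := by
      have : ((b 0 (v ∘ Sum.inl) : D 0) : ι → F) + ((b 1 (v ∘ Sum.inr) : D 1) : ι → F) = 0 := hv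
      rwa [h0, zero_add] at this
    funext i
    rcases i with i | i
    · exact congrFun ((b 0).injective ((Subtype.ext h0 : b 0 _ = 0).trans (map_zero _).symm)) i
    · exact congrFun ((b 1).injective ((Subtype.ext h1 : b 1 _ = 0).trans (map_zero _).symm)) i
  have hcard : finrank F (Fin k ⊕ Fin k → F) = finrank F (ι → F) := by
    simp [Orth.finrank_space, hι]; omega
  let e : (Fin k ⊕ Fin k → F) ≃ₗ[F] (ι → F) := LinearEquiv.ofBijective L
    ⟨hL, (LinearMap.injective_iff_surjective_of_finrank_eq_finrank hcard).1 hL⟩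
  have he : ∀ v, Q (e v) = P v := fun v => by
    show Q (((b 0 (v ∘ Sum.inl) : D 0) : ι → F) + ((b 1 (v ∘ Sum.inr) : D 1) : ι → F)) = _
    rw [Orth.Q_add, horth _ (b 0 _).2 _ (b 1 _).2, add_zero]
    rfl
  have hgram : Orth.gram ⇑P = Matrix.fromBlocks (LinearMap.BilinForm.toMatrix' (R 0).polarBilin) 0 0
      (LinearMap.BilinForm.toMatrix' (R 1).polarBilin) := by
    have h0l : ∀ a : Fin k, (Pi.single (Sum.inl a) 1 : Fin k ⊕ Fin k → F) ∘ Sum.inl = Pi.single a 1 :=
      fun a => funext fun x => by simp [Pi.single_apply]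
    have h0r : ∀ a : Fin k, (Pi.single (Sum.inl a) 1 : Fin k ⊕ Fin k → F) ∘ Sum.inr = 0 :=
      fun a => funext fun x => by simp
    have h1l : ∀ a : Fin k, (Pi.single (Sum.inr a) 1 : Fin k ⊕ Fin k → F) ∘ Sum.inl = 0 :=
      fun a => funext fun x => by simp
    have h1r : ∀ a : Fin k, (Pi.single (Sum.inr a) 1 : Fin k ⊕ Fin k → F) ∘ Sum.inr = Pi.single a 1 :=
      fun a => funext fun x => by simp [Pi.single_apply]
    have hP : ∀ u v, polar ⇑P u v =
        polar ⇑(R 0) (u ∘ Sum.inl) (v ∘ Sum.inl) + polar ⇑(R 1) (u ∘ Sum.inr) (v ∘ Sum.inr) := by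
      intro u v
      show (R 0 ((u + v) ∘ Sum.inl) + R 1 ((u + v) ∘ Sum.inr)) - (R 0 (u ∘ Sum.inl) + R 1 (u ∘ Sum.inr)) -
        (R 0 (v ∘ Sum.inl) + R 1 (v ∘ Sum.inr)) = _
      simp only [polar]
      rw [show (u + v) ∘ Sum.inl = u ∘ Sum.inl + v ∘ Sum.inl from rfl,
        show (u + v) ∘ Sum.inr = u ∘ Sum.inr + v ∘ Sum.inr from rfl]
      ring
    ext i j
    rcases i with i | i <;> rcases j with j | j <;>
      simp [Orth.gram, hP, h0l, h0r, h1l, h1r, LinearMap.BilinForm.toMatrix'_apply]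
  obtain ⟨s, hs⟩ := det_gram_reindex (Fintype.equivOfCardEq (by simp; omega)) P e he
  rw [hgram, Matrix.det_fromBlocks_zero₂₁] at hs
  change (gramQ Q).det * (QuadClass.disc (R 0) * QuadClass.disc (R 1)) = s * s at hs
  set d := QuadClass.disc (R 0) * QuadClass.disc (R 1)
  have hd0 : d ≠ 0 := mul_ne_zero (hdne 0) (hdne 1)
  have hg0 : (gramQ Q).det ≠ 0 := gramQ_det Q hQ
  rw [plus_iff_disc hQ h2 hk.pos hι, hiso, hk.neg_one_pow]
  have hχ : ∀ a : F, a ≠ 0 → (IsSquare a ↔ quadraticChar F a = 1) := fun a ha =>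
    (quadraticChar_one_iff_isSquare ha).symm
  have hn1 : (-1 : F) ≠ 0 := neg_ne_zero.2 one_ne_zero
  rw [hχ _ (mul_ne_zero hn1 hg0), hχ _ hd0, hχ _ hn1, map_mul]
  have hgd : quadraticChar F (gramQ Q).det * quadraticChar F d = 1 := by
    rw [← map_mul, ← hχ _ (mul_ne_zero hg0 hd0)]
    exact ⟨s, hs⟩
  rcases quadraticChar_dichotomy hn1 with h1 | h1 <;> rcases quadraticChar_dichotomy hg0 with h3 | h3 <;>
    rw [h3] at hgd <;> rw [h1, h3] <;>
    (rcases quadraticChar_dichotomy hd0 with h4 | h4 <;> rw [h4] at hgd ⊢ <;> norm_num at hgd <;> try norm_num)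

end Cfsg.Agent.Aschbacher
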