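/-
Facts about the classes of a symplectic group needed for the case lists.
Main results: `mdecomp_card`, `nondeg_even`, `selfadj_dvd`, `planes_quad`.
-/
import Cfsg.Agent.Lib.Transvect.NonMax
import Cfsg.Agent.Lib.Transvect.LagPair
import Cfsg.Agent.Lib.Linear.AltObstruction
import Cfsg.Agent.Lib.PrimeDim.SLProper

set_option autoImplicit false
set_option linter.unusedSectionVars false
set_option linter.unusedVariables false

namespace Cfsg.Agent.Aschbacher

open Matrix
open Cfsg.Agent.PrimeDim

variable {ι : Type} [Fintype ι] [DecidableEq ι] {F : Type*} [Field F]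

/-- The dimensions of a decomposition add up. -/
theorem mdecomp_card {m t : ℕ} {D : Fin t → Submodule F (ι → F)} (hD : Geo.IsMDecomposition m D) :
    t * m = Fintype.card ι := by
  classical
  have hint : DirectSum.IsInternal D :=
    DirectSum.isInternal_submodule_of_iSupIndep_of_iSup_eq_top hD.indep hD.iSup_eq_top
  let b := hint.collectedBasis fun i => Module.finBasis F (D i)
  have h := Module.finrank_eq_card_basis b
  rw [Module.finrank_fintype_fun_eq_card, Fintype.card_sigma] at h
  simp only [Fintype.card_fin, hD.finrank_eq, Finset.sum_const, Finset.card_univ, smul_eq_mul] at h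
  exact h.symm

variable {f : (ι → F) → (ι → F) → F}

/-- A symplectic form restricted to a subspace. -/
noncomputable def formOn (hf : Geo.IsSymplecticForm f) (W : Submodule F (ι → F)) : LinearMap.BilinForm F W :=
  LinearMap.mk₂ F (fun x y => f (x : ι → F) (y : ι → F))
    (fun x y z => hf.bilinear.add_left _ _ _) (fun c x z => hf.bilinear.smul_left c _ _)
    (fun x y z => hf.bilinear.add_right _ _ _) (fun c x z => hf.bilinear.smul_right c _ _)

@[simp] theorem formOn_apply (hf : Geo.IsSymplecticForm f) (W : Submodule F (ι → F)) (x y : W) :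
    formOn hf W x y = f (x : ι → F) (y : ι → F) := rfl

/-- Non-degenerate subspaces have even dimension. -/
theorem nondeg_even (hf : Geo.IsSymplecticForm f) {W : Submodule F (ι → F)} (hW : Geo.IsNondegenerateOn f W) :
    Even (Module.finrank F W) := by
  refine Linear.even_finrank_of_alt_nondeg _ (formOn hf W) (fun x => by simp [hf.alternating]) (fun x hx => ?_) rfl
  by_contra hne
  obtain ⟨-, y, hy, hxy⟩ := hW x x.2 (fun h => hne (Subtype.ext h))
  exact hxy (by simpa using hx ⟨y, hy⟩)

/-- A field of self-adjoint maps with `f (k v) v = 0` has degree dividing half the dimension. -/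
theorem selfadj_dvd_finrank (hf : Geo.IsSymplecticForm f) {r : ℕ} {K : Subalgebra F (Matrix ι ι F)}
    (hK : Geo.IsFieldSubalgebra r K) (hsa : Geo.IsSelfAdjointFor f K)
    (halt : ∀ k ∈ K, ∀ v, f (k *ᵥ v) v = 0) :
    ∀ (d : ℕ) (W : Submodule F (ι → F)), Module.finrank F W = d → (∀ k ∈ K, ∀ w ∈ W, k *ᵥ w ∈ W) →
      Geo.IsNondegenerateOn f W → 2 * r ∣ d := by
  intro d
  induction d using Nat.strong_induction_on with
  | _ d ih =>
  intro W hd hinv hnd
  rcases Nat.eq_zero_or_pos d with rfl | hpos
  · exact dvd_zero _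
  have hne : W ≠ ⊥ := fun h => by rw [h, finrank_bot] at hd; omega
  obtain ⟨u, hu, hu0⟩ := W.exists_mem_ne_zero_of_ne_bot hne
  obtain ⟨-, v, hv, huv⟩ := hnd u hu hu0
  let ev : (ι → F) → (K →ₗ[F] (ι → F)) := fun w =>
    { toFun := fun k => (k : Matrix ι ι F) *ᵥ w
      map_add' := fun a b => Matrix.add_mulVec _ _ _
      map_smul' := fun c a => Matrix.smul_mulVec c _ _ }
  let S : (K × K) →ₗ[F] (ι → F) := (ev u).comp (LinearMap.fst F K K) + (ev v).comp (LinearMap.snd F K K)
  have hS : ∀ p : K × K, S p = (p.1 : Matrix ι ι F) *ᵥ u + (p.2 : Matrix ι ι F) *ᵥ v := fun p => rfl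
  have hmove : ∀ k ∈ K, ∀ l ∈ K, ∀ x y, f (k *ᵥ x) (l *ᵥ y) = f x ((k * l) *ᵥ y) := fun k hk l _ x y => by
    rw [hsa k hk, Matrix.mulVec_mulVec]
  have hsame : ∀ k ∈ K, ∀ l ∈ K, ∀ x, f (k *ᵥ x) (l *ᵥ x) = 0 := fun k hk l hl x => by
    rw [hmove k hk l hl, hf.skew, halt _ (K.mul_mem hk hl), neg_zero]
  -- `S` pairs non-degenerately with itself
  have hpair : ∀ p : K × K, p ≠ 0 → ∃ p' : K × K, f (S p) (S p') ≠ 0 := by
    rintro ⟨a, b⟩ hp
    by_cases ha : (a : Matrix ι ι F) = 0
    · have hb : (b : Matrix ι ι F) ≠ 0 := fun hb => hp (Prod.ext (Subtype.ext ha) (Subtype.ext hb))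
      obtain ⟨j, hj, hbj⟩ := hK.inv b b.2 hb
      refine ⟨(⟨j, hj⟩, 0), ?_⟩
      rw [hS, hS]
      simp only [ha, Matrix.zero_mulVec, zero_add, ZeroMemClass.coe_zero, add_zero]
      rw [hmove b b.2 j hj, hbj, Matrix.one_mulVec, hf.skew]
      exact neg_ne_zero.mpr huv
    · obtain ⟨j, hj, haj⟩ := hK.inv a a.2 ha
      refine ⟨(0, ⟨j, hj⟩), ?_⟩
      rw [hS, hS]
      simp only [Matrix.zero_mulVec, zero_add, ZeroMemClass.coe_zero]
      rw [hf.bilinear.add_left, hsame b b.2 j hj, add_zero, hmove a a.2 j hj, haj, Matrix.one_mulVec]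
      exact huv
  have hSW : ∀ p, S p ∈ W := fun p => W.add_mem (hinv _ p.1.2 u hu) (hinv _ p.2.2 v hv)
  let φ : W →ₗ[F] Module.Dual F (K × K) :=
    { toFun := fun w =>
        { toFun := fun p => f (w : ι → F) (S p)
          map_add' := fun p p' => by rw [map_add, hf.bilinear.add_right]
          map_smul' := fun c p => by rw [map_smul, hf.bilinear.smul_right]; rfl }
      map_add' := fun w w' => LinearMap.ext fun p => hf.bilinear.add_left _ _ _
      map_smul' := fun c w => LinearMap.ext fun p => hf.bilinear.smul_left c _ _ }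
  let T : (K × K) →ₗ[F] W := S.codRestrict W hSW
  have hTinj : Function.Injective (φ.comp T) := by
    rw [← LinearMap.ker_eq_bot, LinearMap.ker_eq_bot']
    intro p hp
    by_contra hp0
    obtain ⟨p', hp'⟩ := hpair p hp0
    exact hp' (LinearMap.congr_fun hp p')
  have hKK : Module.finrank F (K × K) = 2 * r := by rw [Module.finrank_prod, hK.finrank_eq, two_mul]
  have hsurj : Function.Surjective φ := by
    have : Function.Surjective (φ.comp T) :=
      (LinearMap.injective_iff_surjective_of_finrank_eq_finrank (Subspace.dual_finrank_eq).symm).mp hTinj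
    exact Function.Surjective.of_comp this
  have hdim := LinearMap.finrank_range_add_finrank_ker φ
  rw [LinearMap.range_eq_top.mpr hsurj, finrank_top, Subspace.dual_finrank_eq, hKK, hd] at hdim
  set U := (LinearMap.ker φ).map W.subtype with hU
  have hUd : Module.finrank F U = Module.finrank F (LinearMap.ker φ) :=
    (Submodule.equivMapOfInjective _ W.injective_subtype _).finrank_eq.symm
  have hUW : U ≤ W := W.map_subtype_le _
  have hUmem : ∀ x, x ∈ U ↔ x ∈ W ∧ ∀ p, f x (S p) = 0 := fun x => by
    constructor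
    · rintro ⟨w, hw, rfl⟩
      exact ⟨w.2, fun p => LinearMap.congr_fun (LinearMap.mem_ker.mp hw) p⟩
    · rintro ⟨hx, h⟩
      exact ⟨⟨x, hx⟩, LinearMap.mem_ker.mpr (LinearMap.ext h), rfl⟩
  have hr : 0 < r := by
    rw [← hK.finrank_eq]
    have : Nonempty ι := not_isEmpty_iff.mp fun h => hu0 (funext fun i => (h.false i).elim)
    have : Nontrivial K := inferInstance
    exact Module.finrank_pos
  have hUinv : ∀ k ∈ K, ∀ x ∈ U, k *ᵥ x ∈ U := by
    intro k hk x hx
    rw [hUmem] at hx ⊢
    refine ⟨hinv k hk x hx.1, fun p => ?_⟩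
    rw [hsa k hk, hS, Matrix.mulVec_add, Matrix.mulVec_mulVec, Matrix.mulVec_mulVec]
    exact hx.2 (⟨k * p.1, K.mul_mem hk p.1.2⟩, ⟨k * p.2, K.mul_mem hk p.2.2⟩)
  have hUnd : Geo.IsNondegenerateOn f U := by
    intro x hx hx0
    obtain ⟨hxW, hxS⟩ := (hUmem x).mp hx
    have hU2 : ∀ y ∈ W, ∃ p, y - S p ∈ U := by
      intro y hy
      obtain ⟨p, hp⟩ := (LinearMap.injective_iff_surjective_of_finrank_eq_finrank
        (Subspace.dual_finrank_eq).symm).mp hTinj (φ ⟨y, hy⟩)
      refine ⟨p, (hUmem _).mpr ⟨W.sub_mem hy (hSW p), fun p' => ?_⟩⟩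
      have h1 : f (S p) (S p') = f y (S p') := LinearMap.congr_fun hp p'
      rw [sub_eq_add_neg, hf.bilinear.add_left, ← neg_one_smul F (S p), hf.bilinear.smul_left, h1]
      ring
    obtain ⟨⟨y, hy, hyx⟩, z, hz, hxz⟩ := hnd x hxW hx0
    constructor
    · obtain ⟨p, hp⟩ := hU2 y hy
      refine ⟨_, hp, ?_⟩
      rwa [sub_eq_add_neg, hf.bilinear.add_left, ← neg_one_smul F (S p), hf.bilinear.smul_left,
        hf.skew (S p) x, hxS, neg_zero, mul_zero, add_zero]
    · obtain ⟨p, hp⟩ := hU2 z hz
      refine ⟨_, hp, ?_⟩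
      rwa [sub_eq_add_neg, hf.bilinear.add_right, ← neg_one_smul F (S p), hf.bilinear.smul_right,
        hxS, mul_zero, add_zero]
  obtain ⟨c, hc⟩ := ih (Module.finrank F U) (by omega) U rfl hUinv hUnd
  refine ⟨c + 1, ?_⟩
  rw [mul_add, mul_one, ← hc, hUd]
  omega

theorem selfadj_dvd (hf : Geo.IsSymplecticForm f) {r : ℕ} {K : Subalgebra F (Matrix ι ι F)}
    (hK : Geo.IsFieldSubalgebra r K) (hsa : Geo.IsSelfAdjointFor f K)
    (halt : ∀ k ∈ K, ∀ v, f (k *ᵥ v) v = 0) : 2 * r ∣ Fintype.card ι := by
  refine selfadj_dvd_finrank hf hK hsa halt _ ⊤ (by rw [finrank_top, Module.finrank_fintype_fun_eq_card])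
    (fun _ _ _ _ => Submodule.mem_top) fun w _ hw => ?_
  obtain ⟨⟨x, hx⟩, y, hy⟩ := hf.nondegenerate w hw
  exact ⟨⟨x, Submodule.mem_top, hx⟩, y, Submodule.mem_top, hy⟩

/-- Over F₂ the stabiliser of a decomposition into planes preserves a quadratic form polarising to `f`. -/
theorem planes_quad [Fintype F] (hf : Geo.IsSymplecticForm f) (hq : Fintype.card F = 2) {t : ℕ}
    {D : Fin t → Submodule F (ι → F)} (hD : Geo.IsNondegenerateMDecomposition f 2 D) :
    ∃ Q : (ι → F) → F, Geo.IsNondegenerateQuadraticForm Q ∧ (∀ u v, QuadraticMap.polar Q u v = f u v) ∧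
      Geo.decompositionStabilizer D ≤ Geo.quadSimilarityGroup Q := by
  classical
  have h20 : (2 : F) = 0 := by
    have := FiniteField.cast_card_eq_zero F
    rw [hq] at this; simpa using this
  have hval : ∀ a : F, a = 0 ∨ a = 1 := by
    intro a
    by_contra h
    simp only [not_or] at h
    have : 3 ≤ Fintype.card F := by
      have h1 := Finset.card_le_univ ({0, 1, a} : Finset F)
      rwa [Finset.card_insert_of_notMem (by simp [zero_ne_one, Ne.symm h.1]),
        Finset.card_insert_of_notMem (by simp [Ne.symm h.2]), Finset.card_singleton] at h1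
    omega
  let N := Transvect.nblocks hD.decomp
  have hsum : ∀ x y, f x y = ∑ i, f (Transvect.pr hD.decomp i x) (Transvect.pr hD.decomp i y) := by
    intro x y
    conv_lhs => rw [← Transvect.sum_pr hD.decomp x, ← Transvect.sum_pr hD.decomp y, ← Transvect.bl_apply hf]
    simp only [map_sum, LinearMap.sum_apply, Transvect.bl_apply]
    refine Finset.sum_congr rfl fun i _ => Finset.sum_eq_single i (fun k _ hk => ?_) (by simp)
    exact hD.orthogonal k i hk _ (Transvect.pr_mem _ k x) _ (Transvect.pr_mem _ i y)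
  have hplane : ∀ i, ∀ x ∈ D i, ∀ y ∈ D i, (if x + y = 0 then (0 : F) else 1) - (if x = 0 then 0 else 1)
      - (if y = 0 then 0 else 1) = f x y := by
    intro i x hx y hy
    have hbil0 : ∀ z, f 0 z = 0 := fun z => by
      have := hf.bilinear.smul_left 0 0 z
      simpa using this
    by_cases hx0 : x = 0
    · simp [hx0, hbil0]
    by_cases hy0 : y = 0
    · subst hy0
      simp [hf.skew x 0, hbil0]
    by_cases hxy : x + y = 0
    · have : y = x := by
        rw [eq_neg_of_add_eq_zero_right hxy, ← neg_one_smul F x,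
          show (-1 : F) = 1 by linear_combination -h20, one_smul]
      subst this
      simp [hxy, hy0, hf.alternating]
      linear_combination -h20
    simp only [if_neg hx0, if_neg hy0, if_neg hxy]
    -- distinct non-zero vectors of a plane pair to one
    have hne : f x y ≠ 0 := by
      intro h0
      have hli : LinearIndependent F ![(⟨x, hx⟩ : D i), ⟨y, hy⟩] := by
        rw [linearIndependent_fin2]
        refine ⟨fun h => hy0 (congrArg Subtype.val h), fun a ha => ?_⟩
        have h1 : a • y = x := congrArg Subtype.val ha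
        rcases hval a with rfl | rfl
        · exact hx0 (by rw [← h1, zero_smul])
        · refine hxy ?_
          rw [← h1, one_smul, ← two_smul F y, h20, zero_smul]
      let b := basisOfLinearIndependentOfCardEqFinrank hli (by rw [hD.decomp.finrank_eq]; rfl)
      obtain ⟨-, z, hz, hxz⟩ := hD.nondegenerate i x hx hx0
      refine hxz ?_
      have h1 : (formOn hf (D i) ⟨x, hx⟩) = 0 := b.ext fun k => by
        fin_cases k <;> simp [b, hf.alternating, h0]
      exact LinearMap.congr_fun h1 ⟨z, hz⟩
    rcases hval (f x y) with h | h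
    · exact absurd h hne
    · rw [h]; linear_combination (-1 : F) * h20
  have hpolar : ∀ u v, QuadraticMap.polar N u v = f u v := by
    intro u v
    rw [hsum]
    simp only [QuadraticMap.polar, N, Transvect.nblocks, ← Finset.sum_sub_distrib, map_add]
    exact Finset.sum_congr rfl fun i _ => hplane i _ (Transvect.pr_mem _ i u) _ (Transvect.pr_mem _ i v)
  refine ⟨N, ⟨fun c v => ?_, ?_, ?_⟩, hpolar, fun g hg => ?_⟩
  · have h0 : N 0 = 0 := by simp [N, Transvect.nblocks]
    rcases hval c with rfl | rfl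
    · simp [h0]
    · simp
  · rw [show QuadraticMap.polar N = f from funext₂ hpolar]
    exact hf.bilinear
  · rw [show QuadraticMap.polar N = f from funext₂ hpolar]
    exact hf.nondegenerate
  · exact ⟨1, fun v => by
      rw [Units.val_one, one_mul, ← Transvect.app_apply]
      exact Transvect.stab_le_fixer hD.decomp hg v⟩

end Cfsg.Agent.Aschbacher
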