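/-
Extension fields normalised by subgroups of orthogonal groups in even dimension.
Main results: `field_dichotomy`, `selfadj_char_two`, `field_similarity`, `conj_field_not_plus`.
-/
import Cfsg.Agent.Lib.Aschbacher.EvenBase
import Cfsg.Agent.Lib.Aschbacher.SymplecticFacts
import Cfsg.Agent.Lib.Forms.Count

set_option autoImplicit false
set_option linter.unusedSectionVars false

namespace Cfsg.Agent.Aschbacher

open Matrix Module
open Cfsg.Agent.PrimeDim
open QuadraticMap (polar)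
open Orth (perpSub)

variable {ι : Type} [Fintype ι] [DecidableEq ι] {F : Type*} [Field F] [Fintype F]
variable {Q : QuadraticForm F (ι → F)}

theorem field_isField [Nonempty ι] {r : ℕ} {K : Subalgebra F (Matrix ι ι F)}
    (hK : Geo.IsFieldSubalgebra r K) : IsField K :=
  ⟨exists_pair_ne _, fun x y => Subtype.ext (hK.comm _ x.2 _ y.2), fun {x} hx => by
    obtain ⟨y, hy, hxy⟩ := hK.inv _ x.2 (fun h0 => hx (Subtype.ext h0))
    exact ⟨⟨y, hy⟩, Subtype.ext hxy⟩⟩

/-- A field subalgebra contains one of each prime degree dividing its own, with the same normaliser. -/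
theorem exists_degree_of_dvd [Nonempty ι] {A : Subalgebra F (Matrix ι ι F)}
    (hcA : ∀ x ∈ A, ∀ y ∈ A, x * y = y * x) (hinv : ∀ x ∈ A, x ≠ 0 → ∃ y ∈ A, x * y = 1)
    {r : ℕ} (hrp : r.Prime) (hrR : r ∣ Module.finrank F A) :
    ∃ (K : Subalgebra F (Matrix ι ι F)), K ≤ A ∧
      Geo.IsFieldSubalgebra r K ∧ (∀ H : Subgroup (GL ι F), NormAlg H A → NormAlg H K) ∧
      ∀ τ : Matrix ι ι F → Matrix ι ι F, (∀ x ∈ A, τ x ∈ A) → (∀ x (k : ℕ), τ (x ^ k) = τ x ^ k) →
        ∀ x ∈ K, τ x ∈ K := by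
  classical
  have : Finite (Matrix ι ι F) := inferInstanceAs (Finite (ι → ι → F))
  have hF : IsField A := ⟨exists_pair_ne _, fun x y => Subtype.ext (hcA _ x.2 _ y.2), fun {x} hx => by
    obtain ⟨y, hy, h⟩ := hinv _ x.2 (fun h => hx (Subtype.ext h))
    exact ⟨⟨y, hy⟩, Subtype.ext h⟩⟩
  letI : Field A := hF.toField
  have : Fintype A := Fintype.ofFinite A
  set R := Module.finrank F A with hR
  set q := Fintype.card F with hq
  have hq1 : 1 < q := Fintype.one_lt_card
  let σ : A →ₐ[F] A := (FiniteField.frobeniusAlgHom F A) ^ r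
  have hσ : ∀ x : A, σ x = x ^ q ^ r := fun x => by
    show ((FiniteField.frobeniusAlgHom F A) ^ r) x = _
    rw [AlgHom.coe_pow, FiniteField.coe_frobeniusAlgHom, pow_iterate]
  let K₀ : Subalgebra F A := AlgHom.equalizer σ (AlgHom.id F A)
  have hK₀ : ∀ x : A, x ∈ K₀ ↔ x ^ q ^ r = x := fun x => by
    rw [AlgHom.mem_equalizer, hσ]; rfl
  let K : Subalgebra F (Matrix ι ι F) := K₀.map A.val
  have memK : ∀ x, x ∈ K ↔ x ∈ A ∧ x ^ q ^ r = x := by
    intro x
    constructor
    · rintro ⟨y, hy, rfl⟩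
      refine ⟨y.2, ?_⟩
      have := congrArg Subtype.val ((hK₀ y).mp hy)
      simpa using this
    · rintro ⟨hxA, hx⟩
      exact ⟨⟨x, hxA⟩, (hK₀ _).mpr (Subtype.ext (by simpa using hx)), rfl⟩
  have hqr : 1 ≤ q ^ r := Nat.one_le_pow _ _ (by omega)
  have hcardK : Nat.card K = q ^ r := by
    have e1 : Nat.card K = Nat.card K₀ :=
      (Nat.card_congr (Subalgebra.equivMapOfInjective K₀ A.val Subtype.val_injective).toEquiv).symm
    rw [e1]
    set d := q ^ r - 1 with hd'
    have hker : Nat.card (powMonoidHom d : Aˣ →* Aˣ).ker = d := by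
      rw [IsCyclic.card_powMonoidHom_ker]
      have hA1 : Nat.card Aˣ = q ^ R - 1 := by
        rw [Nat.card_units, hR, Module.natCard_eq_pow_finrank (K := F), Nat.card_eq_fintype_card]
      rw [hA1]
      obtain ⟨t, ht⟩ := hrR
      apply Nat.gcd_eq_right
      rw [hd', ht, pow_mul]
      exact Nat.sub_one_dvd_pow_sub_one (q ^ r) t
    have hd0 : d ≠ 0 := by
      have : q ≤ q ^ r := Nat.le_self_pow hrp.ne_zero q
      omega
    let e : K₀ ≃ Option (powMonoidHom d : Aˣ →* Aˣ).ker :=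
      { toFun := fun x => if h : (x : A) = 0 then none else some ⟨Units.mk0 (x : A) h, by
          refine Units.ext ?_
          have h1 := (hK₀ x).mp x.2
          rw [show q ^ r = d + 1 by omega, pow_succ] at h1
          show (x : A) ^ d = 1
          exact mul_right_cancel₀ h (h1.trans (one_mul _).symm)⟩
        invFun := fun y => match y with
          | none => 0
          | some u => ⟨((u : Aˣ) : A), (hK₀ _).mpr (by
              have : ((u : Aˣ) : A) ^ d = 1 := congrArg Units.val (MonoidHom.mem_ker.mp u.2)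
              rw [show q ^ r = d + 1 by omega, pow_succ, this, one_mul])⟩
        left_inv := fun x => by
          by_cases h : (x : A) = 0
          · simp only [dif_pos h]; exact Subtype.ext h.symm
          · simp only [dif_neg h]; exact Subtype.ext rfl
        right_inv := fun y => by
          rcases y with _ | u
          · simp
          · simp only [dif_neg (Units.ne_zero (u : Aˣ))]
            exact congrArg some (Subtype.ext (Units.ext rfl)) }
    have : Fintype (powMonoidHom d : Aˣ →* Aˣ).ker := Fintype.ofFinite _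
    rw [Nat.card_congr e, Nat.card_eq_fintype_card, Fintype.card_option, ← Nat.card_eq_fintype_card, hker]
    omega
  have hKr : Module.finrank F K = r := by
    have := Module.natCard_eq_pow_finrank (K := F) (V := K)
    rw [hcardK, Nat.card_eq_fintype_card, ← hq] at this
    exact (Nat.pow_right_injective hq1 this).symm
  refine ⟨K, fun x hx => ((memK x).mp hx).1,
    ⟨fun x hx y hy => hcA x ((memK x).mp hx).1 y ((memK y).mp hy).1, ?_, hKr⟩, ?_, ?_⟩
  · intro x hx hx0
    obtain ⟨hxA, hxq⟩ := (memK x).mp hx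
    refine ⟨x ^ (q ^ r - 2), pow_mem hx _, ?_⟩
    obtain ⟨y, -, hxy⟩ := hinv x hxA hx0
    have h2 : 2 ≤ q ^ r := le_trans (by omega) (Nat.le_self_pow hrp.ne_zero q)
    have h1 : x ^ (q ^ r - 1) * x = x := by rw [← pow_succ, Nat.sub_add_cancel hqr, hxq]
    rw [← pow_succ', show q ^ r - 2 + 1 = q ^ r - 1 by omega]
    calc x ^ (q ^ r - 1) = x ^ (q ^ r - 1) * x * y := by rw [mul_assoc, hxy, mul_one]
      _ = 1 := by rw [h1, hxy]
  · intro H hH h hh a ha
    obtain ⟨haA, haq⟩ := (memK a).mp ha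
    exact (memK _).mpr ⟨hH h hh a haA, by rw [← map_pow, haq]⟩
  · intro τ hτA hτp x hx
    obtain ⟨hxA, hxq⟩ := (memK x).mp hx
    exact (memK _).mpr ⟨hτA x hxA, by rw [← hτp, hxq]⟩

theorem field_mulVec_eq_zero {r : ℕ} {K : Subalgebra F (Matrix ι ι F)} (hK : Geo.IsFieldSubalgebra r K)
    {k : Matrix ι ι F} (hk : k ∈ K) (hk0 : k ≠ 0) {v : ι → F} (hv : k *ᵥ v = 0) : v = 0 := by
  obtain ⟨y, -, hy⟩ := hK.inv _ hk hk0
  have h1 := congrArg (y *ᵥ ·) hv
  simp only [Matrix.mulVec_mulVec, mul_eq_one_comm.mp hy, Matrix.one_mulVec, Matrix.mulVec_zero] at h1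
  exact h1

theorem adjointClosed_of_adj (hQ : Q.polarBilin.Nondegenerate) {K : Subalgebra F (Matrix ι ι F)}
    (hadj : ∀ k ∈ K, adj (RingHom.id F) (gramQ Q) k ∈ K) : Geo.IsAdjointClosedFor (polar ⇑Q) K :=
  fun k hk => ⟨_, hadj k hk, fun u v => by rw [polar_eq_gram]; exact form_adj (herm_gramQ hQ) k u v⟩

theorem adj_eq_of_selfAdjoint (hQ : Q.polarBilin.Nondegenerate) {k : Matrix ι ι F}
    (h : ∀ u v, polar ⇑Q (k *ᵥ u) v = polar ⇑Q u (k *ᵥ v)) : adj (RingHom.id F) (gramQ Q) k = k := by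
  refine Matrix.toLin'.injective (LinearMap.ext fun v => ?_)
  rw [Matrix.toLin'_apply, Matrix.toLin'_apply]
  by_contra hne
  obtain ⟨x, hx⟩ := Orth.exists_polar_ne hQ (sub_ne_zero.2 hne)
  refine hx ?_
  rw [Orth.pl_comm, Orth.pl_sub_right, ← h x v, polar_eq_gram, form_adj (herm_gramQ hQ), sub_self]

/-- Self-adjoint fields in characteristic two have degree dividing half the dimension. -/
theorem selfadj_char_two (hQ : Q.polarBilin.Nondegenerate) (h2 : (2 : F) = 0) [Nonempty ι] {r : ℕ}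
    {K : Subalgebra F (Matrix ι ι F)} (hK : Geo.IsFieldSubalgebra r K)
    (hsa : Geo.IsSelfAdjointFor (polar ⇑Q) K) : 2 * r ∣ Fintype.card ι := by
  have : Finite (Matrix ι ι F) := inferInstanceAs (Finite (ι → ι → F))
  have hnd : Geo.IsNondegenerateForm (polar ⇑Q) := fun v hv => by
    obtain ⟨x, hx⟩ := Orth.exists_polar_ne hQ hv
    exact ⟨⟨x, by rwa [Orth.pl_comm]⟩, ⟨x, hx⟩⟩
  have hf : Geo.IsSymplecticForm (polar ⇑Q) :=
    ⟨⟨fun x y v => Orth.pl_add_left Q x y v, fun c x v => Orth.pl_smul_left Q c x v,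
        fun v x y => Orth.pl_add_right Q v x y, fun c v x => Orth.pl_smul_right Q c v x⟩,
      fun v w => by rw [Orth.pl_comm Q v w]; linear_combination polar ⇑Q w v * h2,
      fun v => by rw [Orth.pl_self, h2, zero_mul], hnd⟩
  refine selfadj_dvd hf hK hsa fun k hk v => ?_
  letI : Field K := (field_isField hK).toField
  have : Fintype K := Fintype.ofFinite K
  have : CharP F 2 := CharTwo.of_one_ne_zero_of_two_eq_zero one_ne_zero h2
  have : CharP K 2 := charP_of_injective_algebraMap' F 2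
  obtain ⟨l, hl⟩ := FiniteField.isSquare_of_char_two (ringChar.eq K 2) (⟨k, hk⟩ : K)
  have hl' : k = (l : Matrix ι ι F) * (l : Matrix ι ι F) := congrArg Subtype.val hl
  rw [hl', ← Matrix.mulVec_mulVec, hsa _ l.2, Orth.pl_self, h2, zero_mul]

/-- An adjoint-closed quadratic field is self-adjoint or conjugated by the adjoint. -/
theorem field_dichotomy (hQ : Q.polarBilin.Nondegenerate) [Nonempty ι] {K : Subalgebra F (Matrix ι ι F)}
    (hK : Geo.IsFieldSubalgebra 2 K) (hadj : ∀ k ∈ K, adj (RingHom.id F) (gramQ Q) k ∈ K) :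
    Geo.IsSelfAdjointFor (polar ⇑Q) K ∨ (¬ Geo.IsSelfAdjointFor (polar ⇑Q) K ∧
      ∀ k ∈ K, ∃ c : F, adj (RingHom.id F) (gramQ Q) k * k = c • (1 : Matrix ι ι F)) := by
  classical
  have hh := herm_gramQ hQ
  by_cases hsa : Geo.IsSelfAdjointFor (polar ⇑Q) K
  · exact .inl hsa
  refine .inr ⟨hsa, fun k hk => ?_⟩
  set a := adj (RingHom.id F) (gramQ Q) k * k with ha
  have haK : a ∈ K := mul_mem (hadj k hk) hk
  have hafix : adj (RingHom.id F) (gramQ Q) a = a := by rw [ha, adj_mul hh, adj_adj hh]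
  by_contra hc
  simp only [not_exists] at hc
  apply hsa
  intro l hl u v
  have hli : LinearIndependent F ![(⟨1, one_mem K⟩ : K), ⟨a, haK⟩] := by
    refine LinearIndependent.pair_iff.2 fun α β h => ?_
    have h' : α • (1 : Matrix ι ι F) + β • a = 0 := congrArg Subtype.val h
    by_cases hβ : β = 0
    · rw [hβ, zero_smul, add_zero, smul_eq_zero] at h'
      exact ⟨h'.resolve_right one_ne_zero, hβ⟩
    · refine absurd ?_ (hc (-(β⁻¹ * α)))
      have h1 := congrArg (β⁻¹ • ·) h'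
      simp only [smul_add, smul_smul, inv_mul_cancel₀ hβ, one_smul, smul_zero] at h1
      rw [neg_smul, eq_neg_iff_add_eq_zero, add_comm]
      exact h1
  have hspan := hli.span_eq_top_of_card_eq_finrank (by rw [hK.finrank_eq, Fintype.card_fin])
  have hl' : (⟨l, hl⟩ : K) ∈ Submodule.span F (Set.range ![(⟨1, one_mem K⟩ : K), ⟨a, haK⟩]) := by
    rw [hspan]; trivial
  obtain ⟨c, hc'⟩ := Submodule.mem_span_range_iff_exists_fun F |>.1 hl'
  rw [Fin.sum_univ_two] at hc'
  have hl2 : c 0 • (1 : Matrix ι ι F) + c 1 • a = l := congrArg Subtype.val hc'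
  have hlfix : adj (RingHom.id F) (gramQ Q) l = l := by
    rw [← hl2, adj_add, adj_smul, adj_smul, adj_one hh, hafix]; rfl
  rw [polar_eq_gram, form_adj hh, hlfix]

/-- A conjugated quadratic field consists of similarities of the quadratic form. -/
theorem field_similarity (hQ : Q.polarBilin.Nondegenerate) (hn : 3 ≤ Fintype.card ι)
    {H : Subgroup (GL ι F)} (hH : H ≤ Cfsg.isometryGroup F ⇑Q)
    (hirr : Geo.ActsIrreducibly (Geo.matrixSet H)) {K : Subalgebra F (Matrix ι ι F)}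
    (hK : Geo.IsFieldSubalgebra 2 K) (hle : H ≤ Geo.subalgebraNormalizer K)
    (hnorm : ∀ k ∈ K, ∃ c : F, adj (RingHom.id F) (gramQ Q) k * k = c • (1 : Matrix ι ι F)) :
    ∀ k ∈ K, ∃ c : F, adj (RingHom.id F) (gramQ Q) k * k = c • (1 : Matrix ι ι F) ∧
      ∀ v, Q (k *ᵥ v) = c * Q v := by
  classical
  have : Nonempty ι := Fintype.card_pos_iff.mp (by omega)
  have hh := herm_gramQ hQ
  choose c hc using fun k : K => hnorm k k.2
  have hpol : ∀ (k : K) u v, polar ⇑Q ((k : Matrix ι ι F) *ᵥ u) ((k : Matrix ι ι F) *ᵥ v)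
      = c k * polar ⇑Q u v := fun k u v => by
    rw [polar_eq_gram, form_adj hh, Matrix.mulVec_mulVec, hc k, Matrix.smul_mulVec, Matrix.one_mulVec,
      ← polar_eq_gram, Orth.pl_smul_right]
  suffices hall : ∀ (k : K) v, Q ((k : Matrix ι ι F) *ᵥ v) = c k * Q v from
    fun k hk => ⟨c ⟨k, hk⟩, hc ⟨k, hk⟩, hall ⟨k, hk⟩⟩
  by_cases h2 : (2 : F) = 0
  swap
  · intro k v
    have h1 := hpol k v v
    rw [Orth.pl_self, Orth.pl_self] at h1
    exact mul_left_cancel₀ h2 (by linear_combination h1)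
  let W : Submodule F (ι → F) :=
    { carrier := {v | ∀ k : K, Q ((k : Matrix ι ι F) *ᵥ v) = c k * Q v}
      zero_mem' := fun k => by simp
      add_mem' := fun {a b} ha hb k => by
        rw [Matrix.mulVec_add, Orth.Q_add, ha k, hb k, hpol, Orth.Q_add]; ring
      smul_mem' := fun d v hv k => by
        rw [Matrix.mulVec_smul, Orth.Q_smul, hv k, Orth.Q_smul]; ring }
  have hinv : ∀ g ∈ H, ∀ w ∈ W, (g : Matrix ι ι F) *ᵥ w ∈ W := by
    intro g hg w hw k
    have hk' : cj g⁻¹ (k : Matrix ι ι F) ∈ K := by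
      rw [cj_apply]
      exact ((hle (inv_mem hg)) _).1 k.2
    set k' : K := ⟨_, hk'⟩
    have hcc : c k' = c k := by
      have hsim : Sim (RingHom.id F) (gramQ Q) (H ⊔ Geo.scalars ι F) := sim_gramQ hH
      have h1 := hc k'
      rw [show (k' : Matrix ι ι F) = cj g⁻¹ (k : Matrix ι ι F) from rfl,
        adj_cj hh hsim (Subgroup.mem_sup_left (inv_mem hg)), ← map_mul, hc k, map_smul, map_one] at h1
      obtain ⟨i⟩ := ‹Nonempty ι›
      have h3 := congrFun (congrFun h1 i) i
      simpa using h3.symm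
    have hkg : (k : Matrix ι ι F) * (g : Matrix ι ι F) = (g : Matrix ι ι F) * (k' : Matrix ι ι F) := by
      show _ = (g : Matrix ι ι F) * cj g⁻¹ (k : Matrix ι ι F)
      rw [cj_apply, inv_inv, ← mul_assoc, ← mul_assoc, Units.mul_inv, one_mul]
    rw [Matrix.mulVec_mulVec, hkg, ← Matrix.mulVec_mulVec, iso_Q (hH hg), hw k', iso_Q (hH hg), hcc]
  -- a non-zero vector of `W`
  obtain ⟨θ, hθ⟩ : ∃ θ : K, ∀ b : F, (θ : Matrix ι ι F) ≠ b • 1 := by
    by_contra hc'
    simp only [not_exists, not_forall, not_not] at hc'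
    have h1 : (⊤ : Submodule F K) ≤ Submodule.span F {(1 : K)} := fun x _ => by
      obtain ⟨b, hb⟩ := hc' x
      exact Submodule.mem_span_singleton.2 ⟨b, Subtype.ext hb.symm⟩
    have h3 := (Submodule.finrank_mono h1).trans (finrank_span_le_card {(1 : K)})
    rw [finrank_top, hK.finrank_eq] at h3
    simp at h3
  have hrep : ∀ k : K, ∃ a b : F, (k : Matrix ι ι F) = a • 1 + b • (θ : Matrix ι ι F) := by
    intro k
    have hli : LinearIndependent F ![(1 : K), θ] := by
      refine LinearIndependent.pair_iff.2 fun α β h => ?_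
      have h' : α • (1 : Matrix ι ι F) + β • (θ : Matrix ι ι F) = 0 := congrArg Subtype.val h
      by_cases hβ : β = 0
      · rw [hβ, zero_smul, add_zero, smul_eq_zero] at h'
        exact ⟨h'.resolve_right one_ne_zero, hβ⟩
      · refine absurd ?_ (hθ (-(β⁻¹ * α)))
        have h1 := congrArg (β⁻¹ • ·) h'
        simp only [smul_add, smul_smul, inv_mul_cancel₀ hβ, one_smul, smul_zero] at h1
        rw [neg_smul, eq_neg_iff_add_eq_zero, add_comm]
        exact h1
    have hspan := hli.span_eq_top_of_card_eq_finrank (by rw [hK.finrank_eq, Fintype.card_fin])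
    have hk' : k ∈ Submodule.span F (Set.range ![(1 : K), θ]) := by rw [hspan]; trivial
    obtain ⟨d, hd⟩ := Submodule.mem_span_range_iff_exists_fun F |>.1 hk'
    rw [Fin.sum_univ_two] at hd
    exact ⟨d 0, d 1, (congrArg Subtype.val hd).symm⟩
  set θ1 : K := ⟨1 + (θ : Matrix ι ι F), add_mem (one_mem K) θ.2⟩
  have : CharP F 2 := CharTwo.of_one_ne_zero_of_two_eq_zero one_ne_zero h2
  have : ExpChar F 2 := ExpChar.prime Nat.prime_two
  let sq : F ≃+* F := RingEquiv.ofBijective (frobenius F 2)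
    (Finite.injective_iff_bijective.mp (frobenius F 2).injective)
  have hsq : ∀ x, sq x = x ^ 2 := fun x => frobenius_def 2 x
  let mk : K → ((ι → F) →ₗ[F] F) := fun k =>
    { toFun := fun v => sq.symm (Q ((k : Matrix ι ι F) *ᵥ v) - c k * Q v)
      map_add' := fun u v => by
        rw [← map_add]
        congr 1
        rw [Matrix.mulVec_add, Orth.Q_add, Orth.Q_add, hpol]
        ring
      map_smul' := fun d v => by
        apply sq.injective
        rw [RingHom.id_apply, smul_eq_mul, map_mul, RingEquiv.apply_symm_apply, RingEquiv.apply_symm_apply,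
          Matrix.mulVec_smul, Orth.Q_smul, Orth.Q_smul, hsq]
        ring }
  obtain ⟨v, hv, hv0⟩ : ∃ v ∈ LinearMap.ker ((mk θ).prod (mk θ1)), v ≠ 0 := by
    refine Submodule.exists_mem_ne_zero_of_ne_bot fun h => ?_
    have h1 := LinearMap.finrank_range_add_finrank_ker ((mk θ).prod (mk θ1))
    have h3 := Submodule.finrank_le (LinearMap.range ((mk θ).prod (mk θ1)))
    rw [h, finrank_bot, Orth.finrank_space] at h1
    rw [Module.finrank_prod, Module.finrank_self] at h3
    omega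
  have hzero : ∀ k, mk k v = 0 → Q ((k : Matrix ι ι F) *ᵥ v) = c k * Q v := fun k h => by
    have h1 := congrArg sq h
    rw [map_zero] at h1
    exact sub_eq_zero.1 ((sq.apply_symm_apply _).symm.trans h1)
  rw [LinearMap.mem_ker] at hv
  replace hv : mk θ v = 0 ∧ mk θ1 v = 0 := Prod.mk_eq_zero.1 hv
  have hvθ := hzero θ hv.1
  have hvθ1 := hzero θ1 hv.2
  have hscal : ∀ {x y : F}, x • (1 : Matrix ι ι F) = y • 1 → x = y := fun {x y} h => by
    obtain ⟨i⟩ := ‹Nonempty ι›
    simpa using congrFun (congrFun h i) i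
  -- the multiplier on a combination
  obtain ⟨T, hT, hcomb⟩ : ∃ T : F, adj (RingHom.id F) (gramQ Q) (θ : Matrix ι ι F) + (θ : Matrix ι ι F)
      = T • 1 ∧ c θ1 = 1 + T + c θ := by
    refine ⟨c θ1 - 1 - c θ, ?_, by ring⟩
    have h1 := hc θ1
    rw [show (θ1 : Matrix ι ι F) = 1 + (θ : Matrix ι ι F) from rfl, adj_add, adj_one hh] at h1
    have h3 : adj (RingHom.id F) (gramQ Q) (θ : Matrix ι ι F) + (θ : Matrix ι ι F) =
        (1 + adj (RingHom.id F) (gramQ Q) (θ : Matrix ι ι F)) * (1 + (θ : Matrix ι ι F)) - 1 -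
          adj (RingHom.id F) (gramQ Q) (θ : Matrix ι ι F) * (θ : Matrix ι ι F) := by noncomm_ring
    rw [h3, h1, hc θ, sub_smul, sub_smul, one_smul]
  have hfv : polar ⇑Q v ((θ : Matrix ι ι F) *ᵥ v) = T * Q v := by
    have h1 := hvθ1
    rw [show (θ1 : Matrix ι ι F) = 1 + (θ : Matrix ι ι F) from rfl, Matrix.add_mulVec, Matrix.one_mulVec,
      Orth.Q_add, hvθ, hcomb] at h1
    linear_combination h1
  have hvW : v ∈ W := by
    intro k
    obtain ⟨a, b, hk⟩ := hrep k
    have hck : c k = a * a + a * b * T + b * b * c θ := by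
      refine hscal ?_
      rw [← hc k, hk, adj_add, adj_smul, adj_smul, adj_one hh]
      simp only [RingHom.id_apply, add_mul, mul_add, Matrix.smul_mul, Matrix.mul_smul, one_mul, mul_one,
        smul_smul, hc θ, add_smul]
      rw [show a * b * T = (a * b) * T from rfl, ← smul_smul (a * b) T, ← hT, smul_add]
      module
    rw [hk, Matrix.add_mulVec, Matrix.smul_mulVec, Matrix.smul_mulVec, Matrix.one_mulVec, Orth.Q_add,
      Orth.Q_smul, Orth.Q_smul, hvθ, Orth.pl_smul_left, Orth.pl_smul_right, hfv, hck]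
    ring
  intro k v'
  rcases irred_invariant hirr hinv with h | h
  · exact absurd ((Submodule.mem_bot F).1 (h ▸ hvW)) hv0
  · exact (show v' ∈ W by rw [h]; trivial) k

/-- A field of similarities of degree two forces minus type in dimension twice an odd number. -/
theorem conj_field_not_plus (hQ : Q.polarBilin.Nondegenerate) {m : ℕ} (hι : Fintype.card ι = 2 * (m + 1))
    (hm : Even m) {K : Subalgebra F (Matrix ι ι F)} (hK : Geo.IsFieldSubalgebra 2 K)
    (hsim : ∀ k ∈ K, ∃ c : F, ∀ v, Q (k *ᵥ v) = c * Q v) : ¬ Geo.IsPlusTypeOn ⇑Q ⊤ := by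
  classical
  intro hplus
  have : Nonempty ι := Fintype.card_pos_iff.mp (by omega)
  have : Finite (Matrix ι ι F) := inferInstanceAs (Finite (ι → ι → F))
  obtain ⟨ζ, -, hζ⟩ := Forms.exists_no_root (F := F)
  have hform : Orth.IsPlusForm Q := by
    obtain ⟨U, -, hU, hd⟩ := hplus
    exact ⟨U, hU, by rw [finrank_top] at hd; omega⟩
  rcases Orth.classify_type Q hQ (m := m) (by rw [Orth.finrank_space, hι]) hζ with ⟨-, e, he⟩ | ⟨h1, -⟩
  swap
  · exact h1 hform
  set q : ℕ := Nat.card F with hq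
  have hZ0 : (Nat.card {v : ι → F // Q v = 0} : ℤ) =
      (q : ℤ) ^ (2 * m + 1) + (q : ℤ) ^ (m + 1) - (q : ℤ) ^ m := by
    rw [← Forms.card_zeros_qfPlus m,
      ← Forms.card_zeros_congr (Forms.qfPlus (m + 1) F) Q e 1 one_ne_zero (fun v => by rw [he, one_mul])]
  have hZ1 := Forms.card_ne_zero_zeros Q
  -- the multiplicative group of the field acts freely on the non-zero zeros
  letI : Field K := (field_isField hK).toField
  have hcK : Nat.card Kˣ = q ^ 2 - 1 := by
    rw [Nat.card_units, Module.natCard_eq_pow_finrank (K := F), hK.finrank_eq]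
  letI : MulAction Kˣ {v : ι → F // v ≠ 0 ∧ Q v = 0} :=
    { smul := fun k v => ⟨((k : K) : Matrix ι ι F) *ᵥ v.1,
        fun h => v.2.1 (field_mulVec_eq_zero hK (k : K).2
          (fun h' => k.ne_zero (Subtype.ext h')) h), by
        obtain ⟨c, hc⟩ := hsim _ (k : K).2
        rw [hc, v.2.2, mul_zero]⟩
      mul_smul := fun a b v => Subtype.ext (Matrix.mulVec_mulVec _ _ _).symm
      one_smul := fun v => Subtype.ext (Matrix.one_mulVec _) }
  have hfix : ∀ k : Kˣ, k ≠ 1 → IsEmpty (MulAction.fixedBy {v : ι → F // v ≠ 0 ∧ Q v = 0} k) := by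
    refine fun k hk => ⟨fun v => v.1.2.1 ?_⟩
    have h1 : ((k : K) : Matrix ι ι F) *ᵥ v.1.1 = v.1.1 := congrArg Subtype.val v.2
    refine field_mulVec_eq_zero hK (sub_mem (k : K).2 (one_mem K)) ?_
      (show (((k : K) : Matrix ι ι F) - 1) *ᵥ v.1.1 = 0 by
        rw [Matrix.sub_mulVec, Matrix.one_mulVec, h1, sub_self])
    exact fun h => hk (Units.ext (Subtype.ext (sub_eq_zero.1 h)))
  have hdvd : Nat.card Kˣ ∣ Nat.card {v : ι → F // v ≠ 0 ∧ Q v = 0} := by
    have : Fintype Kˣ := Fintype.ofFinite _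
    have : Fintype {v : ι → F // v ≠ 0 ∧ Q v = 0} := Fintype.ofFinite _
    have : Fintype (Quotient (MulAction.orbitRel Kˣ {v : ι → F // v ≠ 0 ∧ Q v = 0})) := Fintype.ofFinite _
    have h1 := MulAction.sum_card_fixedBy_eq_card_orbits_mul_card_group Kˣ {v : ι → F // v ≠ 0 ∧ Q v = 0}
    rw [Finset.sum_eq_single (1 : Kˣ) (fun k _ hk => by
      have := hfix k hk
      exact Fintype.card_eq_zero) (by simp)] at h1
    refine ⟨Fintype.card (Quotient (MulAction.orbitRel Kˣ {v : ι → F // v ≠ 0 ∧ Q v = 0})), ?_⟩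
    rw [Nat.card_eq_fintype_card, Nat.card_eq_fintype_card, mul_comm, ← h1,
      ← Fintype.card_congr (Equiv.subtypeUnivEquiv (p := fun x => x ∈ MulAction.fixedBy
        {v : ι → F // v ≠ 0 ∧ Q v = 0} (1 : Kˣ)) fun x => one_smul Kˣ x)]
  have hq1 : 2 ≤ q := by
    rw [hq, Nat.card_eq_fintype_card]; exact Fintype.one_lt_card
  have hdvdZ : ((q : ℤ) ^ 2 - 1) ∣ (q : ℤ) ^ (2 * m + 1) + (q : ℤ) ^ (m + 1) - (q : ℤ) ^ m - 1 := by
    have h1 := Int.natCast_dvd_natCast.2 hdvd
    rw [hcK] at h1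
    push_cast [Nat.one_le_pow 2 q (by omega)] at h1
    have h3 : (Nat.card {v : ι → F // v ≠ 0 ∧ Q v = 0} : ℤ) + 1 = Nat.card {v : ι → F // Q v = 0} := by
      exact_mod_cast hZ1
    rw [show (Nat.card {v : ι → F // v ≠ 0 ∧ Q v = 0} : ℤ) =
      (q : ℤ) ^ (2 * m + 1) + (q : ℤ) ^ (m + 1) - (q : ℤ) ^ m - 1 by rw [← hZ0]; linarith] at h1
    exact h1
  obtain ⟨a, rfl⟩ := hm
  have hb : ∀ b : ℕ, ((q : ℤ) ^ 2 - 1) ∣ ((q : ℤ) ^ 2) ^ b - 1 := fun b => sub_one_dvd_pow_sub_one _ b
  have h2q : ((q : ℤ) ^ 2 - 1) ∣ 2 * ((q : ℤ) - 1) := by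
    have h1 : ((q : ℤ) ^ 2 - 1) ∣ (q : ℤ) * (((q : ℤ) ^ 2) ^ (2 * a) - 1) + (q : ℤ) * (((q : ℤ) ^ 2) ^ a - 1)
        - (((q : ℤ) ^ 2) ^ a - 1) :=
      dvd_sub (dvd_add (dvd_mul_of_dvd_right (hb _) _) (dvd_mul_of_dvd_right (hb _) _)) (hb _)
    have h3 := dvd_sub hdvdZ h1
    rw [show (q : ℤ) ^ (2 * (a + a) + 1) + (q : ℤ) ^ (a + a + 1) - (q : ℤ) ^ (a + a) - 1 -
      ((q : ℤ) * (((q : ℤ) ^ 2) ^ (2 * a) - 1) + (q : ℤ) * (((q : ℤ) ^ 2) ^ a - 1) -
        (((q : ℤ) ^ 2) ^ a - 1)) = 2 * ((q : ℤ) - 1) by ring] at h3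
    exact h3
  have hq2 : (2 : ℤ) ≤ q := by exact_mod_cast hq1
  have := Int.le_of_dvd (by linarith) h2q
  nlinarith

end Cfsg.Agent.Aschbacher
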