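/-
Tensor decompositions of the polar form of a quadratic form in even dimension.
Main results: `TStr`, `TStr.of_ftensor`, `TStr.alt_left`, `TStr.pure_zero`, `TStr.plus_of_pure`, `TStr.disc`,
`quad_or_halves`, `TStr.two_symm`.
-/
import Cfsg.Agent.Lib.Aschbacher.EvenDecomp
import Cfsg.Agent.Lib.Aschbacher.EvenField
import Cfsg.Agent.Lib.Aschbacher.FormClifford
import Cfsg.Agent.Lib.Aschbacher.FormSymplectic
import Cfsg.Agent.Lib.Transvect.TensorFrame
import Cfsg.Agent.Lib.Linear.AltObstruction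

set_option autoImplicit false
set_option linter.unusedSectionVars false

namespace Cfsg.Agent.Aschbacher

open Matrix Module
open Cfsg.Agent.PrimeDim
open QuadraticMap (polar)
open Orth (perpSub)
open Transvect (tp tp_apply app app_apply)

variable {ι : Type} [Fintype ι] [DecidableEq ι] {F : Type*} [Field F] [Fintype F]
variable {Q : QuadraticForm F (ι → F)}

/-- An irreducible group of isometries preserving a tensor decomposition of the polar form. -/
structure TStr (Q : QuadraticForm F (ι → F)) (H : Subgroup (GL ι F)) {d t : ℕ} (e : ι ≃ Fin d × Fin t)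
    (P : GL ι F) (G1 : Matrix (Fin d) (Fin d) F) (G2 : Matrix (Fin t) (Fin t) F) : Prop where
  nd : Q.polarBilin.Nondegenerate
  ne : Nonempty ι
  iso : H ≤ Cfsg.isometryGroup F ⇑Q
  irr : Geo.ActsIrreducibly (Geo.matrixSet H)
  le : H ≤ Geo.tensorProductSubgroup d t e P
  gram : (P : Matrix ι ι F)ᵀ * gramQ Q * (P : Matrix ι ι F) = tens e G1 G2
  herm1 : Herm (RingHom.id F) G1
  herm2 : Herm (RingHom.id F) G2

theorem TStr.of_ftensor [Nonempty ι] (hQ : Q.polarBilin.Nondegenerate) {H : Subgroup (GL ι F)}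
    (hH : H ≤ Cfsg.isometryGroup F ⇑Q) (hirr : Geo.ActsIrreducibly (Geo.matrixSet H)) {d t : ℕ}
    (h : FTensor (RingHom.id F) (gramQ Q) (H ⊔ Geo.scalars ι F) d t) (e : ι ≃ Fin d × Fin t) :
    ∃ P G1 G2, TStr Q H e P G1 G2 := by
  obtain ⟨P, G1, G2, hle, hgram, h1, h2⟩ := h.2 e
  rw [RingHom.coe_id, Matrix.map_id] at hgram
  exact ⟨P, G1, G2, hQ, ‹_›, hH, hirr, le_sup_left.trans hle, hgram, h1, h2⟩

namespace TStr

variable {H : Subgroup (GL ι F)} {d t : ℕ} {e : ι ≃ Fin d × Fin t} {P : GL ι F}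
variable {G1 : Matrix (Fin d) (Fin d) F} {G2 : Matrix (Fin t) (Fin t) F} (h : TStr Q H e P G1 G2)
include h

theorem swap : TStr Q H (e.trans (Equiv.prodComm _ _)) P G2 G1 where
  nd := h.nd
  ne := h.ne
  iso := h.iso
  irr := h.irr
  le := fun g hg => by
    obtain ⟨u, v, huv⟩ := (mem_tensorProductSubgroup_iff e P g).1 (h.le hg)
    refine (mem_tensorProductSubgroup_iff _ P g).2 ⟨v, u, ?_⟩
    rw [huv]
    congr 1
    ext a b
    simp [tens_apply, mul_comm]
  gram := by
    rw [h.gram]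
    ext a b
    simp [tens_apply, mul_comm]
  herm1 := h.herm2
  herm2 := h.herm1

theorem card_eq : d * t = Fintype.card ι := by
  rw [Fintype.card_congr e, Fintype.card_prod, Fintype.card_fin, Fintype.card_fin]

/-- The polar form on pure tensors. -/
theorem polar_tp (a a' : Fin d → F) (y y' : Fin t → F) :
    polar ⇑Q (tp e P a y) (tp e P a' y') = (a ⬝ᵥ G1 *ᵥ a') * (y ⬝ᵥ G2 *ᵥ y') := by
  rw [tp_apply, tp_apply, app_apply, app_apply, polar_eq_gram, formOfGram_mulVec, RingHom.coe_id,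
    Matrix.map_id, h.gram]
  simp only [Geo.formOfGram, RingHom.id_apply, id_eq, tens_apply, dotProduct, Matrix.mulVec]
  rw [← e.symm.sum_comp, Fintype.sum_prod_type, Finset.sum_mul_sum]
  refine Finset.sum_congr rfl fun i _ => Finset.sum_congr rfl fun j _ => ?_
  rw [← e.symm.sum_comp, Fintype.sum_prod_type]
  simp only [Equiv.apply_symm_apply, Finset.mul_sum, Finset.sum_mul]
  rw [Finset.sum_comm]
  refine Finset.sum_congr rfl fun k _ => Finset.sum_congr rfl fun l _ => ?_
  ring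

/-- Elements of the group split into similitudes of the factors. -/
theorem factors {g : GL ι F} (hg : g ∈ H) : ∃ (u : GL (Fin d) F) (v : GL (Fin t) F) (κ : F), κ ≠ 0 ∧
    (g : Matrix ι ι F) = cj P (tens e (u : Matrix (Fin d) (Fin d) F) (v : Matrix (Fin t) (Fin t) F)) ∧
    G1 = κ • ((u : Matrix (Fin d) (Fin d) F)ᵀ * G1 * (u : Matrix (Fin d) (Fin d) F)) ∧
    (v : Matrix (Fin t) (Fin t) F)ᵀ * G2 * (v : Matrix (Fin t) (Fin t) F) = κ • G2 := by
  obtain ⟨u, v, huv⟩ := (mem_tensorProductSubgroup_iff e P g).1 (h.le hg)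
  have hgP : (g : Matrix ι ι F) * (P : Matrix ι ι F) =
      (P : Matrix ι ι F) * tens e (u : Matrix (Fin d) (Fin d) F) (v : Matrix (Fin t) (Fin t) F) := by
    rw [huv, cj_apply, mul_assoc, Units.inv_mul, mul_one]
  have h1 : tens e ((u : Matrix (Fin d) (Fin d) F)ᵀ * G1 * (u : Matrix (Fin d) (Fin d) F)) ((v : Matrix (Fin t) (Fin t) F)ᵀ * G2 * (v : Matrix (Fin t) (Fin t) F))
      = tens e G1 G2 := by
    set M := tens e (u : Matrix (Fin d) (Fin d) F) (v : Matrix (Fin t) (Fin t) F) with hM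
    rw [← tens_mul, ← tens_mul, ← tens_transpose, ← h.gram, ← hM]
    calc Mᵀ * ((P : Matrix ι ι F)ᵀ * gramQ Q * (P : Matrix ι ι F)) * M
        = ((P : Matrix ι ι F) * M)ᵀ * gramQ Q * ((P : Matrix ι ι F) * M) := by
          simp [Matrix.transpose_mul, mul_assoc]
      _ = (P : Matrix ι ι F)ᵀ * ((g : Matrix ι ι F)ᵀ * gramQ Q * (g : Matrix ι ι F)) * (P : Matrix ι ι F) := by
          rw [← hgP]; simp [Matrix.transpose_mul, mul_assoc]
      _ = _ := by rw [gram_of_isometry (h.iso hg)]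
  have hne : ∀ {m : ℕ}, 0 < m → ∀ {Z : Matrix (Fin m) (Fin m) F} (X : GL (Fin m) F), IsUnit Z.det →
      (X : Matrix _ _ F)ᵀ * Z * (X : Matrix _ _ F) ≠ 0 := fun {m} hm {Z} X hZ h0 => by
    have : Nonempty (Fin m) := ⟨⟨0, hm⟩⟩
    have h2 := congrArg Matrix.det h0
    rw [Matrix.det_mul, Matrix.det_mul, Matrix.det_transpose, Matrix.det_zero] at h2
    exact mul_ne_zero (mul_ne_zero ((Matrix.isUnit_iff_isUnit_det _).mp X.isUnit).ne_zero hZ.ne_zero)
      ((Matrix.isUnit_iff_isUnit_det _).mp X.isUnit).ne_zero h2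
  have hdt : 0 < d ∧ 0 < t := by
    by_contra hc
    have hι : Fintype.card ι = 0 := by
      rw [← h.card_eq]; rcases (by omega : d = 0 ∨ t = 0) with r | r <;> simp [r]
    exact Nat.lt_irrefl 0 (hι ▸ Fintype.card_pos_iff.mpr (h.ne))
  obtain ⟨κ, hκ, hκ1, hκ2⟩ := tens_cancel e h1 (hne hdt.1 u h.herm1.det) (hne hdt.2 v h.herm2.det)
  exact ⟨u, v, κ, hκ, huv, hκ1, hκ2⟩

/-- A group element on pure tensors. -/
theorem act {g : GL ι F} {u : GL (Fin d) F} {v : GL (Fin t) F}
    (hg : (g : Matrix ι ι F) = cj P (tens e (u : Matrix (Fin d) (Fin d) F) (v : Matrix (Fin t) (Fin t) F))) (a : Fin d → F)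
    (y : Fin t → F) : (g : Matrix ι ι F) *ᵥ tp e P a y =
      tp e P ((u : Matrix (Fin d) (Fin d) F) *ᵥ a) ((v : Matrix (Fin t) (Fin t) F) *ᵥ y) := by
  rw [tp_apply, tp_apply, app_apply, app_apply, hg, cj_apply, Matrix.mulVec_mulVec, mul_assoc, Units.inv_mul,
    mul_one, ← Matrix.mulVec_mulVec]
  congr 1
  funext i
  simp only [Matrix.mulVec, dotProduct, tens_apply]
  rw [← e.symm.sum_comp, Fintype.sum_prod_type, Finset.sum_mul_sum]
  simp only [Equiv.apply_symm_apply]
  exact Finset.sum_congr rfl fun j _ => Finset.sum_congr rfl fun k _ => by ring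

/-- A subspace of the left factor fixed by every left component is trivial. -/
theorem left_irr {U : Submodule F (Fin d → F)}
    (hU : ∀ g ∈ H, ∀ (u : GL (Fin d) F) (v : GL (Fin t) F),
      (g : Matrix ι ι F) = cj P (tens e (u : Matrix (Fin d) (Fin d) F) (v : Matrix (Fin t) (Fin t) F)) →
      ∀ a ∈ U, (u : Matrix (Fin d) (Fin d) F) *ᵥ a ∈ U) : U = ⊥ ∨ U = ⊤ := by
  classical
  rcases Nat.eq_zero_or_pos t with rfl | ht
  · have hι : Fintype.card ι = 0 := by rw [← h.card_eq, mul_zero]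
    exact absurd (Fintype.card_pos_iff.mpr h.ne) (by omega)
  let col : Fin t → (ι → F) →ₗ[F] (Fin d → F) := fun j =>
    { toFun := fun z i => (((P⁻¹ : GL ι F) : Matrix ι ι F) *ᵥ z) (e.symm (i, j))
      map_add' := fun a b => by funext i; simp [Matrix.mulVec_add]
      map_smul' := fun c a => by funext i; simp [Matrix.mulVec_smul] }
  let W : Submodule F (ι → F) := ⨅ j, U.comap (col j)
  have hW : ∀ g ∈ H, ∀ w ∈ W, (g : Matrix ι ι F) *ᵥ w ∈ W := by
    intro g hg w hw
    obtain ⟨u, v, -, -, huv, -, -⟩ := h.factors hg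
    simp only [W, Submodule.mem_iInf, Submodule.mem_comap] at hw ⊢
    intro j
    have hc : col j ((g : Matrix ι ι F) *ᵥ w) = ∑ k, (v : Matrix (Fin t) (Fin t) F) j k • ((u : Matrix (Fin d) (Fin d) F) *ᵥ col k w) := by
      funext i
      show (((P⁻¹ : GL ι F) : Matrix ι ι F) *ᵥ ((g : Matrix ι ι F) *ᵥ w)) (e.symm (i, j)) = _
      rw [huv, cj_apply, Matrix.mulVec_mulVec, ← mul_assoc, ← mul_assoc, Units.inv_mul, one_mul,
        ← Matrix.mulVec_mulVec]
      simp only [Matrix.mulVec, dotProduct, tens_apply, Finset.sum_apply, Pi.smul_apply, smul_eq_mul, col,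
        LinearMap.coe_mk, AddHom.coe_mk, Finset.mul_sum]
      rw [← e.symm.sum_comp, Fintype.sum_prod_type, Finset.sum_comm]
      simp only [Equiv.apply_symm_apply]
      exact Finset.sum_congr rfl fun k _ => Finset.sum_congr rfl fun l _ => by ring
    rw [hc]
    exact Submodule.sum_mem _ fun k _ => Submodule.smul_mem _ _ (hU g hg u v huv _ (hw k))
  have hcol : ∀ a y j, col j (tp e P a y) = y j • a := fun a y j => by
    funext i
    show (((P⁻¹ : GL ι F) : Matrix ι ι F) *ᵥ tp e P a y) (e.symm (i, j)) = _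
    rw [tp_apply, app_apply, Matrix.mulVec_mulVec, Units.inv_mul, Matrix.one_mulVec]
    simp [mul_comm]
  rcases irred_invariant h.irr hW with hb | htop
  · refine .inl ((Submodule.eq_bot_iff _).2 fun a ha => ?_)
    have h1 : tp e P a (fun _ => 1) ∈ W := by
      simp only [W, Submodule.mem_iInf, Submodule.mem_comap, hcol, one_smul]
      exact fun _ => ha
    rw [hb, Submodule.mem_bot] at h1
    have h2 := hcol a (fun _ => 1) ⟨0, ht⟩
    rw [h1, map_zero, one_smul] at h2
    exact h2.symm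
  · refine .inr (Submodule.eq_top_iff'.2 fun a => ?_)
    have h1 : tp e P a (fun _ => 1) ∈ W := htop.symm ▸ Submodule.mem_top
    simp only [W, Submodule.mem_iInf, Submodule.mem_comap, hcol, one_smul] at h1
    exact h1 ⟨0, ht⟩

/-- The factors are both symmetric or both skew. -/
theorem symm_or_skew : (G1ᵀ = G1 ∧ G2ᵀ = G2) ∨ (G1ᵀ = -G1 ∧ G2ᵀ = -G2) := by
  classical
  obtain ⟨ε1, -, hε1⟩ := h.herm1.symm
  obtain ⟨ε2, -, hε2⟩ := h.herm2.symm
  rw [RingHom.coe_id, Matrix.map_id] at hε1 hε2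
  obtain ⟨x⟩ := h.ne
  have hd : 0 < d := Fin.pos (e x).1
  have ht : 0 < t := Fin.pos (e x).2
  obtain ⟨i, j, hij⟩ : ∃ i j, G1 i j ≠ 0 := by
    by_contra hc
    simp only [not_exists, not_not] at hc
    have : Nonempty (Fin d) := ⟨⟨0, hd⟩⟩
    exact h.herm1.det.ne_zero (by rw [show G1 = 0 from Matrix.ext hc, Matrix.det_zero])
  obtain ⟨k, l, hkl⟩ : ∃ k l, G2 k l ≠ 0 := by
    by_contra hc
    simp only [not_exists, not_not] at hc
    have : Nonempty (Fin t) := ⟨⟨0, ht⟩⟩
    exact h.herm2.det.ne_zero (by rw [show G2 = 0 from Matrix.ext hc, Matrix.det_zero])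
  have hsq : ε1 * ε1 = 1 := by
    have e1 := congrFun (congrFun hε1 i) j
    have e2 := congrFun (congrFun hε1 j) i
    simp only [Matrix.transpose_apply, Matrix.smul_apply, smul_eq_mul] at e1 e2
    exact mul_right_cancel₀ hij (by rw [one_mul, mul_assoc, ← e1, ← e2])
  have hprod : ε1 * ε2 = 1 := by
    have e0 : (tens e G1 G2)ᵀ = tens e G1 G2 := by
      rw [← h.gram, Matrix.transpose_mul, Matrix.transpose_mul, Matrix.transpose_transpose, gramQ_transpose,
        mul_assoc]
    have e1 := congrFun (congrFun e0 (e.symm (i, k))) (e.symm (j, l))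
    rw [tens_transpose, hε1, hε2] at e1
    simp only [tens_apply, Equiv.apply_symm_apply, Matrix.smul_apply, smul_eq_mul] at e1
    exact mul_right_cancel₀ (mul_ne_zero hij hkl) (by rw [one_mul]; linear_combination e1)
  rcases mul_self_eq_one_iff.1 hsq with r | r
  · rw [r, one_mul] at hprod
    exact .inl ⟨by rw [hε1, r, one_smul], by rw [hε2, hprod, one_smul]⟩
  · rw [r, neg_one_mul, neg_eq_iff_eq_neg] at hprod
    exact .inr ⟨by rw [hε1, r, neg_one_smul], by rw [hε2, hprod, neg_one_smul]⟩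

/-- In characteristic two both factors are alternating. -/
theorem alt_left (h2 : (2 : F) = 0) (hd : 2 ≤ d) (a : Fin d → F) : a ⬝ᵥ G1 *ᵥ a = 0 := by
  classical
  have hneg : ∀ x : F, -x = x := fun x => by linear_combination (-x) * h2
  have hsym : G1ᵀ = G1 := by
    rcases h.symm_or_skew with r | r
    · exact r.1
    · rw [r.1]; ext i j; rw [Matrix.neg_apply, hneg]
  have hswap : ∀ x y : Fin d → F, x ⬝ᵥ G1 *ᵥ y = y ⬝ᵥ G1 *ᵥ x := fun x y => by
    rw [Matrix.dotProduct_mulVec, ← Matrix.mulVec_transpose, hsym, dotProduct_comm]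
  let U : Submodule F (Fin d → F) :=
    { carrier := {x | x ⬝ᵥ G1 *ᵥ x = 0}
      add_mem' := fun {x y} hx hy => by
        have hx' : x ⬝ᵥ G1 *ᵥ x = 0 := hx
        have hy' : y ⬝ᵥ G1 *ᵥ y = 0 := hy
        show (x + y) ⬝ᵥ G1 *ᵥ (x + y) = 0
        rw [Matrix.mulVec_add, dotProduct_add, add_dotProduct, add_dotProduct, hswap y x]
        linear_combination hx' + hy' + (x ⬝ᵥ G1 *ᵥ y) * h2
      zero_mem' := by simp
      smul_mem' := fun c x hx => by
        show (c • x) ⬝ᵥ G1 *ᵥ (c • x) = 0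
        rw [Matrix.mulVec_smul, dotProduct_smul, smul_dotProduct, show x ⬝ᵥ G1 *ᵥ x = 0 from hx, smul_zero,
          smul_zero] }
  have hmem : ∀ x, x ∈ U ↔ x ⬝ᵥ G1 *ᵥ x = 0 := fun x => Iff.rfl
  have hinv : ∀ g ∈ H, ∀ (u : GL (Fin d) F) (v : GL (Fin t) F),
      (g : Matrix ι ι F) = cj P (tens e (u : Matrix (Fin d) (Fin d) F) (v : Matrix (Fin t) (Fin t) F)) →
      ∀ x ∈ U, (u : Matrix (Fin d) (Fin d) F) *ᵥ x ∈ U := by
    intro g hg u v huv x hx
    obtain ⟨u', v', κ, hκ, huv', hu', -⟩ := h.factors hg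
    rw [hmem] at hx ⊢
    obtain ⟨c, hc, hcu⟩ : ∃ c : F, c ≠ 0 ∧ (u : Matrix (Fin d) (Fin d) F) = c • (u' : Matrix (Fin d) (Fin d) F) := by
      obtain ⟨x0⟩ := h.ne
      have ht : 0 < t := Fin.pos (e x0).2
      have hd : 0 < d := Fin.pos (e x0).1
      have : Nonempty (Fin d) := ⟨⟨0, hd⟩⟩
      have : Nonempty (Fin t) := ⟨⟨0, ht⟩⟩
      have h1 := congrArg (cj P⁻¹) (huv'.symm.trans huv)
      rw [cj_inv_cj, cj_inv_cj] at h1
      obtain ⟨c, hc, hc1, -⟩ := tens_cancel e h1 u'.isUnit.ne_zero v'.isUnit.ne_zero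
      exact ⟨c, hc, hc1⟩
    rw [hcu, Matrix.smul_mulVec, Matrix.mulVec_smul, dotProduct_smul, smul_dotProduct]
    have h3 : x ⬝ᵥ G1 *ᵥ x = κ * (((u' : Matrix (Fin d) (Fin d) F) *ᵥ x) ⬝ᵥ G1 *ᵥ ((u' : Matrix (Fin d) (Fin d) F) *ᵥ x)) := by
      conv_lhs => rw [hu']
      rw [Matrix.smul_mulVec, dotProduct_smul, smul_eq_mul, ← Matrix.mulVec_mulVec, ← Matrix.mulVec_mulVec,
        Matrix.dotProduct_mulVec, Matrix.vecMul_transpose]
    rw [hx, eq_comm, mul_eq_zero] at h3
    rw [h3.resolve_left hκ, smul_zero, smul_zero]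
  rcases h.left_irr hinv with hb | htop
  · exfalso
    have : CharP F 2 := CharTwo.of_one_ne_zero_of_two_eq_zero one_ne_zero h2
    let i0 : Fin d := ⟨0, by omega⟩
    let i1 : Fin d := ⟨1, by omega⟩
    have h01 : i0 ≠ i1 := by simp [i0, i1, Fin.ext_iff]
    have key : ∀ x : Fin d → F, x ≠ 0 → x ⬝ᵥ G1 *ᵥ x ≠ 0 := fun x hx h0 =>
      hx (by have := (hmem x).2 h0; rwa [hb, Submodule.mem_bot] at this)
    have hd0 : ∀ i, G1 i i ≠ 0 := fun i h0 => key (Pi.single i 1) (by simp) (by simp [h0])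
    obtain ⟨s, hs⟩ := FiniteField.isSquare_of_char_two (ringChar.eq F 2) (G1 i1 i1 / G1 i0 i0)
    have hne : (s • Pi.single i0 (1 : F) + Pi.single i1 1 : Fin d → F) ≠ 0 := fun h0 => by
      have := congrFun h0 i1
      simp [h01.symm] at this
    refine key _ hne ?_
    have hs' : s * s * G1 i0 i0 = G1 i1 i1 := by rw [← hs, div_mul_cancel₀ _ (hd0 i0)]
    have hA : (s • Pi.single i0 (1 : F)) ⬝ᵥ G1 *ᵥ (s • Pi.single i0 (1 : F)) = s * s * G1 i0 i0 := by
      rw [Matrix.mulVec_smul, dotProduct_smul, smul_dotProduct]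
      simp
      ring
    have hC : (Pi.single i1 (1 : F)) ⬝ᵥ G1 *ᵥ Pi.single i1 (1 : F) = G1 i1 i1 := by simp
    rw [Matrix.mulVec_add, dotProduct_add, add_dotProduct, add_dotProduct, hswap (Pi.single i1 1) (s • _),
      hA, hC, hs']
    linear_combination (G1 i1 i1 + (s • Pi.single i0 (1 : F)) ⬝ᵥ G1 *ᵥ Pi.single i1 (1 : F)) * h2
  · exact (hmem a).1 (htop.symm ▸ Submodule.mem_top)

/-- The left dimension is even when the left form is alternating. -/
theorem even_of_alt (halt : ∀ a : Fin d → F, a ⬝ᵥ G1 *ᵥ a = 0) : Even d := by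
  refine Linear.even_finrank_of_alt_nondeg d (Matrix.toLinearMap₂' F G1) (fun x => ?_)
    (fun x hx => ?_) (by rw [Module.finrank_fintype_fun_eq_card, Fintype.card_fin])
  · rw [Matrix.toLinearMap₂'_apply']; exact halt x
  · have h1 : Matrix.vecMul x G1 = 0 := funext fun j => by
      have := hx (Pi.single j 1)
      rwa [Matrix.toLinearMap₂'_apply', Matrix.dotProduct_mulVec, dotProduct_single, mul_one] at this
    exact Matrix.vecMul_injective_iff_isUnit.2 ((Matrix.isUnit_iff_isUnit_det _).2 h.herm1.det)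
      (h1.trans (Matrix.zero_vecMul _).symm)

/-- In characteristic two the quadratic form vanishes on pure tensors when the left factor is larger. -/
theorem pure_zero_of_lt (h2 : (2 : F) = 0) (ht : 2 ≤ t) (htd : t < d) (a : Fin d → F) (y : Fin t → F) :
    Q (tp e P a y) = 0 := by
  classical
  have hd : 2 ≤ d := by omega
  have h1 := h.alt_left h2 hd
  have h2' := h.swap.alt_left h2 ht
  have hadd1 : ∀ a a' y, Q (tp e P (a + a') y) = Q (tp e P a y) + Q (tp e P a' y) := fun a a' y => by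
    rw [map_add, LinearMap.add_apply, Orth.Q_add, h.polar_tp, h2', mul_zero, add_zero]
  have hadd2 : ∀ a y y', Q (tp e P a (y + y')) = Q (tp e P a y) + Q (tp e P a y') := fun a y y' => by
    rw [map_add, Orth.Q_add, h.polar_tp, h1, zero_mul, add_zero]
  let U : Submodule F (Fin d → F) :=
    { carrier := {a | ∀ y, Q (tp e P a y) = 0}
      add_mem' := fun {a a'} ha ha' y => by rw [hadd1, ha, ha', add_zero]
      zero_mem' := fun y => by simp
      smul_mem' := fun c a ha y => by rw [map_smul, LinearMap.smul_apply, Orth.Q_smul, ha, mul_zero] }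
  have hext : ∀ a, (∀ j, Q (tp e P a (Pi.single j 1)) = 0) → a ∈ U := fun a ha y => by
    rw [pi_eq_sum_univ' y]
    induction (Finset.univ : Finset (Fin t)) using Finset.induction with
    | empty => simp
    | insert j s hj ih =>
      rw [Finset.sum_insert hj, hadd2, ih, add_zero, map_smul, Orth.Q_smul, ha, mul_zero]
  have hinv : ∀ g ∈ H, ∀ (u : GL (Fin d) F) (v : GL (Fin t) F),
      (g : Matrix ι ι F) = cj P (tens e (u : Matrix (Fin d) (Fin d) F) (v : Matrix (Fin t) (Fin t) F)) →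
      ∀ x ∈ U, (u : Matrix (Fin d) (Fin d) F) *ᵥ x ∈ U := by
    intro g hg u v huv x hx y
    obtain ⟨z, rfl⟩ : ∃ z, (v : Matrix (Fin t) (Fin t) F) *ᵥ z = y :=
      ⟨((v⁻¹ : GL (Fin t) F) : Matrix (Fin t) (Fin t) F) *ᵥ y, by rw [Matrix.mulVec_mulVec, Units.mul_inv, Matrix.one_mulVec]⟩
    rw [← h.act huv, iso_Q (h.iso hg)]
    exact hx z
  rcases h.left_irr hinv with hb | htop
  · exfalso
    let f : (Fin d → F) → (Fin t → F) := fun a j => Q (tp e P a (Pi.single j 1))
    obtain ⟨x, x', hne, hxx⟩ := Fintype.exists_ne_map_eq_of_card_lt f (by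
      simp only [Fintype.card_pi, Finset.prod_const, Finset.card_univ, Fintype.card_fin]
      exact Nat.pow_lt_pow_right Fintype.one_lt_card htd)
    refine hne (sub_eq_zero.1 ?_)
    have hm : x - x' ∈ U := hext _ fun j => by
      have h3 : Q (tp e P x (Pi.single j 1)) = Q (tp e P x' (Pi.single j 1)) := congrFun hxx j
      have h4 := hadd1 (x - x') x' (Pi.single j 1)
      rw [sub_add_cancel, h3] at h4
      linear_combination -h4
    rwa [hb, Submodule.mem_bot] at hm
  · exact (htop.symm ▸ Submodule.mem_top : a ∈ U) y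

/-- In characteristic two the quadratic form vanishes on pure tensors of factors of different sizes. -/
theorem pure_zero (h2 : (2 : F) = 0) (hd : 2 ≤ d) (ht : 2 ≤ t) (hne : d ≠ t) (a : Fin d → F) (y : Fin t → F) :
    Q (tp e P a y) = 0 := by
  rcases Nat.lt_or_gt_of_ne hne with hlt | hlt
  · have h1 := h.swap.pure_zero_of_lt h2 hd hlt y a
    have h3 : tp (e.trans (Equiv.prodComm _ _)) P y a = tp e P a y := by
      rw [tp_apply, tp_apply]; congr 1; funext i; simp [mul_comm]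
    rwa [h3] at h1
  · exact h.pure_zero_of_lt h2 ht hlt a y

/-- Vanishing on pure tensors with a left factor of dimension two forces plus type. -/
theorem plus_of_pure (hd : d = 2) (hp : ∀ a y, Q (tp e P a y) = 0) : Geo.IsPlusTypeOn ⇑Q ⊤ := by
  have hinj : Function.Injective (tp e P (Pi.single ⟨0, by omega⟩ (1 : F))) := by
    intro y y' hyy
    funext j
    have h1 := congrFun ((app P).injective (by simpa [tp_apply] using hyy)) (e.symm (⟨0, by omega⟩, j))
    simpa using h1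
  refine ⟨LinearMap.range (tp e P (Pi.single ⟨0, by omega⟩ (1 : F))), le_top, ?_, ?_⟩
  · rintro _ ⟨y, rfl⟩; exact hp _ y
  · rw [LinearMap.finrank_range_of_inj hinj, finrank_top, Orth.finrank_space, Module.finrank_fintype_fun_eq_card,
      Fintype.card_fin, ← h.card_eq, hd]

/-- In odd characteristic the quadratic form on pure tensors. -/
theorem Q_tp (a : Fin d → F) (y : Fin t → F) :
    2 * Q (tp e P a y) = (a ⬝ᵥ G1 *ᵥ a) * (y ⬝ᵥ G2 *ᵥ y) := by
  rw [← h.polar_tp, Orth.pl_self]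

/-- In odd characteristic the type is read off from the factors. -/
theorem disc (h2 : (2 : F) ≠ 0) {k : ℕ} (hk : 1 ≤ k) (hι : Fintype.card ι = 2 * k) :
    Geo.IsPlusTypeOn ⇑Q ⊤ ↔ IsSquare ((-1 : F) ^ k * (G1.det ^ t * G2.det ^ d)) := by
  rw [plus_iff_disc h.nd h2 hk hι]
  have h1 := congrArg Matrix.det h.gram
  rw [Matrix.det_mul, Matrix.det_mul, Matrix.det_transpose, det_tens] at h1
  rw [← h1, show (-1 : F) ^ k * ((P : Matrix ι ι F).det * (gramQ Q).det * (P : Matrix ι ι F).det) =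
    ((-1) ^ k * (gramQ Q).det) * ((P : Matrix ι ι F).det * (P : Matrix ι ι F).det) by ring]
  refine ⟨fun hs => hs.mul (IsSquare.mul_self _), fun hs => ?_⟩
  have h3 := hs.div (IsSquare.mul_self (P : Matrix ι ι F).det)
  rwa [mul_div_assoc, div_self (mul_self_ne_zero.2 ((Matrix.isUnit_iff_isUnit_det _).mp P.isUnit).ne_zero),
    mul_one] at h3

/-- Two factors of even dimension in odd characteristic give plus type when half the dimension is even. -/
theorem plus_of_even (h2 : (2 : F) ≠ 0) (hd : Even d) (ht : Even t) (hd0 : 0 < d) (ht0 : 0 < t) :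
    Geo.IsPlusTypeOn ⇑Q ⊤ := by
  obtain ⟨a, ha⟩ := hd
  obtain ⟨b, hb⟩ := ht
  have hk : Fintype.card ι = 2 * (2 * (a * b)) := by rw [← h.card_eq, ha, hb]; ring
  rw [h.disc h2 (Nat.one_le_iff_ne_zero.2 (by simp; omega)) hk]
  refine ⟨G1.det ^ b * G2.det ^ a, ?_⟩
  subst ha hb
  rw [pow_mul, neg_one_sq, one_pow, one_mul]
  ring

end TStr

/-- An operator squaring to a scalar and negated by the adjoint gives a field or singular halves. -/
theorem quad_or_halves (hQ : Q.polarBilin.Nondegenerate) (h2 : (2 : F) ≠ 0) [Nonempty ι]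
    (hn : 2 ∣ Fintype.card ι) {H : Subgroup (GL ι F)} (T : Matrix ι ι F) {c : F} (hc : c ≠ 0)
    (hT : T * T = c • (1 : Matrix ι ι F)) (hskew : Tᵀ * gramQ Q = -(gramQ Q * T))
    (hnorm : ∀ g ∈ H, (g : Matrix ι ι F) * T = T * (g : Matrix ι ι F) ∨
      (g : Matrix ι ι F) * T = -(T * (g : Matrix ι ι F))) :
    FField (RingHom.id F) (gramQ Q) (H ⊔ Geo.scalars ι F) ∨
      FDecomp (RingHom.id F) (gramQ Q) (H ⊔ Geo.scalars ι F) := by
  classical
  have hh := herm_gramQ hQ
  have hadjT : adj (RingHom.id F) (gramQ Q) T = -T := by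
    rw [adj, RingHom.coe_id, Matrix.map_id, mul_assoc, hskew, mul_neg,
      Matrix.nonsing_inv_mul_cancel_left _ _ (isUnit_gram hQ)]
  have hcjT : ∀ g ∈ H ⊔ Geo.scalars ι F, cj g T = T ∨ cj g T = -T := by
    intro g hg
    obtain ⟨h, hh', z, hz, rfl⟩ := Subgroup.mem_sup_of_normal_right.mp hg
    have hz1 : cj z T = T := by
      refine (cj_eq_self_iff _ _).2 ?_
      obtain ⟨b, hb⟩ := (Geo.mem_scalars_iff z).mp hz
      rw [hb, Matrix.smul_mul, Matrix.mul_smul, one_mul, mul_one]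
    rw [← cj_cj, hz1, cj_apply]
    rcases hnorm h hh' with r | r
    · left; rw [r, mul_assoc, Units.mul_inv, mul_one]
    · right; rw [r, neg_mul, mul_assoc, Units.mul_inv, mul_one]
  by_cases hsq : IsSquare c
  swap
  · left
    let K : Subalgebra F (Matrix ι ι F) :=
      { carrier := {M | ∃ a b : F, M = a • 1 + b • T}
        mul_mem' := by
          rintro _ _ ⟨a, b, rfl⟩ ⟨a', b', rfl⟩
          refine ⟨a * a' + b * b' * c, a * b' + b * a', ?_⟩
          simp only [add_mul, mul_add, smul_mul_assoc, mul_smul_comm, one_mul, mul_one, hT, smul_smul, smul_add,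
            add_smul]
          module
        add_mem' := by
          rintro _ _ ⟨a, b, rfl⟩ ⟨a', b', rfl⟩
          exact ⟨a + a', b + b', by module⟩
        algebraMap_mem' := fun r => ⟨r, 0, by rw [zero_smul, add_zero, Algebra.algebraMap_eq_smul_one]⟩ }
    have hmem : ∀ M, M ∈ K ↔ ∃ a b : F, M = a • 1 + b • T := fun M => Iff.rfl
    have hind : ∀ a b : F, a • (1 : Matrix ι ι F) + b • T = 0 → a = 0 ∧ b = 0 := by
      intro a b hab
      by_cases hb : b = 0
      · subst hb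
        rw [zero_smul, add_zero, smul_eq_zero] at hab
        exact ⟨hab.resolve_right one_ne_zero, rfl⟩
      exfalso
      have hTe : T = (-a / b) • (1 : Matrix ι ι F) := by
        have h1 : b • T = (-a) • (1 : Matrix ι ι F) := by rw [neg_smul]; exact eq_neg_of_add_eq_zero_right hab
        rw [div_eq_inv_mul, mul_smul, ← h1, inv_smul_smul₀ hb]
      refine hsq ⟨-a / b, smul_one_inj (ι := ι) ?_⟩
      rw [← hT, hTe, Matrix.smul_mul, Matrix.mul_smul, one_mul, smul_smul]
    refine ⟨2, K, Nat.prime_two, hn, ⟨?_, ?_, ?_⟩, ?_, NormAlg.le_normalizer ?_⟩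
    · rintro _ ⟨a, b, rfl⟩ _ ⟨a', b', rfl⟩
      simp only [add_mul, mul_add, smul_mul_assoc, mul_smul_comm, one_mul, mul_one, smul_smul, smul_add]
      module
    · rintro _ ⟨a, b, rfl⟩ hne
      have hden : a * a - b * b * c ≠ 0 := by
        intro h0
        by_cases hb : b = 0
        · subst hb
          have ha : a = 0 := by simpa using h0
          exact hne (by rw [ha]; simp)
        · exact hsq ⟨a / b, by field_simp; linear_combination -h0⟩
      refine ⟨(a / (a * a - b * b * c)) • (1 : Matrix ι ι F) + (-b / (a * a - b * b * c)) • T, ⟨_, _, rfl⟩, ?_⟩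
      simp only [add_mul, mul_add, smul_mul_assoc, mul_smul_comm, one_mul, mul_one, hT, smul_smul, smul_add]
      have e1 : a / (a * a - b * b * c) * a + -b / (a * a - b * b * c) * (b * c) = 1 := by
        rw [div_mul_eq_mul_div, div_mul_eq_mul_div, ← add_div, div_eq_one_iff_eq hden]
        ring
      rw [show ∀ (p r s u : F), (p • (1 : Matrix ι ι F) + r • T) + (s • T + u • (1 : Matrix ι ι F)) =
        (p + u) • 1 + (r + s) • T from fun p r s u => by module,
        show ∀ x y : F, x = 1 → y = 0 → x • (1 : Matrix ι ι F) + y • T = 1 from fun x y hx hy => by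
          rw [hx, hy]; simp]
      · rw [← e1]
      · ring
    · let B : (Fin 2 → F) →ₗ[F] Matrix ι ι F :=
        { toFun := fun v => v 0 • 1 + v 1 • T
          map_add' := fun u v => by simp only [Pi.add_apply]; module
          map_smul' := fun r v => by simp only [RingHom.id_apply, Pi.smul_apply, smul_eq_mul]; module }
      have hB : Function.Injective B := by
        rw [injective_iff_map_eq_zero]
        intro v hv
        obtain ⟨e0, e1⟩ := hind _ _ hv
        funext k; fin_cases k <;> [exact e0; exact e1]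
      have hr : LinearMap.range B = Subalgebra.toSubmodule K := by
        ext M
        exact ⟨fun ⟨v, hv⟩ => ⟨v 0, v 1, hv.symm⟩, fun ⟨a, b, hab⟩ => ⟨![a, b], by simpa [B] using hab.symm⟩⟩
      rw [← Subalgebra.finrank_toSubmodule, ← hr, LinearMap.finrank_range_of_inj hB]
      simp
    · rintro _ ⟨a, b, rfl⟩
      exact ⟨a, -b, by rw [adj_add, adj_smul, adj_smul, adj_one hh, hadjT]; simp⟩
    · rintro g hg _ ⟨a, b, rfl⟩
      rw [hmem, map_add, map_smul, map_smul, map_one]
      rcases hcjT g hg with r | r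
      · exact ⟨a, b, by rw [r]⟩
      · exact ⟨a, -b, by rw [r]; simp⟩
  right
  obtain ⟨s, hs⟩ := hsq
  have hs0 : s ≠ 0 := fun h0 => hc (by rw [hs, h0, mul_zero])
  let D : Fin 2 → Submodule F (ι → F) :=
    ![LinearMap.ker (Matrix.toLin' (T - s • 1)), LinearMap.ker (Matrix.toLin' (T + s • 1))]
  have hD0 : ∀ x, x ∈ D 0 ↔ T *ᵥ x = s • x := fun x => by
    simp [D, Matrix.sub_mulVec, Matrix.smul_mulVec, sub_eq_zero]
  have hD1 : ∀ x, x ∈ D 1 ↔ T *ᵥ x = -(s • x) := fun x => by
    simp [D, Matrix.add_mulVec, Matrix.smul_mulVec, add_eq_zero_iff_eq_neg]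
  have hTx : ∀ x, T *ᵥ (T *ᵥ x) = (s * s) • x := fun x => by
    rw [Matrix.mulVec_mulVec, hT, ← hs, Matrix.smul_mulVec, Matrix.one_mulVec]
  have hpol : ∀ u v, polar ⇑Q (T *ᵥ u) v = -polar ⇑Q u (T *ᵥ v) := fun u v => by
    rw [polar_eq_gram, form_adj hh, hadjT, Matrix.neg_mulVec, ← polar_eq_gram, Orth.pl_neg_right]
  have hts : ∀ i, Geo.IsTotallySingularFor (polar ⇑Q) (D i) := by
    intro i x hx y hy
    have key : ∀ l : F, l ≠ 0 → T *ᵥ x = l • x → T *ᵥ y = l • y → polar ⇑Q x y = 0 := fun l hl ex ey => by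
      have h1 := hpol x y
      rw [ex, ey, Orth.pl_smul_left, Orth.pl_smul_right] at h1
      exact (mul_eq_zero.1 (show (2 * l) * polar ⇑Q x y = 0 by linear_combination h1)).resolve_left
        (mul_ne_zero h2 hl)
    fin_cases i
    · exact key s hs0 ((hD0 x).1 hx) ((hD0 y).1 hy)
    · exact key (-s) (neg_ne_zero.2 hs0) (by rw [neg_smul]; exact (hD1 x).1 hx)
        (by rw [neg_smul]; exact (hD1 y).1 hy)
  have hsup : D 0 ⊔ D 1 = ⊤ := by
    refine Submodule.eq_top_iff'.2 fun x => Submodule.mem_sup.2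
      ⟨(2⁻¹ : F) • (x + s⁻¹ • (T *ᵥ x)), (hD0 _).2 ?_, (2⁻¹ : F) • (x - s⁻¹ • (T *ᵥ x)), (hD1 _).2 ?_, ?_⟩
    · simp only [Matrix.mulVec_smul, Matrix.mulVec_add, hTx, smul_add, smul_smul]
      rw [show s * (2⁻¹ * s⁻¹) = 2⁻¹ by field_simp, show 2⁻¹ * s⁻¹ * (s * s) = s * 2⁻¹ by field_simp, add_comm]
    · simp only [Matrix.mulVec_smul, Matrix.mulVec_sub, hTx, smul_sub, smul_smul]
      rw [show s * (2⁻¹ * s⁻¹) = 2⁻¹ by field_simp, show 2⁻¹ * s⁻¹ * (s * s) = s * 2⁻¹ by field_simp, neg_sub]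
    · rw [← smul_add, show (x + s⁻¹ • (T *ᵥ x)) + (x - s⁻¹ • (T *ᵥ x)) = (2 : F) • x by rw [two_smul]; abel,
        inv_smul_smul₀ h2]
  have hinf : D 0 ⊓ D 1 = ⊥ := by
    rw [Submodule.eq_bot_iff]
    rintro x ⟨hx, hx'⟩
    have h1 : (2 * s) • x = 0 := by
      rw [mul_smul, two_smul, ← (hD0 x).1 hx]
      nth_rw 2 [(hD1 x).1 hx']
      rw [(hD0 x).1 hx, add_neg_cancel]
    exact (smul_eq_zero.1 h1).resolve_left (mul_ne_zero h2 hs0)
  have hhalf : ∀ i, 2 * finrank F (D i) ≤ Fintype.card ι := by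
    intro i
    have h1 : D i ≤ perpSub Q (D i) := fun x hx => Orth.mem_perpSub.2 fun y hy => hts i y hy x hx
    have h3 := Submodule.finrank_mono h1
    rw [Orth.finrank_perpSub hQ] at h3
    omega
  have hsum := Submodule.finrank_sup_add_finrank_inf_eq (D 0) (D 1)
  rw [hsup, hinf, finrank_top, finrank_bot, Orth.finrank_space, add_zero] at hsum
  obtain ⟨m, hm⟩ := hn
  have h0 := hhalf 0
  have h1 := hhalf 1
  have hι : 0 < Fintype.card ι := Fintype.card_pos
  have hfr : ∀ i, finrank F (D i) = m := by intro i; fin_cases i <;> simp <;> omega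
  refine ⟨m, 2, D, hm.symm, ?_, .inr ⟨rfl, ?_, fun i => ?_⟩⟩
  · intro g hg
    have hmap : ∀ i j, (∀ x ∈ D i, (g : Matrix ι ι F) *ᵥ x ∈ D j) →
        (D i).map (Matrix.toLin' (g : Matrix ι ι F)) = D j := fun i j hij =>
      map_of_mem g ((hfr i).trans (hfr j).symm) hij
    have hgT : ∀ x, ∀ l : F, (g : Matrix ι ι F) *ᵥ (T *ᵥ x) = l • T *ᵥ ((g : Matrix ι ι F) *ᵥ x) →
        T *ᵥ x = s • x → T *ᵥ ((g : Matrix ι ι F) *ᵥ x) = (s / l) • ((g : Matrix ι ι F) *ᵥ x) ∨ l = 0 := by
      intro x l h1 h3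
      by_cases hl : l = 0
      · exact .inr hl
      left
      rw [h3, Matrix.mulVec_smul] at h1
      rw [div_eq_inv_mul, mul_smul, h1, inv_smul_smul₀ hl]
    rcases hcjT g hg with r | r <;> rw [cj_apply] at r
    · have e1 : ∀ x, (g : Matrix ι ι F) *ᵥ (T *ᵥ x) = T *ᵥ ((g : Matrix ι ι F) *ᵥ x) := fun x => by
        conv_rhs => rw [← r]
        simp [Matrix.mulVec_mulVec, mul_assoc]
      refine ⟨1, fun i => hmap i i ?_⟩
      fin_cases i
      · intro x hx; exact (hD0 _).2 (by rw [← e1, (hD0 x).1 hx, Matrix.mulVec_smul])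
      · intro x hx; exact (hD1 _).2 (by rw [← e1, (hD1 x).1 hx, Matrix.mulVec_neg, Matrix.mulVec_smul])
    · have e1 : ∀ x, (g : Matrix ι ι F) *ᵥ (T *ᵥ x) = -(T *ᵥ ((g : Matrix ι ι F) *ᵥ x)) := fun x => by
        have r' : T = -((g : Matrix ι ι F) * T * ((g⁻¹ : GL ι F) : Matrix ι ι F)) := by rw [r, neg_neg]
        conv_rhs => rw [r']
        simp [Matrix.mulVec_mulVec, Matrix.neg_mulVec, mul_assoc]
      refine ⟨Equiv.swap 0 1, fun i => hmap i _ ?_⟩
      fin_cases i
      · intro x hx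
        simp only [Fin.zero_eta, Equiv.swap_apply_left]
        refine (hD1 _).2 ?_
        rw [← neg_eq_iff_eq_neg.2 (e1 x), (hD0 x).1 hx, Matrix.mulVec_smul]
      · intro x hx
        simp only [Fin.mk_one, Equiv.swap_apply_right]
        refine (hD0 _).2 ?_
        rw [← neg_eq_iff_eq_neg.2 (e1 x), (hD1 x).1 hx, Matrix.mulVec_neg, Matrix.mulVec_smul, neg_neg]
  · refine ⟨le_rfl, by omega, hfr, ?_, ?_⟩
    · rw [iSupIndep_pair (i := (0 : Fin 2)) (j := 1) (by decide) (fun k => by fin_cases k <;> simp)]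
      exact disjoint_iff.2 hinf
    · exact eq_top_iff.2 (hsup.symm.le.trans (sup_le (le_iSup D 0) (le_iSup D 1)))
  · have h5 := hts i
    rwa [polar_eq_gram] at h5

/-- A symmetric factor of dimension two gives a quadratic field or singular halves. -/
theorem TStr.two_symm (h2 : (2 : F) ≠ 0) {H : Subgroup (GL ι F)} {t : ℕ} {e : ι ≃ Fin 2 × Fin t} {P : GL ι F}
    {G1 : Matrix (Fin 2) (Fin 2) F} {G2 : Matrix (Fin t) (Fin t) F} (h : TStr Q H e P G1 G2) (ht : 0 < t)
    (hsym : G1ᵀ = G1) :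
    FField (RingHom.id F) (gramQ Q) (H ⊔ Geo.scalars ι F) ∨
      FDecomp (RingHom.id F) (gramQ Q) (H ⊔ Geo.scalars ι F) := by
  classical
  have : Nonempty ι := h.ne
  obtain ⟨a, b, e', rfl⟩ : ∃ a b c : F, G1 = !![a, b; b, c] := ⟨G1 0 0, G1 0 1, G1 1 1, by
    have h10 : G1 1 0 = G1 0 1 := congrFun (congrFun hsym 0) 1
    ext i j; fin_cases i <;> fin_cases j <;> simp [h10]⟩
  set N : Matrix (Fin 2) (Fin 2) F := !![b, e'; -a, -b] with hN
  set J : Matrix (Fin 2) (Fin 2) F := !![0, 1; -1, 0] with hJ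
  set D := a * e' - b * b with hD
  have hD0 : D ≠ 0 := by
    have h1 := h.herm1.det.ne_zero
    rwa [Matrix.det_fin_two_of] at h1
  have hNN : N * N = (-D) • (1 : Matrix (Fin 2) (Fin 2) F) := by
    ext i j; fin_cases i <;> fin_cases j <;> simp [hN, hD, Matrix.mul_apply, Fin.sum_univ_two] <;> ring
  have hGN : !![a, b; b, e'] * N = D • J := by
    ext i j; fin_cases i <;> fin_cases j <;> simp [hN, hD, hJ, Matrix.mul_apply, Fin.sum_univ_two] <;> ring
  have hNG : Nᵀ * !![a, b; b, e'] = -(!![a, b; b, e'] * N) := by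
    ext i j; fin_cases i <;> fin_cases j <;> simp [hN, Matrix.mul_apply, Fin.sum_univ_two] <;> ring
  let T : Matrix ι ι F := cj P (tens e N 1)
  refine quad_or_halves h.nd h2 ⟨t, h.card_eq.symm⟩ T (c := -D) (neg_ne_zero.2 hD0) ?_ ?_ fun g hg => ?_
  · show cj P _ * cj P _ = _
    rw [← map_mul, tens_mul, mul_one, hNN, tens_smul_left, tens_one, map_smul, map_one]
  · have hTP : T * (P : Matrix ι ι F) = (P : Matrix ι ι F) * tens e N 1 := by
      show cj P _ * _ = _
      rw [cj_apply, mul_assoc, Units.inv_mul, mul_one]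
    refine P.isUnit.mul_right_cancel ?_
    refine ((Matrix.isUnit_transpose _).2 P.isUnit).mul_left_cancel ?_
    calc (P : Matrix ι ι F)ᵀ * (Tᵀ * gramQ Q * (P : Matrix ι ι F))
        = (T * (P : Matrix ι ι F))ᵀ * gramQ Q * (P : Matrix ι ι F) := by
          simp [Matrix.transpose_mul, mul_assoc]
      _ = (tens e N 1)ᵀ * ((P : Matrix ι ι F)ᵀ * gramQ Q * (P : Matrix ι ι F)) := by
          rw [hTP]; simp [Matrix.transpose_mul, mul_assoc]
      _ = -(((P : Matrix ι ι F)ᵀ * gramQ Q * (P : Matrix ι ι F)) * tens e N 1) := by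
          rw [h.gram, tens_transpose, tens_mul, tens_mul, Matrix.transpose_one, one_mul, mul_one, hNG]
          ext x y; simp only [tens_apply, Matrix.neg_apply, neg_mul]
      _ = _ := by rw [neg_mul, mul_neg, ← mul_assoc, ← mul_assoc, mul_assoc _ T, hTP]; simp [mul_assoc]
  obtain ⟨u, v, κ, hκ, huv, hu, -⟩ := h.factors hg
  set U : Matrix (Fin 2) (Fin 2) F := (u : Matrix (Fin 2) (Fin 2) F) with hUdef
  have hU : U.det ≠ 0 := ((Matrix.isUnit_iff_isUnit_det _).mp u.isUnit).ne_zero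
  have hUJ : Uᵀ * J * U = U.det • J := by
    ext i j; fin_cases i <;> fin_cases j <;>
      simp [hJ, Matrix.mul_apply, Fin.sum_univ_two, Matrix.det_fin_two] <;> ring
  have hdet2 : U.det * κ = 1 ∨ U.det * κ = -1 := by
    have h1 := congrArg Matrix.det hu
    rw [Matrix.det_smul, Matrix.det_mul, Matrix.det_mul, Matrix.det_transpose, Fintype.card_fin] at h1
    refine mul_self_eq_one_iff.1 (mul_right_cancel₀ h.herm1.det.ne_zero ?_)
    rw [one_mul]
    linear_combination -h1
  have hcomm : U * N = (U.det * κ) • (N * U) := by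
    have hunit : IsUnit (Uᵀ * !![a, b; b, e']) :=
      ((Matrix.isUnit_transpose _).2 u.isUnit).mul ((Matrix.isUnit_iff_isUnit_det _).2 h.herm1.det)
    refine hunit.mul_left_cancel ?_
    have h1 : Uᵀ * !![a, b; b, e'] * U = κ⁻¹ • !![a, b; b, e'] := by
      conv_rhs => rw [hu]
      rw [inv_smul_smul₀ hκ]
    calc Uᵀ * !![a, b; b, e'] * (U * N) = (Uᵀ * !![a, b; b, e'] * U) * N := by simp [mul_assoc]
      _ = (κ⁻¹ * D) • J := by rw [h1, Matrix.smul_mul, hGN, smul_smul]
      _ = (U.det * κ) • (D • (U.det • J)) := by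
          rw [smul_smul, smul_smul]
          congr 1
          have hsq : U.det * κ * (U.det * κ) = 1 := by rcases hdet2 with r | r <;> rw [r] <;> ring
          have hinv : κ⁻¹ = U.det * κ * U.det := inv_eq_of_mul_eq_one_left (by linear_combination hsq)
          rw [hinv]
          ring
      _ = _ := by
          rw [Matrix.mul_smul, ← mul_assoc, mul_assoc Uᵀ, hGN, Matrix.mul_smul, Matrix.smul_mul, hUJ]
  have hT1 : (g : Matrix ι ι F) * T = (U.det * κ) • (T * (g : Matrix ι ι F)) := by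
    show _ * cj P _ = _ • (cj P _ * _)
    rw [huv, ← map_mul, ← map_mul, ← map_smul, tens_mul, tens_mul, one_mul, mul_one, hcomm, tens_smul_left]
  rcases hdet2 with r | r <;> rw [hT1, r]
  · left; rw [one_smul]
  · right; rw [neg_one_smul]

end Cfsg.Agent.Aschbacher
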