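/-
In dimension eight tensor-induced groups and groups of symplectic type force plus type.
Main results: `ti_plus`, `sympData_plus`.
-/
import Cfsg.Agent.Lib.Aschbacher.EvenTensor
import Cfsg.Agent.Lib.Aschbacher.FormMaster
import Cfsg.Agent.Lib.Aschbacher.FormGeneral

set_option autoImplicit false
set_option linter.unusedSectionVars false

namespace Cfsg.Agent.Aschbacher

open Matrix Module
open scoped commutatorElement
open Cfsg.Agent.PrimeDim
open QuadraticMap (polar)

variable {ι : Type} [Fintype ι] [DecidableEq ι] {F : Type*} [Field F] [Fintype F]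
variable {Q : QuadraticForm F (ι → F)}

set_option maxHeartbeats 800000 in
/-- A tensor-induced group with three factors of dimension two forces plus type. -/
theorem ti_plus (hQ : Q.polarBilin.Nondegenerate) (hι : Fintype.card ι = 8) {H : Subgroup (GL ι F)}
    (hH : H ≤ Cfsg.isometryGroup F ⇑Q) (hT : TIData (H ⊔ Geo.scalars ι F) 2 3) :
    Geo.IsPlusTypeOn ⇑Q ⊤ := by
  classical
  have : Nonempty ι := Fintype.card_pos_iff.mp (by omega)
  obtain ⟨φ₀, D, g, hg, hDG, hDperf, -, hφD, hφalg, hcomm, hgen, -⟩ := hT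
  set G := H ⊔ Geo.scalars ι F with hG
  have hh := herm_gramQ hQ
  let Di : Fin 3 → Subgroup (GL ι F) := fun i => D.map (MulAut.conj (g i)).toMonoidHom
  have hDiG : ∀ i, Di i ≤ G := by
    rintro i _ ⟨x, hx, rfl⟩
    exact mul_mem (mul_mem (hg i) (hDG hx)) (inv_mem (hg i))
  have hDiH : ∀ i, Di i ≤ H := fun i => perfect_le (hDiG i) (by rw [← Subgroup.map_commutator, hDperf])
  let f : Matrix (Fin 2) (Fin 2) F →ₐ[F] Matrix ι ι F := (cj (g 0)).comp φ₀
  have hrange : f.range = alg (Di 0) := by
    apply le_antisymm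
    · rintro _ ⟨a, rfl⟩
      exact cj_alg_map (g 0) (hφalg a)
    · refine Algebra.adjoin_le ?_
      rintro _ ⟨_, ⟨x, hx, rfl⟩, rfl⟩
      obtain ⟨a, ha⟩ := hφD x hx
      exact ⟨a, by show cj (g 0) (φ₀ a) = _; rw [ha, cj_coe]; rfl⟩
  have hinj : Function.Injective f := RingHom.injective f.toRingHom
  obtain ⟨t, htn, hP⟩ := exists_tens_form (by omega) f
  have ht : t = 4 := by omega
  subst ht
  let e : ι ≃ Fin 2 × Fin 4 := Fintype.equivOfCardEq (by simp [hι])
  obtain ⟨P, hP⟩ := hP e
  obtain ⟨G1, G2, hgram, h1, h2⟩ := tensor_gram (σ := RingHom.id F) hh (by omega) (by omega) e P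
    (AlgEquiv.ofInjective f hinj) (fun X => hP X) (by
      rw [hrange]
      exact fun x hx => adj_mem_alg hh (sim_gramQ hH) (hDiG 0) hx)
  rw [RingHom.coe_id, Matrix.map_id] at hgram
  let K : Subgroup (GL ι F) := ⨆ i, Di i
  have halg : alg K = ⊤ := hgen _ fun i a =>
    (Algebra.adjoin_mono (Set.image_mono (le_iSup Di i) : Geo.matrixSet (Di i) ⊆ Geo.matrixSet K))
      (cj_alg_map (g i) (hφalg a))
  have hirr : Geo.ActsIrreducibly (Geo.matrixSet K) :=
    irred_of_span (by rw [span_eq_toSubmodule, halg, Algebra.top_toSubmodule])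
  have hle : K ≤ Geo.tensorProductSubgroup 2 4 e P := by
    refine iSup_le fun i => ?_
    rintro x ⟨y, hy, rfl⟩
    obtain ⟨a, ha⟩ := hφD y hy
    have hx : ((MulAut.conj (g i)).toMonoidHom y : GL ι F).1 = cj (g i) (φ₀ a) := by rw [ha, cj_coe]; rfl
    set x := (MulAut.conj (g i)).toMonoidHom y with hxdef
    refine (mem_tensorProductSubgroup_iff e P x).2 ?_
    by_cases hi : i = 0
    · subst hi
      have hxf : (x : Matrix ι ι F) = cj P (tens e a 1) := by rw [← hP]; exact hx
      have hu : IsUnit a := by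
        rw [Matrix.isUnit_iff_isUnit_det]
        have h3 := congrArg Matrix.det hxf
        rw [cj_apply, Matrix.det_units_conj, det_tens] at h3
        have h4 : IsUnit (x : Matrix ι ι F).det := (Matrix.isUnit_iff_isUnit_det _).1 x.isUnit
        rw [h3] at h4
        exact (isUnit_pow_iff (by omega)).1 (isUnit_of_mul_isUnit_left h4)
      exact ⟨hu.unit, 1, by rw [IsUnit.unit_spec, Units.val_one]; exact hxf⟩
    · have hc : ∀ X, cj P⁻¹ (x : Matrix ι ι F) * tens e X 1 = tens e X 1 * cj P⁻¹ (x : Matrix ι ι F) := fun X => by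
        have h3 := congrArg (cj P⁻¹) (hcomm hi a X).eq
        rw [map_mul, map_mul, ← hx, show cj (g 0) (φ₀ X) = cj P (tens e X 1) from hP X, cj_inv_cj] at h3
        exact h3
      obtain ⟨Y, hY⟩ := exists_eq_one_tens (by omega) e hc
      have hxY : (x : Matrix ι ι F) = cj P (tens e 1 Y) := by rw [← hY, cj_cj_inv]
      have hu : IsUnit Y := by
        rw [Matrix.isUnit_iff_isUnit_det]
        have h3 := congrArg Matrix.det hxY
        rw [cj_apply, Matrix.det_units_conj, det_tens] at h3
        have h4 : IsUnit (x : Matrix ι ι F).det := (Matrix.isUnit_iff_isUnit_det _).1 x.isUnit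
        rw [h3] at h4
        exact (isUnit_pow_iff (by omega)).1 (isUnit_of_mul_isUnit_right h4)
      exact ⟨1, hu.unit, by rw [IsUnit.unit_spec, Units.val_one]; exact hxY⟩
  have hS : TStr Q K e P G1 G2 := ⟨hQ, ‹_›, iSup_le fun i => (hDiH i).trans hH, hirr, hle, hgram, h1, h2⟩
  by_cases h20 : (2 : F) = 0
  · exact hS.plus_of_pure rfl fun a y => hS.pure_zero h20 le_rfl (by omega) (by omega) a y
  · exact hS.plus_of_even h20 even_two ⟨2, rfl⟩ (by omega) (by omega)

/-- A symplectic-type situation in dimension eight forces plus type. -/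
theorem sympData_plus (hQ : Q.polarBilin.Nondegenerate) (hι : Fintype.card ι = 8) {H : Subgroup (GL ι F)}
    (hH : H ≤ Cfsg.isometryGroup F ⇑Q) (hgood : Good (H ⊔ Geo.scalars ι F)) {r m z p f : ℕ}
    {R : Subgroup (GL ι F)} (hD : SympData (H ⊔ Geo.scalars ι F) r m z p f R) :
    Geo.IsPlusTypeOn ⇑Q ⊤ := by
  classical
  have : Nonempty ι := Fintype.card_pos_iff.mp (by omega)
  obtain ⟨P, hPR, hPH, -, hspan⟩ := sympData_isometries hgood hD
  have hone : (1 : Matrix ι ι F) ≠ 0 := one_ne_zero
  have hsgn : ∀ x ∈ P, ∀ y ∈ P, (x : Matrix ι ι F) * y = y * x ∨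
      (x : Matrix ι ι F) * y = -((y : Matrix ι ι F) * x) := by
    intro x hx y hy
    obtain ⟨b, hb⟩ := (Geo.mem_scalars_iff _).mp (hD.comm x (hPR hx) y (hPR hy))
    have hmem : ⁅x, y⁆ ∈ H := by
      rw [commutatorElement_def]
      exact mul_mem (mul_mem (mul_mem (hPH hx) (hPH hy)) (inv_mem (hPH hx))) (inv_mem (hPH hy))
    have h1 := gram_of_isometry (hH hmem)
    rw [hb, Matrix.transpose_smul, Matrix.transpose_one, Matrix.smul_mul, Matrix.mul_smul, one_mul, mul_one,
      smul_smul] at h1
    have h3 : (b : F) * b = 1 := by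
      obtain ⟨i, j, hij⟩ : ∃ i j, gramQ Q i j ≠ 0 := by
        by_contra hc
        simp only [not_exists, not_not] at hc
        exact gramQ_det Q hQ (by rw [show gramQ Q = 0 from Matrix.ext hc, Matrix.det_zero])
      have e1 := congrFun (congrFun h1 i) j
      simp only [Matrix.smul_apply, smul_eq_mul] at e1
      exact mul_right_cancel₀ hij (e1.trans (one_mul _).symm)
    have h5 : (x : Matrix ι ι F) * y = (b : F) • ((y : Matrix ι ι F) * x) := by
      have h6 : x * y = ⁅x, y⁆ * (y * x) := by rw [commutatorElement_def]; simp [mul_assoc]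
      have h7 := congrArg Units.val h6
      rw [Units.val_mul, Units.val_mul, Units.val_mul, hb, Matrix.smul_mul, one_mul] at h7
      exact h7
    rcases mul_self_eq_one_iff.1 h3 with r | r
    · exact .inl (by rw [h5, r, one_smul])
    · exact .inr (by rw [h5, r, neg_one_smul])
  have hcen : ∀ w : GL ι F, (∀ z ∈ P, (w : Matrix ι ι F) * z = z * w) →
      ∃ c : F, (w : Matrix ι ι F) = c • 1 := fun w hw =>
    scalar_of_span hspan _ (by rintro _ ⟨z, hz, rfl⟩; exact hw z hz)
  obtain ⟨x, hx, y, hy, hxy⟩ : ∃ x ∈ P, ∃ y ∈ P, (x : Matrix ι ι F) * y ≠ y * x := by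
    by_contra hc
    simp only [not_exists, not_and, not_not] at hc
    obtain ⟨i, j, hij⟩ := Fintype.exists_pair_of_one_lt_card (show 1 < Fintype.card ι by omega)
    have hall : ∀ A B : Matrix ι ι F, A * B = B * A := by
      intro A B
      refine comm_of_span hspan A ?_ B
      rintro _ ⟨u, hu, rfl⟩
      refine (comm_of_span hspan (u : Matrix ι ι F) ?_ A).symm
      rintro _ ⟨v, hv, rfl⟩
      exact hc u hu v hv
    have h6 := congrFun (congrFun (hall (Matrix.single i j (1 : F)) (Matrix.single j i (1 : F))) i) i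
    simp [hij] at h6
  have h2 : (2 : F) ≠ 0 := by
    intro h0
    rcases hsgn x hx y hy with h | h
    · exact hxy h
    · refine hxy (h.trans ?_)
      ext i j
      rw [Matrix.neg_apply]
      linear_combination (-(((y : Matrix ι ι F) * x) i j)) * h0
  have hanti : ∀ a ∈ P, ∀ b ∈ P, (a : Matrix ι ι F) * b ≠ b * a →
      (a : Matrix ι ι F) * b = -((b : Matrix ι ι F) * a) := fun a ha b hb h =>
    (hsgn a ha b hb).resolve_left h
  have hsq : ∀ a ∈ P, (a : Matrix ι ι F) * a = 1 ∨ (a : Matrix ι ι F) * a = -1 := by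
    intro a ha
    obtain ⟨c, hc⟩ := hcen (a * a) fun z hz => by
      rw [Units.val_mul]
      rcases hsgn a ha z hz with h | h
      · rw [mul_assoc, h, ← mul_assoc, h, mul_assoc]
      · rw [mul_assoc, h, mul_neg, ← mul_assoc, h, neg_mul, neg_neg, mul_assoc]
    rw [Units.val_mul] at hc
    have h1 := gram_of_isometry (hH (mul_mem (hPH ha) (hPH ha)))
    rw [Units.val_mul, hc, Matrix.transpose_smul, Matrix.transpose_one, Matrix.smul_mul, Matrix.mul_smul,
      one_mul, mul_one, smul_smul] at h1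
    obtain ⟨i, j, hij⟩ : ∃ i j, gramQ Q i j ≠ 0 := by
      by_contra hcon
      simp only [not_exists, not_not] at hcon
      exact gramQ_det Q hQ (by rw [show gramQ Q = 0 from Matrix.ext hcon, Matrix.det_zero])
    have e1 := congrFun (congrFun h1 i) j
    simp only [Matrix.smul_apply, smul_eq_mul] at e1
    rcases mul_self_eq_one_iff.1 (mul_right_cancel₀ hij (e1.trans (one_mul _).symm)) with r | r
    · exact .inl (by rw [hc, r, one_smul])
    · exact .inr (by rw [hc, r, neg_one_smul])
  obtain ⟨s, hs, u, hu, hss, hsu⟩ : ∃ s ∈ P, ∃ u ∈ P, (s : Matrix ι ι F) * s = 1 ∧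
      (s : Matrix ι ι F) * u = -((u : Matrix ι ι F) * s) := by
    by_contra hno
    simp only [not_exists, not_and] at hno
    have hxs : (x : Matrix ι ι F) * x = -1 :=
      (hsq x hx).resolve_left fun h => hno x hx y hy h (hanti x hx y hy hxy)
    have hys : (y : Matrix ι ι F) * y = -1 :=
      (hsq y hy).resolve_left fun h => hno y hy x hx h (hanti y hy x hx (Ne.symm hxy))
    have hyx : (y : Matrix ι ι F) * x = -((x : Matrix ι ι F) * y) := hanti y hy x hx (Ne.symm hxy)
    obtain ⟨z, hz, hzx, hzy, hzs⟩ : ∃ z ∈ P, (z : Matrix ι ι F) * x = x * z ∧ (z : Matrix ι ι F) * y = y * z ∧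
        ¬ ∃ c : F, (z : Matrix ι ι F) = c • 1 := by
      by_contra hcon
      simp only [not_exists, not_and, not_not] at hcon
      let B : Fin 4 → Matrix ι ι F := ![1, (x : Matrix ι ι F), (y : Matrix ι ι F), (x : Matrix ι ι F) * y]
      have hsub : Geo.matrixSet P ⊆ (Submodule.span F (Set.range B) : Set (Matrix ι ι F)) := by
        rintro _ ⟨w, hw, rfl⟩
        obtain ⟨a, ha, i, hai, hax, hay⟩ : ∃ a ∈ P, ∃ i, (∃ c : F, (a : Matrix ι ι F) * B i = c • w) ∧
            (a : Matrix ι ι F) * x = x * a ∧ (a : Matrix ι ι F) * y = y * a := by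
          rcases hsgn w hw x hx with hwx | hwx <;> rcases hsgn w hw y hy with hwy | hwy
          · exact ⟨w, hw, 0, ⟨1, by simp [B]⟩, hwx, hwy⟩
          · refine ⟨w * x, mul_mem hw hx, 1, ⟨-1, ?_⟩, ?_, ?_⟩
            · show ((w * x : GL ι F) : Matrix ι ι F) * (x : Matrix ι ι F) = _
              rw [Units.val_mul, mul_assoc, hxs, mul_neg, mul_one, neg_one_smul]
            · rw [Units.val_mul, ← mul_assoc (x : Matrix ι ι F), ← hwx]
            · rw [Units.val_mul, mul_assoc, hanti x hx y hy hxy, mul_neg, ← mul_assoc, hwy, neg_mul, neg_neg,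
                mul_assoc]
          · refine ⟨w * y, mul_mem hw hy, 2, ⟨-1, ?_⟩, ?_, ?_⟩
            · show ((w * y : GL ι F) : Matrix ι ι F) * (y : Matrix ι ι F) = _
              rw [Units.val_mul, mul_assoc, hys, mul_neg, mul_one, neg_one_smul]
            · rw [Units.val_mul, mul_assoc, hyx, mul_neg, ← mul_assoc, hwx, neg_mul, neg_neg, mul_assoc]
            · rw [Units.val_mul, ← mul_assoc (y : Matrix ι ι F), ← hwy]
          · refine ⟨w * (x * y), mul_mem hw (mul_mem hx hy), 3, ⟨-1, ?_⟩, ?_, ?_⟩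
            · show ((w * (x * y) : GL ι F) : Matrix ι ι F) * ((x : Matrix ι ι F) * y) = _
              simp only [Units.val_mul]
              have : (x : Matrix ι ι F) * y * ((x : Matrix ι ι F) * y) = -1 := by
                rw [mul_assoc, ← mul_assoc (y : Matrix ι ι F), hyx, neg_mul, mul_neg, mul_assoc, hys, mul_neg,
                  mul_one, mul_neg, neg_neg, hxs]
              rw [mul_assoc, this, mul_neg, mul_one, neg_one_smul]
            · simp only [Units.val_mul]
              rw [mul_assoc, mul_assoc (x : Matrix ι ι F), hyx, mul_neg, mul_neg, ← mul_assoc, ← mul_assoc,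
                hwx, neg_mul, neg_mul, neg_neg]
              simp only [mul_assoc]
            · simp only [Units.val_mul]
              rw [← mul_assoc (y : Matrix ι ι F), ← neg_neg ((y : Matrix ι ι F) * (w : Matrix ι ι F)), ← hwy,
                neg_mul, mul_assoc _ (y : Matrix ι ι F), ← mul_assoc (y : Matrix ι ι F), hyx, neg_mul, mul_neg,
                neg_neg]
              simp only [mul_assoc]
        obtain ⟨c, hc⟩ : ∃ c : F, (a : Matrix ι ι F) = c • 1 := not_forall_not.1 (hcon a ha hax hay)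
        obtain ⟨c', hc'⟩ := hai
        rw [hc, Matrix.smul_mul, one_mul] at hc'
        have hc0 : c' ≠ 0 := by
          intro h0
          rw [h0, zero_smul] at hc'
          have hBi : IsUnit (B i) := by
            fin_cases i
            · exact isUnit_one
            · exact x.isUnit
            · exact y.isUnit
            · exact x.isUnit.mul y.isUnit
          rcases smul_eq_zero.1 hc' with h | h
          · exact a.isUnit.ne_zero (by rw [hc, h, zero_smul])
          · exact hBi.ne_zero h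
        show (w : Matrix ι ι F) ∈ Submodule.span F (Set.range B)
        have hw' : (w : Matrix ι ι F) = (c'⁻¹ * c) • B i := by
          rw [mul_smul, hc', inv_smul_smul₀ hc0]
        rw [hw']
        exact Submodule.smul_mem _ _ (Submodule.subset_span ⟨i, rfl⟩)
      have h1 := finrank_range_le_card (R := F) B
      have h2' : Submodule.span F (Set.range B) = ⊤ :=
        top_unique (hspan.symm.le.trans (Submodule.span_le.2 hsub))
      rw [Set.finrank, h2', finrank_top, Module.finrank_matrix, Module.finrank_self, hι, Fintype.card_fin] at h1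
      omega
    have hzz : (z : Matrix ι ι F) * z = -1 := by
      refine (hsq z hz).resolve_left fun h => ?_
      obtain ⟨v, hv, hzv⟩ : ∃ v ∈ P, (z : Matrix ι ι F) * v ≠ v * z := by
        by_contra hc
        simp only [not_exists, not_and, not_not] at hc
        exact hzs (hcen z hc)
      exact hno z hz v hv h (hanti z hz v hv hzv)
    refine hno (x * z) (mul_mem hx hz) y hy ?_ ?_
    · rw [Units.val_mul, mul_assoc, ← mul_assoc (z : Matrix ι ι F), hzx, mul_assoc, hzz, mul_neg, mul_one,
        mul_neg, hxs, neg_neg]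
    · rw [Units.val_mul, mul_assoc, hzy, ← mul_assoc, hanti x hx y hy hxy, neg_mul, mul_assoc]
  have hsI := hH (hPH hs)
  have huI := hH (hPH hu)
  let A : Submodule F (ι → F) := LinearMap.ker (Matrix.toLin' ((s : Matrix ι ι F) - 1))
  let B : Submodule F (ι → F) := LinearMap.ker (Matrix.toLin' ((s : Matrix ι ι F) + 1))
  have hA : ∀ v, v ∈ A ↔ (s : Matrix ι ι F) *ᵥ v = v := fun v => by simp [A, sub_eq_zero]
  have hB : ∀ v, v ∈ B ↔ (s : Matrix ι ι F) *ᵥ v = -v := fun v => by simp [B, add_eq_zero_iff_eq_neg]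
  have hsv : ∀ v, (s : Matrix ι ι F) *ᵥ ((s : Matrix ι ι F) *ᵥ v) = v := fun v => by
    rw [Matrix.mulVec_mulVec, hss, Matrix.one_mulVec]
  have horth : ∀ a ∈ A, ∀ b ∈ B, polar ⇑Q a b = 0 := by
    intro a ha b hb
    have h1 := iso_polar hsI a b
    rw [(hA a).1 ha, (hB b).1 hb, Orth.pl_neg_right] at h1
    exact (mul_eq_zero.1 (show (2 : F) * polar ⇑Q a b = 0 by linear_combination -h1)).resolve_left h2
  have hsup : A ⊔ B = ⊤ := by
    refine Submodule.eq_top_iff'.2 fun v => Submodule.mem_sup.2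
      ⟨(2⁻¹ : F) • (v + (s : Matrix ι ι F) *ᵥ v), (hA _).2 ?_, (2⁻¹ : F) • (v - (s : Matrix ι ι F) *ᵥ v),
        (hB _).2 ?_, ?_⟩
    · rw [Matrix.mulVec_smul, Matrix.mulVec_add, hsv, add_comm]
    · rw [Matrix.mulVec_smul, Matrix.mulVec_sub, hsv, ← smul_neg, neg_sub]
    · rw [← smul_add, show (v + (s : Matrix ι ι F) *ᵥ v) + (v - (s : Matrix ι ι F) *ᵥ v) = (2 : F) • v by
        rw [two_smul]; abel, inv_smul_smul₀ h2]
  have hAnd : ND Q A := by
    intro a ha ha0
    obtain ⟨w, hw⟩ := Orth.exists_polar_ne hQ ha0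
    obtain ⟨a', ha', b', hb', rfl⟩ := Submodule.mem_sup.1 (hsup.symm ▸ Submodule.mem_top : w ∈ A ⊔ B)
    rw [Orth.pl_add_right, horth a ha b' hb', add_zero] at hw
    exact ⟨a', ha', hw⟩
  have hmap : A.map (Matrix.toLin' (u : Matrix ι ι F)) = B := by
    ext v
    constructor
    · rintro ⟨a, ha, rfl⟩
      rw [Matrix.toLin'_apply, hB, Matrix.mulVec_mulVec, hsu, Matrix.neg_mulVec, ← Matrix.mulVec_mulVec, (hA a).1 ha]
    · intro hv
      refine ⟨((u⁻¹ : GL ι F) : Matrix ι ι F) *ᵥ v, ?_, by
        rw [Matrix.toLin'_apply, Matrix.mulVec_mulVec, Units.mul_inv, Matrix.one_mulVec]⟩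
      refine (hA _).2 (Matrix.mulVec_injective_iff_isUnit.2 u.isUnit ?_)
      show (u : Matrix ι ι F) *ᵥ _ = (u : Matrix ι ι F) *ᵥ _
      rw [Matrix.mulVec_mulVec, ← neg_neg ((u : Matrix ι ι F) * (s : Matrix ι ι F)), ← hsu, Matrix.neg_mulVec,
        ← Matrix.mulVec_mulVec, Matrix.mulVec_mulVec _ _ ((u⁻¹ : GL ι F) : Matrix ι ι F), Units.mul_inv,
        Matrix.one_mulVec, (hB v).1 hv, neg_neg]
  have hiso : Geo.AreIsometricFor ⇑Q A B := by
    let L : (ι → F) ≃ₗ[F] (ι → F) := Transvect.app u
    refine ⟨LinearEquiv.ofSubmodules L _ _ ?_, fun w => iso_Q huI (w : ι → F)⟩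
    rw [← hmap]
    rfl
  have hd : finrank F A = 2 * 2 := by
    have h1 := finrank_sup_orth hAnd horth
    rw [hsup, finrank_top, Orth.finrank_space, hι, ← hmap,
      ← (Submodule.equivMapOfInjective _ (toLin'_injective u) A).finrank_eq] at h1
    omega
  exact hsup ▸ plus_of_isometric hAnd hd horth hiso

end Cfsg.Agent.Aschbacher
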