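/-
Decompositions into lines and planes for an irreducible subgroup of an orthogonal group over a small field.
Main results: `le_subfield_of_frame`, `lines_frame`, `lines_disc`, `lines_subfield`, `plus_planes_false`,
`planes_to_lines`, `plus_five_frame`, `minus_three_frame`, `planes_four_subfield`, `four_spaces_two`.
-/
import Cfsg.Agent.Lib.Aschbacher.EvenDecomp

set_option autoImplicit false
set_option linter.unusedSectionVars false

namespace Cfsg.Agent.Aschbacher

open Matrix Module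
open Cfsg.Agent.PrimeDim
open QuadraticMap (polar)
open Orth (perpSub)

variable {ι : Type} [Fintype ι] [DecidableEq ι] {F : Type*} [Field F] [Fintype F]
variable {Q : QuadraticForm F (ι → F)}

/-- A group mapping an `F₁`-frame into its rational span is in the subfield group. -/
theorem le_subfield_of_frame {H : Subgroup (GL ι F)} {F₁ : Subfield F} {d : ι → ι → F}
    (hd : LinearIndependent F d)
    (h : ∀ g ∈ H, ∀ j, ∃ c : ι → F, (∀ i, c i ∈ F₁) ∧ (g : Matrix ι ι F) *ᵥ d j = ∑ i, c i • d i) :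
    ∃ P : GL ι F, (∀ u, (P : Matrix ι ι F) *ᵥ u = ∑ i, u i • d i) ∧ H ≤ Geo.subfieldSubgroup F₁ P := by
  classical
  let P0 : Matrix ι ι F := Matrix.of fun x i => d i x
  have hP0u : IsUnit P0 := by
    rw [← Matrix.linearIndependent_cols_iff_isUnit]
    exact hd
  have hP : ∀ u, P0 *ᵥ u = ∑ i, u i • d i := fun u => by
    ext x; simp [P0, Matrix.mulVec, dotProduct, Finset.sum_apply, mul_comm]
  refine ⟨hP0u.unit, fun u => by rw [IsUnit.unit_spec]; exact hP u, fun g hg => ?_⟩
  choose c hc1 hc2 using h g hg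
  have hgP : (g : Matrix ι ι F) * P0 = P0 * (Matrix.of fun i j => c j i) := by
    refine Matrix.ext_of_mulVec_single fun j => ?_
    rw [← Matrix.mulVec_mulVec, ← Matrix.mulVec_mulVec, hP, hP,
      Matrix.mulVec_single_one (Matrix.of fun i j => c j i)]
    simp [Pi.single_apply, Matrix.col_apply, hc2]
  refine ⟨hP0u.unit⁻¹ * g * hP0u.unit, mem_range_sup_scalars 1 fun i j => ?_, by simp [mul_assoc]⟩
  rw [Units.val_one, one_mul, Units.val_mul, Units.val_mul, IsUnit.unit_spec, mul_assoc, hgP, ← mul_assoc]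
  nth_rw 2 [← hP0u.unit_spec]
  rw [Units.inv_mul, one_mul]
  exact hc1 j i

theorem frame_indep {κ : Type} {D : κ → Submodule F (ι → F)} (hind : iSupIndep D) {d : κ → ι → F}
    (hmem : ∀ i, d i ∈ D i) (hne : ∀ i, d i ≠ 0) : LinearIndependent F d :=
  hind.linearIndependent D hmem hne

section Lines

variable {t : ℕ} {D : Fin t → Submodule F (ι → F)}

/-- The lines of a decomposition carry vectors of a common norm. -/
theorem lines_frame (hD : Geo.IsOrthogonalMDecomposition ⇑Q 1 D) :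
    (2 : F) ≠ 0 ∧ ∃ (a : F) (d : Fin t → ι → F), a ≠ 0 ∧ (∀ i, d i ∈ D i) ∧ (∀ i, Q (d i) = a) ∧
      ∀ i, ∀ x ∈ D i, ∃ c : F, x = c • d i := by
  let i0 : Fin t := ⟨0, by have := hD.decomp.decomp.two_le; omega⟩
  obtain ⟨v, hv, hv0⟩ := Submodule.exists_mem_ne_zero_of_ne_bot (p := D i0) fun h => by
    have := hD.decomp.decomp.finrank_eq i0
    rw [h, finrank_bot] at this
    omega
  have h2 : (2 : F) ≠ 0 := fun h => by
    have h1 := nd_even h (member_nd hD i0)
    rw [hD.decomp.decomp.finrank_eq] at h1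
    exact Nat.not_even_one h1
  choose e he using fun i => hD.isometric i0 i
  have hQv : Q v ≠ 0 := by
    intro h0
    obtain ⟨y, hy, hne⟩ := member_nd hD i0 v hv hv0
    obtain ⟨c, hc⟩ := (finrank_eq_one_iff_of_nonzero' (⟨v, hv⟩ : D i0)
      (fun h => hv0 (congrArg Subtype.val h))).1 (hD.decomp.decomp.finrank_eq i0) ⟨y, hy⟩
    have hy' : y = c • v := (congrArg Subtype.val hc).symm
    rw [hy', Orth.pl_smul_right, Orth.pl_self, h0, mul_zero, mul_zero] at hne
    exact hne rfl
  refine ⟨h2, Q v, fun i => e i ⟨v, hv⟩, hQv, fun i => (e i _).2, fun i => he i _, fun i x hx => ?_⟩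
  obtain ⟨c, hc⟩ := (finrank_eq_one_iff_of_nonzero' (e i ⟨v, hv⟩)
    (fun h => hv0 (congrArg Subtype.val ((e i).injective (h.trans (map_zero _).symm))))).1
    (hD.decomp.decomp.finrank_eq i) ⟨x, hx⟩
  exact ⟨c, (congrArg Subtype.val hc).symm⟩

theorem lines_basis (hD : Geo.IsOrthogonalMDecomposition ⇑Q 1 D) (φ : ι ≃ Fin t) {a : F}
    {d : Fin t → ι → F} (ha : a ≠ 0) (hmem : ∀ i, d i ∈ D i) (hQd : ∀ i, Q (d i) = a) :
    LinearIndependent F (d ∘ φ) :=
  (frame_indep hD.decomp.decomp.indep hmem fun i h => ha (by rw [← hQd i, h, QuadraticMap.map_zero])).comp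
    φ φ.injective

theorem Q_sum_lines (hD : Geo.IsOrthogonalMDecomposition ⇑Q 1 D) (φ : ι ≃ Fin t) {a : F}
    {d : Fin t → ι → F} (hmem : ∀ i, d i ∈ D i) (hQd : ∀ i, Q (d i) = a) (u : ι → F) :
    Q (∑ i, u i • d (φ i)) = a * ∑ i, u i * u i := by
  rw [Orth.Q_sum_orth _ _ fun i _ j _ hij => ?_, Finset.mul_sum]
  · exact Finset.sum_congr rfl fun i _ => by rw [Orth.Q_smul, hQd]; ring
  · rw [Orth.pl_smul_left, Orth.pl_smul_right,
      hD.decomp.orthogonal _ _ (fun h => hij (φ.injective h)) _ (hmem _) _ (hmem _), mul_zero, mul_zero]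

/-- Plus type against the sign for a decomposition into lines. -/
theorem lines_disc (hQ : Q.polarBilin.Nondegenerate) {k : ℕ} (hk : 1 ≤ k) (hι : Fintype.card ι = 2 * k)
    (ht : t = Fintype.card ι) (hD : Geo.IsOrthogonalMDecomposition ⇑Q 1 D) :
    Geo.IsPlusTypeOn ⇑Q ⊤ ↔ IsSquare ((-1 : F) ^ k) := by
  classical
  obtain ⟨h2, a, d, ha, hmem, hQd, -⟩ := lines_frame hD
  let φ : ι ≃ Fin t := (Fintype.equivFin ι).trans (finCongr ht.symm)
  have hli := lines_basis hD φ ha hmem hQd
  let P : QuadraticForm F (ι → F) := a • QuadraticMap.weightedSumSquares F (fun _ : ι => (1 : F))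
  let e : (ι → F) ≃ₗ[F] (ι → F) := LinearEquiv.ofBijective (Fintype.linearCombination F (d ∘ φ))
    ⟨hli.fintypeLinearCombination_injective,
      LinearMap.injective_iff_surjective.1 hli.fintypeLinearCombination_injective⟩
  have he : ∀ v, Q (e v) = P v := fun v => by
    show Q (∑ i, v i • d (φ i)) = _
    rw [Q_sum_lines hD φ hmem hQd]
    simp [P, QuadraticMap.weightedSumSquares_apply]
  have hgram : Orth.gram ⇑P = (2 * a) • (1 : Matrix ι ι F) := by
    ext i j
    simp only [Orth.gram, Matrix.of_apply, Matrix.smul_apply, Matrix.one_apply, smul_eq_mul, P, polar,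
      _root_.QuadraticMap.smul_apply, QuadraticMap.weightedSumSquares_apply, one_mul, ← mul_sub,
      ← Finset.sum_sub_distrib]
    rw [show (∑ x, ((Pi.single i 1 + Pi.single j 1 : ι → F) x * (Pi.single i 1 + Pi.single j 1 : ι → F) x -
        (Pi.single i 1 : ι → F) x * (Pi.single i 1 : ι → F) x -
        (Pi.single j 1 : ι → F) x * (Pi.single j 1 : ι → F) x)) =
      ∑ x, 2 * ((Pi.single i 1 : ι → F) x * (Pi.single j 1 : ι → F) x) from
        Finset.sum_congr rfl fun x _ => by simp only [Pi.add_apply]; ring]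
    simp [Pi.single_apply, ← Finset.mul_sum]
    split_ifs <;> simp_all [mul_comm, eq_comm]
  obtain ⟨s, hs⟩ := det_gram_reindex (Equiv.refl ι) P e he
  rw [hgram, Matrix.det_smul, Matrix.det_one, mul_one, hι, pow_mul] at hs
  rw [plus_iff_disc hQ h2 hk hι]
  have hsq : IsSquare (gramQ Q).det := by
    have h0 : (2 * a) ^ k ≠ 0 := pow_ne_zero _ (mul_ne_zero h2 ha)
    refine ⟨s / (2 * a) ^ k, ?_⟩
    rw [div_mul_div_comm, ← hs, mul_div_assoc]
    rw [show ((2 * a) ^ 2) ^ k = (2 * a) ^ k * (2 * a) ^ k by rw [← pow_mul, two_mul k, pow_add],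
      div_self (mul_ne_zero h0 h0), mul_one]
  refine ⟨fun h => ?_, fun h => h.mul hsq⟩
  have := h.div hsq
  rwa [mul_div_assoc, div_self (gramQ_det Q hQ), mul_one] at this

/-- Lines over a field of non-prime order give a subfield group. -/
theorem lines_subfield (hQ : Q.polarBilin.Nondegenerate) (ht : t = Fintype.card ι)
    (hD : Geo.IsOrthogonalMDecomposition ⇑Q 1 D) (hq : ¬ (Fintype.card F).Prime) {H : Subgroup (GL ι F)}
    (hH : H ≤ Cfsg.isometryGroup F ⇑Q) (hle : H ≤ Geo.decompositionStabilizer D) :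
    ∃ (F₁ : Subfield F) (r : ℕ) (P : GL ι F) (ζ : F), r.Prime ∧ Fintype.card F = Nat.card F₁ ^ r ∧ ζ ≠ 0 ∧
      Geo.IsQuadFormRationalStructure (fun v => ζ * Q v) F₁ P ∧ H ≤ Geo.subfieldSubgroup F₁ P := by
  classical
  have hnetop : (⊥ : Subfield F) ≠ ⊤ := by
    intro h
    obtain ⟨p, hp⟩ := CharP.exists F
    have : Fact p.Prime := ⟨CharP.char_is_prime F p⟩
    refine hq ?_
    have h1 : Nat.card (⊥ : Subfield F) = p := Subfield.card_bot F p
    rw [h, Nat.card_congr (Equiv.subtypeUnivEquiv fun x => Subfield.mem_top x), Nat.card_eq_fintype_card] at h1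
    rw [h1]; exact this.out
  obtain ⟨F₁, -, -, r, hr, hc⟩ := exists_maximal_subfield (⊥ : Subfield F) hnetop
  obtain ⟨h2, a, d, ha, hmem, hQd, hline⟩ := lines_frame hD
  let φ : ι ≃ Fin t := (Fintype.equivFin ι).trans (finCongr ht.symm)
  obtain ⟨P, hP, hHP⟩ := le_subfield_of_frame (H := H) (F₁ := F₁) (lines_basis hD φ ha hmem hQd)
    fun g hg j => by
      obtain ⟨π, hπ⟩ := hle hg
      have hm : (g : Matrix ι ι F) *ᵥ d (φ j) ∈ D (π (φ j)) := by
        rw [← hπ]; exact ⟨_, hmem _, Matrix.toLin'_apply _ _⟩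
      obtain ⟨c, hc'⟩ := hline _ _ hm
      have hc2 : c = 1 ∨ c = -1 := by
        have h1 : Q ((g : Matrix ι ι F) *ᵥ d (φ j)) = a := by rw [iso_Q (hH hg), hQd]
        rw [hc', Orth.Q_smul, hQd] at h1
        exact mul_self_eq_one_iff.mp ((mul_eq_right₀ ha).mp h1)
      refine ⟨Pi.single (φ.symm (π (φ j))) c, fun i => ?_, ?_⟩
      · rw [Pi.single_apply]
        split
        · rcases hc2 with rfl | rfl
          · exact one_mem _
          · exact neg_mem (one_mem _)
        · exact zero_mem _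
      · rw [Function.comp_apply, hc', Finset.sum_eq_single (φ.symm (π (φ j)))]
        · simp
        · intro i _ hi; rw [Pi.single_eq_of_ne hi, zero_smul]
        · simp
  refine ⟨F₁, r, P, a⁻¹, hr, hc, inv_ne_zero ha, fun u hu => ?_, hHP⟩
  show a⁻¹ * Q _ ∈ F₁
  rw [hP, show (∑ i, u i • (d ∘ φ) i) = ∑ i, u i • d (φ i) from rfl, Q_sum_lines hD φ hmem hQd, ← mul_assoc,
    inv_mul_cancel₀ ha, one_mul]
  exact sum_mem fun i _ => mul_mem (hu i) (hu i)

end Lines

section Planes

variable {t : ℕ} {D : Fin t → Submodule F (ι → F)}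

/-- Hyperbolic planes over at most three elements leave a proper subspace fixed. -/
theorem plus_planes_false (hQ : Q.polarBilin.Nondegenerate) (hq : Fintype.card F ≤ 3)
    (hD : Geo.IsOrthogonalMDecomposition ⇑Q 2 D) (hcard : Fintype.card ι = t * 2)
    (hp : ∀ i, Geo.IsPlusTypeOn ⇑Q (D i)) {H : Subgroup (GL ι F)} (hH : H ≤ Cfsg.isometryGroup F ⇑Q)
    (hirr : Geo.ActsIrreducibly (Geo.matrixSet H)) (hle : H ≤ Geo.decompositionStabilizer D) : False := by
  classical
  choose v hv hQv hfix using fun i => plane_vec hQ hq (member_nd hD i) (hD.decomp.decomp.finrank_eq i) (hp i)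
  have hinv : ∀ g ∈ H, ∀ w ∈ Submodule.span F (Set.range v),
      (g : Matrix ι ι F) *ᵥ w ∈ Submodule.span F (Set.range v) := by
    intro g hg w hw
    induction hw using Submodule.span_induction with
    | mem w hw =>
      obtain ⟨i, rfl⟩ := hw
      obtain ⟨π, hπ⟩ := hle hg
      have hmem : (g : Matrix ι ι F) *ᵥ v i ∈ D (π i) := by
        rw [← hπ]; exact ⟨_, hv i, Matrix.toLin'_apply _ _⟩
      exact (Submodule.span_mono (Set.singleton_subset_iff.2 (Set.mem_range_self (π i))))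
        (hfix (π i) _ hmem (by rw [iso_Q (hH hg), hQv]))
    | zero => simp
    | add a b _ _ ha hb => rw [Matrix.mulVec_add]; exact add_mem ha hb
    | smul c a _ ha => rw [Matrix.mulVec_smul]; exact Submodule.smul_mem _ _ ha
  rcases irred_invariant hirr hinv with h | h
  · let i : Fin t := ⟨0, by have := hD.decomp.decomp.two_le; omega⟩
    have h1 : v i ∈ (⊥ : Submodule F (ι → F)) := h ▸ Submodule.subset_span ⟨i, rfl⟩
    rw [Submodule.mem_bot] at h1
    have := hQv i
    rw [h1, QuadraticMap.map_zero] at this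
    exact zero_ne_one this
  · have h1 := finrank_range_le_card (R := F) v
    rw [Set.finrank, h, finrank_top, Orth.finrank_space, Fintype.card_fin, hcard] at h1
    have := hD.decomp.decomp.two_le
    omega

/-- Planes with two distinguished orthogonal lines refine to a frame. -/
theorem planes_to_lines (hQ : Q.polarBilin.Nondegenerate) (h2 : (2 : F) ≠ 0)
    (hD : Geo.IsOrthogonalMDecomposition ⇑Q 2 D) (hcard : Fintype.card ι = t * 2)
    {H : Subgroup (GL ι F)} (hH : H ≤ Cfsg.isometryGroup F ⇑Q) (hle : H ≤ Geo.decompositionStabilizer D)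
    (hab : ∀ i, ∃ a ∈ D i, ∃ b ∈ D i, Q a = 1 ∧ Q b = 1 ∧ polar ⇑Q a b = 0 ∧
      ∀ x ∈ D i, Q x = 1 → x ∈ Submodule.span F {a} ∨ x ∈ Submodule.span F {b}) :
    ∃ E : Fin (t * 2) → Submodule F (ι → F),
      Geo.IsNondegenerateMDecomposition (polar ⇑Q) 1 E ∧ H ≤ Geo.decompositionStabilizer E := by
  classical
  choose a ha b hb hQa hQb hab' hall using hab
  let d : Fin t → Fin 2 → ι → F := fun i => ![a i, b i]
  have hd : ∀ i s, d i s ∈ D i := fun i => Fin.forall_fin_two.2 ⟨ha i, hb i⟩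
  have hQd : ∀ i s, Q (d i s) = 1 := fun i => Fin.forall_fin_two.2 ⟨hQa i, hQb i⟩
  have hd0 : ∀ i s, d i s ≠ 0 := fun i s h => by
    have := hQd i s
    rw [h, QuadraticMap.map_zero] at this
    exact zero_ne_one this
  let E : Fin (t * 2) → Submodule F (ι → F) := fun j =>
    Submodule.span F {d (finProdFinEquiv.symm j).1 (finProdFinEquiv.symm j).2}
  refine ⟨E, orth_decomp_of_family hQ E (by have := hD.decomp.decomp.two_le; omega) le_rfl
    (by rw [hcard, mul_one]) (fun j => finrank_span_singleton (hd0 _ _)) ?_ ?_ ?_⟩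
  · intro j w hw hw0
    obtain ⟨c, rfl⟩ := Submodule.mem_span_singleton.1 hw
    refine ⟨_, Submodule.mem_span_singleton_self _, ?_⟩
    rw [Orth.pl_smul_left, Orth.pl_self, hQd, mul_one]
    exact mul_ne_zero (fun h => hw0 (by rw [h, zero_smul])) h2
  · intro i j hij x hx y hy
    obtain ⟨c, rfl⟩ := Submodule.mem_span_singleton.1 hx
    obtain ⟨c', rfl⟩ := Submodule.mem_span_singleton.1 hy
    rw [Orth.pl_smul_left, Orth.pl_smul_right]
    have hp : polar ⇑Q (d (finProdFinEquiv.symm i).1 (finProdFinEquiv.symm i).2)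
        (d (finProdFinEquiv.symm j).1 (finProdFinEquiv.symm j).2) = 0 := by
      rcases hp1 : finProdFinEquiv.symm i with ⟨i1, s1⟩
      rcases hp2 : finProdFinEquiv.symm j with ⟨i2, s2⟩
      have hne : (i1, s1) ≠ (i2, s2) := fun h => hij (finProdFinEquiv.symm.injective (by rw [hp1, hp2, h]))
      by_cases h12 : i1 = i2
      · subst h12
        fin_cases s1 <;> fin_cases s2
        · exact absurd rfl hne
        · exact hab' i1
        · exact (Orth.pl_comm Q _ _).trans (hab' i1)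
        · exact absurd rfl hne
      · exact hD.decomp.orthogonal i1 i2 h12 _ (hd _ _) _ (hd _ _)
    rw [hp, mul_zero, mul_zero]
  · intro g hg j
    obtain ⟨π, hπ⟩ := hle hg
    rcases hp1 : finProdFinEquiv.symm j with ⟨i, s⟩
    have hmem : (g : Matrix ι ι F) *ᵥ d i s ∈ D (π i) := by
      rw [← hπ]; exact ⟨_, hd i s, Matrix.toLin'_apply _ _⟩
    have : ∃ s', (g : Matrix ι ι F) *ᵥ d i s ∈ Submodule.span F {d (π i) s'} := by
      rcases hall (π i) _ hmem (by rw [iso_Q (hH hg), hQd]) with h | h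
      · exact ⟨0, h⟩
      · exact ⟨1, h⟩
    obtain ⟨s', hs'⟩ := this
    refine ⟨finProdFinEquiv (π i, s'), fun u hu => ?_⟩
    simp only [E, hp1] at hu
    simp only [E, Equiv.symm_apply_apply]
    obtain ⟨c, rfl⟩ := Submodule.mem_span_singleton.1 hu
    rw [Matrix.mulVec_smul]
    exact Submodule.smul_mem _ _ hs'

theorem plus_five_frame (hQ : Q.polarBilin.Nondegenerate) (hq : Fintype.card F = 5)
    {W : Submodule F (ι → F)} (hW : ND Q W) (hd : finrank F W = 2) (hp : Geo.IsPlusTypeOn ⇑Q W) :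
    ∃ a ∈ W, ∃ b ∈ W, Q a = 1 ∧ Q b = 1 ∧ polar ⇑Q a b = 0 ∧
      ∀ x ∈ W, Q x = 1 → x ∈ Submodule.span F {a} ∨ x ∈ Submodule.span F {b} := by
  obtain ⟨U, hU, hU0, hUd⟩ := hp
  obtain ⟨e, he, he0⟩ := Submodule.exists_mem_ne_zero_of_ne_bot (p := U) fun h => by
    rw [h, finrank_bot, hd] at hUd; omega
  obtain ⟨f, hf, hQf, hef⟩ := Orth.exists_hpair_in hQ hW (hU he) he0 (hU0 e he)
  have hQe := hU0 e he
  have h5 : (5 : F) = 0 := by
    have := FiniteField.cast_card_eq_zero F
    rw [hq] at this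
    exact_mod_cast this
  have hfe : polar ⇑Q f e = 1 := by rw [Orth.pl_comm]; exact hef
  refine ⟨e + f, W.add_mem (hU he) hf, (2 : F) • (e - f), W.smul_mem _ (W.sub_mem (hU he) hf), ?_, ?_, ?_,
    fun x hx hQx => ?_⟩
  · rw [Orth.Q_add, hQe, hQf, hef]; ring
  · rw [Orth.Q_smul, Orth.Q_sub, hQe, hQf, hef]; linear_combination (-1 : F) * h5
  · simp only [Orth.pl_smul_right, Orth.pl_sub_right, Orth.pl_add_left, Orth.pl_self, hQe, hQf, hef, hfe]
    ring
  · rcases Orth.line_plus_five hq hd (hU he) hf hQe hQf hef hx hQx with h | h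
    · exact .inl h
    · refine .inr (Submodule.mem_span_singleton.2 ?_)
      obtain ⟨hc, -⟩ := Orth.coords_two hd (hU he) hf hQe hQf hef hx
      rw [Orth.pl_add_right] at h
      refine ⟨polar ⇑Q x f * 3, ?_⟩
      conv_rhs => rw [hc, show polar ⇑Q x e = -polar ⇑Q x f by linear_combination h]
      rw [smul_smul, show polar ⇑Q x f * 3 * 2 = polar ⇑Q x f by linear_combination polar ⇑Q x f * h5,
        smul_sub, neg_smul, sub_eq_add_neg]

theorem minus_three_frame (hQ : Q.polarBilin.Nondegenerate) (hq : Fintype.card F = 3)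
    {W : Submodule F (ι → F)} (hW : ND Q W) (hd : finrank F W = 2) (hp : ¬ Geo.IsPlusTypeOn ⇑Q W) :
    ∃ a ∈ W, ∃ b ∈ W, Q a = 1 ∧ Q b = 1 ∧ polar ⇑Q a b = 0 ∧
      ∀ x ∈ W, Q x = 1 → x ∈ Submodule.span F {a} ∨ x ∈ Submodule.span F {b} := by
  have h3 : (3 : F) = 0 := by
    have := FiniteField.cast_card_eq_zero F
    rw [hq] at this
    exact_mod_cast this
  have h2 : (2 : F) ≠ 0 := fun h => one_ne_zero (show (1 : F) = 0 by linear_combination h3 - h)
  have hani : ∀ x ∈ W, Q x = 0 → x = 0 := by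
    intro x hx hQx
    by_contra hx0
    exact hp ⟨F ∙ x, (Submodule.span_singleton_le_iff_mem _ _).2 hx, fun w hw => by
      obtain ⟨c, rfl⟩ := Submodule.mem_span_singleton.1 hw
      rw [Orth.Q_smul, hQx, mul_zero], by rw [finrank_span_singleton hx0, hd]⟩
  obtain ⟨a, ha, hQa⟩ := Orth.exists_Q_eq_in (Q := Q) W hW (by omega) (1 : F)
  have ha0 : a ≠ 0 := fun h => by rw [h, QuadraticMap.map_zero] at hQa; exact zero_ne_one hQa
  obtain ⟨b, ⟨hb, hbp⟩, hb0⟩ : ∃ b ∈ W ⊓ perpSub Q (F ∙ a), b ≠ 0 := by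
    refine Submodule.exists_mem_ne_zero_of_ne_bot fun h => ?_
    have := Orth.finrank_le_perp_inf hQ W (F ∙ a)
    rw [h, finrank_bot, hd, finrank_span_singleton ha0] at this
    omega
  have hab : polar ⇑Q a b = 0 := hbp a (Submodule.mem_span_singleton_self a)
  have hcases : ∀ c : F, c = 0 ∨ c * c = 1 := fun c => by
    by_cases hc : c = 0
    · exact .inl hc
    · exact .inr (Orth.sq_eq_one_of_card_three hq hc)
  have hQb : Q b = 1 := by
    rcases hcases (Q b) with h | h
    · exact absurd (hani b hb h) hb0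
    · rcases mul_self_eq_one_iff.1 h with h | h
      · exact h
      · have h1 := hani (a + b) (W.add_mem ha hb) (by rw [Orth.Q_add, hQa, hab, h]; ring)
        rw [eq_neg_of_add_eq_zero_left h1, QuadraticMap.map_neg, h] at hQa
        exact absurd (show (2 : F) = 0 by linear_combination -hQa) h2
  have hba : polar ⇑Q b a = 0 := by rw [Orth.pl_comm]; exact hab
  refine ⟨a, ha, b, hb, hQa, hQb, hab, fun x hx hQx => ?_⟩
  have h22 : (2 : F) * 2 = 1 := by linear_combination h3
  have hc := Orth.exists_coords (Q := Q) hd ![a, b] ![(2 : F) • a, (2 : F) • b]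
    (Fin.forall_fin_two.2 ⟨ha, hb⟩)
    (by simp [Fin.forall_fin_two, Orth.pl_smul_right, Orth.pl_self, hQa, hQb, hab, hba, h22]) hx
  rw [Fin.sum_univ_two] at hc
  simp only [Matrix.cons_val_zero, Matrix.cons_val_one] at hc
  set α := polar ⇑Q x ((2 : F) • a)
  set β := polar ⇑Q x ((2 : F) • b)
  rw [hc, Orth.Q_add, Orth.Q_smul, Orth.Q_smul, hQa, hQb, Orth.pl_smul_left, Orth.pl_smul_right, hab] at hQx
  rcases hcases α with h | h
  · exact .inr (Submodule.mem_span_singleton.2 ⟨β, by rw [hc, h, zero_smul, zero_add]⟩)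
  · have : β = 0 := mul_self_eq_zero.1 (by linear_combination hQx - h)
    exact .inl (Submodule.mem_span_singleton.2 ⟨α, by rw [hc, this, zero_smul, add_zero]⟩)

end Planes

end Cfsg.Agent.Aschbacher
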