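/-
Hyperbolic planes over four elements and hyperbolic four-spaces over two elements.
Main results: `planes_four_subfield`, `four_spaces_two`.
-/
import Cfsg.Agent.Lib.Aschbacher.EvenSmall

set_option autoImplicit false
set_option linter.unusedSectionVars false

namespace Cfsg.Agent.Aschbacher

open Matrix Module
open Cfsg.Agent.PrimeDim
open QuadraticMap (polar)

variable {ι : Type} [Fintype ι] [DecidableEq ι] {F : Type*} [Field F] [Fintype F]
variable {Q : QuadraticForm F (ι → F)}

theorem two_zero_of_card {q : ℕ} (hq : Fintype.card F = q) (he : Even q) : (2 : F) = 0 :=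
  two_zero_of_not_odd (by rw [hq]; exact Nat.not_odd_iff_even.2 he)

/-- A hyperbolic plane over four elements is an extended anisotropic plane over two. -/
theorem plane_four (hQ : Q.polarBilin.Nondegenerate) (hq : Fintype.card F = 4) {W : Submodule F (ι → F)}
    (hW : ND Q W) (hd : finrank F W = 2) (hp : Geo.IsPlusTypeOn ⇑Q W) :
    ∃ a ∈ W, ∃ b ∈ W, Q a = 1 ∧ Q b = 1 ∧ polar ⇑Q a b = 1 ∧
      ∀ x ∈ W, Q x = 1 → x = a ∨ x = b ∨ x = a + b := by
  classical
  obtain ⟨U, hU, hU0, hUd⟩ := hp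
  obtain ⟨e, he, he0⟩ := Submodule.exists_mem_ne_zero_of_ne_bot (p := U) fun h => by
    rw [h, finrank_bot, hd] at hUd; omega
  obtain ⟨f, hf, hQf, hef⟩ := Orth.exists_hpair_in hQ hW (hU he) he0 (hU0 e he)
  have hQe := hU0 e he
  have h2 : (2 : F) = 0 := two_zero_of_card hq (by decide)
  obtain ⟨w, hw⟩ : ∃ w, w ∉ ({0, 1} : Finset F) := by
    by_contra hc
    simp only [not_exists, not_not] at hc
    have h1 := Finset.card_le_card (show (Finset.univ : Finset F) ⊆ {0, 1} from fun x _ => hc x)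
    have h3 := Finset.card_le_two (a := (0 : F)) (b := 1)
    rw [Finset.card_univ, hq] at h1
    omega
  simp only [Finset.mem_insert, Finset.mem_singleton, not_or] at hw
  have hne : w + 1 ≠ 0 := fun h => hw.2 (by linear_combination h - h2)
  have hne1 : w + 1 ≠ 1 := fun h => hw.1 (by linear_combination h)
  have hne2 : w + 1 ≠ w := fun h => one_ne_zero (show (1 : F) = 0 by linear_combination h)
  have huniv : ∀ x : F, x = 0 ∨ x = 1 ∨ x = w ∨ x = w + 1 := by
    intro x
    have hc : ({0, 1, w, w + 1} : Finset F) = Finset.univ := by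
      refine Finset.eq_univ_of_card _ ?_
      rw [hq, Finset.card_insert_of_notMem, Finset.card_insert_of_notMem, Finset.card_insert_of_notMem,
        Finset.card_singleton] <;> simp [Ne.symm hw.1, Ne.symm hw.2, hne.symm, hne1.symm, hne2.symm]
    have h := hc ▸ Finset.mem_univ x
    simpa using h
  have hww : w * w + w + 1 = 0 := by
    rcases huniv (w * w) with h | h | h | h
    · exact absurd (mul_self_eq_zero.1 h) hw.1
    · refine absurd ?_ hw.2
      rcases mul_self_eq_one_iff.1 h with h' | h'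
      · exact h'
      · linear_combination h' + h2 * (-1 : F)
    · exact absurd ((mul_eq_left₀ hw.1).1 h) hw.2
    · linear_combination h + (w + 1) * h2
  have hcube : w * (w + 1) = 1 := by linear_combination hww - h2
  have hfe : polar ⇑Q f e = 1 := by rw [Orth.pl_comm]; exact hef
  refine ⟨e + f, W.add_mem (hU he) hf, w • e + (w + 1) • f,
    W.add_mem (W.smul_mem _ (hU he)) (W.smul_mem _ hf), ?_, ?_, ?_, fun x hx hQx => ?_⟩
  · rw [Orth.Q_add, hQe, hQf, hef]; ring
  · rw [Orth.Q_add, Orth.Q_smul, Orth.Q_smul, hQe, hQf, Orth.pl_smul_left, Orth.pl_smul_right, hef]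
    linear_combination hcube
  · simp only [Orth.pl_add_left, Orth.pl_add_right, Orth.pl_smul_right, Orth.pl_self, hQe, hQf, hef, hfe]
    linear_combination w * h2
  · obtain ⟨hc, hQ'⟩ := Orth.coords_two hd (hU he) hf hQe hQf hef hx
    rw [hQx] at hQ'
    set α := polar ⇑Q x f
    set β := polar ⇑Q x e
    rcases huniv α with h | h | h | h <;> rw [h] at hQ' hc
    · rw [zero_mul] at hQ'; exact absurd hQ' one_ne_zero
    · rw [show β = 1 by linear_combination -hQ', one_smul, one_smul] at hc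
      exact .inl hc
    · rw [show β = w + 1 from mul_left_cancel₀ hw.1 (hQ'.symm.trans hcube.symm)] at hc
      exact .inr (.inl hc)
    · rw [show β = w from mul_left_cancel₀ hne (hQ'.symm.trans (by rw [mul_comm]; exact hcube.symm))] at hc
      refine .inr (.inr ?_)
      rw [hc]
      have : (w + 1 + 1 : F) • f = w • f := by rw [show w + 1 + 1 = w by linear_combination h2]
      rw [show e + f + (w • e + (w + 1) • f) = (w + 1) • e + (w + 1 + 1) • f by module, this]

/-- Hyperbolic planes over four elements give a subfield group. -/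
theorem planes_four_subfield (hQ : Q.polarBilin.Nondegenerate) (hq : Fintype.card F = 4) {t : ℕ}
    {D : Fin t → Submodule F (ι → F)} (hD : Geo.IsOrthogonalMDecomposition ⇑Q 2 D)
    (hcard : Fintype.card ι = t * 2) (hp : ∀ i, Geo.IsPlusTypeOn ⇑Q (D i)) {H : Subgroup (GL ι F)}
    (hH : H ≤ Cfsg.isometryGroup F ⇑Q) (hle : H ≤ Geo.decompositionStabilizer D) :
    ∃ (F₁ : Subfield F) (P : GL ι F), Fintype.card F = Nat.card F₁ ^ 2 ∧
      Geo.IsQuadFormRationalStructure (fun v => (1 : F) * Q v) F₁ P ∧ H ≤ Geo.subfieldSubgroup F₁ P := by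
  classical
  choose a ha b hb hQa hQb hab hall using fun i =>
    plane_four hQ hq (member_nd hD i) (hD.decomp.decomp.finrank_eq i) (hp i)
  have h2 : (2 : F) = 0 := two_zero_of_card hq (by decide)
  let φ : ι ≃ Fin t × Fin 2 := Fintype.equivOfCardEq (by simp [hcard])
  let d0 : Fin t × Fin 2 → ι → F := fun p => ![a p.1, b p.1] p.2
  have hmem : ∀ p, d0 p ∈ D p.1 := by
    rintro ⟨i, s⟩
    fin_cases s
    · exact ha i
    · exact hb i
  have hba : ∀ i, polar ⇑Q (b i) (a i) = 1 := fun i => by rw [Orth.pl_comm]; exact hab i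
  have hsum : ∀ (c : Fin t × Fin 2 → F) i, ∀ y ∈ D i, polar ⇑Q (∑ p, c p • d0 p) y =
      c (i, 0) * polar ⇑Q (a i) y + c (i, 1) * polar ⇑Q (b i) y := by
    intro c i y hy
    rw [show polar ⇑Q (∑ p, c p • d0 p) y = (Q.polarBilin.flip y) (∑ p, c p • d0 p) from rfl, map_sum,
      Fintype.sum_prod_type, Finset.sum_eq_single i]
    · rw [Fin.sum_univ_two]
      simp [d0]
    · intro j _ hj
      refine Finset.sum_eq_zero fun s _ => ?_
      rw [map_smul, show (Q.polarBilin.flip y) (d0 (j, s)) = polar ⇑Q (d0 (j, s)) y from rfl,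
        hD.decomp.orthogonal j i hj _ (hmem (j, s)) _ hy, smul_zero]
    · simp
  have hli : LinearIndependent F d0 := by
    rw [Fintype.linearIndependent_iff]
    intro c hc p
    obtain ⟨i, s⟩ := p
    have h1 := hsum c i (b i) (hb i)
    have h3 := hsum c i (a i) (ha i)
    rw [hc, Orth.pl_zero_left, hab, Orth.pl_self, h2, zero_mul, mul_zero, add_zero, mul_one] at h1
    rw [hc, Orth.pl_zero_left, hba, Orth.pl_self, h2, zero_mul, mul_zero, zero_add, mul_one] at h3
    fin_cases s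
    · exact h1.symm
    · exact h3.symm
  obtain ⟨P, hP, hle'⟩ := le_subfield_of_frame (H := H) (F₁ := (⊥ : Subfield F)) (d := d0 ∘ φ)
    (hli.comp φ φ.injective) fun g hg j => by
    obtain ⟨π, hπ⟩ := hle hg
    set i := (φ j).1
    have hm : (g : Matrix ι ι F) *ᵥ d0 (φ j) ∈ D (π i) := by
      rw [← hπ]; exact ⟨_, hmem _, Matrix.toLin'_apply _ _⟩
    have hQd : Q (d0 (φ j)) = 1 := by
      rcases hp' : φ j with ⟨i', s⟩
      fin_cases s
      · exact hQa i'
      · exact hQb i'
    obtain ⟨c, hc1, hc2⟩ : ∃ c : Fin t × Fin 2 → F, (∀ p, c p ∈ (⊥ : Subfield F)) ∧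
        (g : Matrix ι ι F) *ᵥ d0 (φ j) = ∑ p, c p • d0 p := by
      have hone : ∀ p0 : Fin t × Fin 2, ∀ p, (Pi.single p0 1 : Fin t × Fin 2 → F) p ∈ (⊥ : Subfield F) := by
        intro p0 p
        rw [Pi.single_apply]
        split
        · exact one_mem _
        · exact zero_mem _
      have hval : ∀ p0 : Fin t × Fin 2, ∑ p, (Pi.single p0 1 : Fin t × Fin 2 → F) p • d0 p = d0 p0 :=
        fun p0 => by simp [Pi.single_apply]
      rcases hall _ _ hm (by rw [iso_Q (hH hg), hQd]) with h | h | h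
      · exact ⟨Pi.single (π i, 0) 1, hone _, by rw [h, hval]; rfl⟩
      · exact ⟨Pi.single (π i, 1) 1, hone _, by rw [h, hval]; rfl⟩
      · exact ⟨Pi.single (π i, 0) 1 + Pi.single (π i, 1) 1, fun p => add_mem (hone _ p) (hone _ p), by
          rw [h]; simp only [Pi.add_apply, add_smul, Finset.sum_add_distrib, hval]; rfl⟩
    refine ⟨c ∘ φ, fun x => hc1 _, ?_⟩
    rw [Function.comp_apply, hc2]
    exact (φ.sum_comp (fun p => c p • d0 p)).symm
  refine ⟨⊥, P, ?_, fun u hu => ?_, hle'⟩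
  · obtain ⟨p, hp'⟩ := CharP.exists F
    have : Fact p.Prime := ⟨CharP.char_is_prime F p⟩
    rw [Subfield.card_bot F p, hq]
    have : p ∣ 2 := (CharP.cast_eq_zero_iff F p 2).1 (by exact_mod_cast h2)
    rw [(Nat.prime_dvd_prime_iff_eq (CharP.char_is_prime F p) Nat.prime_two).1 this]
    norm_num
  show 1 * Q _ ∈ (⊥ : Subfield F)
  rw [one_mul, hP]
  have hre : (∑ x, u x • (d0 ∘ φ) x) =
      ∑ i, (u (φ.symm (i, 0)) • a i + u (φ.symm (i, 1)) • b i) := by
    rw [← φ.symm.sum_comp, Fintype.sum_prod_type]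
    refine Finset.sum_congr rfl fun i _ => ?_
    rw [Fin.sum_univ_two]
    simp [d0]
  rw [hre, Orth.Q_sum_orth _ _ fun i _ j _ hij => hD.decomp.orthogonal i j hij _
    ((D i).add_mem ((D i).smul_mem _ (ha i)) ((D i).smul_mem _ (hb i))) _
    ((D j).add_mem ((D j).smul_mem _ (ha j)) ((D j).smul_mem _ (hb j)))]
  refine sum_mem fun i _ => ?_
  rw [Orth.Q_add, Orth.Q_smul, Orth.Q_smul, hQa, hQb, Orth.pl_smul_left, Orth.pl_smul_right, hab, mul_one,
    mul_one, mul_one]
  exact add_mem (add_mem (mul_mem (hu _) (hu _)) (mul_mem (hu _) (hu _))) (mul_mem (hu _) (hu _))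

/-- A hyperbolic four-space over two elements is the sum of two anisotropic planes, uniquely. -/
theorem four_two (hQ : Q.polarBilin.Nondegenerate) (hq : Fintype.card F = 2) {W : Submodule F (ι → F)}
    (hW : ND Q W) (hd : finrank F W = 4) (hp : Geo.IsPlusTypeOn ⇑Q W) :
    ∃ u v : Fin 2 → ι → F, (∀ s, u s ∈ W ∧ v s ∈ W) ∧
      (∀ s, Q (u s) = 1 ∧ Q (v s) = 1 ∧ polar ⇑Q (u s) (v s) = 1) ∧
      (∀ s s', s ≠ s' → polar ⇑Q (u s) (u s') = 0 ∧ polar ⇑Q (u s) (v s') = 0 ∧
        polar ⇑Q (v s) (v s') = 0) ∧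
      ∀ x ∈ W, Q x = 1 → ∃ s, x = u s ∨ x = v s ∨ x = u s + v s := by
  classical
  have h2 : (2 : F) = 0 := two_zero_of_card hq (by decide)
  have h01 : ∀ x : F, x = 0 ∨ x = 1 := by
    intro x
    have hc : ({0, 1} : Finset F) = Finset.univ :=
      Finset.eq_univ_of_card _ (by rw [hq, Finset.card_pair zero_ne_one])
    have h := hc ▸ Finset.mem_univ x
    simpa using h
  obtain ⟨U, hU, hU0, hUd⟩ := hp
  obtain ⟨e1, he1, he10⟩ := Submodule.exists_mem_ne_zero_of_ne_bot (p := U) fun h => by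
    rw [h, finrank_bot, hd] at hUd; omega
  obtain ⟨f1, hf1, hQf1, hef1⟩ := Orth.exists_hpair_in hQ hW (hU he1) he10 (hU0 e1 he1)
  obtain ⟨e2, ⟨he2, he2p⟩, he20⟩ : ∃ e2 ∈ U ⊓ LinearMap.ker (Q.polarBilin f1), e2 ≠ 0 := by
    refine Submodule.exists_mem_ne_zero_of_ne_bot fun h => ?_
    have h1 := Submodule.finrank_sup_add_finrank_inf_eq U (LinearMap.ker (Q.polarBilin f1))
    have h2 := LinearMap.finrank_range_add_finrank_ker (Q.polarBilin f1)
    have h3 := Submodule.finrank_le (LinearMap.range (Q.polarBilin f1))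
    have h4 := Submodule.finrank_le (U ⊔ LinearMap.ker (Q.polarBilin f1))
    rw [Module.finrank_self] at h3
    rw [Orth.finrank_space] at h2 h4
    rw [h, finrank_bot] at h1
    omega
  have hee : polar ⇑Q e1 e2 = 0 := OrthAct.polar_eq_zero_of_singular hU0 he1 he2
  have hfe2 : polar ⇑Q f1 e2 = 0 := he2p
  have he21 : polar ⇑Q e2 e1 = 0 := by rw [Orth.pl_comm]; exact hee
  have he2f1 : polar ⇑Q e2 f1 = 0 := by rw [Orth.pl_comm]; exact hfe2
  have hfe1 : polar ⇑Q f1 e1 = 1 := by rw [Orth.pl_comm]; exact hef1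
  have hpair : ∀ s ∈ (F ∙ e1) ⊔ (F ∙ f1), ∃ α β : F, s = α • e1 + β • f1 := by
    intro s hs
    obtain ⟨x, hx, y, hy, rfl⟩ := Submodule.mem_sup.1 hs
    obtain ⟨α, rfl⟩ := Submodule.mem_span_singleton.1 hx
    obtain ⟨β, rfl⟩ := Submodule.mem_span_singleton.1 hy
    exact ⟨α, β, rfl⟩
  obtain ⟨f2, hf2, hQf2, hef2, hf2S⟩ := Orth.exists_partner_in hQ hW
    (S := (F ∙ e1) ⊔ (F ∙ f1)) (sup_le ((Submodule.span_singleton_le_iff_mem _ _).2 (hU he1))
      ((Submodule.span_singleton_le_iff_mem _ _).2 hf1)) (hU he2) (fun hmem => by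
        obtain ⟨α, β, rfl⟩ := hpair _ hmem
        rw [Orth.pl_add_left, Orth.pl_smul_left, Orth.pl_smul_left, Orth.pl_self, hU0 e1 he1, hfe1, mul_zero,
          mul_zero, zero_add, mul_one] at he21
        rw [Orth.pl_add_left, Orth.pl_smul_left, Orth.pl_smul_left, Orth.pl_self, hQf1, hef1, mul_zero,
          mul_zero, add_zero, mul_one] at he2f1
        exact he20 (by rw [he21, he2f1, zero_smul, zero_smul, add_zero]))
    (hU0 e2 he2) (fun s hs => by
      obtain ⟨α, β, rfl⟩ := hpair _ hs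
      rw [Orth.pl_add_right, Orth.pl_smul_right, Orth.pl_smul_right, he21, he2f1, mul_zero, mul_zero, add_zero])
  have hfe : polar ⇑Q f2 e2 = 1 := by rw [Orth.pl_comm]; exact hef2
  have hf2e1 : polar ⇑Q f2 e1 = 0 := hf2S e1 (Submodule.mem_sup_left (Submodule.mem_span_singleton_self _))
  have hf2f1 : polar ⇑Q f2 f1 = 0 := hf2S f1 (Submodule.mem_sup_right (Submodule.mem_span_singleton_self _))
  have he1f2 : polar ⇑Q e1 f2 = 0 := by rw [Orth.pl_comm]; exact hf2e1
  have hf1f2 : polar ⇑Q f1 f2 = 0 := by rw [Orth.pl_comm]; exact hf2f1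
  have hQe1 := hU0 e1 he1
  have hQe2 := hU0 e2 he2
  refine ⟨![e1 + f1, e1 + f1 + e2], ![e1 + e2 + f2, e1 + f1 + f2], ?_, ?_, ?_, fun x hx hQx => ?_⟩
  · intro s
    fin_cases s
    · exact ⟨W.add_mem (hU he1) hf1, W.add_mem (W.add_mem (hU he1) (hU he2)) hf2⟩
    · exact ⟨W.add_mem (W.add_mem (hU he1) hf1) (hU he2), W.add_mem (W.add_mem (hU he1) hf1) hf2⟩
  · intro s
    fin_cases s <;>
    · simp only [Fin.zero_eta, Fin.mk_one, Matrix.cons_val_zero, Matrix.cons_val_one, Orth.Q_add,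
        Orth.pl_add_left, Orth.pl_add_right, Orth.pl_self, hQe1, hQf1, hQe2, hQf2, hef1, hfe1, hef2, hfe,
        hee, he21, hfe2, he2f1, hf2e1, hf2f1, he1f2, hf1f2]
      refine ⟨?_, ?_, ?_⟩ <;> first | ring1 | linear_combination h2 | simp [h2]
  · intro s s' hss
    fin_cases s <;> fin_cases s'
    · exact absurd rfl hss
    all_goals try exact absurd rfl hss
    all_goals
      simp only [Fin.zero_eta, Fin.mk_one, Matrix.cons_val_zero, Matrix.cons_val_one, Orth.pl_add_left,
        Orth.pl_add_right, Orth.pl_self, hQe1, hQf1, hQe2, hQf2, hef1, hfe1, hef2, hfe, hee, he21, hfe2,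
        he2f1, hf2e1, hf2f1, he1f2, hf1f2]
      refine ⟨?_, ?_, ?_⟩ <;> first | ring1 | linear_combination h2 | simp [h2]
  · have hc := Orth.exists_coords (Q := Q) hd ![e1, f1, e2, f2] ![f1, e1, f2, e2]
      (by simp [Fin.forall_fin_succ, hU he1, hf1, hU he2, hf2])
      (by simp [Fin.forall_fin_succ, Orth.pl_self, hQe1, hQf1, hQe2, hQf2, hef1, hfe1, hef2, hfe, hee, he21,
        hfe2, he2f1, hf2e1, hf2f1, he1f2, hf1f2]) hx
    rw [Fin.sum_univ_four] at hc
    simp only [Matrix.cons_val] at hc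
    set α := polar ⇑Q x f1
    set β := polar ⇑Q x e1
    set γ := polar ⇑Q x f2
    set δ := polar ⇑Q x e2
    rw [hc] at hQx
    simp only [Orth.Q_add, Orth.Q_smul, Orth.pl_add_left, Orth.pl_smul_left, Orth.pl_smul_right, hQe1, hQf1,
      hQe2, hQf2, hef1, hee, he1f2, hfe2, hf1f2, hef2, mul_zero, zero_add, add_zero, mul_one] at hQx
    have hz : ∀ v : ι → F, v + v = 0 := fun v => by rw [← two_smul F v, h2, zero_smul]
    rcases h01 α with ha | ha <;> rcases h01 β with hb | hb <;> rcases h01 γ with hg | hg <;>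
      rcases h01 δ with hd' | hd' <;> rw [ha, hb, hg, hd'] at hQx <;>
      simp only [mul_zero, zero_mul, mul_one, add_zero, zero_add, zero_ne_one] at hQx <;>
      rw [hc, ha, hb, hg, hd'] <;>
      simp only [zero_smul, one_smul, add_zero, zero_add, Fin.exists_fin_two, Matrix.cons_val_zero,
        Matrix.cons_val_one]
    all_goals first
      | exact .inl (.inl trivial)
      | exact .inr (.inl trivial)
      | exact .inl (.inr (.inl trivial))
      | exact .inr (.inr (.inl trivial))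
      | exact .inl (.inr (.inr (by linear_combination (norm := module) (-1 : F) • hz e1)))
      | exact .inr (.inr (.inr (by linear_combination (norm := module) (-1 : F) • hz e1 + (-1 : F) • hz f1)))
      | exact absurd (show (1 : F) = 0 by linear_combination hQx) one_ne_zero

/-- Hyperbolic four-spaces over two elements refine into anisotropic planes. -/
theorem four_spaces_two (hQ : Q.polarBilin.Nondegenerate) (hq : Fintype.card F = 2) {t : ℕ}
    {D : Fin t → Submodule F (ι → F)} (hD : Geo.IsOrthogonalMDecomposition ⇑Q 4 D)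
    (hcard : Fintype.card ι = t * 4) (hp : ∀ i, Geo.IsPlusTypeOn ⇑Q (D i)) {H : Subgroup (GL ι F)}
    (hH : H ≤ Cfsg.isometryGroup F ⇑Q) (hle : H ≤ Geo.decompositionStabilizer D) :
    ∃ E : Fin (t * 2) → Submodule F (ι → F), Geo.IsNondegenerateMDecomposition (polar ⇑Q) 2 E ∧
      H ≤ Geo.decompositionStabilizer E ∧ ∀ j, ¬ Geo.IsPlusTypeOn ⇑Q (E j) := by
  classical
  choose u v hmem hval horth hall using fun i =>
    four_two hQ hq (member_nd hD i) (hD.decomp.decomp.finrank_eq i) (hp i)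
  have h2 : (2 : F) = 0 := two_zero_of_card hq (by decide)
  have h01 : ∀ x : F, x = 0 ∨ x = 1 := by
    intro x
    have hc : ({0, 1} : Finset F) = Finset.univ :=
      Finset.eq_univ_of_card _ (by rw [hq, Finset.card_pair zero_ne_one])
    have h := hc ▸ Finset.mem_univ x
    simpa using h
  let P : Fin t × Fin 2 → Submodule F (ι → F) := fun p => (F ∙ u p.1 p.2) ⊔ (F ∙ v p.1 p.2)
  have hPmem : ∀ p x, x ∈ P p → ∃ α β : F, x = α • u p.1 p.2 + β • v p.1 p.2 := by
    intro p x hx
    obtain ⟨y, hy, z, hz, rfl⟩ := Submodule.mem_sup.1 hx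
    obtain ⟨α, rfl⟩ := Submodule.mem_span_singleton.1 hy
    obtain ⟨β, rfl⟩ := Submodule.mem_span_singleton.1 hz
    exact ⟨α, β, rfl⟩
  have hvu : ∀ i s, polar ⇑Q (v i s) (u i s) = 1 := fun i s => by rw [Orth.pl_comm]; exact (hval i s).2.2
  have hu' : ∀ p : Fin t × Fin 2, u p.1 p.2 ∈ P p := fun p =>
    Submodule.mem_sup_left (Submodule.mem_span_singleton_self _)
  have hv' : ∀ p : Fin t × Fin 2, v p.1 p.2 ∈ P p := fun p =>
    Submodule.mem_sup_right (Submodule.mem_span_singleton_self _)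
  have hPD : ∀ p, P p ≤ D p.1 := fun p => sup_le ((Submodule.span_singleton_le_iff_mem _ _).2 (hmem _ _).1)
    ((Submodule.span_singleton_le_iff_mem _ _).2 (hmem _ _).2)
  have hcoord : ∀ (p : Fin t × Fin 2) (α β : F), polar ⇑Q (α • u p.1 p.2 + β • v p.1 p.2) (v p.1 p.2) = α ∧
      polar ⇑Q (α • u p.1 p.2 + β • v p.1 p.2) (u p.1 p.2) = β := by
    intro p α β
    simp only [Orth.pl_add_left, Orth.pl_smul_left, Orth.pl_self, h2, (hval _ _).2.2, hvu, zero_mul, mul_zero,
      add_zero, zero_add, mul_one, and_self]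
  have hPd : ∀ p, finrank F (P p) = 2 := by
    intro p
    have hli : LinearIndependent F ![u p.1 p.2, v p.1 p.2] := by
      rw [LinearIndependent.pair_iff]
      intro α β h
      obtain ⟨h1, h3⟩ := hcoord p α β
      rw [h, Orth.pl_zero_left] at h1 h3
      exact ⟨h1.symm, h3.symm⟩
    have h1 : P p = Submodule.span F (Set.range ![u p.1 p.2, v p.1 p.2]) := by
      rw [Matrix.range_cons, Matrix.range_cons, Matrix.range_empty, Set.union_empty,
        Submodule.span_union]
    rw [h1, finrank_span_eq_card hli, Fintype.card_fin]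
  have hcross : ∀ p p', p ≠ p' → ∀ x ∈ P p, ∀ y ∈ P p', polar ⇑Q x y = 0 := by
    rintro ⟨i, s⟩ ⟨i', s'⟩ hne x hx y hy
    by_cases hi : i = i'
    · subst hi
      have hss : s ≠ s' := fun h => hne (by rw [h])
      obtain ⟨α, β, rfl⟩ := hPmem _ _ hx
      obtain ⟨α', β', rfl⟩ := hPmem _ _ hy
      have hvu' : polar ⇑Q (v i s) (u i s') = 0 := by rw [Orth.pl_comm]; exact (horth i s' s hss.symm).2.1
      simp only [Orth.pl_add_left, Orth.pl_add_right, Orth.pl_smul_left, Orth.pl_smul_right,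
        (horth i s s' hss).1, (horth i s s' hss).2.1, (horth i s s' hss).2.2, hvu', mul_zero, add_zero]
    · exact hD.decomp.orthogonal i i' hi x (hPD _ hx) y (hPD _ hy)
  have hnd : ∀ p, ND Q (P p) := by
    intro p x hx h0
    obtain ⟨α, β, rfl⟩ := hPmem _ _ hx
    obtain ⟨h1, h3⟩ := hcoord p α β
    rcases h01 α with hα | hα
    · refine ⟨_, hu' p, ?_⟩
      rw [h3]
      rcases h01 β with hβ | hβ
      · exact absurd (by rw [hα, hβ, zero_smul, zero_smul, add_zero]) h0
      · rw [hβ]; exact one_ne_zero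
    · exact ⟨_, hv' p, by rw [h1, hα]; exact one_ne_zero⟩
  have hani : ∀ p, ∀ x ∈ P p, Q x = 0 → x = 0 := by
    intro p x hx hQx
    obtain ⟨α, β, rfl⟩ := hPmem _ _ hx
    rw [Orth.Q_add, Orth.Q_smul, Orth.Q_smul, (hval _ _).1, (hval _ _).2.1, Orth.pl_smul_left,
      Orth.pl_smul_right, (hval _ _).2.2] at hQx
    rcases h01 α with rfl | rfl <;> rcases h01 β with rfl | rfl
    · simp
    · simp at hQx
    · simp at hQx
    · exact absurd (show (1 : F) = 0 by linear_combination hQx - h2) one_ne_zero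
  refine ⟨fun j => P (finProdFinEquiv.symm j), ?_⟩
  obtain ⟨h1, h2'⟩ := orth_decomp_of_family hQ (H := H) (fun j => P (finProdFinEquiv.symm j))
    (by have := hD.decomp.decomp.two_le; omega) (m := 2) (by omega) (by rw [hcard]; ring) (fun j => hPd _)
    (fun j => hnd _) (fun i j hij => hcross _ _ fun h => hij (finProdFinEquiv.symm.injective h))
    (fun g hg j => by
      obtain ⟨π, hπ⟩ := hle hg
      rcases hp1 : finProdFinEquiv.symm j with ⟨i, s⟩
      have hm : ∀ x ∈ D i, (g : Matrix ι ι F) *ᵥ x ∈ D (π i) := fun x hx => by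
        rw [← hπ]; exact ⟨_, hx, Matrix.toLin'_apply _ _⟩
      have hin : ∀ x ∈ D i, Q x = 1 → ∃ s', (g : Matrix ι ι F) *ᵥ x ∈ P (π i, s') := by
        intro x hx hQx
        obtain ⟨s', h⟩ := hall (π i) _ (hm x hx) (by rw [iso_Q (hH hg), hQx])
        refine ⟨s', ?_⟩
        rcases h with h | h | h <;> rw [h]
        · exact hu' (π i, s')
        · exact hv' (π i, s')
        · exact add_mem (hu' (π i, s')) (hv' (π i, s'))
      obtain ⟨s1, hs1⟩ := hin _ (hmem i s).1 (hval i s).1
      obtain ⟨s2, hs2⟩ := hin _ (hmem i s).2 (hval i s).2.1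
      have hss : s1 = s2 := by
        by_contra hne
        have h3 := hcross (π i, s1) (π i, s2) (fun h => hne (congrArg Prod.snd h)) _ hs1 _ hs2
        rw [iso_polar (hH hg), (hval i s).2.2] at h3
        exact one_ne_zero h3
      refine ⟨finProdFinEquiv (π i, s1), fun x hx => ?_⟩
      simp only [Equiv.symm_apply_apply]
      try simp only [hp1] at hx
      obtain ⟨α, β, rfl⟩ := hPmem _ _ hx
      rw [Matrix.mulVec_add, Matrix.mulVec_smul, Matrix.mulVec_smul]
      exact add_mem (Submodule.smul_mem _ _ hs1) (Submodule.smul_mem _ _ (hss ▸ hs2)))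
  refine ⟨h1, h2', fun j => ?_⟩
  rintro ⟨U, hU, hU0, hUd⟩
  obtain ⟨x, hx, hx0⟩ := Submodule.exists_mem_ne_zero_of_ne_bot (p := U) fun h => by
    rw [h, finrank_bot, hPd] at hUd; omega
  exact hx0 (hani _ x (hU hx) (hU0 x hx))

end Cfsg.Agent.Aschbacher
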