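/-
Fields of odd prime degree half the dimension: a decomposition or a quadratic field is preserved as well.
Main results: `SAField`, `SAField.refl_exists`, `SAField.involutive`, `field_half`.
-/
import Cfsg.Agent.Lib.Aschbacher.EvenField
import Cfsg.Agent.Lib.Aschbacher.FormClifford
import Cfsg.Agent.Lib.Orth.Derange

set_option autoImplicit false
set_option linter.unusedSectionVars false

namespace Cfsg.Agent.Aschbacher

open Matrix Module
open Cfsg.Agent.PrimeDim
open QuadraticMap (polar)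
open Orth (perpSub IsoGrp ap dick resSpace)

variable {ι : Type} [Fintype ι] [DecidableEq ι] {F : Type*} [Field F] [Fintype F]
variable {Q : QuadraticForm F (ι → F)}

theorem cj_mul_apply (a b : GL ι F) (X : Matrix ι ι F) : cj (a * b) X = cj a (cj b X) := by
  simp [cj_apply, mul_assoc, _root_.mul_inv_rev]

/-- A self-adjoint field of odd degree half the dimension. -/
structure SAField (Q : QuadraticForm F (ι → F)) (r : ℕ) (K : Subalgebra F (Matrix ι ι F)) : Prop where
  nd : Q.polarBilin.Nondegenerate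
  odd : Odd r
  card : Fintype.card ι = 2 * r
  field : Geo.IsFieldSubalgebra r K
  sa : ∀ k ∈ K, ∀ u v, polar ⇑Q (k *ᵥ u) v = polar ⇑Q u (k *ᵥ v)

/-- An isometry commutes with the field. -/
def KLin (K : Subalgebra F (Matrix ι ι F)) (o : IsoGrp Q) : Prop :=
  ∀ k ∈ K, ∀ x, ap o (k *ᵥ x) = k *ᵥ ap o x

namespace SAField

variable {r : ℕ} {K : Subalgebra F (Matrix ι ι F)} (hS : SAField Q r K)
include hS

theorem pos : 1 ≤ r := hS.odd.pos

theorem nonempty : Nonempty ι := Fintype.card_pos_iff.mp (by have := hS.card; have := hS.pos; omega)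

/-- The line of a vector over the field. -/
theorem line (v : ι → F) (hv : v ≠ 0) :
    ∃ L : Submodule F (ι → F), finrank F L = r ∧ (∀ x, x ∈ L ↔ ∃ k ∈ K, x = k *ᵥ v) := by
  let ev : K →ₗ[F] (ι → F) :=
    { toFun := fun k => (k : Matrix ι ι F) *ᵥ v
      map_add' := fun a b => Matrix.add_mulVec _ _ _
      map_smul' := fun c a => Matrix.smul_mulVec c _ _ }
  have hinj : Function.Injective ev := by
    rw [injective_iff_map_eq_zero]
    intro k hk
    by_contra hk0
    exact hv (field_mulVec_eq_zero hS.field k.2 (fun h => hk0 (Subtype.ext h)) hk)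
  refine ⟨LinearMap.range ev, by rw [LinearMap.finrank_range_of_inj hinj, hS.field.finrank_eq], fun x => ?_⟩
  constructor
  · rintro ⟨k, rfl⟩; exact ⟨k, k.2, rfl⟩
  · rintro ⟨k, hk, rfl⟩; exact ⟨⟨k, hk⟩, rfl⟩

/-- Invariant subspaces have dimension a multiple of `r`. -/
theorem trichotomy {W : Submodule F (ι → F)} (hW : ∀ k ∈ K, ∀ w ∈ W, k *ᵥ w ∈ W) :
    finrank F W = 0 ∨ finrank F W = r ∨ finrank F W = 2 * r := by
  have hle : finrank F W ≤ 2 * r := by
    have := Submodule.finrank_le W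
    rw [Orth.finrank_space, hS.card] at this
    exact this
  by_cases hb : W = ⊥
  · exact .inl (by rw [hb, finrank_bot])
  obtain ⟨v, hv, hv0⟩ := Submodule.exists_mem_ne_zero_of_ne_bot hb
  obtain ⟨L, hL, hLm⟩ := hS.line v hv0
  have hLW : L ≤ W := fun x hx => by
    obtain ⟨k, hk, rfl⟩ := (hLm x).1 hx
    exact hW k hk v hv
  rcases eq_or_lt_of_le (Submodule.finrank_mono hLW) with h | h
  · exact .inr (.inl (by rw [← h, hL]))
  obtain ⟨w, hw, hwL⟩ := SetLike.exists_of_lt (lt_of_le_of_ne hLW fun h' => by rw [h'] at h; omega)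
  have hw0 : w ≠ 0 := fun h' => hwL (h' ▸ zero_mem L)
  obtain ⟨L', hL', hLm'⟩ := hS.line w hw0
  have hinf : L ⊓ L' = ⊥ := by
    rw [Submodule.eq_bot_iff]
    rintro x ⟨hx, hx'⟩
    obtain ⟨k, hk, rfl⟩ := (hLm' x).1 hx'
    by_contra hne
    obtain ⟨y, hy, hky⟩ := hS.field.inv k hk (fun h' => hne (by rw [h', Matrix.zero_mulVec]))
    obtain ⟨l, hl, hxl⟩ := (hLm _).1 hx
    refine hwL ((hLm w).2 ⟨y * l, mul_mem hy hl, ?_⟩)
    rw [← Matrix.mulVec_mulVec, ← hxl, Matrix.mulVec_mulVec, mul_eq_one_comm.mp hky, Matrix.one_mulVec]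
  have hL'W : L' ≤ W := fun x hx => by
    obtain ⟨k, hk, rfl⟩ := (hLm' x).1 hx
    exact hW k hk w hw
  have h1 := Submodule.finrank_sup_add_finrank_inf_eq L L'
  rw [hinf, finrank_bot, add_zero, hL, hL'] at h1
  have h2 := Submodule.finrank_mono (sup_le hLW hL'W)
  exact .inr (.inr (by omega))

theorem resSpace_inv {o : IsoGrp Q} (ho : KLin K o) : ∀ k ∈ K, ∀ w ∈ resSpace o, k *ᵥ w ∈ resSpace o := by
  intro k hk w hw
  obtain ⟨x, rfl⟩ := Orth.mem_resSpace.1 hw
  rw [Matrix.mulVec_sub, ← ho k hk]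
  exact Orth.sub_mem_resSpace o _

theorem res_dim {o : IsoGrp Q} (ho : KLin K o) (hd : dick o = -1) : finrank F (resSpace o) = r := by
  rcases hS.trichotomy (hS.resSpace_inv ho) with h | h | h
  · rw [Orth.dick, h, pow_zero] at hd; norm_num at hd
  · exact h
  · rw [Orth.dick, h, pow_mul] at hd; norm_num at hd

/-- Odd elements commuting with the field are involutions. -/
theorem involutive {o : IsoGrp Q} (ho : KLin K o) (hd : dick o = -1) (x : ι → F) : ap o (ap o x) = x := by
  have hQ := hS.nd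
  have : Nonempty ι := hS.nonempty
  set R := resSpace o with hR
  have hRd : finrank F R = r := hS.res_dim ho hd
  obtain ⟨v0, hv0R, hv0⟩ := Submodule.exists_mem_ne_zero_of_ne_bot (p := R) fun h => by
    rw [h, finrank_bot] at hRd; have := hS.pos; omega
  obtain ⟨L, hL, hLm⟩ := hS.line v0 hv0
  have hLR : L = R := Submodule.eq_of_le_of_finrank_eq (fun y hy => by
    obtain ⟨k, hk, rfl⟩ := (hLm y).1 hy
    exact hS.resSpace_inv ho k hk v0 hv0R) (hL.trans hRd.symm)
  have hoR : ap o v0 ∈ R := by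
    have h := add_mem (Orth.sub_mem_resSpace o v0) hv0R
    rwa [sub_add_cancel] at h
  obtain ⟨k, hk, hkv⟩ := (hLm _).1 (hLR ▸ hoR)
  have hon : ∀ y ∈ R, ap o y = k *ᵥ y := by
    intro y hy
    obtain ⟨l, hl, rfl⟩ := (hLm y).1 (hLR ▸ hy)
    rw [ho l hl, hkv, Matrix.mulVec_mulVec, Matrix.mulVec_mulVec, hS.field.comm l hl k hk]
  have hiso : (∀ a ∈ R, ∀ b ∈ R, polar ⇑Q a b = 0) → k = 1 := by
    intro h0
    have hfix : ap o v0 = v0 := Orth.fix_of_orth hQ fun w hw => h0 v0 hv0R w hw
    by_contra h1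
    refine hv0 (field_mulVec_eq_zero hS.field (sub_mem hk (one_mem K)) (sub_ne_zero.2 h1) ?_)
    rw [Matrix.sub_mulVec, Matrix.one_mulVec, ← hkv, hfix, sub_self]
  have hk2 : k * k = 1 := by
    by_cases h0 : ∀ a ∈ R, ∀ b ∈ R, polar ⇑Q a b = 0
    · rw [hiso h0, one_mul]
    · by_contra hne
      refine h0 fun a ha b hb => ?_
      obtain ⟨y, hy, hyk⟩ := hS.field.inv _ (sub_mem (mul_mem hk hk) (one_mem K)) (sub_ne_zero.2 hne)
      have h3 : ∀ c ∈ R, polar ⇑Q ((k * k - 1) *ᵥ c) b = 0 := fun c hc => by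
        rw [Matrix.sub_mulVec, Matrix.one_mulVec, Orth.pl_sub_left, ← Matrix.mulVec_mulVec, hS.sa k hk,
          ← hon b hb, ← hon c hc, Orth.polar_ap, sub_self]
      have h4 := h3 _ (hS.resSpace_inv ho y hy a ha)
      rwa [Matrix.mulVec_mulVec, hyk, Matrix.one_mulVec] at h4
  have hsub : ap o x - x ∈ R := Orth.sub_mem_resSpace o x
  have hoo : ap o (ap o x) - ap o x = k *ᵥ (ap o x - x) := by rw [← map_sub, hon _ hsub]
  have hkk : k = 1 ∨ k = -1 := by
    letI : Field K := (field_isField hS.field).toField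
    have h1 : (⟨k, hk⟩ : K) * ⟨k, hk⟩ = 1 := Subtype.ext hk2
    rcases mul_self_eq_one_iff.mp h1 with h | h
    · exact .inl (congrArg Subtype.val h)
    · exact .inr (congrArg Subtype.val h)
  rcases hkk with hk1 | hk1
  swap
  · rw [hk1, Matrix.neg_mulVec, Matrix.one_mulVec, neg_sub] at hoo
    exact sub_left_inj.1 hoo
  rw [hk1, Matrix.one_mulVec] at hoo
  by_cases h2 : (2 : F) = 0
  · refine sub_eq_zero.1 ?_
    have h3 : ap o (ap o x) - x = (2 : F) • (ap o x - x) := by
      rw [two_smul]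
      nth_rw 1 [← hoo]
      rw [sub_add_sub_cancel]
    rw [h3, h2, zero_smul]
  exfalso
  have hiso' : ∀ a ∈ R, ∀ b ∈ R, polar ⇑Q a b = 0 := fun a ha b hb =>
    Orth.polar_fix_resSpace (by rw [hon a ha, hk1, Matrix.one_mulVec]) hb
  let G : (ι → F) → (ι → F) → F := fun a b => polar ⇑Q (ap o a - a) b
  have hskew : ∀ a b, G a b = -G b a := by
    intro a b
    show polar ⇑Q (ap o a - a) b = -polar ⇑Q (ap o b - b) a
    have h1 := Orth.polar_ap o a b
    rw [← add_sub_cancel a (ap o a), ← add_sub_cancel b (ap o b), Orth.pl_add_left, Orth.pl_add_right,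
      Orth.pl_add_right, hiso' _ (Orth.sub_mem_resSpace o a) _ (Orth.sub_mem_resSpace o b), add_zero] at h1
    rw [Orth.pl_comm Q (ap o b - b) a]
    linear_combination h1
  obtain ⟨z, hz⟩ : ∃ z, ap o z - z ≠ 0 := ⟨(Orth.mem_resSpace.1 hv0R).choose, by
    rw [(Orth.mem_resSpace.1 hv0R).choose_spec]; exact hv0⟩
  have hzR : z ∉ R := fun h => hz (by rw [hon z h, hk1, Matrix.one_mulVec, sub_self])
  obtain ⟨L', hL', hLm'⟩ := hS.line z (fun h => hzR (h ▸ zero_mem R))
  have htop : R ⊔ L' = ⊤ := by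
    refine Submodule.eq_top_of_finrank_eq ?_
    have hinv : ∀ l ∈ K, ∀ w ∈ R ⊔ L', l *ᵥ w ∈ R ⊔ L' := by
      intro l hl w hw
      obtain ⟨a, ha, b, hb, rfl⟩ := Submodule.mem_sup.1 hw
      obtain ⟨c, hc, rfl⟩ := (hLm' b).1 hb
      rw [Matrix.mulVec_add, Matrix.mulVec_mulVec]
      exact add_mem (Submodule.mem_sup_left (hS.resSpace_inv ho l hl a ha))
        (Submodule.mem_sup_right ((hLm' _).2 ⟨l * c, mul_mem hl hc, rfl⟩))
    have hlt : finrank F R < finrank F ↥(R ⊔ L') := Submodule.finrank_lt_finrank_of_lt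
      (lt_of_le_of_ne le_sup_left fun h => hzR (h ▸ Submodule.mem_sup_right
        ((hLm' z).2 ⟨1, one_mem K, (Matrix.one_mulVec z).symm⟩)))
    rw [Orth.finrank_space, hS.card]
    rcases hS.trichotomy hinv with h | h | h <;> omega
  obtain ⟨y, hy⟩ := Orth.exists_polar_ne hQ hz
  obtain ⟨a, ha, b, hb, rfl⟩ := Submodule.mem_sup.1 (htop.symm ▸ Submodule.mem_top : y ∈ R ⊔ L')
  obtain ⟨c, hc, rfl⟩ := (hLm' b).1 hb
  refine hy ?_
  rw [Orth.pl_add_right, hiso' _ (Orth.sub_mem_resSpace o z) _ ha, zero_add]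
  have h1 : G (c *ᵥ z) z = G z (c *ᵥ z) := by
    show polar ⇑Q (ap o (c *ᵥ z) - c *ᵥ z) z = polar ⇑Q (ap o z - z) (c *ᵥ z)
    rw [ho c hc, ← Matrix.mulVec_sub, hS.sa c hc]
  have h3 := hskew z (c *ᵥ z)
  rw [h1] at h3
  exact (mul_eq_zero.1 (show (2 : F) * G z (c *ᵥ z) = 0 by linear_combination h3)).resolve_left h2

/-- A reflection commuting with the field. -/
theorem refl_exists : ∃ s : IsoGrp Q, KLin K s ∧ dick s = -1 := by
  classical
  have hQ := hS.nd
  have : Nonempty ι := hS.nonempty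
  have : Finite (Matrix ι ι F) := inferInstanceAs (Finite (ι → ι → F))
  letI : Field K := (field_isField hS.field).toField
  have : Fintype K := Fintype.ofFinite K
  have : Algebra.IsAlgebraic F K := Algebra.IsAlgebraic.of_finite F K
  obtain ⟨v, hv⟩ : ∃ v, Q v ≠ 0 := by
    by_contra hc
    simp only [not_exists, not_not] at hc
    obtain ⟨i⟩ := hS.nonempty
    obtain ⟨y, hy⟩ := Orth.exists_polar_ne hQ (show (Pi.single i (1 : F) : ι → F) ≠ 0 by simp)
    exact hy (by simp [polar, hc])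
  obtain ⟨φ, hφ⟩ : ∃ φ : K →ₗ[F] F, ∀ k : K, φ (k * k) = Q ((k : Matrix ι ι F) *ᵥ v) := by
    by_cases h2 : (2 : F) = 0
    · have : CharP F 2 := CharTwo.of_one_ne_zero_of_two_eq_zero one_ne_zero h2
      have : CharP K 2 := charP_of_injective_algebraMap' F 2
      have : ExpChar F 2 := ExpChar.prime Nat.prime_two
      have : ExpChar K 2 := ExpChar.prime Nat.prime_two
      let sq : K ≃+* K := RingEquiv.ofBijective (frobenius K 2)
        (Finite.injective_iff_bijective.mp (frobenius K 2).injective)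
      have hsq : ∀ x : K, sq x = x * x := fun x => by
        show frobenius K 2 x = _
        rw [frobenius_def, pow_two]
      have hroot : ∀ d : K, sq.symm d * sq.symm d = d := fun d => by
        rw [← hsq, RingEquiv.apply_symm_apply]
      have halt : ∀ c : K, polar ⇑Q ((c : Matrix ι ι F) *ᵥ v) v = 0 := by
        intro c
        have h1 : (c : Matrix ι ι F) = ((sq.symm c : K) : Matrix ι ι F) * ((sq.symm c : K) : Matrix ι ι F) :=
          (congrArg Subtype.val (hroot c)).symm
        rw [h1, ← Matrix.mulVec_mulVec, hS.sa _ (sq.symm c : K).2, Orth.pl_self, h2, zero_mul]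
      refine ⟨{ toFun := fun d => Q (((sq.symm d : K) : Matrix ι ι F) *ᵥ v), map_add' := ?_,
                map_smul' := ?_ }, fun k => ?_⟩
      · intro a b
        have h1 := halt (sq.symm b * sq.symm a)
        simp only [MulMemClass.coe_mul] at h1
        rw [← Matrix.mulVec_mulVec, hS.sa _ (sq.symm b : K).2] at h1
        rw [map_add, AddMemClass.coe_add, Matrix.add_mulVec, Orth.Q_add, h1, add_zero]
      · intro e a
        obtain ⟨e', he'⟩ := (Finite.injective_iff_surjective.mp (frobenius F 2).injective) e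
        rw [frobenius_def, pow_two] at he'
        have h1 : sq.symm (e • a) = e' • sq.symm a := by
          apply sq.injective
          rw [RingEquiv.apply_symm_apply, hsq, smul_mul_smul_comm, hroot, he']
        rw [RingHom.id_apply, h1, Subalgebra.coe_smul, Matrix.smul_mulVec, Orth.Q_smul, he', smul_eq_mul]
      · show Q (((sq.symm (k * k) : K) : Matrix ι ι F) *ᵥ v) = _
        rw [← hsq, RingEquiv.symm_apply_apply]
    · refine ⟨{ toFun := fun d => 2⁻¹ * polar ⇑Q ((d : Matrix ι ι F) *ᵥ v) v, map_add' := ?_,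
                map_smul' := ?_ }, fun k => ?_⟩
      · intro a b
        rw [AddMemClass.coe_add, Matrix.add_mulVec, Orth.pl_add_left]; ring
      · intro e a
        rw [Subalgebra.coe_smul, Matrix.smul_mulVec, Orth.pl_smul_left, RingHom.id_apply, smul_eq_mul]; ring
      · show 2⁻¹ * polar ⇑Q (((k * k : K) : Matrix ι ι F) *ᵥ v) v = _
        rw [MulMemClass.coe_mul, ← Matrix.mulVec_mulVec, hS.sa _ k.2, Orth.pl_self, ← mul_assoc,
          inv_mul_cancel₀ h2, one_mul]
  let T : K →ₗ[F] Module.Dual F K :=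
    { toFun := fun k =>
        { toFun := fun c => φ (c * k)
          map_add' := fun a b => by rw [add_mul, map_add]
          map_smul' := fun e a => by rw [smul_mul_assoc, map_smul]; rfl }
      map_add' := fun a b => LinearMap.ext fun c => by
        show φ (c * (a + b)) = φ (c * a) + φ (c * b)
        rw [mul_add, map_add]
      map_smul' := fun e a => LinearMap.ext fun c => by
        show φ (c * (e • a)) = e • φ (c * a)
        rw [mul_smul_comm, map_smul] }
  have hφ1 : φ 1 ≠ 0 := by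
    have h := hφ 1
    rw [one_mul] at h
    rw [h]
    show Q ((1 : Matrix ι ι F) *ᵥ v) ≠ 0
    rwa [Matrix.one_mulVec]
  have hTinj : Function.Injective T := by
    rw [injective_iff_map_eq_zero]
    intro k hk
    by_contra hk0
    have h1 : φ (k⁻¹ * k) = 0 := LinearMap.congr_fun hk k⁻¹
    rw [inv_mul_cancel₀ hk0] at h1
    exact hφ1 h1
  let Te : K ≃ₗ[F] Module.Dual F K := LinearEquiv.ofBijective T
    ⟨hTinj, (LinearMap.injective_iff_surjective_of_finrank_eq_finrank Subspace.dual_finrank_eq.symm).1 hTinj⟩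
  let ψ : (ι → F) →ₗ[F] Module.Dual F K :=
    { toFun := fun x =>
        { toFun := fun c => polar ⇑Q ((c : Matrix ι ι F) *ᵥ x) v
          map_add' := fun a b => by rw [AddMemClass.coe_add, Matrix.add_mulVec, Orth.pl_add_left]
          map_smul' := fun e a => by
            rw [Subalgebra.coe_smul, Matrix.smul_mulVec, Orth.pl_smul_left]; rfl }
      map_add' := fun a b => LinearMap.ext fun c => by
        show polar ⇑Q ((c : Matrix ι ι F) *ᵥ (a + b)) v = _ + _
        rw [Matrix.mulVec_add, Orth.pl_add_left]; rfl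
      map_smul' := fun e a => LinearMap.ext fun c => by
        show polar ⇑Q ((c : Matrix ι ι F) *ᵥ (e • a)) v = e • _
        rw [Matrix.mulVec_smul, Orth.pl_smul_left]; rfl }
  let kk : (ι → F) →ₗ[F] K := Te.symm.toLinearMap ∘ₗ ψ
  have hkk : ∀ x (c : K), φ (c * kk x) = polar ⇑Q ((c : Matrix ι ι F) *ᵥ x) v := fun x c =>
    LinearMap.congr_fun (Te.apply_symm_apply (ψ x)) c
  let ev : K →ₗ[F] (ι → F) :=
    { toFun := fun k => (k : Matrix ι ι F) *ᵥ v
      map_add' := fun a b => Matrix.add_mulVec _ _ _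
      map_smul' := fun c a => Matrix.smul_mulVec c _ _ }
  let S : (ι → F) →ₗ[F] (ι → F) := LinearMap.id - ev ∘ₗ kk
  have hSapp : ∀ x, S x = x - (kk x : Matrix ι ι F) *ᵥ v := fun _ => rfl
  obtain ⟨s, hs⟩ := Orth.exists_isoGrp_of_preserve hQ S fun x => by
    have h1 := hkk x (kk x)
    rw [hφ] at h1
    rw [hSapp, Orth.Q_sub, ← hS.sa _ (kk x).2, ← h1]
    ring
  have hlin : KLin K s := by
    intro k hk x
    have h1 : kk (k *ᵥ x) = (⟨k, hk⟩ : K) * kk x := by
      apply hTinj
      refine LinearMap.ext fun c => ?_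
      show φ (c * kk (k *ᵥ x)) = φ (c * ((⟨k, hk⟩ : K) * kk x))
      rw [hkk, ← mul_assoc, hkk, Matrix.mulVec_mulVec]
      rfl
    rw [hs, hSapp, hSapp, h1, Matrix.mulVec_sub, Matrix.mulVec_mulVec]
    rfl
  refine ⟨s, hlin, ?_⟩
  have hv0 : v ≠ 0 := fun h => hv (by rw [h, QuadraticMap.map_zero])
  obtain ⟨L, hL, hLm⟩ := hS.line v hv0
  have hle : resSpace s ≤ L := by
    intro w hw
    obtain ⟨x, rfl⟩ := Orth.mem_resSpace.1 hw
    rw [hs, hSapp, sub_sub_cancel_left, ← Matrix.mulVec_neg]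
    exact (hLm _).2 ⟨-(kk x : Matrix ι ι F), neg_mem (kk x).2, by rw [Matrix.neg_mulVec, Matrix.mulVec_neg]⟩
  have hne : finrank F (resSpace s) ≠ 0 := by
    intro h0
    rw [Submodule.finrank_eq_zero] at h0
    obtain ⟨y, hy⟩ := Orth.exists_polar_ne hQ hv0
    have h1 := Orth.sub_mem_resSpace s y
    rw [h0, Submodule.mem_bot, hs, hSapp, sub_sub_cancel_left, neg_eq_zero] at h1
    have h3 : kk y = 0 := by
      by_contra h4
      exact hv0 (field_mulVec_eq_zero hS.field (kk y).2 (fun h => h4 (Subtype.ext h)) h1)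
    have h5 := hkk y 1
    rw [h3, mul_zero, map_zero] at h5
    refine hy ?_
    rw [Orth.pl_comm, h5]
    show _ = polar ⇑Q ((1 : Matrix ι ι F) *ᵥ y) v
    rw [Matrix.one_mulVec]
  rcases hS.trichotomy (hS.resSpace_inv hlin) with h | h | h
  · exact absurd h hne
  · rw [Orth.dick, h, hS.odd.neg_one_pow]
  · have := Submodule.finrank_mono hle
    rw [h, hL] at this
    have := hS.pos
    omega

theorem klin_mul {a b : IsoGrp Q} (ha : KLin K a) (hb : KLin K b) : KLin K (a * b) := fun k hk x => by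
  rw [Orth.ap_mul, Orth.ap_mul, hb k hk, ha k hk]

/-- Even elements commuting with the field commute with each other. -/
theorem even_comm {g h : IsoGrp Q} (hg : KLin K g) (hgd : dick g = 1) (hh : KLin K h) (hhd : dick h = 1) :
    g * h = h * g := by
  obtain ⟨s, hs, hsd⟩ := hS.refl_exists
  have hG : Orth.Good Q := ⟨hS.nd, .inr (by rw [hS.card]; rintro h4; obtain ⟨j, hj⟩ := hS.odd; omega)⟩
  have hext : ∀ a b : IsoGrp Q, (∀ x, ap a x = ap b x) → a = b := fun a b hab =>
    Subtype.ext (Units.ext (Matrix.toLin'.injective (LinearMap.ext hab)))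
  have hinvol : ∀ o : IsoGrp Q, KLin K o → dick o = -1 → o * o = 1 := fun o ho hd =>
    hext _ _ fun x => by rw [Orth.ap_mul, hS.involutive ho hd, Orth.ap_one]
  have hsinv : ∀ a : IsoGrp Q, KLin K a → dick a = 1 → s * a * s = a⁻¹ := fun a ha had => by
    have h1 := hinvol (s * a) (klin_mul hS hs ha) (by rw [Orth.dick_mul hG, hsd, had, mul_one])
    exact eq_inv_of_mul_eq_one_left (by rw [mul_assoc (s * a), h1])
  have hs2 := hinvol s hs hsd
  have h1 := hsinv (g * h) (klin_mul hS hg hh) (by rw [Orth.dick_mul hG, hgd, hhd, mul_one])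
  have h2 : s * (g * h) * s = (s * g * s) * (s * h * s) := by
    calc s * (g * h) * s = s * g * 1 * (h * s) := by simp [mul_assoc]
      _ = s * g * (s * s) * (h * s) := by rw [hs2]
      _ = (s * g * s) * (s * h * s) := by simp only [mul_assoc]
  rw [h2, hsinv g hg hgd, hsinv h hh hhd, _root_.mul_inv_rev] at h1
  have h3 := congrArg (·⁻¹) h1
  simp only [_root_.mul_inv_rev, inv_inv] at h3
  exact h3.symm

end SAField

/-- A field of odd degree half the dimension brings a decomposition or a quadratic field. -/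
theorem field_half (hQ : Q.polarBilin.Nondegenerate) {r : ℕ} (hr : r.Prime) (hro : Odd r)
    (hι : Fintype.card ι = 2 * r) {H : Subgroup (GL ι F)} (hH : H ≤ Geo.omegaGL ⇑Q)
    (hirr : Geo.ActsIrreducibly (Geo.matrixSet H)) {K : Subalgebra F (Matrix ι ι F)}
    (hK : Geo.IsFieldSubalgebra r K) (hadj : ∀ k ∈ K, adj (RingHom.id F) (gramQ Q) k ∈ K)
    (hle : H ≤ Geo.subalgebraNormalizer K) :
    FDecomp (RingHom.id F) (gramQ Q) (H ⊔ Geo.scalars ι F) ∨
      ∃ K' : Subalgebra F (Matrix ι ι F), Geo.IsFieldSubalgebra 2 K' ∧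
        (∀ k ∈ K', adj (RingHom.id F) (gramQ Q) k ∈ K') ∧ H ≤ Geo.subalgebraNormalizer K' := by
  classical
  have hr3 : 3 ≤ r := by
    have := hr.two_le
    rcases hro with ⟨j, hj⟩
    omega
  have : Nonempty ι := Fintype.card_pos_iff.mp (by omega)
  have : Finite (Matrix ι ι F) := inferInstanceAs (Finite (ι → ι → F))
  have hI := le_iso hH
  have hh := herm_gramQ hQ
  letI : Field K := (field_isField hK).toField
  have : FiniteDimensional F K := Module.Finite.of_finite
  let τ : K →ₐ[F] K :=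
    { toFun := fun x => ⟨adj (RingHom.id F) (gramQ Q) x, hadj _ x.2⟩
      map_one' := Subtype.ext (adj_one hh)
      map_mul' := fun x y => Subtype.ext (by
        show adj (RingHom.id F) (gramQ Q) ((x : Matrix ι ι F) * (y : Matrix ι ι F)) = _
        rw [adj_mul hh]
        exact hK.comm _ (hadj _ y.2) _ (hadj _ x.2))
      map_zero' := Subtype.ext adj_zero
      map_add' := fun x y => Subtype.ext (adj_add _ _)
      commutes' := fun c => Subtype.ext (by
        show adj (RingHom.id F) (gramQ Q) (algebraMap F (Matrix ι ι F) c) = algebraMap F (Matrix ι ι F) c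
        rw [Algebra.algebraMap_eq_smul_one, adj_smul, adj_one hh]; rfl) }
  have hfix : ∀ k ∈ K, adj (RingHom.id F) (gramQ Q) k = k := fun k hk => congrArg Subtype.val
    (involution_trivial (F := F) (L := K) (by rw [hK.finrank_eq]; exact hro) τ
      (fun x => Subtype.ext (adj_adj hh _)) ⟨k, hk⟩)
  have hS : SAField Q r K := ⟨hQ, hro, hι, hK, fun k hk u v => by
    rw [polar_eq_gram, form_adj hh, hfix k hk]⟩
  let H1 : Subgroup (GL ι F) :=
    { carrier := {g | g ∈ H ∧ ∀ k ∈ K, cj g k = k}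
      one_mem' := ⟨one_mem H, fun k _ => cj_one k⟩
      mul_mem' := fun {a b} ha hb => ⟨mul_mem ha.1 hb.1, fun k hk => by
        rw [cj_mul_apply, hb.2 k hk, ha.2 k hk]⟩
      inv_mem' := fun {a} ha => ⟨inv_mem ha.1, fun k hk => by
        nth_rw 1 [← ha.2 k hk]
        exact cj_inv_cj a k⟩ }
  have hcjK : ∀ g ∈ H, ∀ k ∈ K, cj g k ∈ K := fun g hg k hk => by
    rw [cj_apply]; exact ((hle hg) k).1 hk
  have hcomm1 : ∀ x ∈ H1, ∀ y ∈ H1, x * y = y * x := by
    intro x hx y hy
    have hlin : ∀ z : GL ι F, (hz : z ∈ H1) → KLin K ⟨z, hI hz.1⟩ := fun z hz k hk v => by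
      rw [Orth.ap_apply, Orth.ap_apply, Matrix.mulVec_mulVec, Matrix.mulVec_mulVec, (cj_eq_self_iff _ _).1 (hz.2 k hk)]
    have hd : ∀ z : GL ι F, (hz : z ∈ H1) → Orth.dick (⟨z, hI hz.1⟩ : IsoGrp Q) = 1 := fun z hz =>
      omega_dick hQ (by omega) (hH hz.1)
    exact congrArg Subtype.val (hS.even_comm (hlin x hx) (hd x hx) (hlin y hy) (hd y hy))
  set G := H ⊔ Geo.scalars ι F with hG
  let C : Subalgebra F (Matrix ι ι F) := Algebra.adjoin F (Geo.matrixSet H1 ∪ (K : Set (Matrix ι ι F)))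
  have hcC : ∀ a ∈ C, ∀ b ∈ C, a * b = b * a := by
    have hgen : ∀ a ∈ Geo.matrixSet H1 ∪ (K : Set (Matrix ι ι F)),
        ∀ b ∈ Geo.matrixSet H1 ∪ (K : Set (Matrix ι ι F)), Commute a b := by
      rintro a (⟨x, hx, rfl⟩ | ha) b (⟨y, hy, rfl⟩ | hb)
      · exact congrArg Units.val (hcomm1 x hx y hy)
      · exact (cj_eq_self_iff _ _).1 (hx.2 b hb)
      · exact ((cj_eq_self_iff _ _).1 (hy.2 a ha)).symm
      · exact hK.comm a ha b hb
    intro a ha b hb
    refine Algebra.commute_of_mem_adjoin_of_forall_mem_commute hb fun y hy => ?_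
    exact (Algebra.commute_of_mem_adjoin_of_forall_mem_commute ha fun x hx => (hgen y hy x hx)).symm
  have hCn : NormAlg G C := by
    intro g hg a ha
    obtain ⟨h, hhH, z, hz, rfl⟩ := Subgroup.mem_sup_of_normal_right.mp hg
    have hz1 : ∀ X : Matrix ι ι F, cj z X = X := fun X => by
      refine (cj_eq_self_iff _ _).2 ?_
      obtain ⟨c, hc⟩ := (Geo.mem_scalars_iff z).mp hz
      rw [hc, Matrix.smul_mul, Matrix.mul_smul, one_mul, mul_one]
    rw [show cj (h * z) a = cj h (cj z a) by simp [cj_mul_apply], hz1]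
    induction ha using Algebra.adjoin_induction with
    | mem y hy =>
      refine Algebra.subset_adjoin ?_
      rcases hy with ⟨x, hx, rfl⟩ | hy
      · refine .inl ⟨h * x * h⁻¹, ⟨mul_mem (mul_mem hhH hx.1) (inv_mem hhH), fun k hk => ?_⟩, (cj_coe h x).symm⟩
        have h1 := hx.2 _ (hcjK _ (inv_mem hhH) k hk)
        have h2 := congrArg (cj h) h1
        rw [cj_cj_inv] at h2
        simpa [cj_mul_apply] using h2
      · exact .inr (hcjK h hhH y hy)
    | algebraMap c => rw [AlgHom.commutes]; exact Subalgebra.algebraMap_mem _ c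
    | add a b _ _ ha hb => rw [map_add]; exact add_mem ha hb
    | mul a b _ _ ha hb => rw [map_mul]; exact mul_mem ha hb
  have hCadj : ∀ a ∈ C, adj (RingHom.id F) (gramQ Q) a ∈ C := by
    intro a ha
    induction ha using Algebra.adjoin_induction with
    | mem y hy =>
      refine Algebra.subset_adjoin ?_
      rcases hy with ⟨x, hx, rfl⟩ | hy
      · exact .inl ⟨x⁻¹, inv_mem hx, by rw [adj_gramQ, adjB_of_isometry hQ (hI hx.1)]⟩
      · exact .inr (hadj y hy)
    | algebraMap c =>
      rw [Algebra.algebraMap_eq_smul_one, adj_smul, adj_one hh]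
      exact Subalgebra.smul_mem _ (one_mem _) _
    | add a b _ _ ha hb => rw [adj_add]; exact add_mem ha hb
    | mul a b _ _ ha hb => rw [adj_mul hh]; exact mul_mem hb ha
  have hirrG := irred_sup_scalars hirr
  rcases field_or_idems hirrG hCn hcC with hfield | ⟨m, t, e, he⟩
  swap
  · exact .inl (decomp_of_idems hh (sim_gramQ hI) hirrG hcC hCadj he)
  refine .inr ?_
  have hKC : Subalgebra.toSubmodule K ≤ Subalgebra.toSubmodule C := fun x hx => Algebra.subset_adjoin (.inr hx)
  have hd := finrank_dvd_of_field hcC hfield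
  have hrC : r ≤ finrank F C := by
    rw [← hK.finrank_eq]
    exact Submodule.finrank_mono hKC
  by_cases heq : finrank F C = r
  · exfalso
    have hCK : Subalgebra.toSubmodule K = Subalgebra.toSubmodule C :=
      Submodule.eq_of_le_of_finrank_eq hKC (hK.finrank_eq.trans heq.symm)
    have hpm : ∀ x ∈ H1, ∃ c : F, (x : Matrix ι ι F) = c • 1 := by
      intro x hx
      have hxK : (x : Matrix ι ι F) ∈ K := by
        have h1 : (x : Matrix ι ι F) ∈ Subalgebra.toSubmodule C :=
          Algebra.subset_adjoin (.inl (mem_matrixSet hx))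
        rwa [← hCK] at h1
      have h1 : ((x⁻¹ : GL ι F) : Matrix ι ι F) = (x : Matrix ι ι F) := by
        rw [← adjB_of_isometry hQ (hI hx.1), ← adj_gramQ, hfix _ hxK]
      have h3 : (⟨(x : Matrix ι ι F), hxK⟩ : K) * ⟨(x : Matrix ι ι F), hxK⟩ = 1 := Subtype.ext (by
        show (x : Matrix ι ι F) * (x : Matrix ι ι F) = 1
        nth_rewrite 1 [← h1]
        exact Units.inv_mul x)
      rcases mul_self_eq_one_iff.mp h3 with h4 | h4
      · exact ⟨1, by rw [one_smul]; exact congrArg Subtype.val h4⟩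
      · exact ⟨-1, by rw [neg_smul, one_smul]; exact congrArg Subtype.val h4⟩
    let c : ∀ g ∈ H, K →ₐ[F] K := fun g hg => AlgHom.codRestrict ((cj g).comp K.val) K fun k =>
      hcjK g hg _ k.2
    let Idx := {φ : K →ₐ[F] K // ∃ g, ∃ hg : g ∈ H, c g hg = φ}
    let gg : Idx → GL ι F := fun φ => φ.2.choose
    have hgg : ∀ φ : Idx, ∃ hg : gg φ ∈ H, c (gg φ) hg = φ.1 := fun φ => φ.2.choose_spec
    obtain ⟨v, hv⟩ := exists_ne (0 : ι → F)
    let W := Submodule.span F (Set.range fun φ : Idx => (gg φ : Matrix ι ι F) *ᵥ v)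
    have hW : ∀ g ∈ H, ∀ w ∈ W, (g : Matrix ι ι F) *ᵥ w ∈ W := by
      intro g hg w hw
      induction hw using Submodule.span_induction with
      | mem w hw =>
        obtain ⟨φ, rfl⟩ := hw
        obtain ⟨hφ, hcφ⟩ := hgg φ
        set h := g * gg φ with hhdef
        have hh' : h ∈ H := mul_mem hg hφ
        let ψ : Idx := ⟨c h hh', h, hh', rfl⟩
        obtain ⟨hψ, hcψ⟩ := hgg ψ
        obtain ⟨a, ha⟩ := hpm ((gg ψ)⁻¹ * h) ⟨mul_mem (inv_mem hψ) hh', fun k hk => by
          have h1 : cj (gg ψ) k = cj h k := congrArg Subtype.val (AlgHom.congr_fun hcψ ⟨k, hk⟩)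
          rw [show cj ((gg ψ)⁻¹ * h) k = cj (gg ψ)⁻¹ (cj h k) by simp [cj_mul_apply], ← h1, cj_inv_cj]⟩
        have h2 : (h : Matrix ι ι F) = a • (gg ψ : Matrix ι ι F) := by
          rw [show h = gg ψ * ((gg ψ)⁻¹ * h) by rw [mul_inv_cancel_left], Units.val_mul, ha, Matrix.mul_smul,
            mul_one]
        show (g : Matrix ι ι F) *ᵥ ((gg φ : Matrix ι ι F) *ᵥ v) ∈ W
        rw [Matrix.mulVec_mulVec, ← Units.val_mul, ← hhdef, h2, Matrix.smul_mulVec]
        exact Submodule.smul_mem _ _ (Submodule.subset_span ⟨ψ, rfl⟩)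
      | zero => simp
      | add a b _ _ ha hb => rw [Matrix.mulVec_add]; exact add_mem ha hb
      | smul c a _ ha => rw [Matrix.mulVec_smul]; exact Submodule.smul_mem _ _ ha
    rcases irred_invariant hirr hW with h | h
    · let φ1 : Idx := ⟨c 1 (one_mem H), 1, one_mem H, rfl⟩
      have h1 : (gg φ1 : Matrix ι ι F) *ᵥ v ∈ W := Submodule.subset_span ⟨φ1, rfl⟩
      rw [h, Submodule.mem_bot] at h1
      refine hv (Matrix.mulVec_injective_iff_isUnit.2 (gg φ1).isUnit ?_)
      rw [h1, Matrix.mulVec_zero]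
    · have : Fintype (K →ₐ[F] K) := Fintype.ofFinite _
      have : Fintype Idx := Fintype.ofFinite _
      have h1 := finrank_range_le_card (R := F) (fun φ : Idx => (gg φ : Matrix ι ι F) *ᵥ v)
      change finrank F ↥W ≤ _ at h1
      rw [h, finrank_top, Orth.finrank_space, hι] at h1
      have h2 : Fintype.card Idx ≤ Fintype.card (K →ₐ[F] K) := Fintype.card_subtype_le _
      have h3 : Fintype.card (K →ₐ[F] K) = r := by
        have : Fintype K := Fintype.ofFinite K
        rw [← Fintype.card_congr (Equiv.ofBijective _ (FiniteField.bijective_frobeniusAlgHom_pow F K)),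
          Fintype.card_fin, hK.finrank_eq]
      omega
  have hC2 : finrank F C = 2 * r := by
    rw [hι] at hd
    obtain ⟨a, ha⟩ := hd
    rcases Nat.lt_or_ge a 2 with h | h
    · interval_cases a <;> omega
    · exfalso
      rcases (by omega : finrank F C > r ∨ finrank F C < r) with h' | h'
      · nlinarith
      · omega
  obtain ⟨K', -, hK', hnorm, hτ⟩ :=
    exists_degree_of_dvd hcC hfield Nat.prime_two ⟨r, hC2⟩
  exact ⟨K', hK', hτ (adj (RingHom.id F) (gramQ Q)) hCadj (fun x k => adj_pow hh x k),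
    le_sup_left.trans (hnorm G hCn).le_normalizer⟩

end Cfsg.Agent.Aschbacher
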