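/-
Orthogonal groups of three-dimensional factors over the field with three elements.
Main results: `orth_three_monomial`, `fdecomp_of_monomial`, `no_perfect_orth_three`.
-/
import Cfsg.Agent.Lib.Aschbacher.FormOrthOdd
import Cfsg.Agent.Lib.CharApp.Burnside

set_option autoImplicit false

namespace Cfsg.Agent.Aschbacher

open Matrix
open scoped commutatorElement
open Cfsg.Agent.PrimeDim

variable {ι : Type} [Fintype ι] [DecidableEq ι] {F : Type*} [Field F] [Fintype F]

theorem sq_eq_one_of_card_three (h3 : Fintype.card F = 3) {x : F} (hx : x ≠ 0) : x * x = 1 := by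
  have := FiniteField.pow_card_sub_one_eq_one x hx
  rw [h3] at this
  rw [← sq]
  exact this

/-- Over three elements a scalar congruence of 3×3 identity forms is an isometry. -/
theorem kappa_eq_one (h3 : Fintype.card F = 3) {b : Matrix (Fin 3) (Fin 3) F} {κ : F} (hκ : κ ≠ 0)
    (hb : bᵀ * b = κ • 1) : κ = 1 := by
  have h1 := congrArg Matrix.det hb
  rw [Matrix.det_mul, Matrix.det_transpose, Matrix.det_smul, Matrix.det_one, mul_one, Fintype.card_fin] at h1
  have hd : b.det ≠ 0 := fun h => by rw [h, mul_zero] at h1; exact pow_ne_zero 3 hκ h1.symm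
  rw [sq_eq_one_of_card_three h3 hd, pow_succ, sq, sq_eq_one_of_card_three h3 hκ, one_mul] at h1
  exact h1.symm

/-- Orthogonal 3×3 matrices over three elements are monomial. -/
theorem orth_three_monomial (h3 : Fintype.card F = 3) {b : Matrix (Fin 3) (Fin 3) F} (hb : bᵀ * b = 1) :
    ∃ p : Fin 3 → Fin 3, ∀ j, b (p j) j ≠ 0 ∧ ∀ l, l ≠ p j → b l j = 0 := by
  have h30 : (3 : F) = 0 := by
    have := FiniteField.cast_card_eq_zero F
    rw [h3] at this
    exact_mod_cast this
  have h20 : (2 : F) ≠ 1 := fun h => one_ne_zero (by linear_combination h : (1 : F) = 0)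
  have key : ∀ j, ∃ i, b i j ≠ 0 ∧ ∀ l, l ≠ i → b l j = 0 := by
    intro j
    have h1 := congrFun (congrFun hb j) j
    rw [Matrix.mul_apply, Fin.sum_univ_three, Matrix.one_apply_eq] at h1
    simp only [Matrix.transpose_apply] at h1
    by_cases ha : b 0 j = 0 <;> by_cases hc : b 1 j = 0 <;> by_cases he : b 2 j = 0
    · simp [ha, hc, he] at h1
    · exact ⟨2, he, fun l hl => by fin_cases l <;> simp_all⟩
    · exact ⟨1, hc, fun l hl => by fin_cases l <;> simp_all⟩
    · rw [ha, mul_zero, zero_add, sq_eq_one_of_card_three h3 hc, sq_eq_one_of_card_three h3 he] at h1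
      exact absurd (by linear_combination h1) h20
    · exact ⟨0, ha, fun l hl => by fin_cases l <;> simp_all⟩
    · rw [hc, mul_zero, add_zero, sq_eq_one_of_card_three h3 ha, sq_eq_one_of_card_three h3 he] at h1
      exact absurd (by linear_combination h1) h20
    · rw [he, mul_zero, add_zero, sq_eq_one_of_card_three h3 ha, sq_eq_one_of_card_three h3 hc] at h1
      exact absurd (by linear_combination h1) h20
    · rw [sq_eq_one_of_card_three h3 ha, sq_eq_one_of_card_three h3 hc, sq_eq_one_of_card_three h3 he] at h1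
      exact absurd (show (1 : F) = 0 by linear_combination h30 - h1) one_ne_zero
  choose p hp using key
  exact ⟨p, hp⟩

/-- A group of isometries that is monomial for an orthonormal basis preserves an orthogonal frame. -/
theorem fdecomp_of_monomial (h2 : 2 ≤ Fintype.card ι) {Φ : Matrix ι ι F} {H : Subgroup (GL ι F)} (P : GL ι F)
    {c : F} (hc : c ≠ 0) (hgram : (P : Matrix ι ι F)ᵀ * Φ * (P : Matrix ι ι F) = c • 1)
    (hmon : ∀ g ∈ H, ∀ x, ∃ (y : ι) (s : F),
      cj P⁻¹ (g : Matrix ι ι F) *ᵥ Pi.single x 1 = s • Pi.single y 1) :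
    FDecomp (RingHom.id F) Φ (H ⊔ Geo.scalars ι F) := by
  classical
  let φ := Fintype.equivFin ι
  let v : Fin (Fintype.card ι) → ι → F := fun l => (P : Matrix ι ι F) *ᵥ Pi.single (φ.symm l) 1
  have hli : LinearIndependent F v := by
    have h1 : LinearIndependent F fun l => (Pi.single (φ.symm l) 1 : ι → F) :=
      (Pi.linearIndependent_single_one ι F).comp _ φ.symm.injective
    exact h1.map' (Matrix.toLin' (P : Matrix ι ι F))
      (LinearMap.ker_eq_bot.mpr (Matrix.mulVec_injective_iff_isUnit.2 P.isUnit))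
  have hne : ∀ l, v l ≠ 0 := fun l => hli.ne_zero l
  let D : Fin (Fintype.card ι) → Submodule F (ι → F) := fun l => F ∙ v l
  have hmd : Geo.IsMDecomposition 1 D := by
    refine ⟨h2, one_pos, fun l => finrank_span_singleton (hne l), hli.iSupIndep_span_singleton, ?_⟩
    rw [← Submodule.span_range_eq_iSup]
    exact hli.span_eq_top_of_card_eq_finrank' (by rw [Fintype.card_fin, Module.finrank_fintype_fun_eq_card])
  have hpol : ∀ l l', Geo.formOfGram (RingHom.id F) Φ (v l) (v l') = if l = l' then c else 0 := by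
    intro l l'
    rw [formOfGram_mulVec, RingHom.coe_id, Matrix.map_id, hgram, ← RingHom.coe_id (α := F), formOfGram_single]
    simp [Matrix.one_apply]
  refine ⟨1, Fintype.card ι, D, mul_one _, ?_, Or.inl ⟨hmd, fun l w hw hw0 => ?_, fun l l' hll u hu w hw => ?_⟩⟩
  · refine sup_le (fun g hg => ?_) fun g hg => ⟨1, fun l => ?_⟩
    · have hkey : ∀ l, ∃ (l' : Fin (Fintype.card ι)) (s : F), s ≠ 0 ∧ (g : Matrix ι ι F) *ᵥ v l = s • v l' := by
        intro l
        obtain ⟨y, s, hys⟩ := hmon g hg (φ.symm l)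
        have h1 : (g : Matrix ι ι F) *ᵥ v l = s • v (φ y) := by
          calc (g : Matrix ι ι F) *ᵥ v l
              = (P : Matrix ι ι F) *ᵥ (cj P⁻¹ (g : Matrix ι ι F) *ᵥ Pi.single (φ.symm l) 1) := by
                simp only [v, Matrix.mulVec_mulVec, cj_apply, inv_inv, ← mul_assoc, Units.mul_inv, one_mul]
            _ = _ := by rw [hys, Matrix.mulVec_smul]; simp [v]
        refine ⟨φ y, s, fun hs => hne l ?_, h1⟩
        rw [hs, zero_smul] at h1
        exact Matrix.mulVec_injective_iff_isUnit.2 g.isUnit (h1.trans (Matrix.mulVec_zero _).symm)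
      choose π s hs hπ using hkey
      have hinj : Function.Injective π := by
        intro l l' hll
        by_contra hne'
        have h1 : (g : Matrix ι ι F) *ᵥ (s l' • v l - s l • v l') = 0 := by
          rw [Matrix.mulVec_sub, Matrix.mulVec_smul, Matrix.mulVec_smul, hπ, hπ, hll, smul_smul, smul_smul,
            mul_comm, sub_self]
        have h2' := Matrix.mulVec_injective_iff_isUnit.2 g.isUnit (h1.trans (Matrix.mulVec_zero _).symm)
        exact hne' (hli.eq_of_smul_apply_eq_smul_apply (s l') (s l) l l' (hs l') (sub_eq_zero.mp h2'))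
      refine ⟨Equiv.ofBijective π hinj.bijective_of_finite, fun l => ?_⟩
      rw [Equiv.ofBijective_apply]
      simp only [D, Submodule.map_span, Set.image_singleton, Matrix.toLin'_apply, hπ]
      exact Submodule.span_singleton_smul_eq (IsUnit.mk0 _ (hs l)) _
    · obtain ⟨b, hb⟩ := (Geo.mem_scalars_iff g).mp hg
      simp only [D, Submodule.map_span, Set.image_singleton, Matrix.toLin'_apply, hb, Matrix.smul_mulVec,
        Matrix.one_mulVec, Equiv.Perm.coe_one, id_eq]
      exact Submodule.span_singleton_smul_eq b.isUnit _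
  · obtain ⟨a, rfl⟩ := Submodule.mem_span_singleton.mp hw
    have ha : a ≠ 0 := fun h => hw0 (by rw [h, zero_smul])
    have hb := formOfGram_bilinear (F := F) Φ
    have h1 : Geo.formOfGram (RingHom.id F) Φ (a • v l) (v l) = a * c := by
      rw [hb.smul_left, hpol, if_pos rfl]
    have h1' : Geo.formOfGram (RingHom.id F) Φ (v l) (a • v l) = a * c := by
      rw [hb.smul_right, hpol, if_pos rfl]
    exact ⟨⟨v l, Submodule.mem_span_singleton_self _, by rw [h1']; exact mul_ne_zero ha hc⟩,
      ⟨v l, Submodule.mem_span_singleton_self _, by rw [h1]; exact mul_ne_zero ha hc⟩⟩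
  · obtain ⟨a, rfl⟩ := Submodule.mem_span_singleton.mp hu
    obtain ⟨b, rfl⟩ := Submodule.mem_span_singleton.mp hw
    have hb := formOfGram_bilinear (F := F) Φ
    rw [hb.smul_left, hb.smul_right, hpol, if_neg hll, mul_zero, mul_zero]

/-- Three-dimensional orthogonal similitude groups over three elements have no perfect subgroups. -/
theorem no_perfect_orth_three (h3 : Fintype.card F = 3) {J : Matrix (Fin 3) (Fin 3) F} (hJ : IsUnit J.det)
    (hsym : Jᵀ = J) {D : Subgroup (GL (Fin 3) F)} (hperf : ⁅D, D⁆ = D) (hsim : Sim (RingHom.id F) J D) :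
    D = ⊥ := by
  classical
  obtain ⟨a, A, ha, hA⟩ := symm_congr (two_ne_zero_of_odd_card (by rw [h3]; decide)) (by decide) hJ hsym
  let b : GL (Fin 3) F → Matrix (Fin 3) (Fin 3) F := fun g => cj A⁻¹ (g : Matrix (Fin 3) (Fin 3) F)
  have hb : ∀ g ∈ D, (b g)ᵀ * b g = 1 := by
    intro g hg
    obtain ⟨κ, hκ, hgJ⟩ := hsim g hg
    rw [RingHom.coe_id, Matrix.map_id] at hgJ
    have h1 : (A : Matrix (Fin 3) (Fin 3) F) * b g = (g : Matrix (Fin 3) (Fin 3) F) * A := by
      simp [b, cj_apply, ← mul_assoc]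
    have h4 : a • ((b g)ᵀ * b g) = (a * κ) • 1 := by
      calc a • ((b g)ᵀ * b g) = (b g)ᵀ * (a • 1) * b g := by simp
        _ = ((A : Matrix (Fin 3) (Fin 3) F) * b g)ᵀ * J * ((A : Matrix (Fin 3) (Fin 3) F) * b g) := by
          rw [← hA, Matrix.transpose_mul]; simp [mul_assoc]
        _ = (A : Matrix (Fin 3) (Fin 3) F)ᵀ * ((g : Matrix (Fin 3) (Fin 3) F)ᵀ * J * (g : Matrix (Fin 3) (Fin 3) F)) *
            (A : Matrix (Fin 3) (Fin 3) F) := by rw [h1, Matrix.transpose_mul]; simp [mul_assoc]
        _ = (a * κ) • 1 := by rw [hgJ, Matrix.mul_smul, Matrix.smul_mul, hA, smul_smul, mul_comm]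
    rw [← smul_smul] at h4
    have h5 : (b g)ᵀ * b g = κ • 1 := smul_right_injective _ ha h4
    rwa [kappa_eq_one h3 hκ h5, one_smul] at h5
  choose p hp using fun g : D => orth_three_monomial h3 (hb g g.2)
  have hmv : ∀ (g : D) j, b g *ᵥ Pi.single j 1 = b g (p g j) j • Pi.single (p g j) 1 := by
    intro g j
    ext l
    rw [Matrix.mulVec_single_one, Matrix.col_apply, Pi.smul_apply, smul_eq_mul]
    by_cases hl : l = p g j
    · subst hl; simp
    · rw [(hp g j).2 l hl, Pi.single_eq_of_ne hl, mul_zero]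
  have hbmul : ∀ g g' : GL (Fin 3) F, b (g * g') = b g * b g' := fun g g' => by
    show cj A⁻¹ _ = cj A⁻¹ _ * cj A⁻¹ _
    rw [← map_mul, Units.val_mul]
  have huniq : ∀ (g : D) (j i : Fin 3), b g i j ≠ 0 → i = p g j := fun g j i hi => by
    by_contra h; exact hi ((hp g j).2 i h)
  have hpmul : ∀ (g g' : D) j, p (g * g') j = p g (p g' j) := by
    intro g g' j
    refine (huniq (g * g') j _ ?_).symm
    have h1 : b (g * g' : D) *ᵥ Pi.single j 1 =
        (b g' (p g' j) j * b g (p g (p g' j)) (p g' j)) • Pi.single (p g (p g' j)) 1 := by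
      rw [Subgroup.coe_mul, hbmul, ← Matrix.mulVec_mulVec, hmv, Matrix.mulVec_smul, hmv, smul_smul]
    have h2 := congrFun h1 (p g (p g' j))
    rw [Matrix.mulVec_single_one, Matrix.col_apply, Pi.smul_apply, Pi.single_eq_same, smul_eq_mul, mul_one] at h2
    rw [h2]
    exact mul_ne_zero (hp g' j).1 (hp g _).1
  have hb1 : b 1 = 1 := by simp [b]
  have hp1 : ∀ j, p 1 j = j := fun j => (huniq 1 j j (by
    rw [OneMemClass.coe_one, hb1, Matrix.one_apply_eq]; exact one_ne_zero)).symm
  let φ : D →* Equiv.Perm (Fin 3) :=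
    { toFun := fun g => ⟨p g, p g⁻¹, fun j => by rw [← hpmul, inv_mul_cancel, hp1],
        fun j => by rw [← hpmul, mul_inv_cancel, hp1]⟩
      map_one' := Equiv.ext fun j => hp1 j
      map_mul' := fun g g' => Equiv.ext fun j => hpmul g g' j }
  have : Group.IsSolvable (Equiv.Perm (Fin 3)) :=
    CharApp.isSolvable_of_card_eq_prime_pow_mul 2 3 Nat.prime_two Nat.prime_three _ _
      (by rw [Nat.card_perm, Nat.card_eq_fintype_card, Fintype.card_fin]; rfl) 1 1 rfl
  have hφ : φ.range = ⊥ := by
    by_contra hne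
    have htop : ⁅(⊤ : Subgroup D), (⊤ : Subgroup D)⁆ = ⊤ := by
      refine Subgroup.map_injective D.subtype_injective ?_
      rw [Subgroup.map_commutator, ← MonoidHom.range_eq_map, Subgroup.range_subtype, hperf]
    refine (Group.IsSolvable.commutator_lt_of_ne_bot hne).ne ?_
    rw [MonoidHom.range_eq_map, ← Subgroup.map_commutator, htop]
  rw [eq_bot_iff, ← hperf, Subgroup.commutator_le]
  intro g hg g' hg'
  have hid : ∀ (g : D) (j : Fin 3), p g j = j := fun g j => by
    have h1 : φ g = 1 := by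
      rw [← Subgroup.mem_bot, ← hφ]; exact ⟨g, rfl⟩
    exact Equiv.congr_fun h1 j
  have hdiag : ∀ g : D, b g = Matrix.diagonal fun i => b g i i := fun g => by
    ext i j
    by_cases hij : i = j
    · subst hij; simp
    · rw [Matrix.diagonal_apply_ne _ hij, (hp g j).2 i (by rw [hid]; exact hij)]
  rw [Subgroup.mem_bot, commutatorElement_eq_one_iff_mul_comm]
  refine Units.ext (Function.LeftInverse.injective (g := cj A) (fun x => cj_cj_inv A x) ?_)
  show b (g * g') = b (g' * g)
  rw [hbmul, hbmul, hdiag ⟨g, hg⟩, hdiag ⟨g', hg'⟩, Matrix.diagonal_mul_diagonal, Matrix.diagonal_mul_diagonal]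
  congr 1
  funext i
  ring

end Cfsg.Agent.Aschbacher
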