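/-
Over F₃ the tensor stabilisers Sp_d ⊗ O_3 are not maximal (the argument of S5667, for every m).
Main results: `FrameThree.not_maximal`.
-/
import Cfsg.Agent.Lib.Transvect.TensorFrame
import Cfsg.Agent.Lib.Transvect.LagPair

set_option autoImplicit false
open Cfsg

namespace Cfsg.Agent.Aschbacher.FrameThree

open Cfsg.Agent.Transvect
open scoped Matrix

variable {F : Type*} [Field F]

lemma fog_eq {k : ℕ} {f : (Fin k → F) → (Fin k → F) → F} (hf : Cfsg.Geo.IsBilinearForm f)
    (x y : Fin k → F) : Cfsg.Geo.formOfGram id (Cfsg.Geo.gramMatrix f) x y = f x y := by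
  conv_rhs => rw [pi_eq_sum_univ' x, pi_eq_sum_univ' y, ← flin_apply hf]
  simp only [map_sum, LinearMap.sum_apply, LinearMap.smul_apply, map_smul, flin_apply, smul_eq_mul, Finset.mul_sum,
    Cfsg.Geo.formOfGram, Cfsg.Geo.gramMatrix, id_eq]
  refine Finset.sum_congr rfl fun a _ => Finset.sum_congr rfl fun b _ => ?_
  ring

variable [Fintype F] (hq : Fintype.card F = 3)
include hq

lemma pm_one {x : F} (hx : x ≠ 0) : x = 1 ∨ x = -1 := by
  have h1 := FiniteField.pow_card_sub_one_eq_one x hx
  rw [hq] at h1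
  exact sq_eq_one_iff.1 h1

lemma three_eq_zero : (3 : F) = 0 := by
  have hz := FiniteField.cast_card_eq_zero F
  rw [hq] at hz
  simpa using hz

lemma two_ne_zero' : (2 : F) ≠ 0 := fun h =>
  one_ne_zero (show (1 : F) = 0 by linear_combination three_eq_zero hq - h)

/-- An orthogonal frame of a symmetric form on F³ with all values equal. -/
lemma exists_frame {f : (Fin 3 → F) → (Fin 3 → F) → F} (hf : Cfsg.Geo.IsSymmetricForm f) :
    ∃ (u : Fin 3 → Fin 3 → F) (d : F), d ≠ 0 ∧ ∀ i j, f (u i) (u j) = if i = j then d else 0 := by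
  classical
  haveI : Invertible (2 : F) := invertibleOfNonzero (two_ne_zero' hq)
  let B : LinearMap.BilinForm F (Fin 3 → F) :=
    LinearMap.mk₂ F f hf.bilinear.add_left hf.bilinear.smul_left hf.bilinear.add_right
      hf.bilinear.smul_right
  obtain ⟨b, hb⟩ := LinearMap.BilinForm.exists_orthogonal_basis (B := B) ⟨fun x y => hf.symm x y⟩
  let e3 : Fin (Module.finrank F (Fin 3 → F)) ≃ Fin 3 := finCongr (by simp)
  set u0 : Fin 3 → Fin 3 → F := fun i => b (e3.symm i) with hu0
  have horth : ∀ i j, i ≠ j → f (u0 i) (u0 j) = 0 := fun i j h => hb (fun h' => h (e3.symm.injective h'))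
  have hne : ∀ i, f (u0 i) (u0 i) ≠ 0 := by
    intro i h0
    have hz : u0 i ≠ 0 := b.ne_zero _
    obtain ⟨-, x, hx⟩ := hf.nondegenerate _ hz
    apply hx
    have : flin hf.bilinear x = flin hf.bilinear x := rfl
    have hlin : ∀ k, B (u0 i) (b k) = 0 := fun k => by
      by_cases hk : e3.symm i = k
      · subst hk; exact h0
      · exact hb hk
    have : B (u0 i) = 0 := b.ext hlin
    exact LinearMap.congr_fun this x
  -- two of the three values agree
  obtain ⟨i, j, k, hij, hjk, hik, hval⟩ : ∃ i j k : Fin 3, i ≠ j ∧ j ≠ k ∧ i ≠ k ∧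
      f (u0 i) (u0 i) = f (u0 j) (u0 j) := by
    rcases pm_one hq (hne 0) with h0 | h0 <;> rcases pm_one hq (hne 1) with h1 | h1 <;>
      rcases pm_one hq (hne 2) with h2 | h2
    all_goals first
      | exact ⟨0, 1, 2, by decide, by decide, by decide, h0.trans h1.symm⟩
      | exact ⟨0, 2, 1, by decide, by decide, by decide, h0.trans h2.symm⟩
      | exact ⟨1, 2, 0, by decide, by decide, by decide, h1.trans h2.symm⟩
  by_cases hk : f (u0 k) (u0 k) = f (u0 i) (u0 i)
  · refine ⟨![u0 i, u0 j, u0 k], f (u0 i) (u0 i), hne i, fun a b => ?_⟩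
    fin_cases a <;> fin_cases b <;>
      simp [horth, hij, hjk, hik, hij.symm, hjk.symm, hik.symm, hval, hk]
  · have hsum : f (u0 i) (u0 i) + f (u0 k) (u0 k) = 0 := by
      rcases pm_one hq (hne i) with h1 | h1 <;> rcases pm_one hq (hne k) with h2 | h2 <;>
        simp [h1, h2] at hk ⊢
    refine ⟨![u0 i + u0 j, u0 i + (-1 : F) • u0 j, u0 k], f (u0 k) (u0 k), hne k, fun a b => ?_⟩
    have h3 := three_eq_zero hq
    fin_cases a <;> fin_cases b <;>
      simp only [Fin.reduceFinMk, Fin.isValue, Fin.zero_eta, Fin.mk_one, Matrix.cons_val, hf.bilinear.add_left, hf.bilinear.add_right, hf.bilinear.smul_left, hf.bilinear.smul_right,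
        horth i j hij, horth j i hij.symm, horth j k hjk, horth k j hjk.symm, horth i k hik,
        horth k i hik.symm, Fin.reduceEq, if_true, if_false, ← hval] <;>
      first
        | ring1
        | linear_combination (f (u0 i) (u0 i)) * h3 - hsum

omit hq

/-- Over F₃ a tensor stabiliser with a symmetric factor of dimension three is not maximal in Sp_2m. -/
theorem not_maximal {F : Type*} [Field F] [Fintype F] (m : ℕ) (hm : 1 ≤ m) (hq : Fintype.card F = 3) (n₁ : ℕ) (e : (Fin m ⊕ Fin m) ≃ Fin n₁ × Fin 3) (P : Matrix.GeneralLinearGroup (Fin m ⊕ Fin m) F) (f₁ : (Fin n₁ → F) → (Fin n₁ → F) → F) (f₂ : (Fin 3 → F) → (Fin 3 → F) → F) (hf₁ : Cfsg.Geo.IsSymplecticForm f₁) (hf₂ : Cfsg.Geo.IsSymmetricForm f₂) (hT : Cfsg.Geo.IsTensorFormStructure id (Cfsg.sympForm m F) f₁ f₂ e P) : ∃ K : Subgroup (Matrix.GeneralLinearGroup (Fin m ⊕ Fin m) F), Cfsg.Geo.tensorProductSubgroup n₁ 3 e P ⊓ Cfsg.spGL m F < K ∧ K < Cfsg.spGL m F := by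
  classical
  have hf := sympForm_isSymplectic (F := F) m
  obtain ⟨u, d, hd, hu⟩ := exists_frame hq hf₂
  obtain ⟨c, hc, htp⟩ := form_tp (σ := id) (fun x y => rfl) (fog_eq hf₁.bilinear) (fog_eq hf₂.bilinear) hT
  have hcard : m + m = n₁ * 3 := by simpa using Fintype.card_congr e
  have h01 : ∃ w : Fin n₁ → F, w ≠ 0 := by
    refine ⟨fun _ => 1, fun h => ?_⟩
    exact one_ne_zero (congrFun h ⟨0, by omega⟩)
  obtain ⟨w, hw⟩ := h01
  obtain ⟨⟨w0, hw0⟩, -⟩ := hf₁.nondegenerate w hw
  have hk : c * d * f₁ w0 w ≠ 0 := mul_ne_zero (mul_ne_zero hc hd) hw0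
  let φa : (Fin n₁ → F) →ₗ[F] F := (c * d) • flin hf₁.bilinear w
  -- isometries of the frame are monomial
  have hlines : ∀ A : GL (Fin 3) F, (∃ k : F, k ≠ 0 ∧ ∀ i j, f₂ (app A (u i)) (app A (u j)) = k * f₂ (u i) (u j)) →
      ∀ i, ∃ (j : Fin 3) (r : F), app A (u i) = r • u j := by
    rintro A ⟨k, hk0, hA⟩
    have hli : LinearIndependent F u := by
      refine Fintype.linearIndependent_iff.2 fun g hg i => ?_
      have h1 : flin hf₂.bilinear (u i) (∑ j, g j • u j) = 0 := by rw [hg, map_zero]
      rw [map_sum, Finset.sum_eq_single i (fun j _ hj => by simp [hu, hj])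
        (fun h => absurd (Finset.mem_univ i) h)] at h1
      simpa [hu, hd] using h1
    let Bu := basisOfLinearIndependentOfCardEqFinrank hli (by simp)
    let C : Matrix (Fin 3) (Fin 3) F := fun l i => Bu.repr (app A (u i)) l
    have hexp : ∀ i, app A (u i) = ∑ l, C l i • u l := fun i => by
      have h := Bu.sum_repr (app A (u i))
      simp only [Bu, coe_basisOfLinearIndependentOfCardEqFinrank] at h
      exact h.symm
    have hform : ∀ i j, f₂ (app A (u i)) (app A (u j)) = d * ∑ l, C l i * C l j := fun i j => by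
      rw [hexp i, hexp j]
      simp only [Fin.sum_univ_three, hf₂.bilinear.add_left, hf₂.bilinear.add_right,
        hf₂.bilinear.smul_left, hf₂.bilinear.smul_right, hu, Fin.reduceEq, if_true, if_false]
      ring
    have hCC : Cᵀ * C = k • (1 : Matrix (Fin 3) (Fin 3) F) := by
      ext i j
      have h1 := hA i j
      rw [hform, hu] at h1
      simp only [Matrix.mul_apply, Matrix.transpose_apply, Matrix.smul_apply, Matrix.one_apply, smul_eq_mul]
      apply mul_left_cancel₀ hd
      rw [h1]
      split_ifs <;> ring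
    have hk1 : k = 1 := by
      have h1 := congrArg Matrix.det hCC
      rw [Matrix.det_mul, Matrix.det_transpose, Matrix.det_smul, Matrix.det_one, mul_one,
        Fintype.card_fin] at h1
      have hdet : C.det ≠ 0 := fun h => by
        rw [h, mul_zero] at h1; exact pow_ne_zero 3 hk0 h1.symm
      rcases pm_one hq hk0 with h | h
      · exact h
      · rcases pm_one hq hdet with h' | h' <;>
          · rw [h, h'] at h1
            exact absurd (show (2 : F) = 0 by linear_combination h1) (two_ne_zero' hq)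
    intro i
    have h1 : C 0 i * C 0 i + C 1 i * C 1 i + C 2 i * C 2 i = 1 := by
      have := congrFun (congrFun hCC i) i
      simpa [Matrix.mul_apply, Matrix.transpose_apply, Fin.sum_univ_three, hk1] using this
    have hsq : ∀ x : F, x = 0 ∨ (x ≠ 0 ∧ x * x = 1) := fun x => by
      by_cases hx : x = 0
      · exact Or.inl hx
      · rcases pm_one hq hx with h | h <;> exact Or.inr ⟨hx, by rw [h]; norm_num⟩
    have h3 := three_eq_zero hq
    have h2 := two_ne_zero' hq
    rw [hexp i, Fin.sum_univ_three]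
    rcases hsq (C 0 i) with e0 | ⟨n0, e0⟩ <;> rcases hsq (C 1 i) with e1 | ⟨n1, e1⟩ <;>
      rcases hsq (C 2 i) with e2 | ⟨n2, e2⟩
    all_goals first
      | (refine ⟨0, C 0 i, ?_⟩; simp [e1, e2]; done)
      | (refine ⟨1, C 1 i, ?_⟩; simp [e0, e2]; done)
      | (refine ⟨2, C 2 i, ?_⟩; simp [e0, e1]; done)
      | (exfalso; rw [e0, e1, e2] at h1; refine one_ne_zero (α := F) ?_;
         first
           | linear_combination h1
           | linear_combination -h1
           | linear_combination h3 - h1)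
  refine exists_between_frame (f := Cfsg.sympForm m F) (J := fun k => (tp e P).flip (u k))
    (φ := fun a b => c * d * f₁ a b) (w := w) (w' := (c * d * f₁ w0 w)⁻¹ • w0) (r := 3) (by norm_num) φa
    (fun z => ⟨flin hf.bilinear z, fun x => rfl⟩) (fun x y z => hf.bilinear.add_right x y z) ?_
    (fun x => by simp [φa]) ?_ ?_ ?_ inf_le_right ?_ ?_
  · intro k l a b
    simp only [LinearMap.flip_apply]
    rw [htp, hu]
    split_ifs <;> ring
  · show c * d * f₁ w w = 0
    rw [hf₁.alternating, mul_zero]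
  · show c * d * f₁ ((c * d * f₁ w0 w)⁻¹ • w0) w = 1
    rw [hf₁.bilinear.smul_left]
    field_simp
  · show c * d * f₁ w ((c * d * f₁ w0 w)⁻¹ • w0) ≠ 0
    rw [hf₁.bilinear.smul_right, hf₁.skew w w0]
    simp [hc, hd, hw0]
  · intro z hz φz hφz
    have : φz = (1 : F) • flin hf.bilinear z := LinearMap.ext fun x => by simp [hφz]
    rw [this]
    exact mem_spGL_iff.2 (st_isIsom hf z 1)
  · intro T hT'
    obtain ⟨A, B, hAB⟩ := exists_app_tp hT'.1
    have hiso : ∀ a b x y, f₁ (app A a) (app A b) * f₂ (app B x) (app B y) = f₁ a b * f₂ x y :=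
      fun a b x y => by
        have h1 : Cfsg.sympForm m F (app T (tp e P a x)) (app T (tp e P b y)) =
            Cfsg.sympForm m F (tp e P a x) (tp e P b y) := mem_spGL_iff.1 hT'.2 _ _
        rw [hAB, hAB, htp, htp] at h1
        exact mul_left_cancel₀ hc h1
    have hne : f₁ (app A w0) (app A w) ≠ 0 := fun h => by
      have h1 := hiso w0 w (u 0) (u 0)
      rw [h, zero_mul, hu, if_pos rfl] at h1
      exact mul_ne_zero hw0 hd h1.symm
    choose σ r hr using hlines B ⟨f₁ w0 w / f₁ (app A w0) (app A w), div_ne_zero hw0 hne, fun i j => by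
      have h1 := hiso w0 w (u i) (u j)
      field_simp
      linear_combination h1⟩
    refine ⟨σ, r, app A, fun k x => ?_⟩
    simp only [LinearMap.flip_apply]
    rw [hAB, hr, map_smul]

end Cfsg.Agent.Aschbacher.FrameThree
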