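/-
SU_n(q) lies in no class 2 or class 4 subgroup.
Main results: `tens_not_transvection`, `not_su_le_decomposition`, `not_su_le_tensor`.
-/
import Cfsg.Agent.Lib.Aschbacher.Simple
import Cfsg.Agent.Lib.PrimeDim.UnitaryBasic

set_option autoImplicit false

namespace Cfsg.Agent.Aschbacher

open Matrix
open Cfsg.Agent.PrimeDim

variable {F : Type*} [Field F] {ι : Type} [Fintype ι] [DecidableEq ι]

theorem scalar_of_all_eigen {d : ℕ} (hd : 0 < d) {A : Matrix (Fin d) (Fin d) F}
    (h : ∀ x : Fin d → F, ∃ c : F, A *ᵥ x = c • x) : ∃ c : F, A = c • 1 := by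
  choose c hc using h
  let o : Fin d := ⟨0, hd⟩
  have key : ∀ i, c (Pi.single i 1) = c (Pi.single o 1) := by
    intro i
    rcases eq_or_ne i o with rfl | hio
    · rfl
    have h1 := hc (Pi.single i 1 + Pi.single o 1)
    rw [Matrix.mulVec_add, hc, hc] at h1
    have h2 := congrFun h1 i
    have h3 := congrFun h1 o
    simp [hio, Ne.symm hio] at h2 h3
    rw [h2, h3]
  refine ⟨c (Pi.single o 1), Matrix.ext fun a i => ?_⟩
  have h1 := congrFun (hc (Pi.single i 1)) a
  rw [key i] at h1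
  simpa [Matrix.one_apply, Pi.single_apply] using h1

/-- A pure tensor other than a scalar is not `1 + (rank one)`. -/
theorem tens_not_transvection {d t : ℕ} (hd : 0 < d) (ht : 2 ≤ t) (e : ι ≃ Fin d × Fin t)
    {A : Matrix (Fin d) (Fin d) F} {B : Matrix (Fin t) (Fin t) F} (v : ι → F)
    (h : ∀ x, ∃ c : F, tens e A B *ᵥ x - x = c • v) : ∃ c : F, A = c • 1 := by
  classical
  refine scalar_of_all_eigen hd fun x => ?_
  by_cases hx : x = 0
  · exact ⟨0, by simp [hx]⟩
  let T : (Fin t → F) → ι → F := fun y a => x (e a).1 * y (e a).2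
  have hT : ∀ y, tens e A B *ᵥ T y = fun a => (A *ᵥ x) (e a).1 * (B *ᵥ y) (e a).2 := by
    intro y
    ext a
    simp only [Matrix.mulVec, dotProduct, T, tens_apply, Finset.sum_mul_sum]
    rw [← e.symm.sum_comp, Fintype.sum_prod_type]
    simp only [Equiv.apply_symm_apply]
    exact Finset.sum_congr rfl fun i _ => Finset.sum_congr rfl fun k _ => by ring
  choose c hc using fun y => h (T y)
  obtain ⟨y, hy, hy0⟩ : ∃ y : Fin t → F, y ≠ 0 ∧ tens e A B *ᵥ T y - T y = 0 := by
    let l : Fin t := ⟨0, by omega⟩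
    let l' : Fin t := ⟨1, by omega⟩
    have hll : l' ≠ l := by simp [l, l']
    by_cases h0 : c (Pi.single l 1) = 0
    · exact ⟨Pi.single l 1, by simp, by rw [hc, h0, zero_smul]⟩
    refine ⟨c (Pi.single l' 1) • Pi.single l 1 - c (Pi.single l 1) • Pi.single l' 1, fun h1 => h0 ?_, ?_⟩
    · simpa [hll] using congrFun h1 l'
    · have hlin : ∀ (p q : F) (y z : Fin t → F), T (p • y - q • z) = p • T y - q • T z := by
        intro p q y z; ext a; simp [T]; ring
      rw [hlin, Matrix.mulVec_sub, Matrix.mulVec_smul, Matrix.mulVec_smul, sub_sub_sub_comm, ← smul_sub,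
        ← smul_sub, hc, hc, smul_smul, smul_smul, mul_comm, sub_self]
  obtain ⟨k, hk⟩ : ∃ k, y k ≠ 0 := Function.ne_iff.mp hy
  obtain ⟨i, hi⟩ : ∃ i, x i ≠ 0 := Function.ne_iff.mp hx
  rw [sub_eq_zero, hT] at hy0
  have h1 : ∀ a, (A *ᵥ x) a * (B *ᵥ y) k = x a * y k := fun a => by
    simpa [T] using congrFun hy0 (e.symm (a, k))
  have hB : (B *ᵥ y) k ≠ 0 := fun h0 => mul_ne_zero hi hk (by rw [← h1, h0, mul_zero])
  refine ⟨y k / (B *ᵥ y) k, funext fun a => ?_⟩
  rw [Pi.smul_apply, smul_eq_mul, div_mul_eq_mul_div, eq_div_iff hB, h1, mul_comm]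

variable [Fintype F] {n q : ℕ}

local notation "hq" => Cfsg.hermForm n F q
local notation "Γ" => Cfsg.GU n F q ⊓ Geo.specialLinear (Fin n) F

/-- A unitary transvection preserves no tensor decomposition. -/
theorem utq_not_mem_tensor (hF : Fintype.card F = q ^ 2) {d t : ℕ} (hd : 2 ≤ d) (ht : 2 ≤ t)
    (e : Fin n ≃ Fin d × Fin t) (P : GL (Fin n) F) {v : Fin n → F} (hv : v ≠ 0) (hv0 : hq v v = 0) {a : F}
    (ha0 : a ≠ 0) : utq hF v a ∉ Geo.tensorProductSubgroup d t e P := by
  intro hle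
  obtain ⟨A, B, hAB⟩ := (mem_tensorProductSubgroup_iff e P _).mp hle
  have hPi : ∀ x : Fin n → F, ((P⁻¹ : GL (Fin n) F) : Matrix (Fin n) (Fin n) F) *ᵥ
      ((P : Matrix (Fin n) (Fin n) F) *ᵥ x) = x := fun x => by
    rw [Matrix.mulVec_mulVec, Units.inv_mul, Matrix.one_mulVec]
  have hT : tens e (A : Matrix (Fin d) (Fin d) F) (B : Matrix (Fin t) (Fin t) F)
      = cj P⁻¹ (utq hF v a : Matrix (Fin n) (Fin n) F) := by rw [hAB, cj_inv_cj]
  have hact : ∀ x, tens e (A : Matrix (Fin d) (Fin d) F) (B : Matrix (Fin t) (Fin t) F) *ᵥ x - x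
      = (a * hq ((P : Matrix (Fin n) (Fin n) F) *ᵥ x) v) •
        (((P⁻¹ : GL (Fin n) F) : Matrix (Fin n) (Fin n) F) *ᵥ v) := fun x => by
    rw [hT, cj_apply, inv_inv, ← Matrix.mulVec_mulVec, ← Matrix.mulVec_mulVec, utq_mulVec hF hv0,
      Matrix.mulVec_add, hPi, Matrix.mulVec_smul, add_sub_cancel_left]
  have hh : ∀ x, ∃ c : F, tens e (A : Matrix (Fin d) (Fin d) F) (B : Matrix (Fin t) (Fin t) F) *ᵥ x - x
      = c • (((P⁻¹ : GL (Fin n) F) : Matrix (Fin n) (Fin n) F) *ᵥ v) := fun x => ⟨_, hact x⟩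
  obtain ⟨c, hc⟩ := tens_not_transvection (by omega) ht e _ hh
  obtain ⟨c', hc'⟩ := tens_not_transvection (e := e.trans (Equiv.prodComm _ _)) (by omega) hd
    (A := (B : Matrix (Fin t) (Fin t) F)) (B := (A : Matrix (Fin d) (Fin d) F)) _ (fun x => by
      have he : tens (e.trans (Equiv.prodComm _ _)) (B : Matrix (Fin t) (Fin t) F) (A : Matrix (Fin d) (Fin d) F)
          = tens e (A : Matrix (Fin d) (Fin d) F) (B : Matrix (Fin t) (Fin t) F) := by
        ext i j; simp [tens_apply, mul_comm]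
      rw [he]; exact hh x)
  have hu : (utq hF v a : Matrix (Fin n) (Fin n) F) = (c * c') • 1 := by
    rw [hAB, hc, hc']
    have : tens e (c • (1 : Matrix (Fin d) (Fin d) F)) (c' • (1 : Matrix (Fin t) (Fin t) F))
        = (c * c') • (1 : Matrix (Fin n) (Fin n) F) := by
      ext i j
      rw [← tens_one (F := F) e]
      simp [tens_apply]
      ring
    rw [this, map_smul, map_one]
  -- a transvection is not scalar
  obtain ⟨x, hx⟩ := ((hermForm_unitary hF).nondegenerate v hv).1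
  have h1 := utq_mulVec hF hv0 a v
  rw [hu, Matrix.smul_mulVec, Matrix.one_mulVec, hv0, mul_zero, zero_smul, add_zero] at h1
  have h2 := utq_mulVec hF hv0 a x
  rw [hu, Matrix.smul_mulVec, Matrix.one_mulVec] at h2
  have hcc : c * c' = 1 := by
    obtain ⟨k, hk⟩ : ∃ k, v k ≠ 0 := Function.ne_iff.mp hv
    have := congrFun h1 k
    simpa [hk] using this
  rw [hcc, one_smul] at h2
  obtain ⟨k, hk⟩ : ∃ k, v k ≠ 0 := Function.ne_iff.mp hv
  have := congrFun h2 k
  simp [ha0, hx, hk] at this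

/-- SU_n(q) preserves no tensor decomposition. -/
theorem not_su_le_tensor (hF : Fintype.card F = q ^ 2) (h3 : 3 ≤ n) {d t : ℕ} (hd : 2 ≤ d) (ht : 2 ≤ t)
    (e : Fin n ≃ Fin d × Fin t) (P : GL (Fin n) F) : ¬ Γ ≤ Geo.tensorProductSubgroup d t e P := by
  intro hle
  obtain ⟨v, hv, hv0⟩ := exists_isotropic_vec hF h3
  obtain ⟨a, ha0, ha⟩ := Unitary.exists_skew hF
  exact utq_not_mem_tensor hF hd ht e P hv hv0 ha0 (hle (utq_mem hF hv0 ha))

/-- SU_n(q) preserves no decomposition into subspaces of dimension at least two. -/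
theorem not_su_le_decomposition (hF : Fintype.card F = q ^ 2) (h3 : 3 ≤ n) {m t : ℕ} (hm : 2 ≤ m)
    {D : Fin t → Submodule F (Fin n → F)} (hD : Geo.IsMDecomposition m D) :
    ¬ Γ ≤ Geo.decompositionStabilizer D := by
  intro hle
  have H := Unitary.hermForm_isHerm hF n
  obtain ⟨a, ha0, ha⟩ := Unitary.exists_skew hF
  have hmem : ∀ v x : Fin n → F,
      x ∈ LinearMap.ker (Transvect.ufl (hermForm_unitary hF) v) ↔ hq x v = 0 := fun v x => Iff.rfl
  have hfix : ∀ v, hq v v = 0 → ∀ i, ∀ x ∈ D i, (a * hq x v) • v ∈ D i := by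
    intro v hv
    obtain ⟨π, hπ⟩ := hle (utq_mem hF hv ha)
    have himg : ∀ i, ∀ x ∈ D i, x + (a * hq x v) • v ∈ D (π i) := fun i x hx => by
      rw [← hπ i]
      exact ⟨x, hx, by rw [Matrix.toLin'_apply]; exact utq_mulVec hF hv a x⟩
    intro i
    have hπi : π i = i := by
      by_contra hne
      have hinj : Function.Injective ((Transvect.ufl (hermForm_unitary hF) v).domRestrict (D i)) := by
        rw [← LinearMap.ker_eq_bot, Submodule.eq_bot_iff]
        intro x hx
        have hx0 : hq (x : Fin n → F) v = 0 := hx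
        have h1 := himg i x x.2
        rw [hx0, mul_zero, zero_smul, add_zero] at h1
        exact Subtype.ext (Submodule.disjoint_def.mp (hD.indep.pairwiseDisjoint hne) _ h1 x.2)
      have h2 := LinearMap.finrank_le_finrank_of_injective hinj
      rw [hD.finrank_eq, Module.finrank_self] at h2
      omega
    intro x hx
    have h1 := himg i x hx
    rw [hπi] at h1
    simpa using (D i).sub_mem h1 hx
  have hpart : ∀ v, hq v v = 0 → ∃ i, v ∈ D i := by
    intro v hv
    by_cases hv0 : v = 0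
    · exact ⟨⟨0, by have := hD.two_le; omega⟩, hv0 ▸ zero_mem _⟩
    obtain ⟨i, x, hx, hxv⟩ : ∃ i, ∃ x ∈ D i, hq x v ≠ 0 := by
      by_contra hc
      simp only [not_exists, not_and, not_not] at hc
      obtain ⟨y, hy⟩ := ((hermForm_unitary hF).nondegenerate v hv0).1
      refine hy ((hmem v y).mp ?_)
      have hle' : iSup D ≤ LinearMap.ker (Transvect.ufl (hermForm_unitary hF) v) :=
        iSup_le fun i x hx => (hmem v x).mpr (hc i x hx)
      exact hle' (hD.iSup_eq_top ▸ Submodule.mem_top)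
    refine ⟨i, ?_⟩
    have := (D i).smul_mem (a * hq x v)⁻¹ (hfix v hv i x hx)
    rwa [smul_smul, inv_mul_cancel₀ (mul_ne_zero ha0 hxv), one_smul] at this
  obtain ⟨v₀, hv₀, hv₀0⟩ := exists_isotropic_vec hF h3
  obtain ⟨i₀, hi₀⟩ := hpart v₀ hv₀0
  have hall : ∀ w, hq w w = 0 → w ∈ D i₀ := by
    intro w hw
    obtain ⟨j, hj⟩ := hpart w hw
    by_cases hij : j = i₀
    · exact hij ▸ hj
    by_cases hw0 : w = 0
    · exact hw0 ▸ zero_mem _
    have hdis : ∀ k l : Fin t, k ≠ l → ∀ x, x ∈ D k → x ∈ D l → x = 0 := fun k l hkl x h1 h2 =>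
      Submodule.disjoint_def.mp (hD.indep.pairwiseDisjoint hkl) x h1 h2
    -- isotropic vectors of different members are orthogonal
    have horth : hq v₀ w = 0 := by
      by_contra hne
      refine hw0 (hdis j i₀ hij w hj ?_)
      have := (D i₀).smul_mem (a * hq v₀ w)⁻¹ (hfix w hw i₀ v₀ hi₀)
      rwa [smul_smul, inv_mul_cancel₀ (mul_ne_zero ha0 hne), one_smul] at this
    obtain ⟨k, hk⟩ := hpart (v₀ + w) (by
      rw [H.add_left, H.add_right hF, H.add_right hF, hv₀0, hw, horth, (H.eq_zero_symm hF).mp horth]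
      simp)
    exfalso
    by_cases hki : k = i₀
    · refine hw0 (hdis j i₀ hij w hj ?_)
      rw [← add_sub_cancel_left v₀ w]
      exact (D i₀).sub_mem (hki ▸ hk) hi₀
    by_cases hkj : k = j
    · refine hv₀ (hdis i₀ j (Ne.symm hij) v₀ hi₀ ?_)
      rw [← add_sub_cancel_right v₀ w]
      exact (D j).sub_mem (hkj ▸ hk) hj
    have h1 : v₀ + w ∈ ⨆ l ≠ k, D l := add_mem
      (Submodule.mem_iSup_of_mem i₀ (Submodule.mem_iSup_of_mem (Ne.symm hki) hi₀))
      (Submodule.mem_iSup_of_mem j (Submodule.mem_iSup_of_mem (Ne.symm hkj) hj))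
    have h2 := Submodule.disjoint_def.mp (hD.indep k) _ hk h1
    refine hw0 (hdis j i₀ hij w hj ?_)
    rw [show w = -v₀ from eq_neg_of_add_eq_zero_right h2]
    exact (D i₀).neg_mem hi₀
  have htop := eq_top_of_all_isotropic hF h3 _ hall
  obtain ⟨l, hl⟩ : ∃ l : Fin t, l ≠ i₀ := by
    have : Nontrivial (Fin t) := Fin.nontrivial_iff_two_le.mpr hD.two_le
    exact exists_ne i₀
  have h1 := hD.indep.pairwiseDisjoint hl
  have h2 : D l = ⊥ := by
    rw [Function.onFun, htop] at h1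
    exact disjoint_top.mp h1
  have h3' := hD.finrank_eq l
  rw [h2, finrank_bot] at h3'
  omega

end Cfsg.Agent.Aschbacher
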