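/-
A realisable subgroup of a unitary group carries the form: class 5 in every dimension.
Main results: `quad_zero_char_two`, `su_subfield_outcome`.
-/
import Cfsg.Agent.Lib.PrimeDim.UnitaryCases

set_option autoImplicit false

namespace Cfsg.Agent.Aschbacher

open Matrix
open Cfsg.Agent.PrimeDim

variable {F : Type*} [Field F] [Fintype F] {ι : Type} [Fintype ι] [DecidableEq ι]

/-- In characteristic two an invariant symmetric matrix of an irreducible group is alternating. -/
theorem quad_zero_char_two (h2 : (2 : F) = 0) (hn : 2 ≤ Fintype.card ι) {P : Subgroup (GL ι F)}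
    (hirr : Geo.ActsIrreducibly (Geo.matrixSet P)) {G : Matrix ι ι F} (hsym : Gᵀ = G)
    (hinv : ∀ x ∈ P, (x : Matrix ι ι F)ᵀ * G * (x : Matrix ι ι F) = G) (v : ι → F) : v ⬝ᵥ G *ᵥ v = 0 := by
  classical
  let Q : (ι → F) → F := fun u => u ⬝ᵥ G *ᵥ u
  have hsym' : ∀ u w : ι → F, w ⬝ᵥ G *ᵥ u = u ⬝ᵥ G *ᵥ w := fun u w => by
    rw [Matrix.dotProduct_mulVec, ← Matrix.mulVec_transpose, hsym, dotProduct_comm]
  have hadd : ∀ u w, Q (u + w) = Q u + Q w := fun u w => by
    simp only [Q, Matrix.mulVec_add, add_dotProduct, dotProduct_add, hsym' u w]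
    linear_combination (u ⬝ᵥ G *ᵥ w) * h2
  have hsmul : ∀ (c : F) u, Q (c • u) = c ^ 2 * Q u := fun c u => by
    simp [Q, Matrix.mulVec_smul, dotProduct_smul, smul_dotProduct]; ring
  let W : Submodule F (ι → F) :=
    { carrier := {u | Q u = 0}
      zero_mem' := by simp [Q]
      add_mem' := fun {a b} ha hb => by
        show Q (a + b) = 0
        rw [hadd, show Q a = 0 from ha, show Q b = 0 from hb, add_zero]
      smul_mem' := fun c u hu => by
        show Q (c • u) = 0
        rw [hsmul, show Q u = 0 from hu, mul_zero] }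
  have hmem : ∀ u, u ∈ W ↔ Q u = 0 := fun _ => Iff.rfl
  have hW : ∀ s ∈ Geo.matrixSet P, W.map (Matrix.toLin' s) ≤ W := by
    rintro _ ⟨x, hx, rfl⟩
    rw [mapsTo_iff_mulVec]
    intro w hw
    rw [hmem] at hw ⊢
    show ((x : Matrix ι ι F) *ᵥ w) ⬝ᵥ G *ᵥ ((x : Matrix ι ι F) *ᵥ w) = 0
    rw [← hw]
    show _ = w ⬝ᵥ G *ᵥ w
    conv_rhs => rw [← hinv x hx]
    simp [← Matrix.mulVec_mulVec, Matrix.dotProduct_mulVec, Matrix.vecMul_transpose]
  rcases hirr W hW with h | h
  swap
  · exact (hmem v).mp (h ▸ Submodule.mem_top)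
  exfalso
  obtain ⟨i⟩ : Nonempty ι := Fintype.card_pos_iff.mp (by omega)
  obtain ⟨j, hj⟩ := Fintype.exists_ne_of_one_lt_card (by omega) i
  obtain ⟨p, hp⟩ := CharP.exists F
  obtain rfl : p = 2 := by
    have : ((2 : ℕ) : F) = 0 := by exact_mod_cast h2
    exact (Nat.prime_dvd_prime_iff_eq (CharP.char_is_prime F p) Nat.prime_two).mp
      ((CharP.cast_eq_zero_iff F p 2).mp this)
  have : ExpChar F 2 := ExpChar.prime Nat.prime_two
  have hQi : Q (Pi.single i 1) ≠ 0 := fun h0 => by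
    have : (Pi.single i 1 : ι → F) ∈ W := (hmem _).mpr h0
    rw [h, Submodule.mem_bot] at this
    simpa using congrFun this i
  obtain ⟨a, ha⟩ := (Finite.injective_iff_surjective.mp (frobenius F 2).injective)
    (Q (Pi.single j 1) / Q (Pi.single i 1))
  rw [frobenius_def] at ha
  have hw : a • (Pi.single i 1 : ι → F) + Pi.single j 1 ∈ W := by
    rw [hmem, hadd, hsmul, ha, div_mul_cancel₀ _ hQi]
    linear_combination Q (Pi.single j 1) * h2
  rw [h, Submodule.mem_bot] at hw
  simpa [hj] using congrFun hw j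

variable {n q : ℕ}

local notation "hq" => Cfsg.hermForm n F q

/-- A realisable normal spanning subgroup: subfield of odd index, or of index two of either type. -/
theorem su_subfield_outcome (hF : Fintype.card F = q ^ 2) (hn : 2 ≤ n)
    {H P : Subgroup (GL (Fin n) F)} (hHP : NormBy H P) (hPU : P ≤ Cfsg.GU n F q)
    (hspan : Submodule.span F (Geo.matrixSet P) = ⊤) (hirr : Geo.ActsAbsolutelyIrreducibly (Geo.matrixSet P))
    {F₀ : Subfield F} (hF₀ : F₀ ≠ ⊤) (hreal : Geo.RealisableOver F₀ (Geo.matrixSet P)) :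
    (∃ (F₁ : Subfield F) (r : ℕ) (B : GL (Fin n) F), r.Prime ∧ Odd r ∧ Fintype.card F = Nat.card F₁ ^ r ∧
      F₁ ≠ ⊤ ∧ Geo.IsFormRationalStructure hq F₁ 1 B ∧ H ≤ Geo.subfieldSubgroup F₁ B) ∨
    (Odd q ∧ ∃ (F₁ : Subfield F) (B : GL (Fin n) F), Fintype.card F = Nat.card F₁ ^ 2 ∧
      F₁ ≠ ⊤ ∧ Geo.IsFormRationalStructure hq F₁ 1 B ∧ H ≤ Geo.subfieldSubgroup F₁ B) ∨
    (∃ (F₁ : Subfield F) (B : GL (Fin n) F) (ζ : F), Fintype.card F = Nat.card F₁ ^ 2 ∧ F₁ ≠ ⊤ ∧
      ζ ≠ 0 ∧ ζ + ζ ^ q = 0 ∧ Geo.IsFormRationalStructure hq F₁ ζ B ∧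
      (∀ u : Fin n → F, (∀ i, u i ∈ F₁) →
        hq ((B : Matrix (Fin n) (Fin n) F) *ᵥ u) ((B : Matrix (Fin n) (Fin n) F) *ᵥ u) = 0) ∧
      H ≤ Geo.subfieldSubgroup F₁ B) := by
  classical
  have : Nonempty (Fin n) := ⟨⟨0, by omega⟩⟩
  obtain ⟨F₁, r, B, hr, hcard, hne, -, hB, hle⟩ := le_subfield_of_realisable hHP hspan hF₀ hreal
  set σ := Unitary.conjHom hF with hσ
  have hσq : ∀ a, σ a = a ^ q := fun a => conjHom_apply' hF a
  have hσmem : ∀ a ∈ F₁, σ a ∈ F₁ := fun a ha => by rw [hσq]; exact pow_mem ha q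
  have hσσ : ∀ a, σ (σ a) = a := fun a => Unitary.pow_q_pow_q hF a
  set Bi : Matrix (Fin n) (Fin n) F := ((B⁻¹ : GL (Fin n) F) : Matrix (Fin n) (Fin n) F) with hBi
  set Bv : Matrix (Fin n) (Fin n) F := (B : Matrix (Fin n) (Fin n) F) with hBv
  set G' : Matrix (Fin n) (Fin n) F := Biᵀ * Bi.map σ with hG'
  have hBiB : Bi * Bv = 1 := Units.inv_mul B
  have hBBi : Bv * Bi = 1 := Units.mul_inv B
  have hG'det : G'.det ≠ 0 := by
    rw [hG', Matrix.det_mul, Matrix.det_transpose]
    exact mul_ne_zero (Matrix.GeneralLinearGroup.det B⁻¹).ne_zero (isUnit_det_map σ B⁻¹).ne_zero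
  have hcjB : ∀ x : GL (Fin n) F,
      Bv * (x : Matrix (Fin n) (Fin n) F) = cj B (x : Matrix (Fin n) (Fin n) F) * Bv := fun x => by
    rw [cj_apply, ← hBv, ← hBi, mul_assoc, hBiB, mul_one]
  have hinv' : ∀ x ∈ P, (cj B (x : Matrix (Fin n) (Fin n) F))ᵀ * G' * (cj B (x : Matrix (Fin n) (Fin n) F)).map σ
      = G' := by
    intro x hx
    have h1 := gram_of_mem_GU hF (hPU hx)
    rw [mul_one] at h1
    have e1 : Bi * cj B (x : Matrix (Fin n) (Fin n) F) = (x : Matrix (Fin n) (Fin n) F) * Bi := by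
      rw [cj_apply, ← hBi, ← hBv, ← mul_assoc, ← mul_assoc, hBiB, one_mul]
    calc _ = (Bi * cj B (x : Matrix (Fin n) (Fin n) F))ᵀ * (Bi * cj B (x : Matrix (Fin n) (Fin n) F)).map σ := by
          simp [hG', Matrix.transpose_mul, Matrix.map_mul, mul_assoc]
      _ = Biᵀ * ((x : Matrix (Fin n) (Fin n) F)ᵀ * (x : Matrix (Fin n) (Fin n) F).map σ) * Bi.map σ := by
          rw [e1]; simp [Matrix.transpose_mul, Matrix.map_mul, mul_assoc]
      _ = G' := by rw [h1, mul_one]
  -- a rational invariant matrix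
  obtain ⟨i₀, j₀, hne0⟩ : ∃ i j, G' i j ≠ 0 := by
    by_contra hc
    simp only [not_exists, not_not] at hc
    exact hG'det (by rw [show G' = 0 from Matrix.ext hc, Matrix.det_zero])
  obtain ⟨L, hL⟩ : ∃ L : F →ₗ[F₁] F₁, L (G' i₀ j₀) ≠ 0 := by
    by_contra hc
    simp only [not_exists, not_not] at hc
    exact hne0 (Module.forall_dual_apply_eq_zero_iff F₁ _ |>.mp hc)
  set G0 : Matrix (Fin n) (Fin n) F := G'.map (fun a => (L a : F)) with hG0
  have hG0mem : ∀ i j, G0 i j ∈ F₁ := fun i j => (L (G' i j)).2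
  have hLmul : ∀ c ∈ F₁, ∀ a, (L (c * a) : F) = c * L a := by
    intro c hc a
    have := L.map_smul ⟨c, hc⟩ a
    rw [show c * a = (⟨c, hc⟩ : F₁) • a from rfl, this]
    rfl
  have hmap : ∀ (A M C : Matrix (Fin n) (Fin n) F), (∀ i j, A i j ∈ F₁) → (∀ i j, C i j ∈ F₁) →
      (A * M * C).map (fun a => (L a : F)) = A * M.map (fun a => (L a : F)) * C := by
    intro A M C hA hC
    ext i j
    simp only [Matrix.map_apply, Matrix.mul_apply, map_sum, AddSubmonoidClass.coe_finsetSum, Finset.sum_mul]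
    refine Finset.sum_congr rfl fun k _ => Finset.sum_congr rfl fun l _ => ?_
    rw [show A i l * M l k * C k j = (A i l * C k j) * M l k by ring, hLmul _ (mul_mem (hA i l) (hC k j))]
    ring
  have hinv0 : ∀ x ∈ P, (cj B (x : Matrix (Fin n) (Fin n) F))ᵀ * G0 * (cj B (x : Matrix (Fin n) (Fin n) F)).map σ
      = G0 := by
    intro x hx
    conv_rhs => rw [hG0, ← hinv' x hx]
    rw [hmap ((cj B (x : Matrix (Fin n) (Fin n) F))ᵀ) G' ((cj B (x : Matrix (Fin n) (Fin n) F)).map σ)
      (fun i j => hB x hx j i) (fun i j => hσmem _ (hB x hx i j))]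
  obtain ⟨c, hc⟩ := invariant_unique hirr.2 σ (G := 1) (G' := Bvᵀ * G0 * Bv.map σ) (by simp)
    (fun x hx => gram_of_mem_GU hF (hPU hx)) (by
      intro x hx
      calc _ = (Bv * (x : Matrix (Fin n) (Fin n) F))ᵀ * G0 * (Bv * (x : Matrix (Fin n) (Fin n) F)).map σ := by
            simp [Matrix.transpose_mul, Matrix.map_mul, mul_assoc]
        _ = Bvᵀ * ((cj B (x : Matrix (Fin n) (Fin n) F))ᵀ * G0 *
            (cj B (x : Matrix (Fin n) (Fin n) F)).map σ) * Bv.map σ := by
            rw [hcjB]; simp [Matrix.transpose_mul, Matrix.map_mul, mul_assoc]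
        _ = _ := by rw [hinv0 x hx])
  have hG0G' : G0 = c • G' := by
    have h1 := congrArg (fun M => Biᵀ * M * Bi.map σ) hc
    simp only [Matrix.mul_smul, Matrix.smul_mul, mul_one] at h1
    rw [← mul_assoc, ← mul_assoc, ← Matrix.transpose_mul, hBBi, Matrix.transpose_one, one_mul, mul_assoc,
      ← Matrix.map_mul, hBBi, Matrix.map_one _ (map_zero _) (map_one _), mul_one] at h1
    exact h1
  have hg0 : G0 i₀ j₀ ≠ 0 := fun h => hL (Subtype.ext h)
  have hc0 : c ≠ 0 := fun h => hg0 (by rw [hG0G', h, zero_smul]; rfl)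
  set a := c⁻¹ with ha
  have ha0 : a ≠ 0 := inv_ne_zero hc0
  have hG'a : G' = a • G0 := by rw [hG0G', ha, smul_smul, inv_mul_cancel₀ hc0, one_smul]
  have hG0det : G0.det ≠ 0 := by
    rw [hG0G', Matrix.det_smul]; exact mul_ne_zero (pow_ne_zero _ hc0) hG'det
  have hrel : ∀ i j, σ a * σ (G0 j i) = a * G0 i j := by
    intro i j
    have hh : σ (G' j i) = G' i j := by
      simp only [hG', Matrix.mul_apply, Matrix.transpose_apply, Matrix.map_apply, map_sum, map_mul, hσσ]
      exact Finset.sum_congr rfl fun k _ => mul_comm _ _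
    rw [hG'a, Matrix.smul_apply, Matrix.smul_apply, smul_eq_mul, smul_eq_mul, map_mul] at hh
    exact hh
  obtain ⟨l, hlmem, hl⟩ : ∃ l ∈ F₁, σ a = l * a := by
    refine ⟨σ a / a, ?_, by rw [div_mul_cancel₀ _ ha0]⟩
    have h1 : σ (G0 j₀ i₀) ≠ 0 := fun h => by
      have := hrel i₀ j₀
      rw [h, mul_zero] at this
      exact mul_ne_zero ha0 hg0 this.symm
    rw [show σ a / a = G0 i₀ j₀ / σ (G0 j₀ i₀) by rw [div_eq_div_iff ha0 h1, hrel i₀ j₀, mul_comm]]
    exact div_mem (hG0mem _ _) (hσmem _ (hG0mem _ _))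
  have hll : σ l * l = 1 := by
    have h1 := congrArg σ hl
    rw [hσσ, map_mul, hl, ← mul_assoc] at h1
    exact (mul_eq_right₀ ha0).mp h1.symm
  have hl0 : l ≠ 0 := fun h => by simp [h] at hll
  have hform : ∀ u v, hq (Bi *ᵥ u) (Bi *ᵥ v) = a * sesq σ G0 u v := fun u v => by
    rw [hermForm_eq_sesq hF, sesq_mulVec, mul_one, ← hσ, ← hG', hG'a, sesq_smul_matrix]
  have hrat : ∀ u v, (∀ i, u i ∈ F₁) → (∀ i, v i ∈ F₁) → sesq σ G0 u v ∈ F₁ := fun u v hu hv => by
    simp only [sesq, dotProduct, Matrix.mulVec, Function.comp_apply]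
    exact sum_mem fun i _ => mul_mem (hu i) (sum_mem fun j _ => mul_mem (hG0mem i j) (hσmem _ (hv j)))
  -- a scaled structure for a fixed multiplier
  have hscaled : ∀ μ ∈ F₁, μ ≠ 0 → σ μ = l * μ → ∃ B' : GL (Fin n) F,
      Geo.IsFormRationalStructure hq F₁ 1 B' ∧ H ≤ Geo.subfieldSubgroup F₁ B' := by
    intro μ hμmem hμ0 hμ
    set b := a / μ with hb
    have hb0 : b ≠ 0 := div_ne_zero ha0 hμ0
    have hbfix : b ^ q = b := by rw [← hσq, hb, map_div₀, hl, hμ, mul_div_mul_left _ _ hl0]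
    obtain ⟨z, hz⟩ := Unitary.exists_norm_eq hF (c := b⁻¹) (by rw [inv_pow, hbfix])
    have hz0 : z ≠ 0 := fun h => by
      rw [h, zero_pow (Nat.succ_ne_zero q)] at hz
      exact inv_ne_zero hb0 hz.symm
    let Z : GL (Fin n) F := Units.map (Matrix.scalar (Fin n) : F →+* Matrix (Fin n) (Fin n) F).toMonoidHom
      (Units.mk0 z hz0)
    have hZ : (Z : Matrix (Fin n) (Fin n) F) = z • 1 := by
      ext i j; simp [Z, Matrix.one_apply, Matrix.diagonal_apply]
    refine ⟨Z * B⁻¹, fun u v hu hv => ?_, ?_⟩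
    · have hHs := Unitary.hermForm_isHerm hF n
      rw [one_mul, Units.val_mul, hZ, Matrix.smul_mul, one_mul, Matrix.smul_mulVec, Matrix.smul_mulVec,
        hHs.smul_left, hHs.smul_right, ← hBi, hform, ← mul_assoc, ← mul_assoc, ← pow_succ', hz, hb]
      rw [show (a / μ)⁻¹ * a = μ by field_simp]
      exact mul_mem hμmem (hrat u v hu hv)
    · have hconj : MulAut.conj (Z * B⁻¹) = MulAut.conj (B⁻¹ : GL (Fin n) F) := by
        refine MulEquiv.ext fun g => Units.ext ?_
        have hcz : Z * (B⁻¹ * g * B) * Z⁻¹ = B⁻¹ * g * B := by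
          rw [mul_inv_eq_iff_eq_mul]
          refine Units.ext ?_
          rw [Units.val_mul, Units.val_mul _ Z, hZ, Matrix.smul_mul, one_mul, Matrix.mul_smul, mul_one]
        simp only [MulAut.conj_apply, _root_.mul_inv_rev, inv_inv]
        rw [show Z * B⁻¹ * g * (B * Z⁻¹) = Z * (B⁻¹ * g * B) * Z⁻¹ by group, hcz]
      simp only [Geo.subfieldSubgroup, hconj]
      exact hle
  by_cases hfix : ∀ x ∈ F₁, σ x = x
  · have hr2 : r = 2 := by
      have : Module.Finite F₁ F := Module.Finite.of_finite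
      have : FiniteDimensional F₁ F := this
      have hrk : Module.finrank F₁ F = r := by
        have h1 : Nat.card F = Nat.card F₁ ^ Module.finrank F₁ F := Module.natCard_eq_pow_finrank
        rw [Nat.card_eq_fintype_card (α := F), hcard] at h1
        exact (Nat.pow_right_injective Finite.one_lt_card h1).symm
      let σA : F ≃ₐ[F₁] F := AlgEquiv.ofRingEquiv (f := conjEquiv hF) (fun x => hfix x x.2)
      have ho : orderOf σA = 2 := orderOf_eq_prime (AlgEquiv.ext fun x => by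
        rw [pow_two, AlgEquiv.mul_apply]; exact hσσ x) (fun h => by
        exact Unitary.conjHom_ne_id hF (RingHom.ext fun x => AlgEquiv.congr_fun h x))
      have h3 : 2 ∣ r := by
        rw [← hrk, ← IsGalois.card_aut_eq_finrank, ← ho]
        exact orderOf_dvd_natCard σA
      exact ((Nat.prime_dvd_prime_iff_eq Nat.prime_two hr).mp h3).symm
    subst hr2
    have hl2 : l = 1 ∨ l = -1 := mul_self_eq_one_iff.mp (by rw [hfix l hlmem] at hll; exact hll)
    have hsymm : ∀ i j, l * G0 j i = G0 i j := fun i j => by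
      have := hrel i j
      rw [hl, hfix _ (hG0mem j i)] at this
      exact mul_left_cancel₀ ha0 (by linear_combination this)
    by_cases h2 : (2 : F) ≠ 0 ∧ l = 1
    · obtain ⟨h2, hl1⟩ := h2
      obtain ⟨B', hB', hle'⟩ := hscaled 1 (one_mem _) one_ne_zero (by rw [map_one, hl1, mul_one])
      refine Or.inr (Or.inl ⟨?_, F₁, B', hcard, hne, hB', hle'⟩)
      obtain ⟨p, m, hp, hchar, hqp, -⟩ := Unitary.exists_prime_pow hF
      rw [hqp]
      refine (hp.odd_of_ne_two ?_).pow
      rintro rfl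
      exact h2 (by exact_mod_cast CharP.cast_eq_zero F 2)
    -- alternating type
    have hlm : l = -1 := by
      rcases hl2 with h | h
      · rw [h]
        simp only [not_and] at h2
        have h20 : (2 : F) = 0 := by
          by_contra h20; exact h2 h20 h
        linear_combination h20
      · exact h
    have halt : ∀ u : Fin n → F, u ⬝ᵥ G0 *ᵥ u = 0 := by
      intro u
      by_cases h20 : (2 : F) = 0
      · have hl1 : l = 1 := by rw [hlm]; linear_combination -h20
        have hG0T : G0ᵀ = G0 := by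
          ext i j; rw [Matrix.transpose_apply, ← hsymm j i, hl1, one_mul]
        have hsym2 : (Bvᵀ * G0 * Bv)ᵀ = Bvᵀ * G0 * Bv := by
          rw [Matrix.transpose_mul, Matrix.transpose_mul, Matrix.transpose_transpose, hG0T, mul_assoc]
        have h1 := quad_zero_char_two h20 (by simpa using hn) hirr.1 hsym2 (fun x hx => ?_) (Bi *ᵥ u)
        · rw [← Matrix.mulVec_mulVec, ← Matrix.mulVec_mulVec, Matrix.mulVec_mulVec (M := Bv), hBBi,
            Matrix.one_mulVec, Matrix.dotProduct_mulVec, Matrix.vecMul_transpose, Matrix.mulVec_mulVec, hBBi,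
            Matrix.one_mulVec] at h1
          exact h1
        · have e0 : (cj B (x : Matrix (Fin n) (Fin n) F)).map σ = cj B (x : Matrix (Fin n) (Fin n) F) := by
            ext i j; exact hfix _ (hB x hx i j)
          have e2 := hinv0 x hx
          rw [e0] at e2
          calc _ = (Bv * (x : Matrix (Fin n) (Fin n) F))ᵀ * G0 * (Bv * (x : Matrix (Fin n) (Fin n) F)) := by
                simp [Matrix.transpose_mul, mul_assoc]
            _ = Bvᵀ * ((cj B (x : Matrix (Fin n) (Fin n) F))ᵀ * G0 * cj B (x : Matrix (Fin n) (Fin n) F)) * Bv := by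
                rw [hcjB]; simp [Matrix.transpose_mul, mul_assoc]
            _ = _ := by rw [e2]
      · have hG0T : G0ᵀ = -G0 := by
          ext i j
          rw [Matrix.transpose_apply, Matrix.neg_apply, ← hsymm j i, hlm, neg_one_mul]
        have h1 : u ⬝ᵥ G0 *ᵥ u = -(u ⬝ᵥ G0 *ᵥ u) := by
          conv_lhs => rw [Matrix.dotProduct_mulVec, ← Matrix.mulVec_transpose, hG0T, dotProduct_comm]
          simp [Matrix.neg_mulVec]
        have h3 : (2 : F) * (u ⬝ᵥ G0 *ᵥ u) = 0 := by linear_combination h1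
        exact (mul_eq_zero.mp h3).resolve_left h20
    refine Or.inr (Or.inr ⟨F₁, B⁻¹, a⁻¹, hcard, hne, inv_ne_zero ha0, ?_, fun u v hu hv => ?_, fun u hu => ?_,
      hle⟩)
    · rw [← hσq, map_inv₀, hl, hlm, neg_one_mul, inv_neg, add_neg_cancel]
    · rw [← hBi, hform, ← mul_assoc, inv_mul_cancel₀ ha0, one_mul]
      exact hrat u v hu hv
    · rw [← hBi, hform, sesq, show σ ∘ u = u from funext fun i => hfix _ (hu i), halt, mul_zero]
  · simp only [not_forall, exists_prop] at hfix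
    obtain ⟨x, hx, hσx⟩ := hfix
    have hrodd : Odd r := by
      refine hr.odd_of_ne_two fun h => hσx ?_
      subst h
      have h1 : Nat.card F₁ = q := (Nat.pow_left_injective two_ne_zero (hF.symm.trans hcard)).symm
      have : Fintype F₁ := Fintype.ofFinite F₁
      have h2 : (⟨x, hx⟩ : F₁) ^ Fintype.card F₁ = ⟨x, hx⟩ := FiniteField.pow_card _
      rw [← Nat.card_eq_fintype_card, h1] at h2
      rw [hσq]
      exact congrArg Subtype.val h2
    have key : ∀ t, σ (t + σ t / l) = l * (t + σ t / l) := by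
      intro t
      rw [map_add, map_div₀, hσσ, mul_add, mul_div_cancel₀ _ hl0,
        show t / σ l = l * t by rw [div_eq_iff (fun h => by simp [h] at hll)]; linear_combination -t * hll]
      ring
    obtain ⟨μ, hμmem, hμ0, hμ⟩ : ∃ μ ∈ F₁, μ ≠ 0 ∧ σ μ = l * μ := by
      by_cases h1 : (1 : F) + σ 1 / l = 0
      · refine ⟨x + σ x / l, add_mem hx (div_mem (hσmem x hx) hlmem), fun h => hσx ?_, key x⟩
        rw [map_one] at h1
        have h3 : l = -1 := by
          field_simp at h1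
          linear_combination h1
        rw [h3, div_neg, div_one, ← sub_eq_add_neg, sub_eq_zero] at h
        exact h.symm
      · exact ⟨1 + σ 1 / l, add_mem (one_mem _) (div_mem (hσmem 1 (one_mem _)) hlmem), h1, key 1⟩
    obtain ⟨B', hB', hle'⟩ := hscaled μ hμmem hμ0 hμ
    exact Or.inl ⟨F₁, r, B', hr, hrodd, hcard, hne, hB', hle'⟩

end Cfsg.Agent.Aschbacher
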