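/-
Maximal subgroups of SU_n(q), n ≥ 4, of every dimension.
Main results: `tensor_two_decomp`, `su_cases'` (n ≥ 4), `su_cases` (classes 1–5, residual; symplectic-type and tensor-square left raw).
-/
import Cfsg.Agent.Lib.Aschbacher.UnitaryNotLe
import Cfsg.Agent.Lib.Aschbacher.UnitaryReduce
import Cfsg.Agent.Lib.Aschbacher.UnitarySubfield

set_option autoImplicit false

namespace Cfsg.Agent.Aschbacher

open Matrix
open scoped commutatorElement
open Cfsg.Agent.PrimeDim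

variable {F : Type*} [Field F] [Fintype F] {n q : ℕ}

local notation "hq" => Cfsg.hermForm n F q
local notation "Γ" => Cfsg.GU n F q ⊓ Geo.specialLinear (Fin n) F

theorem pure_form (σ : F →+* F) {d t : ℕ} (e : Fin n ≃ Fin d × Fin t) (A : Matrix (Fin d) (Fin d) F)
    (B : Matrix (Fin t) (Fin t) F) (x x' : Fin d → F) (y y' : Fin t → F) :
    Geo.formOfGram σ (tens e A B) (fun a => x (e a).1 * y (e a).2) (fun a => x' (e a).1 * y' (e a).2) =
      Geo.formOfGram σ A x x' * Geo.formOfGram σ B y y' := by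
  calc Geo.formOfGram σ (tens e A B) (fun a => x (e a).1 * y (e a).2) (fun a => x' (e a).1 * y' (e a).2)
      = ∑ i, ∑ k, ∑ j, ∑ l, (x i * y k) * (A i j * B k l) * σ (x' j * y' l) := by
        simp only [Geo.formOfGram]
        rw [← e.symm.sum_comp, Fintype.sum_prod_type]
        refine Finset.sum_congr rfl fun i _ => Finset.sum_congr rfl fun k _ => ?_
        rw [← e.symm.sum_comp, Fintype.sum_prod_type]
        simp [tens_apply]
    _ = ∑ i, ∑ j, ∑ k, ∑ l, (x i * A i j * σ (x' j)) * (y k * B k l * σ (y' l)) := by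
        refine Finset.sum_congr rfl fun i _ => ?_
        rw [Finset.sum_comm]
        refine Finset.sum_congr rfl fun j _ => Finset.sum_congr rfl fun k _ => Finset.sum_congr rfl fun l _ => ?_
        rw [map_mul]; ring
    _ = _ := by
        simp only [Geo.formOfGram, Finset.sum_mul]
        simp only [Finset.mul_sum]

theorem pure_mulVec {d t : ℕ} (e : Fin n ≃ Fin d × Fin t) (A : Matrix (Fin d) (Fin d) F)
    (B : Matrix (Fin t) (Fin t) F) (x : Fin d → F) (y : Fin t → F) :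
    tens e A B *ᵥ (fun a => x (e a).1 * y (e a).2) = fun a => (A *ᵥ x) (e a).1 * (B *ᵥ y) (e a).2 := by
  ext a
  simp only [Matrix.mulVec, dotProduct, tens_apply, Finset.sum_mul_sum]
  rw [← e.symm.sum_comp, Fintype.sum_prod_type]
  simp only [Equiv.apply_symm_apply]
  exact Finset.sum_congr rfl fun i _ => Finset.sum_congr rfl fun k _ => by ring

/-- Over F₄ a tensor structure with a two-dimensional factor gives two orthogonal halves. -/
theorem tensor_two_decomp (hF : Fintype.card F = 2 ^ 2) {t : ℕ} (ht : 0 < t) {G H : Subgroup (GL (Fin n) F)}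
    (hHG : H ≤ G) (hHU : H ≤ Cfsg.GU n F 2) (hT : FTensor (Unitary.conjHom hF) 1 G 2 t) :
    ∃ D : Fin 2 → Submodule F (Fin n → F),
      Geo.IsNondegenerateMDecomposition (Cfsg.hermForm n F 2) t D ∧ H ≤ Geo.decompositionStabilizer D := by
  classical
  have HH := Unitary.hermForm_isHerm hF n
  set σ := Unitary.conjHom hF with hσ
  let e : Fin n ≃ Fin 2 × Fin t := Fintype.equivOfCardEq (by
    rw [Fintype.card_prod, Fintype.card_fin 2, Fintype.card_fin t]; exact hT.1.symm)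
  obtain ⟨P, G1, G2, hle, heq, h1, h2⟩ := hT.2 e
  obtain ⟨μ, hμ, hμG⟩ := exists_hermitian_scale hF two_pos h1
  set f1 := Geo.formOfGram σ (μ • G1) with hf1
  have hf1s : ∀ x x', f1 x x' = μ * Geo.formOfGram σ G1 x x' := fun x x' => by
    simp only [hf1, Geo.formOfGram, Matrix.smul_apply, smul_eq_mul, Finset.mul_sum]
    exact Finset.sum_congr rfl fun a _ => Finset.sum_congr rfl fun c _ => by ring
  have hherm : Unitary.IsHerm 2 f1 := by
    refine ⟨fun x y z => by simp [hf1, formOfGram_eq, add_dotProduct],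
      fun c x z => by simp [hf1, formOfGram_eq, smul_dotProduct], fun v w => ?_⟩
    rw [← conjHom_apply' hF]
    simp only [hf1, Geo.formOfGram, map_sum, map_mul]
    rw [Finset.sum_comm]
    refine Finset.sum_congr rfl fun a _ => Finset.sum_congr rfl fun b _ => ?_
    have h3 := congrFun (congrFun hμG b) a
    simp only [Matrix.transpose_apply, Matrix.map_apply] at h3
    rw [← hσ, h3]
    simp only [hσ, conjHom_apply', Unitary.pow_q_pow_q hF]
    ring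
  obtain ⟨b, -, hb1, hb0, hball⟩ := plane_two hF hherm ⊤ (by simp) (fun w _ hw0 => by
    have hdet : IsUnit (μ • G1).det := by
      rw [Matrix.det_smul]; exact ((IsUnit.mk0 _ hμ).pow _).mul h1.det
    obtain ⟨x, hx⟩ := (formOfGram_nondegenerate σ hdet w hw0).2
    exact ⟨x, trivial, hx⟩)
  let g2 := Geo.formOfGram σ G2
  let T : Fin 2 → (Fin t → F) →ₗ[F] (Fin n → F) := fun i =>
    { toFun := fun y => (P : Matrix (Fin n) (Fin n) F) *ᵥ fun a => b i (e a).1 * y (e a).2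
      map_add' := fun y z => by
        rw [← Matrix.mulVec_add]; congr 1; ext a; simp [mul_add]
      map_smul' := fun c y => by
        rw [RingHom.id_apply, ← Matrix.mulVec_smul]; congr 1; ext a; simp; ring }
  have hTf : ∀ (x x' : Fin 2 → F) (y y' : Fin t → F),
      Cfsg.hermForm n F 2 ((P : Matrix (Fin n) (Fin n) F) *ᵥ fun a => x (e a).1 * y (e a).2)
        ((P : Matrix (Fin n) (Fin n) F) *ᵥ fun a => x' (e a).1 * y' (e a).2) =
      μ⁻¹ * f1 x x' * g2 y y' := fun x x' y y' => by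
    rw [hermForm_eq_gram hF, formOfGram_mulVec, ← hσ, heq, pure_form, hf1s]
    field_simp
    rfl
  have hTij : ∀ i j y y', Cfsg.hermForm n F 2 (T i y) (T j y') = μ⁻¹ * f1 (b i) (b j) * g2 y y' :=
    fun i j y y' => hTf _ _ _ _
  have hinj : ∀ i, Function.Injective (T i) := by
    intro i
    rw [← LinearMap.ker_eq_bot, Submodule.eq_bot_iff]
    intro y hy
    by_contra hy0
    obtain ⟨y', hy'⟩ := (formOfGram_nondegenerate σ h2.det y hy0).2
    have h3 := hTij i i y y'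
    rw [LinearMap.mem_ker.mp hy, HH.zero_left, hb1] at h3
    exact mul_ne_zero (mul_ne_zero (inv_ne_zero hμ) one_ne_zero) hy' h3.symm
  let D : Fin 2 → Submodule F (Fin n → F) := fun i => LinearMap.range (T i)
  have hrk : ∀ i, Module.finrank F (D i) = t := fun i => by
    rw [LinearMap.finrank_range_of_inj (hinj i)]; simp
  have hnd : ∀ i, Geo.IsNondegenerateOn (Cfsg.hermForm n F 2) (D i) := by
    rintro i _ ⟨y, rfl⟩ hy0
    have hy : y ≠ 0 := fun h => hy0 (by rw [h, map_zero])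
    obtain ⟨⟨u, hu⟩, ⟨v, hv⟩⟩ := formOfGram_nondegenerate σ h2.det y hy
    refine ⟨⟨T i u, ⟨u, rfl⟩, ?_⟩, ⟨T i v, ⟨v, rfl⟩, ?_⟩⟩
    · rw [hTij, hb1]; exact mul_ne_zero (mul_ne_zero (inv_ne_zero hμ) one_ne_zero) hu
    · rw [hTij, hb1]; exact mul_ne_zero (mul_ne_zero (inv_ne_zero hμ) one_ne_zero) hv
  refine ⟨D, mdecomp_of_orth _ HH.add_left HH.smul_left le_rfl ht (by simpa using hT.1) hrk hnd ?_, ?_⟩
  · intro i j hij
    rintro _ ⟨y, rfl⟩ _ ⟨y', rfl⟩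
    rw [hTij, hb0 i j hij]
    simp
  intro g hg
  obtain ⟨A, B, hAB⟩ := (mem_tensorProductSubgroup_iff e P g).mp (hle (hHG hg))
  have hact : ∀ (x : Fin 2 → F) (y : Fin t → F),
      (g : Matrix (Fin n) (Fin n) F) *ᵥ ((P : Matrix (Fin n) (Fin n) F) *ᵥ fun a => x (e a).1 * y (e a).2) =
      (P : Matrix (Fin n) (Fin n) F) *ᵥ fun a => ((A : Matrix (Fin 2) (Fin 2) F) *ᵥ x) (e a).1 *
        ((B : Matrix (Fin t) (Fin t) F) *ᵥ y) (e a).2 := fun x y => by
    rw [← pure_mulVec, hAB, cj_apply, Matrix.mulVec_mulVec, mul_assoc, Units.inv_mul, mul_one,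
      ← Matrix.mulVec_mulVec]
  obtain ⟨k₀⟩ : Nonempty (Fin t) := ⟨⟨0, ht⟩⟩
  obtain ⟨y', hy'⟩ := (formOfGram_nondegenerate σ h2.det (Pi.single k₀ (1 : F)) (by simp)).2
  have himg : ∀ i, ∃ j, ∃ c : F, c ≠ 0 ∧ (A : Matrix (Fin 2) (Fin 2) F) *ᵥ b i = c • b j := by
    intro i
    have h3 := mem_GU_iff.mp (hHU hg)
      ((P : Matrix (Fin n) (Fin n) F) *ᵥ fun a => b i (e a).1 * (Pi.single k₀ (1 : F) : Fin t → F) (e a).2)
      ((P : Matrix (Fin n) (Fin n) F) *ᵥ fun a => b i (e a).1 * y' (e a).2)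
    rw [hact, hact, hTf, hTf, hb1] at h3
    have hne : f1 ((A : Matrix (Fin 2) (Fin 2) F) *ᵥ b i) ((A : Matrix (Fin 2) (Fin 2) F) *ᵥ b i) ≠ 0 :=
      fun h0 => by
        rw [h0, mul_zero, zero_mul] at h3
        exact mul_ne_zero (mul_ne_zero (inv_ne_zero hμ) one_ne_zero) hy' h3.symm
    obtain ⟨j, c, hc⟩ := hball _ trivial hne
    exact ⟨j, c, fun h0 => hne (by rw [hc, h0, zero_smul, hherm.zero_left]), hc⟩
  choose j c hc0 hc using himg
  have hji : Function.Injective j := by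
    intro i i' hii
    by_contra hne
    have h3 : (A : Matrix (Fin 2) (Fin 2) F) *ᵥ (c i' • b i - c i • b i') = 0 := by
      rw [Matrix.mulVec_sub, Matrix.mulVec_smul, Matrix.mulVec_smul, hc, hc, hii, smul_smul, smul_smul, mul_comm,
        sub_self]
    have h4 : c i' • b i - c i • b i' = 0 :=
      Matrix.mulVec_injective_iff_isUnit.mpr A.isUnit (h3.trans (Matrix.mulVec_zero _).symm)
    have h5 := congrArg (fun z => f1 z (b i)) h4
    simp only [hherm.sub_left, hherm.smul_left, hherm.zero_left, hb1, hb0 i' i (Ne.symm hne)] at h5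
    exact hc0 i' (by simpa using h5)
  refine ⟨Equiv.ofBijective j hji.bijective_of_finite, fun i => ?_⟩
  refine Submodule.eq_of_le_of_finrank_eq ?_ (by rw [finrank_map_gl, hrk, hrk])
  rintro _ ⟨_, ⟨y, rfl⟩, rfl⟩
  refine ⟨c i • ((B : Matrix (Fin t) (Fin t) F) *ᵥ y), ?_⟩
  rw [Matrix.toLin'_apply]
  show _ = (g : Matrix (Fin n) (Fin n) F) *ᵥ ((P : Matrix (Fin n) (Fin n) F) *ᵥ fun a => b i (e a).1 * y (e a).2)
  rw [hact, hc]
  show (P : Matrix (Fin n) (Fin n) F) *ᵥ _ = (P : Matrix (Fin n) (Fin n) F) *ᵥ _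
  congr 1
  ext a
  simp [Equiv.ofBijective_apply]
  ring

/-- Real traces on a unitary subgroup: realisable over the fixed field. -/
theorem realisable_of_trace_real (hF : Fintype.card F = q ^ 2) {P : Subgroup (GL (Fin n) F)}
    (hPU : P ≤ Cfsg.GU n F q) (hspan : Submodule.span F (Geo.matrixSet P) = ⊤)
    (htr : ∀ x ∈ P, ((x⁻¹ : GL (Fin n) F) : Matrix (Fin n) (Fin n) F).trace
      = (x : Matrix (Fin n) (Fin n) F).trace) (hn : 0 < n) :
    ∃ F₀ : Subfield F, F₀ ≠ ⊤ ∧ Geo.RealisableOver F₀ (Geo.matrixSet P) := by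
  have : Nonempty (Fin n) := ⟨⟨0, hn⟩⟩
  refine ⟨Unitary.fixedField hF, fun htop => Unitary.conjHom_ne_id hF (RingHom.ext fun x => ?_),
    realisableOver_of_trace hspan (absIrred_of_span hspan).2 _ fun x hx => ?_⟩
  · exact (Unitary.mem_fixedField hF).mp (htop ▸ Subfield.mem_top x)
  rw [Unitary.mem_fixedField, ← conjHom_apply' hF]
  have hinv : Inv (Unitary.conjHom hF) P (1 : Matrix (Fin n) (Fin n) F) := fun y hy => gram_of_mem_GU hF (hPU hy)
  exact (hinv.trace_inv (by rw [Matrix.det_one]; exact isUnit_one) hx).symm.trans (htr x hx)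

set_option maxHeartbeats 1000000 in
/-- The maximal subgroups of SU_n(q), n ≥ 4; symplectic type, equal tensor factors and induced are left raw. -/
theorem su_cases' (hF : Fintype.card F = q ^ 2) (h4 : 4 ≤ n) {H : Subgroup (GL (Fin n) F)}
    (hH : Geo.IsMaximalIn Γ H) :
    (∃ W : Submodule F (Fin n → F), W ≠ ⊥ ∧ Geo.IsTotallySingularFor hq W ∧
      H = Geo.subspaceStabilizer W ⊓ Γ) ∨
    (∃ W : Submodule F (Fin n → F), W ≠ ⊥ ∧ Geo.IsNondegenerateOn hq W ∧ 2 * Module.finrank F W < n ∧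
      H = Geo.subspaceStabilizer W ⊓ Γ) ∨
    (∃ (m t : ℕ) (D : Fin t → Submodule F (Fin n → F)), t * m = n ∧ 2 ≤ t ∧ (m = 2 → 3 ≤ q) ∧
      Geo.IsNondegenerateMDecomposition hq m D ∧ H = Geo.decompositionStabilizer D ⊓ Γ) ∨
    (∃ (m : ℕ) (D : Fin 2 → Submodule F (Fin n → F)), 2 * m = n ∧ Geo.IsMDecomposition m D ∧
      (∀ i, Geo.IsTotallySingularFor hq (D i)) ∧ H = Geo.decompositionStabilizer D ⊓ Γ) ∨
    (∃ (r : ℕ) (K : Subalgebra F (Matrix (Fin n) (Fin n) F)), r.Prime ∧ Odd r ∧ r ∣ n ∧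
      Geo.IsFieldSubalgebra r K ∧ Geo.IsAdjointClosedFor hq K ∧ H = Geo.subalgebraNormalizer K ⊓ Γ) ∨
    (∃ (d t : ℕ), d * t = n ∧ 2 ≤ d ∧ d < t ∧ (d = 2 → 3 ≤ q) ∧ ∀ e : Fin n ≃ Fin d × Fin t,
      ∃ (P : GL (Fin n) F) (f₁ : (Fin d → F) → (Fin d → F) → F) (f₂ : (Fin t → F) → (Fin t → F) → F),
        Geo.IsUnitaryFormPow q f₁ ∧ Geo.IsUnitaryFormPow q f₂ ∧
        Geo.IsTensorFormStructure (fun x : F => x ^ q) hq f₁ f₂ e P ∧
        H = Geo.tensorProductSubgroup d t e P ⊓ Γ) ∨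
    (∃ (F₀ : Subfield F) (r : ℕ) (P : GL (Fin n) F), r.Prime ∧ Odd r ∧ Fintype.card F = Nat.card F₀ ^ r ∧
      Geo.IsFormRationalStructure hq F₀ 1 P ∧ H = Geo.subfieldSubgroup F₀ P ⊓ Γ) ∨
    (∃ (F₀ : Subfield F) (P : GL (Fin n) F) (ζ : F), Fintype.card F = Nat.card F₀ ^ 2 ∧ ζ ≠ 0 ∧
      ζ + ζ ^ q = 0 ∧ Geo.IsFormRationalStructure hq F₀ ζ P ∧
      (∀ u : Fin n → F, (∀ i, u i ∈ F₀) →
        hq ((P : Matrix (Fin n) (Fin n) F) *ᵥ u) ((P : Matrix (Fin n) (Fin n) F) *ᵥ u) = 0) ∧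
      H = Geo.subfieldSubgroup F₀ P ⊓ Γ) ∨
    (Odd q ∧ ∃ (F₀ : Subfield F) (P : GL (Fin n) F), Fintype.card F = Nat.card F₀ ^ 2 ∧
      Geo.IsFormRationalStructure hq F₀ 1 P ∧ H = Geo.subfieldSubgroup F₀ P ⊓ Γ) ∨
    (∃ (r m z p f : ℕ) (R : Subgroup (GL (Fin n) F)), Good (H ⊔ Geo.scalars (Fin n) F) ∧
      SympData (H ⊔ Geo.scalars (Fin n) F) r m z p f R) ∨
    (∃ d : ℕ, 2 ≤ d ∧ d * d = n ∧ FTensor (Unitary.conjHom hF) 1 (H ⊔ Geo.scalars (Fin n) F) d d) ∨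
    (∃ d k : ℕ, 3 ≤ d ∧ 2 ≤ k ∧ d ^ k = n ∧ Good (H ⊔ Geo.scalars (Fin n) F) ∧
      TIData (H ⊔ Geo.scalars (Fin n) F) d k) ∨
    Geo.InUnitaryResidualClass H := by
  classical
  have hcard : Fintype.card (Fin n) = n := Fintype.card_fin n
  have : Nonempty (Fin n) := ⟨⟨0, by omega⟩⟩
  have key : ∀ M : Subgroup (GL (Fin n) F), H ≤ M → ¬ Γ ≤ M → H = M ⊓ Γ := by
    intro M h1 h2
    rcases hH.2 (M ⊓ Γ) (le_inf h1 hH.1.le) inf_le_right with h | h
    · exact h.symm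
    · exact absurd (h ▸ inf_le_left) h2
  have hHU : H ≤ Cfsg.GU n F q := hH.1.le.trans inf_le_left
  have hq2 := Unitary.two_le_q hF
  set G := H ⊔ Geo.scalars (Fin n) F with hG
  have hHG : H ≤ G := le_sup_left
  -- decompositions
  have hdec : ∀ (m t : ℕ) (D : Fin t → Submodule F (Fin n → F)), t * m = n →
      Geo.IsNondegenerateMDecomposition hq m D → H ≤ Geo.decompositionStabilizer D →
      ∃ (m t : ℕ) (D : Fin t → Submodule F (Fin n → F)), t * m = n ∧ 2 ≤ t ∧ (m = 2 → 3 ≤ q) ∧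
        Geo.IsNondegenerateMDecomposition hq m D ∧ H = Geo.decompositionStabilizer D ⊓ Γ := by
    intro m t D htm hD hle
    have hlines : ∀ D' : Fin n → Submodule F (Fin n → F), Geo.IsNondegenerateMDecomposition hq 1 D' →
        H ≤ Geo.decompositionStabilizer D' →
        ∃ (m t : ℕ) (D : Fin t → Submodule F (Fin n → F)), t * m = n ∧ 2 ≤ t ∧ (m = 2 → 3 ≤ q) ∧
          Geo.IsNondegenerateMDecomposition hq m D ∧ H = Geo.decompositionStabilizer D ⊓ Γ := fun D' hD' hle' =>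
      ⟨1, n, D', mul_one n, by omega, by omega, hD',
        key _ hle' (not_su_le_decompositionStabilizer hF (by omega) hD')⟩
    have := hD.decomp.pos
    rcases (show m = 1 ∨ (m = 2 ∧ q = 2) ∨ (2 ≤ m ∧ (m = 2 → 3 ≤ q)) by omega) with rfl | ⟨rfl, rfl⟩ | ⟨hm, hm2⟩
    · obtain rfl : t = n := by simpa using htm
      exact hlines D hD hle
    · obtain ⟨D', hD', hle'⟩ := lines_of_planes hF D hD hHU hle
      exact hlines D' hD' hle'
    · exact ⟨m, t, D, htm, hD.decomp.two_le, hm2, hD, key _ hle (not_su_le_decomposition hF (by omega) hm hD.decomp)⟩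
  by_cases hirr : Geo.ActsIrreducibly (Geo.matrixSet H)
  swap
  · rcases su_reducible hF (by omega) hHU hirr with ⟨W, hb, ht, hts, hle⟩ | ⟨W, hb, ht, hnd, hk, hle⟩ |
      ⟨m, D, hm, hD, hle⟩
    · exact Or.inl ⟨W, hb, hts, key _ hle (not_su_le_subspaceStabilizer hF (by omega) hb ht)⟩
    · exact Or.inr (Or.inl ⟨W, hb, hnd, hk, key _ hle (not_su_le_subspaceStabilizer hF (by omega) hb ht)⟩)
    · exact Or.inr (Or.inr (Or.inl (hdec m 2 D hm hD hle)))
  have hsub : ∀ P : Subgroup (GL (Fin n) F), P ≤ H → NormBy H P → Submodule.span F (Geo.matrixSet P) = ⊤ →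
      ∀ F₀ : Subfield F, F₀ ≠ ⊤ → Geo.RealisableOver F₀ (Geo.matrixSet P) →
      (∃ (F₀ : Subfield F) (r : ℕ) (P : GL (Fin n) F), r.Prime ∧ Odd r ∧ Fintype.card F = Nat.card F₀ ^ r ∧
        Geo.IsFormRationalStructure hq F₀ 1 P ∧ H = Geo.subfieldSubgroup F₀ P ⊓ Γ) ∨
      (∃ (F₀ : Subfield F) (P : GL (Fin n) F) (ζ : F), Fintype.card F = Nat.card F₀ ^ 2 ∧ ζ ≠ 0 ∧
        ζ + ζ ^ q = 0 ∧ Geo.IsFormRationalStructure hq F₀ ζ P ∧
        (∀ u : Fin n → F, (∀ i, u i ∈ F₀) →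
          hq ((P : Matrix (Fin n) (Fin n) F) *ᵥ u) ((P : Matrix (Fin n) (Fin n) F) *ᵥ u) = 0) ∧
        H = Geo.subfieldSubgroup F₀ P ⊓ Γ) ∨
      (Odd q ∧ ∃ (F₀ : Subfield F) (P : GL (Fin n) F), Fintype.card F = Nat.card F₀ ^ 2 ∧
        Geo.IsFormRationalStructure hq F₀ 1 P ∧ H = Geo.subfieldSubgroup F₀ P ⊓ Γ) := by
    intro P hP hnorm hspan F₀ hF₀ hreal
    rcases su_subfield_outcome hF (by omega) hnorm (hP.trans hHU) hspan (absIrred_of_span hspan) hF₀ hreal with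
      ⟨F₁, r, B, hr, hrodd, hc, hne, hform, hle⟩ | ⟨hqo, F₁, B, hc, hne, hform, hle⟩ |
      ⟨F₁, B, ζ, hc, hne, hζ, hζq, hform, halt, hle⟩
    · exact Or.inl ⟨F₁, r, B, hr, hrodd, hc, hform, key _ hle (not_su_le_subfieldSubgroup' hF (by omega) hne B)⟩
    · exact Or.inr (Or.inr ⟨hqo, F₁, B, hc, hform, key _ hle (not_su_le_subfieldSubgroup' hF (by omega) hne B)⟩)
    · exact Or.inr (Or.inl ⟨F₁, B, ζ, hc, hζ, hζq, hform, halt,
        key _ hle (not_su_le_subfieldSubgroup' hF (by omega) hne B)⟩)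
  right; right
  rcases form_master_data (σ := Unitary.conjHom hF) (Φ := 1) (G := G) (by omega) (herm_one hF)
      (sim_sup_scalars hF hHU) le_sup_right (irred_sup_scalars hirr) with
    ⟨m, t, D, htm, hle, hD⟩ | ⟨r, K, hr, hrn, hK, hadj, hle⟩ | ⟨d, t, hd, ht, hT⟩ |
    ⟨hgood, d, k, hd, hk, htr, hW⟩ | ⟨hgood, r, m, z, p, f, R, hR⟩ | ⟨hgood, P, hP⟩
  · rw [hcard] at htm
    rw [← hermForm_eq_gram hF] at hD
    rcases hD with hD | ⟨rfl, hD, hts⟩
    · exact Or.inl (hdec m t D htm hD (hHG.trans hle))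
    · refine Or.inr (Or.inl ⟨m, D, htm, hD, hts, key _ (hHG.trans hle) ?_⟩)
      exact not_su_le_decomposition hF (by omega) (by omega : 2 ≤ m) hD
  · rw [hcard] at hrn
    have hrodd : Odd r := hr.odd_of_ne_two fun h2 => quad_field_false hF (h2 ▸ hK) hadj
    refine Or.inr (Or.inr (Or.inl ⟨r, K, hr, hrodd, hrn, hK, fun k hk => ⟨adj _ 1 k, hadj k hk, fun u v => ?_⟩,
      key _ (hHG.trans hle) (not_su_le_subalgebraNormalizer hF (by omega) hr.two_le hK)⟩))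
    rw [hermForm_eq_gram hF]
    exact form_adj (herm_one hF) k u v
  · have hn' : d * t = n := hT.1.trans hcard
    wlog hdt : d ≤ t generalizing d t
    · exact this t d ht hd hT.swap (by rw [mul_comm]; exact hn') (by omega)
    rcases Nat.lt_or_eq_of_le hdt with hlt | rfl
    swap
    · exact Or.inr (Or.inr (Or.inr (Or.inr (Or.inr (Or.inr (Or.inr (Or.inr (Or.inl ⟨d, hd, hn', hT⟩))))))))
    by_cases hq' : d = 2 ∧ q = 2
    · obtain ⟨rfl, rfl⟩ := hq'
      obtain ⟨D, hD, hle⟩ := tensor_two_decomp hF (by omega) hHG hHU hT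
      exact Or.inl (hdec t 2 D hn' hD hle)
    refine Or.inr (Or.inr (Or.inr (Or.inl ⟨d, t, hn', hd, hlt, by omega, fun e => ?_⟩)))
    obtain ⟨P, f₁, f₂, h1, h2, h3, h4⟩ := tensor_unitary_forms hF (by omega) (by omega) hT e
    exact ⟨P, f₁, f₂, h1, h2, h3, key _ (hHG.trans h4) (not_su_le_tensor hF (by omega) hd ht e P)⟩
  · right; right; right; right
    rcases eq_or_ne d 2 with hd2 | hd2
    · obtain ⟨P, hP, hPn, hPp, hPs, hPt⟩ := htr hd2
      have hPH := perfect_le hP hPp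
      obtain ⟨F₀, hF₀, hreal⟩ := realisable_of_trace_real hF (hPH.trans hHU) hPs hPt (by omega)
      rcases hsub P hPH (fun h hh => hPn h (hHG hh)) hPs F₀ hF₀ hreal with h | h | h
      · exact Or.inl h
      · exact Or.inr (Or.inl h)
      · exact Or.inr (Or.inr (Or.inl h))
    · refine Or.inr (Or.inr (Or.inr (Or.inr (Or.inr (Or.inl
        ⟨d, k, by omega, hk, (hW.wreath (by omega) (by omega)).1.trans hcard, hgood, hW⟩)))))
  · exact Or.inr (Or.inr (Or.inr (Or.inr (Or.inr (Or.inr (Or.inr (Or.inl ⟨r, m, z, p, f, R, hgood, hR⟩)))))))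
  · have hP' := core_mono hP
    right; right; right; right
    by_cases hreal : ∃ F₀ : Subfield F, F₀ ≠ ⊤ ∧ Geo.RealisableOver F₀ (Geo.matrixSet P)
    · obtain ⟨F₀, hF₀, hr⟩ := hreal
      rcases hsub P hP'.le hP'.normal hP'.span_eq F₀ hF₀ hr with h | h | h
      · exact Or.inl h
      · exact Or.inr (Or.inl h)
      · exact Or.inr (Or.inr (Or.inl h))
    refine Or.inr (Or.inr (Or.inr (Or.inr (Or.inr (Or.inr
      ⟨P, hP'.residualCore fun F₀ h hr => hreal ⟨F₀, h, hr⟩, ?_, ?_⟩)))))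
    · rintro ⟨Q, hQ, hfix⟩
      exact hreal (realisable_of_trace_real hF (hP'.le.trans hHU) hP'.span_eq (trace_inv_of_quad hQ hfix) (by omega))
    · rintro ⟨f, hf, hfix⟩
      exact hreal (realisable_of_trace_real hF (hP'.le.trans hHU) hP'.span_eq
        (trace_inv_of_symplectic hf hfix) (by omega))

/-- The case n ≥ 5 of `su_cases'`. -/
theorem su_cases (hF : Fintype.card F = q ^ 2) (h5 : 5 ≤ n) {H : Subgroup (GL (Fin n) F)}
    (hH : Geo.IsMaximalIn Γ H) :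
    (∃ W : Submodule F (Fin n → F), W ≠ ⊥ ∧ Geo.IsTotallySingularFor hq W ∧
      H = Geo.subspaceStabilizer W ⊓ Γ) ∨
    (∃ W : Submodule F (Fin n → F), W ≠ ⊥ ∧ Geo.IsNondegenerateOn hq W ∧ 2 * Module.finrank F W < n ∧
      H = Geo.subspaceStabilizer W ⊓ Γ) ∨
    (∃ (m t : ℕ) (D : Fin t → Submodule F (Fin n → F)), t * m = n ∧ 2 ≤ t ∧ (m = 2 → 3 ≤ q) ∧
      Geo.IsNondegenerateMDecomposition hq m D ∧ H = Geo.decompositionStabilizer D ⊓ Γ) ∨
    (∃ (m : ℕ) (D : Fin 2 → Submodule F (Fin n → F)), 2 * m = n ∧ Geo.IsMDecomposition m D ∧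
      (∀ i, Geo.IsTotallySingularFor hq (D i)) ∧ H = Geo.decompositionStabilizer D ⊓ Γ) ∨
    (∃ (r : ℕ) (K : Subalgebra F (Matrix (Fin n) (Fin n) F)), r.Prime ∧ Odd r ∧ r ∣ n ∧
      Geo.IsFieldSubalgebra r K ∧ Geo.IsAdjointClosedFor hq K ∧ H = Geo.subalgebraNormalizer K ⊓ Γ) ∨
    (∃ (d t : ℕ), d * t = n ∧ 2 ≤ d ∧ d < t ∧ (d = 2 → 3 ≤ q) ∧ ∀ e : Fin n ≃ Fin d × Fin t,
      ∃ (P : GL (Fin n) F) (f₁ : (Fin d → F) → (Fin d → F) → F) (f₂ : (Fin t → F) → (Fin t → F) → F),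
        Geo.IsUnitaryFormPow q f₁ ∧ Geo.IsUnitaryFormPow q f₂ ∧
        Geo.IsTensorFormStructure (fun x : F => x ^ q) hq f₁ f₂ e P ∧
        H = Geo.tensorProductSubgroup d t e P ⊓ Γ) ∨
    (∃ (F₀ : Subfield F) (r : ℕ) (P : GL (Fin n) F), r.Prime ∧ Odd r ∧ Fintype.card F = Nat.card F₀ ^ r ∧
      Geo.IsFormRationalStructure hq F₀ 1 P ∧ H = Geo.subfieldSubgroup F₀ P ⊓ Γ) ∨
    (∃ (F₀ : Subfield F) (P : GL (Fin n) F) (ζ : F), Fintype.card F = Nat.card F₀ ^ 2 ∧ ζ ≠ 0 ∧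
      ζ + ζ ^ q = 0 ∧ Geo.IsFormRationalStructure hq F₀ ζ P ∧
      (∀ u : Fin n → F, (∀ i, u i ∈ F₀) →
        hq ((P : Matrix (Fin n) (Fin n) F) *ᵥ u) ((P : Matrix (Fin n) (Fin n) F) *ᵥ u) = 0) ∧
      H = Geo.subfieldSubgroup F₀ P ⊓ Γ) ∨
    (Odd q ∧ ∃ (F₀ : Subfield F) (P : GL (Fin n) F), Fintype.card F = Nat.card F₀ ^ 2 ∧
      Geo.IsFormRationalStructure hq F₀ 1 P ∧ H = Geo.subfieldSubgroup F₀ P ⊓ Γ) ∨
    (∃ (r m z p f : ℕ) (R : Subgroup (GL (Fin n) F)), Good (H ⊔ Geo.scalars (Fin n) F) ∧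
      SympData (H ⊔ Geo.scalars (Fin n) F) r m z p f R) ∨
    (∃ d : ℕ, 2 ≤ d ∧ d * d = n ∧ FTensor (Unitary.conjHom hF) 1 (H ⊔ Geo.scalars (Fin n) F) d d) ∨
    (∃ d k : ℕ, 3 ≤ d ∧ 2 ≤ k ∧ d ^ k = n ∧ Good (H ⊔ Geo.scalars (Fin n) F) ∧
      TIData (H ⊔ Geo.scalars (Fin n) F) d k) ∨
    Geo.InUnitaryResidualClass H :=
  su_cases' hF (by omega) hH

end Cfsg.Agent.Aschbacher
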