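/-
Symplectic-type subgroups of SU_n(q), n = 8 or 9.
Main results: `trace_zero_of_comm`, `su_symp_two` (n = 8), `su_symp_three` (n = 9).
-/
import Cfsg.Agent.Lib.Aschbacher.UnitaryCases

set_option autoImplicit false

namespace Cfsg.Agent.Aschbacher

open Matrix
open scoped commutatorElement
open Cfsg.Agent.PrimeDim

variable {F : Type*} [Field F] {ι : Type} [Fintype ι] [DecidableEq ι]

theorem trace_zero_of_comm [Nonempty ι] {R : Subgroup (GL ι F)}
    (hspan : Submodule.span F (Geo.matrixSet R) = ⊤)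
    (hcomm : ∀ x ∈ R, ∀ y ∈ R, ⁅x, y⁆ ∈ Geo.scalars ι F) {x : GL ι F} (hx : x ∈ R)
    (hxs : x ∉ Geo.scalars ι F) : (x : Matrix ι ι F).trace = 0 := by
  by_contra htr
  refine hxs ?_
  obtain ⟨c, hc⟩ := scalar_of_span hspan (x : Matrix ι ι F) (by
    rintro _ ⟨y, hy, rfl⟩
    obtain ⟨c, hc⟩ := (Geo.mem_scalars_iff _).mp (hcomm y hy x hx)
    have h1 : cj y (x : Matrix ι ι F) = (c : F) • (x : Matrix ι ι F) := by
      rw [cj_apply, ← Units.val_mul, ← Units.val_mul,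
        show y * x * y⁻¹ = ⁅y, x⁆ * x by rw [commutatorElement_def]; group, Units.val_mul, hc, Matrix.smul_mul,
        one_mul]
    have h2 := congrArg Matrix.trace h1
    rw [cj_apply, Matrix.trace_mul_cycle, Units.inv_mul, one_mul, Matrix.trace_smul, smul_eq_mul] at h2
    rw [(mul_eq_right₀ htr).mp h2.symm, one_smul] at h1
    exact ((cj_eq_self_iff (g := y) (x := (x : Matrix ι ι F))).mp h1).symm)
  exact smul_one_mem_scalars hc

variable [Fintype F] {n q : ℕ}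

local notation "hq" => Cfsg.hermForm n F q
local notation "Γ" => Cfsg.GU n F q ⊓ Geo.specialLinear (Fin n) F

/-- A normal spanning subgroup with traces in a proper subfield: class 5. -/
theorem su_subfield_of_trace (hF : Fintype.card F = q ^ 2) (h5 : 5 ≤ n) {H P : Subgroup (GL (Fin n) F)}
    (hH : Geo.IsMaximalIn Γ H) (hHP : NormBy H P) (hPU : P ≤ Cfsg.GU n F q)
    (hspan : Submodule.span F (Geo.matrixSet P) = ⊤) {E : Subfield F} (hE : E ≠ ⊤)
    (htr : ∀ x ∈ P, (x : Matrix (Fin n) (Fin n) F).trace ∈ E) :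
    (∃ (F₀ : Subfield F) (r : ℕ) (P : GL (Fin n) F), r.Prime ∧ Odd r ∧ Fintype.card F = Nat.card F₀ ^ r ∧
      Geo.IsFormRationalStructure hq F₀ 1 P ∧ H = Geo.subfieldSubgroup F₀ P ⊓ Γ) ∨
    (∃ (F₀ : Subfield F) (P : GL (Fin n) F) (ζ : F), Fintype.card F = Nat.card F₀ ^ 2 ∧ ζ ≠ 0 ∧
      ζ + ζ ^ q = 0 ∧ Geo.IsFormRationalStructure hq F₀ ζ P ∧
      (∀ u : Fin n → F, (∀ i, u i ∈ F₀) →
        hq ((P : Matrix (Fin n) (Fin n) F) *ᵥ u) ((P : Matrix (Fin n) (Fin n) F) *ᵥ u) = 0) ∧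
      H = Geo.subfieldSubgroup F₀ P ⊓ Γ) ∨
    (Odd q ∧ ∃ (F₀ : Subfield F) (P : GL (Fin n) F), Fintype.card F = Nat.card F₀ ^ 2 ∧
      Geo.IsFormRationalStructure hq F₀ 1 P ∧ H = Geo.subfieldSubgroup F₀ P ⊓ Γ) := by
  have : Nonempty (Fin n) := ⟨⟨0, by omega⟩⟩
  have key : ∀ M : Subgroup (GL (Fin n) F), H ≤ M → ¬ Γ ≤ M → H = M ⊓ Γ := by
    intro M h1 h2
    rcases hH.2 (M ⊓ Γ) (le_inf h1 hH.1.le) inf_le_right with h | h
    · exact h.symm
    · exact absurd (h ▸ inf_le_left) h2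
  rcases su_subfield_outcome hF (by omega) hHP hPU hspan (absIrred_of_span hspan) hE
      (realisableOver_of_trace hspan (absIrred_of_span hspan).2 _ htr) with
    ⟨F₁, r, B, hr, hrodd, hc, hne, hform, hle⟩ | ⟨hqo, F₁, B, hc, hne, hform, hle⟩ |
    ⟨F₁, B, ζ, hc, hne, hζ, hζq, hform, halt, hle⟩
  · exact Or.inl ⟨F₁, r, B, hr, hrodd, hc, hform, key _ hle (not_su_le_subfieldSubgroup' hF (by omega) hne B)⟩
  · exact Or.inr (Or.inr ⟨hqo, F₁, B, hc, hform, key _ hle (not_su_le_subfieldSubgroup' hF (by omega) hne B)⟩)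
  · exact Or.inr (Or.inl ⟨F₁, B, ζ, hc, hζ, hζq, hform, halt,
      key _ hle (not_su_le_subfieldSubgroup' hF (by omega) hne B)⟩)

/-- The isometry part `(R · scalars) ∩ H` of symplectic-type data. -/
theorem symp_part (hF : Fintype.card F = q ^ 2) (hn0 : 0 < n) {H : Subgroup (GL (Fin n) F)}
    (hH : Geo.IsMaximalIn Γ H) {r m z p f : ℕ} {R : Subgroup (GL (Fin n) F)}
    (hR : SympData (H ⊔ Geo.scalars (Fin n) F) r m z p f R) :
    ∃ P : Subgroup (GL (Fin n) F), P ≤ Cfsg.GU n F q ∧ NormBy H P ∧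
      Submodule.span F (Geo.matrixSet P) = ⊤ ∧
      ∀ x ∈ P, (x : Matrix (Fin n) (Fin n) F).trace = 0 ∨
        ∃ a : F, (x : Matrix (Fin n) (Fin n) F).trace = a * n ∧ a ^ (q + 1) = 1 ∧ a ^ n = 1 := by
  have : Nonempty (Fin n) := ⟨⟨0, hn0⟩⟩
  refine ⟨(R ⊔ Geo.scalars (Fin n) F) ⊓ H, inf_le_right.trans (hH.1.le.trans inf_le_left), ?_, ?_, ?_⟩
  · intro g hg x hx
    refine ⟨?_, H.mul_mem (H.mul_mem hg hx.2) (H.inv_mem hg)⟩
    obtain ⟨y, hy, s, hs, rfl⟩ := Subgroup.mem_sup_of_normal_right.mp hx.1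
    rw [conj_mul_scalar hs g y]
    exact mul_mem (Subgroup.mem_sup_left (hR.norm g (le_sup_left (a := H) hg) y hy)) (Subgroup.mem_sup_right hs)
  · rw [eq_top_iff, ← hR.span, Submodule.span_le]
    rintro _ ⟨x, hx, rfl⟩
    obtain ⟨g, hg, s, hs, hgs⟩ := Subgroup.mem_sup_of_normal_right.mp (hR.le hx)
    obtain ⟨a, ha⟩ := (Geo.mem_scalars_iff _).mp hs
    have hmem : g ∈ (R ⊔ Geo.scalars (Fin n) F) ⊓ H := by
      refine ⟨?_, hg⟩
      rw [show g = x * s⁻¹ by rw [← hgs, mul_inv_cancel_right]]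
      exact mul_mem (Subgroup.mem_sup_left hx) (Subgroup.mem_sup_right (inv_mem hs))
    have : (x : Matrix (Fin n) (Fin n) F) = (a : F) • (g : Matrix (Fin n) (Fin n) F) := by
      rw [← hgs, Units.val_mul, ha, Matrix.mul_smul, mul_one]
    show (x : Matrix (Fin n) (Fin n) F) ∈ _
    rw [this]
    exact Submodule.smul_mem _ _ (Submodule.subset_span (mem_matrixSet hmem))
  · intro x hx
    obtain ⟨y, hy, s, hs, hys⟩ := Subgroup.mem_sup_of_normal_right.mp hx.1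
    by_cases hys' : y ∈ Geo.scalars (Fin n) F
    · right
      obtain ⟨a, ha⟩ := (Geo.mem_scalars_iff _).mp (hys ▸ mul_mem hys' hs : x ∈ _)
      refine ⟨a, by rw [ha, Matrix.trace_smul, Matrix.trace_one, Fintype.card_fin, smul_eq_mul], ?_, ?_⟩
      · have h1 := gram_of_mem_GU hF ((hH.1.le hx.2).1)
        rw [ha, mul_one, Matrix.transpose_smul, Matrix.transpose_one, map_smul', Matrix.map_one _ (map_zero _)
          (map_one _), Matrix.smul_mul, one_mul, smul_smul] at h1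
        have h2 := smul_one_inj (h1.trans (one_smul F _).symm)
        rwa [conjHom_apply', ← pow_succ'] at h2
      · have h1 : Matrix.GeneralLinearGroup.det x = 1 := (hH.1.le hx.2).2
        have h2 := congrArg Units.val h1
        rw [Matrix.GeneralLinearGroup.val_det_apply, ha, Matrix.det_smul, Matrix.det_one, mul_one,
          Fintype.card_fin, Units.val_one] at h2
        exact h2
    · left
      obtain ⟨a, ha⟩ := (Geo.mem_scalars_iff _).mp hs
      rw [← hys, Units.val_mul, ha, Matrix.mul_smul, mul_one, Matrix.trace_smul,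
        trace_zero_of_comm hR.span hR.comm hy hys', smul_zero]

theorem q_of_card (hF : Fintype.card F = q ^ 2) {p f : ℕ} (hp : p.Prime) (hf : Nat.card F = p ^ f) :
    ∃ e : ℕ, 1 ≤ e ∧ q = p ^ e ∧ f = 2 * e := by
  rw [Nat.card_eq_fintype_card, hF] at hf
  obtain ⟨e, -, he⟩ := (Nat.dvd_prime_pow hp).mp (hf ▸ dvd_pow_self q two_ne_zero : q ∣ p ^ f)
  have h2 := Unitary.two_le_q hF
  refine ⟨e, Nat.one_le_iff_ne_zero.mpr fun h0 => by subst h0; simp at he; omega, he, ?_⟩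
  refine Nat.pow_right_injective hp.two_le ?_
  show p ^ f = p ^ (2 * e)
  rw [← hf, he, ← pow_mul, mul_comm]

theorem similarity_of_sim (hF : Fintype.card F = q ^ 2) {H R : Subgroup (GL (Fin n) F)}
    (hH : Geo.IsMaximalIn Γ H) (hR : R ≤ H ⊔ Geo.scalars (Fin n) F) : R ≤ Geo.similarityGroup hq := by
  intro g hg
  obtain ⟨c, hc, hgc⟩ := sim_sup_scalars hF (hH.1.le.trans inf_le_left) g (hR hg)
  refine ⟨Units.mk0 c hc, fun u v => ?_⟩
  rw [hermForm_eq_sesq hF]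
  exact (sesq_invariant_iff _ _ _ _).mpr hgc u v

theorem symp_normalizer_eq (hF : Fintype.card F = q ^ 2) (h5 : 5 ≤ n) {H : Subgroup (GL (Fin n) F)}
    (hH : Geo.IsMaximalIn Γ H) {r m z p f : ℕ} {R : Subgroup (GL (Fin n) F)}
    (hR : SympData (H ⊔ Geo.scalars (Fin n) F) r m z p f R) :
    H = Geo.subgroupNormalizer R ⊓ Γ := by
  have : Nonempty (Fin n) := ⟨⟨0, by omega⟩⟩
  have hle : H ≤ Geo.subgroupNormalizer R :=
    (le_sup_left (a := H)).trans (le_subgroupNormalizer hR.norm)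
  rcases hH.2 (Geo.subgroupNormalizer R ⊓ Γ) (le_inf hle hH.1.le) inf_le_right with h | h
  · exact h.symm
  · refine absurd (h ▸ inf_le_left) (not_su_le_normalizer_of_comm hF h5 (absIrred_of_span hR.span) ?_)
    intro y hy x hx
    have := hR.comm x hx y hy
    rwa [commutatorElement_def] at this

/-- Symplectic type in SU_8. -/
theorem su_symp_two (hF : Fintype.card F = q ^ 2) (hn : n = 8) {H : Subgroup (GL (Fin n) F)}
    (hH : Geo.IsMaximalIn Γ H) {r m z p f : ℕ} {R : Subgroup (GL (Fin n) F)}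
    (hR : SympData (H ⊔ Geo.scalars (Fin n) F) r m z p f R) :
    ((∃ (F₀ : Subfield F) (r : ℕ) (P : GL (Fin n) F), r.Prime ∧ Odd r ∧ Fintype.card F = Nat.card F₀ ^ r ∧
      Geo.IsFormRationalStructure hq F₀ 1 P ∧ H = Geo.subfieldSubgroup F₀ P ⊓ Γ) ∨
    (∃ (F₀ : Subfield F) (P : GL (Fin n) F) (ζ : F), Fintype.card F = Nat.card F₀ ^ 2 ∧ ζ ≠ 0 ∧
      ζ + ζ ^ q = 0 ∧ Geo.IsFormRationalStructure hq F₀ ζ P ∧
      (∀ u : Fin n → F, (∀ i, u i ∈ F₀) →
        hq ((P : Matrix (Fin n) (Fin n) F) *ᵥ u) ((P : Matrix (Fin n) (Fin n) F) *ᵥ u) = 0) ∧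
      H = Geo.subfieldSubgroup F₀ P ⊓ Γ) ∨
    (Odd q ∧ ∃ (F₀ : Subfield F) (P : GL (Fin n) F), Fintype.card F = Nat.card F₀ ^ 2 ∧
      Geo.IsFormRationalStructure hq F₀ 1 P ∧ H = Geo.subfieldSubgroup F₀ P ⊓ Γ)) ∨
    ∃ (p : ℕ) (R : Subgroup (GL (Fin n) F)), p.Prime ∧ q = p ∧ p % 4 = 3 ∧
      Geo.IsSymplecticTypeGroup 2 R ∧ Geo.ActsAbsolutelyIrreducibly (Geo.matrixSet R) ∧
      R ≤ Geo.similarityGroup hq ∧ Nat.card R = 256 ∧ Nat.card (Subgroup.center R) = 4 ∧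
      H = Geo.subgroupNormalizer R ⊓ Γ := by
  obtain ⟨hp, hpc, hf, hzf, hrp⟩ := hR.charP
  have hcard := hR.card_eq
  rw [Fintype.card_fin, hn] at hcard
  have hr2 : r = 2 := by
    have hrl : r ∣ 2 ^ 3 := by
      rw [show (2 : ℕ) ^ 3 = 8 from rfl, hcard]; exact dvd_pow_self r (by have := hR.pos; omega)
    exact (Nat.prime_dvd_prime_iff_eq hR.prime Nat.prime_two).mp (hR.prime.dvd_of_dvd_pow hrl)
  obtain ⟨e, he1, hqe, hfe⟩ := q_of_card hF hp hf
  have hpo : p % 2 = 1 := hp.eq_two_or_odd.resolve_left fun h => hrp (hr2.trans h.symm)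
  have hqo : q % 2 = 1 := by simp [hqe, Nat.pow_mod, hpo]
  obtain ⟨P, hPU, hPn, hPs, hPt⟩ := symp_part hF (by omega) hH hR
  have : Fact p.Prime := ⟨hp⟩
  have : ExpChar F p := ExpChar.prime hp
  rcases (show q % 4 = 1 ∨ (q % 4 = 3 ∧ 2 ≤ e) ∨ (q % 4 = 3 ∧ e = 1) by omega) with hq1 | ⟨hq3, he⟩ | ⟨hq3, he⟩
  · refine Or.inl (su_subfield_of_trace hF (by omega) hH hPn hPU hPs (E := Unitary.fixedField hF) ?_ fun x hx => ?_)
    · exact fun htop => Unitary.conjHom_ne_id hF (RingHom.ext fun x =>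
        (Unitary.mem_fixedField hF).mp (htop ▸ Subfield.mem_top x))
    rcases hPt x hx with h | ⟨a, h, ha1, ha8⟩
    · rw [h]; exact zero_mem _
    rw [h]
    refine mul_mem ((Unitary.mem_fixedField hF).mpr ?_) (natCast_mem _ _)
    rw [hn] at ha8
    have ha2 : a ^ 2 = 1 := by
      have h2 : a ^ Nat.gcd (q + 1) 8 = 1 := pow_gcd_eq_one.mpr ⟨ha1, ha8⟩
      have hg : Nat.gcd (q + 1) 8 = 2 := by
        obtain ⟨j, hj⟩ : ∃ j, q + 1 = 2 * (2 * j + 1) := ⟨q / 4, by omega⟩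
        rw [hj, show 8 = 2 * 4 from rfl, Nat.gcd_mul_left]
        have : Nat.gcd (2 * j + 1) 4 = 1 := by
          have hc2 : Nat.Coprime (2 * j + 1) 2 := by
            rw [Nat.coprime_two_right]; exact ⟨j, rfl⟩
          exact hc2.pow_right 2
        rw [this]
      rwa [hg] at h2
    obtain ⟨j, hj⟩ : ∃ j, q = 2 * j + 1 := ⟨q / 2, by omega⟩
    rw [hj, pow_succ, pow_mul, ha2, one_pow, one_mul]
  · refine Or.inl (su_subfield_of_trace hF (by omega) hH hPn hPU hPs (E := fixedSubfield F p 2)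
      (fixedSubfield_ne_top hp (by rw [← Nat.card_eq_fintype_card, hf, hfe]) two_pos (by omega)) fun x hx => ?_)
    rcases hPt x hx with h | ⟨a, h, -, ha8⟩
    · rw [h]; exact zero_mem _
    rw [h]
    refine mul_mem (mem_fixedSubfield.mpr ?_) (natCast_mem _ _)
    rw [hn] at ha8
    obtain ⟨j, hj⟩ : ∃ j, p ^ 2 = 8 * j + 1 := by
      obtain ⟨i, rfl⟩ : ∃ i, p = 2 * i + 1 := ⟨p / 2, by omega⟩
      obtain ⟨k, hk⟩ := Nat.even_mul_succ_self i
      exact ⟨k, by linear_combination 4 * hk⟩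
    rw [hj, pow_succ, pow_mul, ha8, one_pow, one_mul]
  · right
    have hqp : q = p := by rw [hqe, he, pow_one]
    have hz : z = 4 := by
      rcases hR.kind with ⟨ho, -⟩ | ⟨-, hz, -⟩ | ⟨-, -, hns⟩
      · rw [hr2] at ho; exact absurd ho (by decide)
      · exact hz
      · refine absurd ?_ hns
        rw [FiniteField.isSquare_neg_one_iff, ← Nat.card_eq_fintype_card, hf, hfe, pow_mul]
        have : p ^ 2 % 4 = 1 := by rw [Nat.pow_mod]; rcases (show p % 4 = 1 ∨ p % 4 = 3 by omega) with h | h <;> rw [h]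
        rw [Nat.pow_mod, this, one_pow]; decide
    refine ⟨p, R, hp, hqp, hqp ▸ hq3, hr2 ▸ hR.sympType, absIrred_of_span hR.span,
      similarity_of_sim hF hH hR.le, ?_, hR.card_center.trans hz, symp_normalizer_eq hF (by omega) hH hR⟩
    rw [hR.card_group, hz, Fintype.card_fin, hn]

/-- Symplectic type in SU_9. -/
theorem su_symp_three (hF : Fintype.card F = q ^ 2) (hn : n = 9) {H : Subgroup (GL (Fin n) F)}
    (hH : Geo.IsMaximalIn Γ H) {r m z p f : ℕ} {R : Subgroup (GL (Fin n) F)}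
    (hR : SympData (H ⊔ Geo.scalars (Fin n) F) r m z p f R) :
    ((∃ (F₀ : Subfield F) (r : ℕ) (P : GL (Fin n) F), r.Prime ∧ Odd r ∧ Fintype.card F = Nat.card F₀ ^ r ∧
      Geo.IsFormRationalStructure hq F₀ 1 P ∧ H = Geo.subfieldSubgroup F₀ P ⊓ Γ) ∨
    (∃ (F₀ : Subfield F) (P : GL (Fin n) F) (ζ : F), Fintype.card F = Nat.card F₀ ^ 2 ∧ ζ ≠ 0 ∧
      ζ + ζ ^ q = 0 ∧ Geo.IsFormRationalStructure hq F₀ ζ P ∧
      (∀ u : Fin n → F, (∀ i, u i ∈ F₀) →
        hq ((P : Matrix (Fin n) (Fin n) F) *ᵥ u) ((P : Matrix (Fin n) (Fin n) F) *ᵥ u) = 0) ∧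
      H = Geo.subfieldSubgroup F₀ P ⊓ Γ) ∨
    (Odd q ∧ ∃ (F₀ : Subfield F) (P : GL (Fin n) F), Fintype.card F = Nat.card F₀ ^ 2 ∧
      Geo.IsFormRationalStructure hq F₀ 1 P ∧ H = Geo.subfieldSubgroup F₀ P ⊓ Γ)) ∨
    ∃ (p : ℕ) (R : Subgroup (GL (Fin n) F)), p.Prime ∧ q = p ∧ p % 3 = 2 ∧
      Geo.IsSymplecticTypeGroup 3 R ∧ Geo.ActsAbsolutelyIrreducibly (Geo.matrixSet R) ∧
      R ≤ Geo.similarityGroup hq ∧ Nat.card R = 243 ∧ Nat.card (Subgroup.center R) = 3 ∧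
      H = Geo.subgroupNormalizer R ⊓ Γ := by
  have : Nonempty (Fin n) := ⟨⟨0, by omega⟩⟩
  obtain ⟨hp, hpc, hf, hzf, hrp⟩ := hR.charP
  have hcard := hR.card_eq
  rw [Fintype.card_fin, hn] at hcard
  have hr3 : r = 3 := by
    have hrl : r ∣ 3 ^ 2 := by
      rw [show (3 : ℕ) ^ 2 = 9 from rfl, hcard]; exact dvd_pow_self r (by have := hR.pos; omega)
    exact (Nat.prime_dvd_prime_iff_eq hR.prime Nat.prime_three).mp (hR.prime.dvd_of_dvd_pow hrl)
  obtain ⟨e, he1, hqe, hfe⟩ := q_of_card hF hp hf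
  have hp3 : p % 3 ≠ 0 := fun h0 =>
    hrp (hr3.trans ((Nat.prime_dvd_prime_iff_eq Nat.prime_three hp).mp (Nat.dvd_of_mod_eq_zero h0)))
  have hz : z = 3 := by
    rcases hR.kind with ⟨-, hz⟩ | ⟨h, -, -⟩ | ⟨h, -, -⟩ <;> omega
  have : Fact p.Prime := ⟨hp⟩
  have : ExpChar F p := ExpChar.prime hp
  have hq3 : q % 3 ≠ 0 := by
    intro h0
    rw [hqe] at h0
    exact hp3 (Nat.dvd_iff_mod_eq_zero.mp (Nat.prime_three.dvd_of_dvd_pow (Nat.dvd_of_mod_eq_zero h0)))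
  rcases (show q % 3 = 1 ∨ (q % 3 = 2 ∧ 2 ≤ e) ∨ (q % 3 = 2 ∧ e = 1) by omega) with hq1 | ⟨hq2, he⟩ | ⟨hq2, he⟩
  · obtain ⟨P, hPU, hPn, hPs, hPt⟩ := symp_part hF (by omega) hH hR
    refine Or.inl (su_subfield_of_trace hF (by omega) hH hPn hPU hPs (E := Unitary.fixedField hF) ?_ fun x hx => ?_)
    · exact fun htop => Unitary.conjHom_ne_id hF (RingHom.ext fun x =>
        (Unitary.mem_fixedField hF).mp (htop ▸ Subfield.mem_top x))
    rcases hPt x hx with h | ⟨a, h, ha1, ha9⟩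
    · rw [h]; exact zero_mem _
    rw [h]
    refine mul_mem ((Unitary.mem_fixedField hF).mpr ?_) (natCast_mem _ _)
    rw [hn] at ha9
    have h2 : a ^ Nat.gcd (q + 1) 9 = 1 := pow_gcd_eq_one.mpr ⟨ha1, ha9⟩
    have hg : Nat.gcd (q + 1) 9 = 1 := by
      have hc3 : Nat.Coprime (q + 1) 3 := by
        rw [Nat.coprime_comm, Nat.prime_three.coprime_iff_not_dvd]; omega
      exact hc3.pow_right 2
    rw [hg, pow_one] at h2
    rw [h2, one_pow]
  · -- R consists of isometries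
    have hRU : R ≤ Cfsg.GU n F q := by
      intro x hx
      obtain ⟨g, hg, s, hs, hgs⟩ := Subgroup.mem_sup_of_normal_right.mp (hR.le hx)
      obtain ⟨c, hc⟩ := (Geo.mem_scalars_iff _).mp hs
      have hx3 : x ^ 3 = 1 := by
        have h1 : (⟨x, hx⟩ : R) ^ 3 = 1 := by
          rw [← Monoid.pow_exponent_eq_one (⟨x, hx⟩ : R), hR.sympType.exponent_eq, hr3]; rfl
        exact congrArg Subtype.val h1
      have hgU := (hH.1.le hg).1
      have h1 := gram_of_mem_GU hF (pow_mem hgU 3)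
      have hgc : ((g ^ 3 : GL (Fin n) F) : Matrix (Fin n) (Fin n) F) = ((c : F)⁻¹) ^ 3 • 1 := by
        have h3 := congrArg Units.val hx3
        rw [← hgs, Units.val_pow_eq_pow_val, Units.val_mul, hc, Matrix.mul_smul, mul_one, smul_pow,
          Units.val_one] at h3
        rw [Units.val_pow_eq_pow_val, inv_pow]
        calc (g : Matrix (Fin n) (Fin n) F) ^ 3
            = ((c : F) ^ 3)⁻¹ • ((c : F) ^ 3 • (g : Matrix (Fin n) (Fin n) F) ^ 3) := by
              rw [smul_smul, inv_mul_cancel₀ (pow_ne_zero _ c.ne_zero), one_smul]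
          _ = _ := by rw [h3]
      rw [hgc, mul_one, Matrix.transpose_smul, Matrix.transpose_one, map_smul', Matrix.map_one _ (map_zero _)
        (map_one _), Matrix.smul_mul, one_mul, smul_smul] at h1
      have h2 := smul_one_inj (h1.trans (one_smul F _).symm)
      rw [conjHom_apply', ← pow_succ', ← pow_mul, mul_comm, pow_mul, inv_pow, inv_pow, inv_eq_one] at h2
      -- the multiplier is trivial
      set ν := (c : F) ^ (q + 1) with hν
      have hνq : ν ^ q = ν := by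
        rw [hν, ← pow_mul, add_mul, one_mul, ← sq, pow_add, ← hF, FiniteField.pow_card, pow_succ, mul_comm]
      have hν1 : ν = 1 := by
        obtain ⟨j, hj⟩ : ∃ j, q = 3 * j + 2 := ⟨q / 3, by omega⟩
        rw [hj, pow_add, pow_mul, h2, one_pow, one_mul, sq] at hνq
        exact (mul_eq_right₀ (pow_ne_zero _ c.ne_zero)).mp hνq
      have hsU : s ∈ Cfsg.GU n F q := fun u v => by
        have HH := Unitary.hermForm_isHerm hF n
        show hq ((s : Matrix (Fin n) (Fin n) F) *ᵥ u) ((s : Matrix (Fin n) (Fin n) F) *ᵥ v) = _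
        rw [hc, Matrix.smul_mulVec, Matrix.smul_mulVec, Matrix.one_mulVec, Matrix.one_mulVec, HH.smul_left,
          HH.smul_right, ← mul_assoc, ← pow_succ', ← hν, hν1, one_mul]
      rw [← hgs]
      exact mul_mem hgU hsU
    refine Or.inl (su_subfield_of_trace hF (by omega) hH (fun g hg => hR.norm g (le_sup_left (a := H) hg)) hRU
      hR.span (E := fixedSubfield F p 2)
      (fixedSubfield_ne_top hp (by rw [← Nat.card_eq_fintype_card, hf, hfe]) two_pos (by omega)) fun x hx => ?_)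
    rcases hR.trace x hx with ⟨-, h, -⟩ | ⟨a, ha, h, -⟩
    · rw [h]; exact zero_mem _
    rw [h]
    refine mul_mem (mem_fixedSubfield.mpr ?_) (natCast_mem _ _)
    rw [hz] at ha
    obtain ⟨j, hj⟩ : ∃ j, p ^ 2 = 3 * j + 1 := ⟨p ^ 2 / 3, by
      have : p ^ 2 % 3 = 1 := by
        rw [Nat.pow_mod]; rcases (show p % 3 = 1 ∨ p % 3 = 2 by omega) with h | h <;> rw [h]
      omega⟩
    rw [hj, pow_succ, pow_mul, ha, one_pow, one_mul]
  · right
    have hqp : q = p := by rw [hqe, he, pow_one]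
    refine ⟨p, R, hp, hqp, hqp ▸ hq2, hr3 ▸ hR.sympType, absIrred_of_span hR.span,
      similarity_of_sim hF hH hR.le, ?_, hR.card_center.trans hz, symp_normalizer_eq hF (by omega) hH hR⟩
    rw [hR.card_group, hz, Fintype.card_fin, hn]

end Cfsg.Agent.Aschbacher
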