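/-
Groups of symplectic type of exponent four: commutators are central, and the degree of an absolutely
irreducible such group. Main results: `comm_mem_center_of_exp_four`, `symp_two_facts`.
-/
import Cfsg.Agent.Lib.Aschbacher.UnitarySymp

set_option autoImplicit false

namespace Cfsg.Agent.Aschbacher

open Matrix
open scoped commutatorElement
open Cfsg.Agent.PrimeDim

/-- The product of commuting-up-to-inversion elements has order above four. -/
theorem exp_four_core {G : Type*} [Group G] (h4 : ∀ x : G, x ^ 4 = 1) {u h e : G} (he : e * e ≠ 1)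
    (hue : u * e * u⁻¹ = e) (hhe : h * e * h⁻¹ = e⁻¹) (huh : ⁅u, h⁆ = e) : False := by
  rw [commutatorElement_def] at huh
  have hu : e * u = u * e := mul_inv_eq_iff_eq_mul.mp hue |>.symm
  have h1 : h * u = e⁻¹ * u * h := by rw [← huh]; group
  have h2 : h * e = e⁻¹ * h := mul_inv_eq_iff_eq_mul.mp hhe
  have c1 : Commute e⁻¹ u := (show Commute e u from hu).inv_left
  have h3 : h * e⁻¹ = e * h := by rw [show h * e⁻¹ = (h * e * h⁻¹)⁻¹ * h by group, hhe, inv_inv]
  have h5 : h * h * u = u * (h * h) := by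
    calc h * h * u = h * (e⁻¹ * u * h) := by rw [mul_assoc, h1]
      _ = (h * e⁻¹) * u * h := by group
      _ = e * (h * u) * h := by rw [h3]; group
      _ = _ := by rw [h1]; group
  have h6 : h * h * e⁻¹ = e⁻¹ * (h * h) := by
    calc h * h * e⁻¹ = h * (h * e⁻¹) := mul_assoc _ _ _
      _ = (h * e) * h := by rw [h3, mul_assoc]
      _ = _ := by rw [h2, mul_assoc]
  have hsq : (u * h) * (u * h) = e⁻¹ * ((u * u) * (h * h)) := by
    calc (u * h) * (u * h) = u * (h * u) * h := by group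
      _ = (u * e⁻¹) * u * h * h := by rw [h1]; group
      _ = _ := by rw [← c1.eq]; group
  have cu : Commute (h * h) u := h5
  have ce : Commute (h * h) e⁻¹ := h6
  have c2 : Commute ((u * u) * (h * h)) e⁻¹ := (c1.symm.mul_left c1.symm).mul_left ce
  have c3 : Commute (u * u) (h * h) := (cu.symm).mul_left cu.symm
  have h7 := h4 (u * h)
  rw [show (u * h) ^ 4 = ((u * h) * (u * h)) ^ 2 by rw [← sq, ← pow_mul], hsq, c2.symm.mul_pow, c3.mul_pow,
    ← sq, ← sq, ← pow_mul, ← pow_mul, h4, h4, mul_one, mul_one, inv_pow, inv_eq_one, sq] at h7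
  exact he h7

/-- Exponent four and cyclic characteristic abelian subgroups force central commutators. -/
theorem comm_mem_center_of_exp_four {G : Type*} [Group G] [Finite G] (hp : IsPGroup 2 G)
    (h4 : ∀ x : G, x ^ 4 = 1)
    (hcyc : ∀ A : Subgroup G, A.Characteristic → IsMulCommutative A → IsCyclic A) :
    ∀ x y : G, ⁅x, y⁆ ∈ Subgroup.center G := by
  intro x₀ y₀
  have : Fact (Nat.Prime 2) := ⟨Nat.prime_two⟩
  have hmem : ∀ (z : G), z ∈ Subgroup.upperCentralSeries G 2 ↔ ∀ g, ⁅z, g⁆ ∈ Subgroup.center G := fun z => by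
    rw [Subgroup.mem_upperCentralSeries_succ_iff, Subgroup.upperCentralSeries_one]
  by_contra hne
  have hx₀ : x₀ ∉ Subgroup.upperCentralSeries G 2 := fun h => hne ((hmem x₀).mp h y₀)
  set Z₂ := Subgroup.upperCentralSeries G 2 with hZ₂
  have : Nontrivial (G ⧸ Z₂) := ⟨⟨(x₀ : G ⧸ Z₂), 1, fun h => hx₀ ((QuotientGroup.eq_one_iff _).mp h)⟩⟩
  have : Nontrivial (Subgroup.center (G ⧸ Z₂)) := (hp.to_quotient Z₂).center_nontrivial
  obtain ⟨⟨q, hq⟩, hq1⟩ := exists_ne (1 : Subgroup.center (G ⧸ Z₂))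
  obtain ⟨x, rfl⟩ := QuotientGroup.mk_surjective q
  have hx₂ : x ∉ Z₂ := fun h => hq1 (Subtype.ext ((QuotientGroup.eq_one_iff _).mpr h))
  have hxg : ∀ g, ⁅x, g⁆ ∈ Z₂ := fun g => by
    rw [← QuotientGroup.eq_one_iff, commutatorElement_def]
    have := (Subgroup.mem_center_iff.mp hq) (g : G ⧸ Z₂)
    simp only [QuotientGroup.mk_mul, QuotientGroup.mk_inv]
    rw [← this]; group
  obtain ⟨y, hxy⟩ := not_forall.mp fun h => hx₂ ((hmem x).mpr h)
  have hx₃ : x ∈ Subgroup.upperCentralSeries G 3 :=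
    (Subgroup.mem_upperCentralSeries_succ_iff).mpr fun g => by simpa [commutatorElement_def] using hxg g
  set K : Subgroup G := ⁅Subgroup.upperCentralSeries G 3, (⊤ : Subgroup G)⁆ with hK
  have hK₂ : K ≤ Z₂ := Subgroup.commutator_le.mpr fun a ha g _ => by
    have := (Subgroup.mem_upperCentralSeries_succ_iff).mp ha g
    simpa [commutatorElement_def] using this
  have hKab : IsMulCommutative K := by
    refine ⟨⟨fun a b => Subtype.ext ?_⟩⟩
    have hle : ⁅(⊤ : Subgroup G), (⊤ : Subgroup G)⁆ ≤ Subgroup.centralizer {(a : G)} := by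
      refine Subgroup.commutator_le.mpr fun g _ h _ => Subgroup.mem_centralizer_singleton_iff.mpr ?_
      have hg := Subgroup.mem_center_iff.mp ((hmem _).mp (hK₂ a.2) g)
      have hh := Subgroup.mem_center_iff.mp ((hmem _).mp (hK₂ a.2) h)
      have key : (a : G) * ⁅g, h⁆ * (a : G)⁻¹ = ⁅g, h⁆ := by
        have e1 : (a : G) * g * (a : G)⁻¹ = ⁅(a : G), g⁆ * g := by group
        have e2 : (a : G) * h * (a : G)⁻¹ = ⁅(a : G), h⁆ * h := by group
        calc (a : G) * ⁅g, h⁆ * (a : G)⁻¹ = ((a : G) * g * (a : G)⁻¹) * ((a : G) * h * (a : G)⁻¹) *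
            ((a : G) * g * (a : G)⁻¹)⁻¹ * ((a : G) * h * (a : G)⁻¹)⁻¹ := by group
          _ = _ := by
            rw [e1, e2]
            generalize ⁅(a : G), g⁆ = s at hg
            generalize ⁅(a : G), h⁆ = t at hh
            have cs : ∀ v, Commute s v := fun v => (hg v).symm
            have ct : ∀ v, Commute t v := fun v => (hh v).symm
            rw [_root_.mul_inv_rev, _root_.mul_inv_rev, commutatorElement_def]
            calc s * g * (t * h) * (g⁻¹ * s⁻¹) * (h⁻¹ * t⁻¹) = s * g * (t * h) * g⁻¹ * (s⁻¹ * (h⁻¹ * t⁻¹)) := by group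
              _ = s * g * (t * h) * g⁻¹ * ((h⁻¹ * t⁻¹) * s⁻¹) := by rw [(cs _).inv_left.eq]
              _ = s * ((g * t) * h * g⁻¹ * h⁻¹ * t⁻¹) * s⁻¹ := by group
              _ = (g * t) * h * g⁻¹ * h⁻¹ * t⁻¹ := by rw [(cs _).eq, mul_inv_cancel_right]
              _ = t * (g * h * g⁻¹ * h⁻¹) * t⁻¹ := by rw [← (ct g).eq]; group
              _ = _ := by rw [(ct _).eq, mul_inv_cancel_right]
      exact (mul_inv_eq_iff_eq_mul.mp key).symm
    have hb : (b : G) ∈ Subgroup.centralizer {(a : G)} :=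
      hle (Subgroup.commutator_mono le_top le_rfl b.2)
    exact (Subgroup.mem_centralizer_singleton_iff.mp hb).symm
  have hKchar : K.Characteristic := inferInstance
  obtain ⟨c, hc⟩ := (hcyc K hKchar hKab).exists_generator
  have hc4 : (c : G) ^ 4 = 1 := h4 _
  have hval : ∀ z ∈ K, z = 1 ∨ z = (c : G) ∨ z = (c : G) ^ 2 ∨ z = (c : G)⁻¹ := by
    intro z hz
    obtain ⟨i, hi⟩ := Subgroup.mem_zpowers_iff.mp (hc ⟨z, hz⟩)
    have hi' : z = (c : G) ^ (i % 4) := by
      have h1 : (c : G) ^ i = z := by rw [← SubgroupClass.coe_zpow, hi]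
      rw [← h1]
      conv_lhs => rw [← Int.emod_add_mul_ediv i 4, _root_.zpow_add, _root_.zpow_mul,
        show (c : G) ^ (4 : ℤ) = 1 by exact_mod_cast hc4, _root_.one_zpow, mul_one]
    rcases (show i % 4 = 0 ∨ i % 4 = 1 ∨ i % 4 = 2 ∨ i % 4 = 3 by omega) with h | h | h | h <;> rw [h] at hi'
    · exact Or.inl (by simpa using hi')
    · exact Or.inr (Or.inl (by simpa using hi'))
    · exact Or.inr (Or.inr (Or.inl (by exact_mod_cast hi')))
    · refine Or.inr (Or.inr (Or.inr ?_))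
      rw [hi']
      refine (inv_eq_of_mul_eq_one_left ?_).symm
      rw [← _root_.zpow_add_one]; exact_mod_cast hc4
  have hxyK : ∀ g, ⁅x, g⁆ ∈ K := fun g => Subgroup.commutator_mem_commutator hx₃ trivial
  set a := (c : G) with ha
  have hcen_of : (∀ g, g * a * g⁻¹ = a) → False := fun h => by
    have haZ : a ∈ Subgroup.center G := Subgroup.mem_center_iff.mpr fun g => mul_inv_eq_iff_eq_mul.mp (h g)
    rcases hval _ (hxyK y) with e | e | e | e <;> refine hxy ?_ <;> rw [e]
    · exact one_mem _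
    · exact haZ
    · exact pow_mem haZ 2
    · exact inv_mem haZ
  have hconjK : ∀ g, g * a * g⁻¹ ∈ K := fun g => by
    have : K.Normal := inferInstance
    exact this.conj_mem _ c.2 g
  have ha2 : a * a ≠ 1 := fun h => by
    refine hcen_of fun g => ?_
    rcases hval _ (hconjK g) with e | e | e | e
    · rw [conj_eq_one_iff] at e; rw [e]; simp
    · exact e
    · rw [sq, h, conj_eq_one_iff] at e; rw [e]; simp
    · rw [e]; exact inv_eq_of_mul_eq_one_right h
  have hconj : ∀ g, g * a * g⁻¹ = a ∨ g * a * g⁻¹ = a⁻¹ := fun g => by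
    rcases hval _ (hconjK g) with e | e | e | e
    · exact absurd (by rw [conj_eq_one_iff.mp e, mul_one]) ha2
    · exact Or.inl e
    · exfalso
      have h1 : (g * a * g⁻¹) * (g * a * g⁻¹) = 1 := by
        rw [e, ← pow_add]; exact hc4
      rw [show (g * a * g⁻¹) * (g * a * g⁻¹) = g * (a * a) * g⁻¹ by group, conj_eq_one_iff] at h1
      exact ha2 h1
    · exact Or.inr e
  obtain ⟨w, hw⟩ : ∃ w, w * a * w⁻¹ = a⁻¹ := by
    by_contra h
    exact hcen_of fun g => (hconj g).resolve_right fun e => h ⟨g, e⟩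
  have hbad : ∀ u h, u * a * u⁻¹ = a → h * a * h⁻¹ = a⁻¹ → (⁅u, h⁆ = a ∨ ⁅u, h⁆ = a⁻¹) → False := by
    intro u h hu hh he
    rcases he with he | he
    · exact exp_four_core h4 ha2 hu hh he
    · refine exp_four_core h4 (e := a⁻¹) (fun h1 => ha2 (inv_inj.mp (by rw [_root_.mul_inv_rev, h1, inv_one]))) ?_ ?_ he
      · rw [show u * a⁻¹ * u⁻¹ = (u * a * u⁻¹)⁻¹ by group, hu]
      · rw [show h * a⁻¹ * h⁻¹ = (h * a * h⁻¹)⁻¹ by group, hh]
  have ha2c : a ^ 2 ∈ Subgroup.center G := Subgroup.mem_center_iff.mpr fun g => mul_inv_eq_iff_eq_mul.mp (by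
    rw [sq, show g * (a * a) * g⁻¹ = (g * a * g⁻¹) * (g * a * g⁻¹) by group]
    rcases hconj g with e | e <;> rw [e]
    rw [← _root_.mul_inv_rev]
    exact inv_eq_of_mul_eq_one_right (by rw [← mul_assoc, show a * a * a * a = a ^ 4 by simp [pow_succ]]; exact hc4))
  have hgood : ⁅x, y⁆ = a ∨ ⁅x, y⁆ = a⁻¹ := by
    rcases hval _ (hxyK y) with e | e | e | e
    · exact absurd (e ▸ one_mem _) hxy
    · exact Or.inl e
    · exact absurd (e ▸ ha2c) hxy
    · exact Or.inr e
  rcases hconj x with hxC | hxC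
  · rcases hconj y with hyC | hyC
    swap
    · exact hbad x y hxC hyC hgood
    rcases hval _ (hxyK w) with e | e | e | e
    rotate_left
    · exact hbad x w hxC hw (Or.inl e)
    rotate_left
    · exact hbad x w hxC hw (Or.inr e)
    all_goals
      have hwy : (w * y) * a * (w * y)⁻¹ = a⁻¹ := by
        rw [show (w * y) * a * (w * y)⁻¹ = w * (y * a * y⁻¹) * w⁻¹ by group, hyC, hw]
      refine hbad x (w * y) hxC hwy ?_
      have h1 : ⁅x, w * y⁆ = ⁅x, w⁆ * (w * ⁅x, y⁆ * w⁻¹) := by group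
      rw [h1, e]
      rcases hgood with e' | e' <;> rw [e']
    · exact Or.inr (by rw [hw, one_mul])
    · exact Or.inl (by rw [show w * a⁻¹ * w⁻¹ = (w * a * w⁻¹)⁻¹ by group, hw, inv_inv, one_mul])
    · exact Or.inl (by rw [hw, sq, mul_inv_cancel_right])
    · refine Or.inr (eq_inv_of_mul_eq_one_left ?_)
      rw [show w * a⁻¹ * w⁻¹ = (w * a * w⁻¹)⁻¹ by group, hw, inv_inv, ← pow_succ, ← pow_succ]
      exact hc4
  · rcases hconj y with hyC | hyC
    · refine hbad y x hyC hxC ?_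
      rw [← commutatorElement_inv x y]
      rcases hgood with e' | e' <;> rw [e']
      · exact Or.inr rfl
      · exact Or.inl (inv_inv a)
    · refine hbad (x * y) y ?_ hyC ?_
      · rw [show (x * y) * a * (x * y)⁻¹ = x * (y * a * y⁻¹) * x⁻¹ by group, hyC,
          show x * a⁻¹ * x⁻¹ = (x * a * x⁻¹)⁻¹ by group, hxC, inv_inv]
      · rw [show ⁅x * y, y⁆ = ⁅x, y⁆ by group]
        exact hgood

variable {F : Type*} [Field F] [Finite F] {ι : Type} [Fintype ι] [DecidableEq ι]

/-- The facts about an absolutely irreducible group of symplectic type of order `2 ^ (1 + 2k)`. -/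
theorem symp_two_facts [Nonempty ι] (h2 : 2 ≤ Fintype.card ι) {R : Subgroup (GL ι F)} {k : ℕ}
    (hR : Geo.IsSymplecticTypeGroup 2 R) (habs : Geo.ActsAbsolutelyIrreducibly (Geo.matrixSet R))
    (hcard : Nat.card R = 2 ^ (1 + 2 * k)) (hcen : Nat.card (Subgroup.center R) = 2) :
    Submodule.span F (Geo.matrixSet R) = ⊤ ∧ (∀ x ∈ R, ∀ y ∈ R, ⁅x, y⁆ ∈ Geo.scalars ι F) ∧
      (Fintype.card ι : F) ≠ 0 ∧ Fintype.card ι = 2 ^ k ∧
      ∃ x ∈ R, x ∉ Geo.scalars ι F ∧ ∃ μ : F, (x : Matrix ι ι F) * (x : Matrix ι ι F) = μ • 1 := by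
  classical
  have : Finite (Matrix ι ι F) := inferInstanceAs (Finite (ι → ι → F))
  have : Finite (GL ι F) := Finite.of_injective Units.val Units.val_injective
  have hspan := span_eq_top habs
  have hZs : ∀ c : R, c ∈ Subgroup.center R → (c : GL ι F) ∈ Geo.scalars ι F := fun c hc => by
    obtain ⟨a, ha⟩ := scalar_of_span hspan ((c : GL ι F) : Matrix ι ι F) (by
      rintro _ ⟨y, hy, rfl⟩
      exact congrArg (fun g : R => ((g : GL ι F) : Matrix ι ι F)) (Subgroup.mem_center_iff.mp hc ⟨y, hy⟩).symm)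
    exact smul_one_mem_scalars ha
  have hsZ : ∀ c : R, (c : GL ι F) ∈ Geo.scalars ι F → c ∈ Subgroup.center R := fun c hc =>
    Subgroup.mem_center_iff.mpr fun y => Subtype.ext (scalars_central hc y)
  have h4 : ∀ x : R, x ^ 4 = 1 := fun x => by
    have h := Monoid.pow_exponent_eq_one x
    rwa [hR.exponent_eq] at h
  have hcc := comm_mem_center_of_exp_four hR.pGroup h4 hR.cyclic_of_characteristic
  have hcomm : ∀ x ∈ R, ∀ y ∈ R, ⁅x, y⁆ ∈ Geo.scalars ι F := fun x hx y hy =>
    hZs _ (hcc ⟨x, hx⟩ ⟨y, hy⟩)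
  have htr0 : ∀ x ∈ R, x ∉ Geo.scalars ι F → (x : Matrix ι ι F).trace = 0 :=
    fun x hx hxs => trace_zero_of_comm hspan hcomm hx hxs
  have hn : (Fintype.card ι : F) ≠ 0 := fun h0 => by
    have hle : Submodule.span F (Geo.matrixSet R) ≤ LinearMap.ker (Matrix.traceLinearMap ι F F) := by
      rw [Submodule.span_le]
      rintro _ ⟨x, hx, rfl⟩
      simp only [SetLike.mem_coe, LinearMap.mem_ker, Matrix.traceLinearMap_apply]
      by_cases hxs : x ∈ Geo.scalars ι F
      · obtain ⟨a, ha⟩ := (Geo.mem_scalars_iff x).mp hxs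
        rw [ha, Matrix.trace_smul, Matrix.trace_one, h0, smul_zero]
      · exact htr0 x hx hxs
    rw [hspan] at hle
    obtain ⟨i⟩ := ‹Nonempty ι›
    have := hle (Submodule.mem_top : Matrix.single i i (1 : F) ∈ _)
    simp [Matrix.trace_single_eq_same] at this
  have hli : LinearIndependent F fun q : R ⧸ Subgroup.center R => (((Quotient.out q : R) : GL ι F) : Matrix ι ι F) := by
    have : Fintype (R ⧸ Subgroup.center R) := Fintype.ofFinite _
    rw [Fintype.linearIndependent_iff]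
    intro g hg q₀
    have h1 := congrArg (fun M => Matrix.trace (M * ((((Quotient.out q₀ : R) : GL ι F))⁻¹ : GL ι F).val)) hg
    simp only [Finset.sum_mul, Matrix.smul_mul, Matrix.trace_sum, Matrix.trace_smul, zero_mul, Matrix.trace_zero,
      smul_eq_mul] at h1
    rw [Finset.sum_eq_single q₀] at h1
    · rw [Units.mul_inv, Matrix.trace_one] at h1
      exact (mul_eq_zero.mp h1).resolve_right hn
    · intro q _ hq
      rw [← Units.val_mul, htr0 _ (mul_mem (Quotient.out q : R).2 (inv_mem (Quotient.out q₀ : R).2)) fun hs => hq ?_,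
        mul_zero]
      have h3 : (Quotient.out q : R) * (Quotient.out q₀ : R)⁻¹ ∈ Subgroup.center R := hsZ _ hs
      rw [← QuotientGroup.eq_one_iff, QuotientGroup.mk_mul, QuotientGroup.mk_inv, QuotientGroup.out_eq',
        QuotientGroup.out_eq', mul_inv_eq_one] at h3
      exact h3
    · simp
  have hsp : ⊤ ≤ Submodule.span F (Set.range fun q : R ⧸ Subgroup.center R =>
      (((Quotient.out q : R) : GL ι F) : Matrix ι ι F)) := by
    refine hspan.symm.le.trans (Submodule.span_le.mpr ?_)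
    rintro _ ⟨x, hx, rfl⟩
    obtain ⟨z, hz⟩ := QuotientGroup.mk_out_eq_mul (Subgroup.center R) ⟨x, hx⟩
    obtain ⟨a, ha⟩ := (Geo.mem_scalars_iff _).mp (hZs _ z.2)
    have h5 := congrArg (fun y : R => ((y : GL ι F) : Matrix ι ι F)) hz
    simp only [Subgroup.coe_mul, Units.val_mul] at h5
    rw [ha, Matrix.mul_smul, mul_one] at h5
    have h6 : (x : Matrix ι ι F) = (a : F)⁻¹ •
        (((Quotient.out ((⟨x, hx⟩ : R) : R ⧸ Subgroup.center R) : R) : GL ι F) : Matrix ι ι F) := by
      rw [h5, smul_smul, inv_mul_cancel₀ a.ne_zero, one_smul]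
    show (x : Matrix ι ι F) ∈ _
    rw [h6]
    exact Submodule.smul_mem _ _ (Submodule.subset_span ⟨_, rfl⟩)
  have hdim := (Module.finrank_eq_nat_card_basis (Module.Basis.mk hli hsp)).symm
  rw [Module.finrank_matrix, Module.finrank_self, mul_one] at hdim
  have hcard' := Subgroup.card_eq_card_quotient_mul_card_subgroup (Subgroup.center R)
  rw [hcard, hcen, hdim, pow_add, pow_one, mul_comm 2, Nat.mul_left_inj (by norm_num), mul_comm 2 k,
    pow_mul, sq] at hcard'
  have hk : Fintype.card ι = 2 ^ k := Nat.mul_self_inj.mp hcard'.symm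
  refine ⟨hspan, hcomm, hn, hk, ?_⟩
  have hne : Subgroup.upperCentralSeries R 1 ≠ ⊤ := fun h => by
    rw [Subgroup.upperCentralSeries_one] at h
    rw [h, Subgroup.card_top] at hcen
    have : 1 ≤ k := by
      by_contra h0
      obtain rfl : k = 0 := by omega
      simp at hk; omega
    rw [hcard, pow_add, pow_one, Nat.mul_eq_left (by norm_num), Nat.pow_eq_one] at hcen
    omega
  obtain ⟨x, -, hx⟩ := SetLike.exists_of_lt (lt_top_iff_ne_top.mpr hne)
  rw [Subgroup.upperCentralSeries_one] at hx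
  refine ⟨x, x.2, fun hs => hx (hsZ _ hs), ?_⟩
  have hx2 : x * x ∈ Subgroup.center R := by
    refine Subgroup.mem_center_iff.mpr fun g => ?_
    have hcg := Subgroup.mem_center_iff.mp (hcc x g)
    have hsq : ⁅x, g⁆ * ⁅x, g⁆ = 1 := by
      have h7 : (⟨⁅x, g⁆, hcc x g⟩ : Subgroup.center R) ^ Nat.card (Subgroup.center R) = 1 := pow_card_eq_one'
      rw [hcen, sq] at h7
      exact congrArg Subtype.val h7
    have h8 : ⁅x * x, g⁆ = 1 := by
      rw [show ⁅x * x, g⁆ = x * ⁅x, g⁆ * x⁻¹ * ⁅x, g⁆ by group, hcg x, mul_inv_cancel_right, hsq]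
    exact (commutatorElement_eq_one_iff_mul_comm.mp h8).symm
  obtain ⟨μ, hμ⟩ := (Geo.mem_scalars_iff _).mp (hZs _ hx2)
  exact ⟨μ, by rw [← hμ, Subgroup.coe_mul, Units.val_mul]⟩

end Cfsg.Agent.Aschbacher
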