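/-
Symplectic-type normal subgroups in symplectic groups: class 6 (minus type over a prime field) or a subfield.
Main results: `minus_type_bound`, `symp_sympType`.
-/
import Cfsg.Agent.Lib.Aschbacher.SympForms
import Cfsg.Agent.Lib.Aschbacher.UnitarySymp

set_option autoImplicit false

namespace Cfsg.Agent.Aschbacher

open Matrix
open scoped commutatorElement
open Cfsg.Agent.PrimeDim

variable {F : Type*} [Field F] {ι : Type} [Fintype ι] [DecidableEq ι]

/-- Commuting involutive isometries of an alternating form with trace zero off `±1` are few. -/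
theorem minus_type_bound [Nonempty ι] (hchar : (2 : F) ≠ 0) {Φ : Matrix ι ι F} (hΦ : IsUnit Φ.det)
    (halt : ∀ v, v ⬝ᵥ Φ *ᵥ v = 0) {μ : ℕ} (hn : Fintype.card ι = 2 ^ μ) (A : Finset (GL ι F))
    (hinv : ∀ x ∈ A, x * x = 1) (hcomm : ∀ x ∈ A, ∀ y ∈ A, x * y = y * x)
    (hmul : ∀ x ∈ A, ∀ y ∈ A, x * y ∈ A) (hone : (1 : GL ι F) ∈ A)
    (hiso : ∀ x ∈ A, (x : Matrix ι ι F)ᵀ * Φ * (x : Matrix ι ι F) = Φ)
    (htr : ∀ x ∈ A, x ∉ Geo.scalars ι F → (x : Matrix ι ι F).trace = 0) : A.card < 2 ^ (μ + 1) := by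
  classical
  by_contra hA
  simp only [not_lt] at hA
  have hfour : ∀ j, (2 : F) ^ j ≠ 0 := fun j => pow_ne_zero _ hchar
  -- orthogonal families of self-adjoint idempotents
  have key : ∀ j ≤ μ, ∃ (B : Finset (GL ι F)) (E : Fin (2 ^ j) → Matrix ι ι F), B ⊆ A ∧ B.card ≤ 2 ^ j ∧
      (∀ i, E i ∈ Submodule.span F ((fun x : GL ι F => (x : Matrix ι ι F)) '' (B : Set (GL ι F)))) ∧
      (∀ i, E i * E i = E i) ∧ (∀ i i', i ≠ i' → E i * E i' = 0) ∧ (∀ i, (E i).trace = (2 : F) ^ (μ - j)) := by
    intro j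
    induction j with
    | zero =>
      intro _
      refine ⟨{1}, fun _ => 1, by simpa using hone, by simp, fun _ => ?_, fun _ => mul_one _, ?_, fun _ => ?_⟩
      · exact Submodule.subset_span ⟨1, by simp, Units.val_one⟩
      · intro i i' h; exact absurd (Subsingleton.elim (α := Fin 1) i i') h
      · rw [Matrix.trace_one, hn, Nat.sub_zero]; push_cast; ring
    | succ j ih =>
      intro hj
      obtain ⟨B, E, hBA, hBc, hspan, hidem, horth, htrE⟩ := ih (by omega)
      -- a new involution
      obtain ⟨x, hxA, hx⟩ : ∃ x ∈ A, ∀ b ∈ B, b * x ∉ Geo.scalars ι F := by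
        by_contra hc
        simp only [not_exists, not_and, not_forall, not_not, exists_prop] at hc
        have hsub : A ⊆ B ∪ B.image (fun b => sc ι (-1) * b) := by
          intro x hx
          obtain ⟨b, hb, hbx⟩ := hc x hx
          obtain ⟨a, ha⟩ := (Geo.mem_scalars_iff _).mp hbx
          have hsq : (b * x) * (b * x) = 1 := hinv _ (hmul _ (hBA hb) _ hx)
          have h1 := congrArg (fun g : GL ι F => (g : Matrix ι ι F)) hsq
          simp only [Units.val_mul, Units.val_one] at h1
          rw [show (b : Matrix ι ι F) * (x : Matrix ι ι F) = ((b * x : GL ι F) : Matrix ι ι F) from rfl, ha,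
            Matrix.smul_mul, one_mul, smul_smul] at h1
          have ha1 : (a : F) * a = 1 := smul_one_inj (h1.trans (one_smul F _).symm)
          have hx' : x = b * (b * x) := by rw [← mul_assoc, hinv b (hBA hb), one_mul]
          rcases mul_self_eq_one_iff.mp ha1 with h | h
          · have hb1 : b * x = 1 := Units.ext (by rw [ha, h, one_smul, Units.val_one])
            rw [hx', hb1, mul_one]
            exact Finset.mem_union_left _ hb
          · have hb1 : b * x = sc ι (-1) := Units.ext (by rw [ha, h, sc_val, Units.val_neg, Units.val_one])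
            rw [hx', hb1, scalars_central (sc_mem (ι := ι) (-1 : Fˣ)) b]
            exact Finset.mem_union_right _ (Finset.mem_image.mpr ⟨b, hb, rfl⟩)
        have h1 := (Finset.card_le_card hsub).trans (Finset.card_union_le _ _)
        have h2 := Finset.card_image_le (s := B) (f := fun b => sc ι (-1) * b)
        have h3 : 2 ^ (j + 1) < 2 ^ (μ + 1) := Nat.pow_lt_pow_right (by norm_num) (by omega)
        rw [pow_succ] at h3
        omega
      have hcm : ∀ i, E i * (x : Matrix ι ι F) = (x : Matrix ι ι F) * E i := by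
        intro i
        have hle : Submodule.span F ((fun x : GL ι F => (x : Matrix ι ι F)) '' (B : Set (GL ι F))) ≤
            LinearMap.ker (LinearMap.mulRight F (x : Matrix ι ι F) - LinearMap.mulLeft F (x : Matrix ι ι F)) := by
          rw [Submodule.span_le]
          rintro _ ⟨b, hb, rfl⟩
          simp only [SetLike.mem_coe, LinearMap.mem_ker, LinearMap.sub_apply, LinearMap.mulRight_apply,
            LinearMap.mulLeft_apply, sub_eq_zero]
          exact congrArg (fun g : GL ι F => (g : Matrix ι ι F)) (hcomm b (hBA hb) x hxA)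
        have h1 := hle (hspan i)
        simpa [sub_eq_zero] using h1
      have hxx : (x : Matrix ι ι F) * (x : Matrix ι ι F) = 1 := by
        rw [← Units.val_mul, hinv x hxA, Units.val_one]
      let s : Fin 2 → F := ![1, -1]
      let Pr : Fin 2 → Matrix ι ι F := fun σ => (2 : F)⁻¹ • (1 + s σ • (x : Matrix ι ι F))
      have hs2 : ∀ σ, s σ * s σ = 1 := fun σ => by fin_cases σ <;> simp [s]
      have hP2 : ∀ σ, Pr σ * Pr σ = Pr σ := fun σ => by
        have hsq : (1 + s σ • (x : Matrix ι ι F)) * (1 + s σ • (x : Matrix ι ι F)) =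
            (2 : F) • (1 + s σ • (x : Matrix ι ι F)) := by
          simp only [mul_add, add_mul, one_mul, mul_one, Matrix.smul_mul, Matrix.mul_smul, smul_smul, hxx, hs2,
            smul_add, one_smul]
          rw [two_smul, mul_smul, two_smul]
          abel
        simp only [Pr, Matrix.smul_mul, Matrix.mul_smul, smul_smul]
        rw [hsq, smul_smul, mul_assoc, inv_mul_cancel₀ hchar, mul_one]
      have hP0 : ∀ σ σ', σ ≠ σ' → Pr σ * Pr σ' = 0 := fun σ σ' h => by
        have hsq : (1 + s σ • (x : Matrix ι ι F)) * (1 + s σ' • (x : Matrix ι ι F)) = 0 := by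
          have hss : s σ' = - s σ := by fin_cases σ <;> fin_cases σ' <;> simp_all [s]
          have ha : (s σ • (x : Matrix ι ι F)) * (s σ • (x : Matrix ι ι F)) = 1 := by
            rw [Matrix.smul_mul, Matrix.mul_smul, smul_smul, hs2, one_smul, hxx]
          rw [hss, neg_smul, mul_add, mul_one, mul_neg, add_mul, one_mul, ha]
          abel
        simp only [Pr, Matrix.smul_mul, Matrix.mul_smul, smul_smul]
        rw [hsq, smul_zero]
      have hcP : ∀ i σ, E i * Pr σ = Pr σ * E i := fun i σ => by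
        simp only [Pr, Matrix.mul_smul, Matrix.smul_mul, mul_add, add_mul, mul_one, one_mul, hcm]
      let eq : Fin (2 ^ (j + 1)) ≃ Fin (2 ^ j) × Fin 2 :=
        (finCongr (pow_succ 2 j)).trans finProdFinEquiv.symm
      refine ⟨B ∪ B.image (fun b => b * x), fun a => E (eq a).1 * Pr (eq a).2, ?_, ?_, ?_, ?_, ?_, ?_⟩
      · exact Finset.union_subset hBA (fun y hy => by
          obtain ⟨b, hb, rfl⟩ := Finset.mem_image.mp hy
          exact hmul _ (hBA hb) _ hxA)
      · refine (Finset.card_union_le _ _).trans ?_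
        have := Finset.card_image_le (s := B) (f := fun b => b * x)
        rw [pow_succ]
        omega
      · intro a
        have hEx : E (eq a).1 * (x : Matrix ι ι F) ∈ Submodule.span F
            ((fun x : GL ι F => (x : Matrix ι ι F)) '' ((B ∪ B.image fun b => b * x : Finset (GL ι F)) : Set (GL ι F))) := by
          have h1 := Submodule.mem_map_of_mem (f := LinearMap.mulRight F (x : Matrix ι ι F)) (hspan (eq a).1)
          rw [Submodule.map_span] at h1
          refine Submodule.span_mono ?_ h1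
          rintro _ ⟨_, ⟨b, hb, rfl⟩, rfl⟩
          exact ⟨b * x, Finset.mem_coe.mpr (Finset.mem_union_right _ (Finset.mem_image_of_mem _ hb)), rfl⟩
        have hE : E (eq a).1 ∈ Submodule.span F
            ((fun x : GL ι F => (x : Matrix ι ι F)) '' ((B ∪ B.image fun b => b * x : Finset (GL ι F)) : Set (GL ι F))) :=
          Submodule.span_mono (Set.image_mono (Finset.coe_subset.mpr Finset.subset_union_left)) (hspan _)
        simp only [Pr, Matrix.mul_smul, mul_add, mul_one]
        exact Submodule.smul_mem _ _ (add_mem hE (Submodule.smul_mem _ _ hEx))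
      · intro a
        rw [mul_assoc, ← mul_assoc (Pr _), ← hcP, mul_assoc (E _) (Pr _), hP2, ← mul_assoc, hidem]
      · intro a a' haa
        rw [mul_assoc, ← mul_assoc (Pr _), ← hcP, mul_assoc (E _) (Pr _), ← mul_assoc]
        by_cases hfst : (eq a).1 = (eq a').1
        · rw [hP0 _ _ (fun h => haa (eq.injective (Prod.ext hfst h))), mul_zero]
        · rw [horth _ _ hfst, zero_mul]
      · intro a
        have hz : (E (eq a).1 * (x : Matrix ι ι F)).trace = 0 := by
          have hle : Submodule.span F ((fun x : GL ι F => (x : Matrix ι ι F)) '' (B : Set (GL ι F))) ≤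
              LinearMap.ker ((Matrix.traceLinearMap ι F F).comp (LinearMap.mulRight F (x : Matrix ι ι F))) := by
            rw [Submodule.span_le]
            rintro _ ⟨b, hb, rfl⟩
            simp only [SetLike.mem_coe, LinearMap.mem_ker, LinearMap.comp_apply, LinearMap.mulRight_apply,
              Matrix.traceLinearMap_apply]
            rw [← Units.val_mul]
            exact htr _ (hmul _ (hBA hb) _ hxA) (hx b hb)
          simpa using hle (hspan (eq a).1)
        simp only [Pr, Matrix.mul_smul, mul_add, mul_one, Matrix.trace_smul, Matrix.trace_add, hz, smul_zero,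
          add_zero, htrE, smul_eq_mul]
        rw [show μ - j = μ - (j + 1) + 1 by omega, pow_succ]
        field_simp
        ring
  obtain ⟨B, E, hBA, -, hspan, hidem, horth, htrE⟩ := key μ le_rfl
  -- vectors in the images
  have hne : ∀ i, E i ≠ 0 := fun i h0 => hfour (μ - μ) (by rw [← htrE i, h0, Matrix.trace_zero])
  have hw : ∀ i, ∃ w : ι → F, E i *ᵥ w = w ∧ w ≠ 0 := by
    intro i
    obtain ⟨a, b, hab⟩ : ∃ a b, E i a b ≠ 0 := by
      by_contra hc
      simp only [not_exists, not_not] at hc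
      exact hne i (Matrix.ext hc)
    refine ⟨E i *ᵥ Pi.single b 1, by rw [Matrix.mulVec_mulVec, hidem], fun h0 => hab ?_⟩
    simpa using congrFun h0 a
  choose w hwE hw0 using hw
  have hw' : ∀ i i', i ≠ i' → E i *ᵥ w i' = 0 := fun i i' h => by
    rw [← hwE i', Matrix.mulVec_mulVec, horth i i' h, Matrix.zero_mulVec]
  have hli : LinearIndependent F w := by
    rw [Fintype.linearIndependent_iff]
    intro g hg i
    have h1 := congrArg (fun v => E i *ᵥ v) hg
    simp only [Matrix.mulVec_sum, Matrix.mulVec_smul, Matrix.mulVec_zero] at h1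
    rw [Finset.sum_eq_single i (fun b _ hb => by rw [hw' i b (Ne.symm hb), smul_zero]) (by simp), hwE] at h1
    exact (smul_eq_zero.mp h1).resolve_right (hw0 i)
  have hspanw : Submodule.span F (Set.range w) = ⊤ := by
    refine hli.span_eq_top_of_card_eq_finrank' ?_
    rw [Module.finrank_fintype_fun_eq_card, hn, Fintype.card_fin]
  have hsa : ∀ i, (E i)ᵀ * Φ = Φ * E i := by
    intro i
    have hle : Submodule.span F ((fun x : GL ι F => (x : Matrix ι ι F)) '' (B : Set (GL ι F))) ≤
        LinearMap.ker ((LinearMap.mulRight F Φ).comp (Matrix.transposeLinearEquiv ι ι F F).toLinearMap -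
          LinearMap.mulLeft F Φ) := by
      rw [Submodule.span_le]
      rintro _ ⟨b, hb, rfl⟩
      have hb1 : (b : Matrix ι ι F)ᵀ * Φ = Φ * (b : Matrix ι ι F) := by
        have hbb : (b : Matrix ι ι F) * (b : Matrix ι ι F) = 1 := by
          rw [← Units.val_mul, hinv b (hBA hb), Units.val_one]
        calc (b : Matrix ι ι F)ᵀ * Φ = (b : Matrix ι ι F)ᵀ * Φ * ((b : Matrix ι ι F) * (b : Matrix ι ι F)) := by
              rw [hbb, mul_one]
          _ = _ := by rw [← mul_assoc, hiso b (hBA hb)]
      simpa [sub_eq_zero] using hb1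
    simpa [sub_eq_zero] using hle (hspan i)
  have hzero : ∀ i i', w i ⬝ᵥ Φ *ᵥ w i' = 0 := by
    intro i i'
    by_cases h : i = i'
    · rw [h]; exact halt _
    · calc w i ⬝ᵥ Φ *ᵥ w i' = (E i *ᵥ w i) ⬝ᵥ Φ *ᵥ w i' := by rw [hwE]
        _ = w i ⬝ᵥ ((E i)ᵀ * Φ) *ᵥ w i' := by
          rw [← Matrix.vecMul_transpose, ← Matrix.dotProduct_mulVec, Matrix.mulVec_mulVec]
        _ = 0 := by
          rw [hsa, ← Matrix.mulVec_mulVec, hw' i i' h, Matrix.mulVec_zero, dotProduct_zero]
  obtain ⟨v, hv⟩ : ∃ v : ι → F, v ≠ 0 := ⟨w ⟨0, Nat.two_pow_pos μ⟩, hw0 _⟩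
  obtain ⟨y, hy⟩ := (formOfGram_nondegenerate (RingHom.id F) hΦ v hv).2
  refine hy ?_
  have hall : ∀ a ∈ Submodule.span F (Set.range w), ∀ b ∈ Submodule.span F (Set.range w), a ⬝ᵥ Φ *ᵥ b = 0 := by
    intro a ha b hb
    induction ha, hb using Submodule.span_induction₂ with
    | mem_mem a b ha hb => obtain ⟨i, rfl⟩ := ha; obtain ⟨i', rfl⟩ := hb; exact hzero i i'
    | zero_left b _ => simp
    | zero_right a _ => simp
    | add_left a a' b _ _ _ h h' => rw [add_dotProduct, h, h', add_zero]
    | add_right a b b' _ _ _ h h' => rw [Matrix.mulVec_add, dotProduct_add, h, h', add_zero]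
    | smul_left r a b _ _ h => rw [smul_dotProduct, h, smul_zero]
    | smul_right r a b _ _ h => rw [Matrix.mulVec_smul, dotProduct_smul, h, smul_zero]
  rw [formOfGram_eq]
  exact hall v (hspanw ▸ Submodule.mem_top) _ (hspanw ▸ Submodule.mem_top)

variable [Fintype F] {m : ℕ}

local notation "N" => Fin m ⊕ Fin m
local notation "J" => Matrix.J (Fin m) F

/-- Symplectic type: class 6 or a subfield class. -/
theorem symp_sympType (hm : 1 ≤ m) {H : Subgroup (GL N F)} (hH : H ≤ Cfsg.spGL m F)
    (hgood : Good (H ⊔ Geo.scalars N F)) {r μ z p f : ℕ} {R : Subgroup (GL N F)}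
    (hD : SympData (H ⊔ Geo.scalars N F) r μ z p f R) :
    ∃ M, Geo.InSymplecticPartialClass m F M ∧ H ≤ M := by
  classical
  have : Nonempty N := ⟨Sum.inl ⟨0, hm⟩⟩
  have : Finite (Matrix N N F) := inferInstanceAs (Finite (N → N → F))
  have : Finite (GL N F) := Finite.of_injective Units.val Units.val_injective
  obtain ⟨hp, hpc, hFc, hzf, hrp⟩ := hD.charP
  have : Fact p.Prime := ⟨hp⟩
  have : Fact (Nat.Prime 2) := ⟨Nat.prime_two⟩
  have hcardN : Fintype.card N = r ^ μ := hD.card_eq
  have hr : r = 2 := by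
    have h1 : (2 : ℕ) ∣ r ^ μ := ⟨m, by rw [← hcardN]; simp [two_mul]⟩
    exact ((Nat.prime_dvd_prime_iff_eq Nat.prime_two hD.prime).mp (Nat.prime_two.dvd_of_dvd_pow h1)).symm
  subst hr
  have hp2 : p ≠ 2 := hrp.symm
  have hpodd : Odd p := hp.odd_of_ne_two hp2
  have h2 : (2 : F) ≠ 0 := by
    intro h0
    have : ((2 : ℕ) : F) = 0 := by exact_mod_cast h0
    exact hp2 ((Nat.prime_dvd_prime_iff_eq hp Nat.prime_two).mp ((CharP.cast_eq_zero_iff F p 2).mp this))
  set R₀ : Subgroup (GL N F) := R ⊓ Cfsg.spGL m F with hR₀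
  have hRG : R ≤ H ⊔ Geo.scalars N F := hD.le
  -- `R₀` is normalised
  have hn₀ : NormBy (H ⊔ Geo.scalars N F) R₀ := by
    intro g hg x hx
    refine ⟨hD.norm g hg x hx.1, ?_⟩
    obtain ⟨a, ha, c, hc, rfl⟩ := Subgroup.mem_sup_of_normal_right.mp hg
    have e : a * c * x * (a * c)⁻¹ = a * x * a⁻¹ := by
      rw [mul_assoc a c x, ← scalars_central hc x]; group
    rw [e]
    exact mul_mem (mul_mem (hH ha) hx.2) ((Cfsg.spGL m F).inv_mem (hH ha))
  obtain ⟨P, hPR, hPH, -, hPspan⟩ := sympData_isometries hgood hD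
  have hspan₀ : Submodule.span F (Geo.matrixSet R₀) = ⊤ :=
    top_le_iff.mp (hPspan.symm.le.trans (Submodule.span_mono (Set.image_mono fun x hx => ⟨hPR hx, hH (hPH hx)⟩)))
  have hz : z = 2 ∨ z = 4 := by
    rcases hD.kind with ⟨h, -⟩ | ⟨-, h, -⟩ | ⟨-, h, -⟩
    · exact absurd h (by decide)
    · exact Or.inr h
    · exact Or.inl h
  -- scalars among isometries are ±1
  have hscal : ∀ x ∈ Cfsg.spGL m F, x ∈ Geo.scalars N F → x = 1 ∨ x = sc N (-1) := by
    intro x hx hxs
    obtain ⟨a, ha⟩ := (Geo.mem_scalars_iff x).mp hxs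
    have h1 := gram_of_mem_spGL hx
    rw [RingHom.coe_id, Matrix.map_id, ha, Matrix.transpose_smul, Matrix.transpose_one, Matrix.smul_mul, one_mul,
      Matrix.mul_smul, mul_one, smul_smul] at h1
    have hJ0 : (J) ≠ 0 := fun h0 => by
      have := isUnit_det_J (m := m) (F := F)
      rw [h0, Matrix.det_zero] at this
      exact not_isUnit_zero this
    have ha1 : (a : F) * a = 1 := smul_left_injective F hJ0 (h1.trans (one_smul F _).symm)
    rcases mul_self_eq_one_iff.mp ha1 with h | h
    · exact Or.inl (Units.ext (by rw [ha, h, one_smul, Units.val_one]))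
    · exact Or.inr (Units.ext (by rw [ha, h, sc_val, Units.val_neg, Units.val_one]))
  have hneg : sc N (-1) ∈ R₀ := by
    obtain ⟨c, hc⟩ := exists_prime_orderOf_dvd_card' (G := Subgroup.center R) 2
      (by rw [hD.card_center]; rcases hz with rfl | rfl <;> norm_num)
    have hcs : ((c : R) : GL N F) ∈ Geo.scalars N F := by
      obtain ⟨a, ha⟩ := scalar_of_span hD.span (((c : R) : GL N F) : Matrix N N F) (by
        rintro _ ⟨y, hy, rfl⟩
        exact congrArg (fun g : R => ((g : GL N F) : Matrix N N F)) (Subgroup.mem_center_iff.mp c.2 ⟨y, hy⟩).symm)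
      exact smul_one_mem_scalars ha
    obtain ⟨a, ha⟩ := (Geo.mem_scalars_iff _).mp hcs
    have hc2 : ((c : R) : GL N F) ^ 2 = 1 := by
      rw [← Subgroup.coe_pow, ← Subgroup.coe_pow, ← hc, pow_orderOf_eq_one]; rfl
    have hne : ((c : R) : GL N F) ≠ 1 := fun h1 => by
      have : c = 1 := Subtype.ext (Subtype.ext h1)
      rw [this, orderOf_one] at hc
      norm_num at hc
    have h1 := congrArg (fun g : GL N F => (g : Matrix N N F)) hc2
    simp only [sq, Units.val_mul, Units.val_one] at h1
    rw [ha, Matrix.smul_mul, one_mul, smul_smul] at h1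
    have ha1 : (a : F) = -1 := (mul_self_eq_one_iff.mp (smul_one_inj (h1.trans (one_smul F _).symm))).resolve_left
      fun h => hne (Units.ext (by rw [ha, h, one_smul, Units.val_one]))
    have e : sc N (-1) = ((c : R) : GL N F) := Units.ext (by rw [sc_val, ha, ha1, Units.val_neg, Units.val_one])
    rw [e]
    refine ⟨(c : R).2, fun u v => ?_⟩
    show Cfsg.sympForm m F ((((c : R) : GL N F) : Matrix N N F) *ᵥ u) ((((c : R) : GL N F) : Matrix N N F) *ᵥ v) = _
    rw [ha, ha1, Matrix.smul_mulVec, Matrix.smul_mulVec, Matrix.one_mulVec, Matrix.one_mulVec]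
    simp [Cfsg.sympForm, Matrix.mulVec_smul, Matrix.mulVec_neg]
  have hscal₀ : R₀ ⊓ Geo.scalars N F = Subgroup.zpowers (sc N (-1)) := by
    refine le_antisymm (fun x hx => ?_) ((Subgroup.zpowers_le).mpr ⟨hneg, sc_mem _⟩)
    rcases hscal x hx.1.2 hx.2 with rfl | rfl
    · exact one_mem _
    · exact Subgroup.mem_zpowers _
  have hne1 : sc N (-1 : Fˣ) ≠ 1 := fun h => by
    have h1 := sc_inj (h.trans (map_one (sc N)).symm)
    have h3 : (-1 : F) = 1 := congrArg Units.val h1
    exact h2 (by linear_combination -h3)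
  have hcard2 : Nat.card (R₀ ⊓ Geo.scalars N F : Subgroup (GL N F)) = 2 := by
    rw [hscal₀, Nat.card_zpowers, orderOf_eq_prime (p := 2)]
    · rw [← map_pow]; simp
    · exact hne1
  have hcomm : ∀ x ∈ R₀, ∀ y ∈ R₀, ⁅x, y⁆ ∈ Geo.scalars N F := fun x hx y hy => hD.comm x hx.1 y hy.1
  have htr₀ : ∀ x ∈ R₀, x ∉ Geo.scalars N F → (x : Matrix N N F).trace = 0 :=
    fun x hx hxs => trace_zero_of_comm hspan₀ hcomm hx hxs
  -- the order of `R₀`
  have hcard₀ : Nat.card R₀ = 2 ^ (1 + 2 * μ) := by
    set Z₀ : Subgroup R₀ := (Geo.scalars N F).subgroupOf R₀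
    have hZ : Nat.card Z₀ = 2 := by
      rw [← hcard2]
      exact Nat.card_congr
        { toFun := fun x => ⟨((x : R₀) : GL N F), (x : R₀).2, Subgroup.mem_subgroupOf.mp x.2⟩
          invFun := fun x => ⟨⟨x.1, x.2.1⟩, Subgroup.mem_subgroupOf.mpr x.2.2⟩
          left_inv := fun _ => rfl
          right_inv := fun _ => rfl }
    have h1 : Submodule.span F (Set.range fun q : R₀ ⧸ Z₀ => (((Quotient.out q : R₀) : GL N F) : Matrix N N F)) = ⊤ := by
      refine top_le_iff.mp (hspan₀.symm.le.trans (Submodule.span_le.mpr ?_))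
      rintro _ ⟨x, hx, rfl⟩
      obtain ⟨⟨z₀, hz₀⟩, hzq⟩ := QuotientGroup.mk_out_eq_mul Z₀ ⟨x, hx⟩
      obtain ⟨a, ha⟩ := (Geo.mem_scalars_iff _).mp (Subgroup.mem_subgroupOf.mp hz₀)
      have h2 := congrArg (fun y : R₀ => ((y : GL N F) : Matrix N N F)) hzq
      simp only [Subgroup.coe_mul, Units.val_mul] at h2
      rw [ha, Matrix.mul_smul, mul_one] at h2
      have h3 : (x : Matrix N N F) =
          (a : F)⁻¹ • (((Quotient.out ((⟨x, hx⟩ : R₀) : R₀ ⧸ Z₀) : R₀) : GL N F) : Matrix N N F) := by
        rw [h2, smul_smul, inv_mul_cancel₀ a.ne_zero, one_smul]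
      show (x : Matrix N N F) ∈ _
      rw [h3]
      exact Submodule.smul_mem _ _ (Submodule.subset_span ⟨_, rfl⟩)
    have : Fintype (R₀ ⧸ Z₀) := Fintype.ofFinite _
    have h2' := finrank_range_le_card (R := F) fun q : R₀ ⧸ Z₀ => (((Quotient.out q : R₀) : GL N F) : Matrix N N F)
    rw [Set.finrank, h1, finrank_top, Module.finrank_matrix, Module.finrank_self, mul_one] at h2'
    have h3 := Subgroup.card_eq_card_quotient_mul_card_subgroup Z₀
    rw [hZ, Nat.card_eq_fintype_card (α := R₀ ⧸ Z₀)] at h3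
    have hR : Nat.card R = Fintype.card N * Fintype.card N * z := hD.card_group
    have hsq : 2 ^ (1 + 2 * μ) = Fintype.card N * Fintype.card N * 2 := by rw [hcardN]; ring
    rw [hsq]
    refine le_antisymm ?_ (by omega)
    rcases hz with rfl | rfl
    · rw [← hR]; exact Subgroup.card_le_of_le inf_le_left
    · -- a proper subgroup: the centre of order four is not made of isometries
      have hlt : R₀ < R := by
        refine lt_of_le_of_ne inf_le_left fun heq => ?_
        have h4 : Nat.card (Subgroup.center R) ≤ 2 := by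
          rw [← hcard2]
          refine Nat.card_le_card_of_injective (fun c => ⟨((c : R) : GL N F), ?_, ?_⟩) fun a b h => ?_
          · exact heq.symm ▸ (c : R).2
          · obtain ⟨a, ha⟩ := scalar_of_span hD.span (((c : R) : GL N F) : Matrix N N F) (by
              rintro _ ⟨y, hy, rfl⟩
              exact congrArg (fun g : R => ((g : GL N F) : Matrix N N F))
                (Subgroup.mem_center_iff.mp c.2 ⟨y, hy⟩).symm)
            exact smul_one_mem_scalars ha
          · exact Subtype.ext (Subtype.ext (Subtype.mk.inj h))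
        rw [hD.card_center] at h4
        omega
      obtain ⟨k, hk⟩ := Subgroup.card_dvd_of_le hlt.le
      rcases (show k = 0 ∨ k = 1 ∨ 2 ≤ k by omega) with rfl | rfl | hk2
      · rw [mul_zero] at hk
        exact absurd hk (Nat.pos_of_neZero _ |>.ne' : Nat.card R ≠ 0)
      · rw [mul_one] at hk
        exact absurd (Subgroup.eq_of_le_of_card_ge hlt.le hk.le) hlt.ne
      · have := Nat.mul_le_mul_left (Nat.card R₀) hk2
        rw [← hk, hR] at this
        omega
  by_cases hf : 2 ≤ f
  · -- traces in the prime field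
    obtain ⟨E, hE, hEm⟩ := exists_subfield_of_pow (F := F) hFc one_pos hf
    refine symplectic_subfield hm hH inf_le_right (fun g hg => hn₀ g (le_sup_left (a := H) hg)) hspan₀ hE
      (realisableOver_of_trace hspan₀ (scalar_of_span hspan₀) _ fun x hx => ?_)
    by_cases hxs : x ∈ Geo.scalars N F
    · rw [hEm, pow_one]
      have hnat : ∀ k : ℕ, ((k : F)) ^ p = k := fun k => by
        rw [← frobenius_def, map_natCast]
      rcases hscal x hx.2 hxs with rfl | rfl
      · rw [Units.val_one, Matrix.trace_one, hnat]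
      · rw [sc_val, Units.val_neg, Units.val_one, neg_smul, one_smul, Matrix.trace_neg, Matrix.trace_one,
          hpodd.neg_pow, hnat]
    · rw [htr₀ x hx hxs]; exact zero_mem _
  have hf1 : f = 1 := by
    rcases (show f = 0 ∨ f = 1 by omega) with rfl | rfl
    · rw [pow_zero] at hFc
      have := Finite.one_lt_card (α := F)
      omega
    · rfl
  subst hf1
  have hne_top : ∃ x ∈ R₀, ∃ y ∈ R₀, x * y ≠ y * x := by
    by_contra hc
    simp only [not_exists, not_and, not_not] at hc
    have hle : Submodule.span F (Geo.matrixSet R₀) ≤ Submodule.span F {(1 : Matrix N N F)} := by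
      rw [Submodule.span_le]
      rintro _ ⟨x, hx, rfl⟩
      obtain ⟨a, ha⟩ := scalar_of_span hspan₀ (x : Matrix N N F) (by
        rintro _ ⟨y, hy, rfl⟩
        exact congrArg (fun g : GL N F => (g : Matrix N N F)) (hc x hx y hy))
      exact Submodule.mem_span_singleton.mpr ⟨a, ha.symm⟩
    rw [hspan₀] at hle
    obtain ⟨a, ha⟩ := Submodule.mem_span_singleton.mp
      (hle (Submodule.mem_top : Matrix.single (Sum.inl ⟨0, hm⟩ : N) (Sum.inr ⟨0, hm⟩) (1 : F) ∈ _))
    have h1 := congrFun (congrFun ha (Sum.inl ⟨0, hm⟩)) (Sum.inr ⟨0, hm⟩)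
    simp at h1
  have hexp4 : ∀ x : R₀, x ^ 4 = 1 := fun x => by
    have h1 : (⟨x.1, x.2.1⟩ : R) ^ Monoid.exponent R = 1 := Monoid.pow_exponent_eq_one _
    rw [hD.sympType.exponent_eq] at h1
    exact Subtype.ext (congrArg Subtype.val h1 :)
  have hsymp : Geo.IsSymplecticTypeGroup 2 R₀ := by
    refine ⟨Nat.prime_two, fun x => ⟨2, hexp4 x⟩, fun A hA hAc => ?_, ?_⟩
    · -- characteristic abelian subgroups are scalar
      set A' : Subgroup (GL N F) := A.map R₀.subtype with hA'
      have hA'n : NormBy (H ⊔ Geo.scalars N F) A' := by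
        rintro g hg _ ⟨x, hx, rfl⟩
        have hi : ∀ y ∈ R₀, g⁻¹ * y * g ∈ R₀ := fun y hy => by
          have := hn₀ g⁻¹ (inv_mem hg) y hy
          rwa [inv_inv] at this
        let α : R₀ ≃* R₀ :=
          { toFun := fun y => ⟨g * y * g⁻¹, hn₀ g hg y y.2⟩
            invFun := fun y => ⟨g⁻¹ * y * g, hi y y.2⟩
            left_inv := fun y => Subtype.ext (by simp [mul_assoc])
            right_inv := fun y => Subtype.ext (by simp [mul_assoc])
            map_mul' := fun y y' => Subtype.ext (by simp [mul_assoc]) }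
        have h1 := hA.fixed α
        rw [SetLike.ext_iff] at h1
        exact ⟨α x, (h1 x).mpr hx, rfl⟩
      have hA'G : A' ≤ H ⊔ Geo.scalars N F := by
        rintro _ ⟨x, -, rfl⟩; exact hRG x.2.1
      have hA's := hgood.abelian hA'G hA'n (by
        rintro _ ⟨x, hx, rfl⟩ _ ⟨y, hy, rfl⟩
        exact congrArg (fun t : A => ((t : R₀) : GL N F)) (hAc.is_comm.comm ⟨x, hx⟩ ⟨y, hy⟩))
      let f : A →* Subgroup.zpowers (sc N (-1 : Fˣ)) :=
        { toFun := fun x => ⟨((x : R₀) : GL N F), by
            rw [← hscal₀]; exact ⟨(x : R₀).2, hA's ⟨_, x.2, rfl⟩⟩⟩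
          map_one' := rfl
          map_mul' := fun _ _ => rfl }
      exact isCyclic_of_injective f fun x y h => by simpa [f] using h
    · rw [show 2 * Nat.gcd 2 2 = 2 ^ 2 from rfl]
      have hdvd : Monoid.exponent R₀ ∣ 2 ^ 2 := Monoid.exponent_dvd_of_forall_pow_eq_one hexp4
      obtain ⟨i, hi, hexp⟩ := (Nat.dvd_prime_pow Nat.prime_two).mp hdvd
      interval_cases i
      case «2» => exact hexp
      all_goals
        exfalso
        obtain ⟨x, hx, y, hy, hxy⟩ := hne_top
        have hsq : ∀ w : R₀, w ^ 2 = 1 := fun w =>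
          orderOf_dvd_iff_pow_eq_one.mp ((Monoid.order_dvd_exponent w).trans (by rw [hexp]; norm_num))
        have h1 : ∀ w : R₀, w⁻¹ = w := fun w => inv_eq_of_mul_eq_one_right (by rw [← sq]; exact hsq w)
        apply hxy
        have h3 := h1 ((⟨x, hx⟩ : R₀) * ⟨y, hy⟩)
        rw [_root_.mul_inv_rev, h1, h1] at h3
        exact congrArg Subtype.val h3.symm
  refine ⟨Geo.subgroupNormalizer R₀ ⊓ Cfsg.spGL m F,
    Or.inr (Or.inr (Or.inr (Or.inr (Or.inr (Or.inl
      ⟨R₀, p, μ, hsymp, absIrred_of_span hspan₀, fun x hx => ⟨1, fun u v => ?_⟩, hp, hpodd, ?_, hcard₀, ?_, ?_,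
        rfl⟩))))),
    le_inf (le_subgroupNormalizer fun g hg => hn₀ g (le_sup_left (a := H) hg)) hH⟩
  · rw [Units.val_one, one_mul]; exact hx.2 u v
  · rw [← Nat.card_eq_fintype_card, hFc, pow_one]
  · rw [← hcard2]
    refine Nat.card_congr
      { toFun := fun c => ⟨((c : R₀) : GL N F), (c : R₀).2, ?_⟩
        invFun := fun x => ⟨⟨x.1, x.2.1⟩, Subgroup.mem_center_iff.mpr fun y =>
          Subtype.ext (scalars_central x.2.2 _)⟩
        left_inv := fun _ => rfl
        right_inv := fun _ => rfl }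
    obtain ⟨a, ha⟩ := scalar_of_span hspan₀ (((c : R₀) : GL N F) : Matrix N N F) (by
      rintro _ ⟨y, hy, rfl⟩
      exact congrArg (fun g : R₀ => ((g : GL N F) : Matrix N N F)) (Subgroup.mem_center_iff.mp c.2 ⟨y, hy⟩).symm)
    exact smul_one_mem_scalars ha
  · intro A hAc hAinv
    have : Fintype A := Fintype.ofFinite A
    set A'' : Finset (GL N F) := Finset.image (fun a : A => ((a : R₀) : GL N F)) Finset.univ with hA''
    have hmemA : ∀ x, x ∈ A'' ↔ ∃ a : A, ((a : R₀) : GL N F) = x := fun x => by simp [hA'']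
    have hc : A''.card = Nat.card A := by
      rw [hA'', Finset.card_image_of_injective _ (fun a b h => Subtype.ext (Subtype.ext h)), Finset.card_univ,
        Nat.card_eq_fintype_card]
    rw [← hc]
    refine minus_type_bound h2 (isUnit_det_J (m := m) (F := F)) (fun v => sympForm_self v) hcardN A'' ?_ ?_ ?_
      ((hmemA 1).mpr ⟨1, rfl⟩) ?_ ?_
    · intro x hx
      obtain ⟨a, rfl⟩ := (hmemA x).mp hx
      exact congrArg Subtype.val (hAinv a a.2)
    · intro x hx y hy
      obtain ⟨a, rfl⟩ := (hmemA x).mp hx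
      obtain ⟨b, rfl⟩ := (hmemA y).mp hy
      exact congrArg (fun t : A => ((t : R₀) : GL N F)) (hAc.is_comm.comm a b)
    · intro x hx y hy
      obtain ⟨a, rfl⟩ := (hmemA x).mp hx
      obtain ⟨b, rfl⟩ := (hmemA y).mp hy
      exact (hmemA _).mpr ⟨a * b, rfl⟩
    · intro x hx
      obtain ⟨a, rfl⟩ := (hmemA x).mp hx
      simpa using gram_of_mem_spGL (a : R₀).2.2
    · intro x hx
      obtain ⟨a, rfl⟩ := (hmemA x).mp hx
      exact htr₀ _ (a : R₀).2

end Cfsg.Agent.Aschbacher
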