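/-
The subgroup structure theorem for the symplectic groups, every dimension.
Main results: `symplectic_structure`.
-/
import Cfsg.Agent.Lib.Aschbacher.FormSymplectic
import Cfsg.Agent.Lib.Aschbacher.SympSix

set_option autoImplicit false

namespace Cfsg.Agent.Aschbacher

open Matrix
open scoped commutatorElement
open Cfsg.Agent.PrimeDim

variable {F : Type*} [Field F] [Fintype F] {m : ℕ}

local notation "N" => Fin m ⊕ Fin m
local notation "J" => Matrix.J (Fin m) F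

/-- Every subgroup of Sp_2m(q), m ≥ 2, is in a geometric class or residual. -/
theorem symplectic_structure (hm : 2 ≤ m) {H : Subgroup (GL N F)} (hH : H ≤ Cfsg.spGL m F) :
    (∃ M, Geo.InSymplecticClass m F M ∧ H ≤ M) ∨ Geo.InSymplecticResidualClass H := by
  classical
  have : Nonempty N := ⟨Sum.inl ⟨0, by omega⟩⟩
  have : Finite (Matrix N N F) := inferInstanceAs (Finite (N → N → F))
  have : Finite (GL N F) := Finite.of_injective Units.val Units.val_injective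
  have hm1 : 1 ≤ m := by omega
  have partial_le : (∃ M, Geo.InSymplecticPartialClass m F M ∧ H ≤ M) →
      (∃ M, Geo.InSymplecticClass m F M ∧ H ≤ M) := fun ⟨M, hM, h⟩ => ⟨M, Or.inl hM, h⟩
  set G := H ⊔ Geo.scalars N F with hGdef
  have hHG : H ≤ G := le_sup_left
  have hs : Geo.scalars N F ≤ G := le_sup_right
  by_cases hirr : Geo.ActsIrreducibly (Geo.matrixSet H)
  swap
  · left
    have hirrG : ¬ Geo.ActsIrreducibly (Geo.matrixSet G) := fun hG => hirr fun W hW => by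
      refine hG W ?_
      rintro _ ⟨g, hg, rfl⟩
      obtain ⟨a, ha, z, hz, rfl⟩ := Subgroup.mem_sup_of_normal_right.mp hg
      obtain ⟨c, hc⟩ := (Geo.mem_scalars_iff z).mp hz
      refine (mapsTo_iff_mulVec _ W).mpr fun w hw => ?_
      show ((a * z : GL N F) : Matrix N N F) *ᵥ w ∈ W
      rw [Units.val_mul, hc, Matrix.mul_smul, mul_one, Matrix.smul_mulVec]
      exact W.smul_mem _ ((mapsTo_iff_mulVec _ W).mp (hW _ (mem_matrixSet ha)) w hw)
    rcases reducible_split herm_J (symp_sim hH) hirrG with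
      ⟨W, hb, hts, hle⟩ | ⟨W, hb, -, hnd, hdim, hle⟩ | ⟨k, D, -, hD, hle⟩
    · rw [← sympForm_eq_gram] at hts
      exact ⟨_, Or.inl (Or.inl ⟨W, hb, hts, rfl⟩), le_inf (hHG.trans hle) hH⟩
    · rw [← sympForm_eq_gram] at hnd
      refine ⟨_, Or.inl (Or.inr (Or.inl ⟨W, hb, hnd, ?_, rfl⟩)), le_inf (hHG.trans hle) hH⟩
      simp at hdim
      omega
    · rw [← sympForm_eq_gram] at hD
      exact ⟨_, Or.inl (Or.inr (Or.inr (Or.inl ⟨2, k, D, hD, rfl⟩))), le_inf (hHG.trans hle) hH⟩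
  have hirrG : Geo.ActsIrreducibly (Geo.matrixSet G) := irred_sup_scalars hirr
  rcases form_clifford herm_J (symp_sim hH) hs hirrG with h | h | ⟨d, t, hd, ht, h⟩ | hgood
  · exact Or.inl (partial_le (symp_decomp hH h))
  · exact Or.inl (symp_field hm1 hH h)
  · exact Or.inl (symp_tensor hm1 hH hirr hd ht h)
  have hι : 3 ≤ Fintype.card N := by simp; omega
  obtain ⟨x₀, hx₀, hx₀s⟩ := not_all_scalar (by omega) hirrG
  have hex : ∃ k, ∃ M : Subgroup (GL N F),
      (M ≤ G ∧ NormBy G M ∧ Geo.scalars N F ≤ M ∧ ∃ x ∈ M, x ∉ Geo.scalars N F) ∧ Nat.card M = k :=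
    ⟨_, G, ⟨le_rfl, normBy_self G, hs, x₀, hx₀, hx₀s⟩, rfl⟩
  obtain ⟨M₀, ⟨hle, hn, hS, hns⟩, hk⟩ := Nat.find_spec hex
  have hmin : ∀ M ≤ M₀, NormBy G M → Geo.scalars N F ≤ M → (∃ x ∈ M, x ∉ Geo.scalars N F) → M = M₀ :=
    fun M h1 h2 h3 h4 =>
      Subgroup.eq_of_le_of_card_ge h1 (hk ▸ Nat.find_min' hex ⟨M, ⟨h1.trans hle, h2, h3, h4⟩, rfl⟩)
  by_cases hc : ∀ x ∈ M₀, ∀ y ∈ M₀, ⁅x, y⁆ ∈ Geo.scalars N F
  · obtain ⟨r, μ, z, p, f, R, hD⟩ :=
      ClassTwo.sympData hι (⟨hgood, hle, hn, hS, hns, hmin, hc⟩ : ClassTwo G M₀)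
    exact Or.inl (partial_le (symp_sympType hm1 hH hgood hD))
  simp only [not_forall, exists_prop] at hc
  rcases perfect_outcome_data (by omega) hgood hle hn hS hmin hc with ⟨d, k, hd, hk, -, hT⟩ | ⟨P, hP⟩
  · exact Or.inl (symp_tensorInduced hm1 hH hd hk hT)
  · exact (symp_core hm1 hH (core_mono hP)).imp_left partial_le

end Cfsg.Agent.Aschbacher
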