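/-
The symplectic group lies in no geometric class.
Main results: `st_not_subspace`, `st_not_decomposition`, `st_not_field`, `st_not_tensor`, `st_not_subfield`,
`st_not_normalizer`, `st_not_quad`, `st_mem_spGL`.
-/
import Cfsg.Agent.Lib.Aschbacher.UnitarySymp
import Cfsg.Agent.Lib.Transvect.Symp
import Cfsg.Agent.Lib.Forms.Classify

set_option autoImplicit false

namespace Cfsg.Agent.Aschbacher

open Matrix
open scoped commutatorElement
open Cfsg.Agent.PrimeDim
open Cfsg.Agent.Transvect (app st st_apply app_apply)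

variable {ι : Type} [Fintype ι] [DecidableEq ι] {F : Type*} [Field F]
variable {f : (ι → F) → (ι → F) → F} (hf : Geo.IsSymplecticForm f)

theorem st_mulVec (v : ι → F) (c : F) (x : ι → F) :
    (st hf v c : Matrix ι ι F) *ᵥ x = x + (c * f x v) • v := by
  rw [← app_apply, st_apply]

theorem st_mem_spGL {m : ℕ} (v : Fin m ⊕ Fin m → F) (c : F) :
    st (Transvect.sympForm_isSymplectic m) v c ∈ Cfsg.spGL m F :=
  Transvect.mem_spGL_iff.mpr (Transvect.st_isIsom _ v c)

/-- All transvections stabilise no proper subspace. -/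
theorem st_not_subspace {W : Submodule F (ι → F)} (hb : W ≠ ⊥) (ht : W ≠ ⊤) :
    ¬ ∀ v c, st hf v c ∈ Geo.subspaceStabilizer W := by
  intro hT
  obtain ⟨w, hw, hw0⟩ := W.exists_mem_ne_zero_of_ne_bot hb
  obtain ⟨v, -, hv⟩ := SetLike.exists_of_lt (lt_top_iff_ne_top.mpr ht)
  have key : ∀ u, u ∉ W → f w u = 0 := by
    intro u hu
    by_contra hne
    refine hu ?_
    have h1 := (Transvect.mem_stab_iff.mp (hT u 1)) w hw
    rw [st_apply, one_mul] at h1
    have h2 := W.smul_mem (f w u)⁻¹ (W.sub_mem h1 hw)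
    rwa [add_sub_cancel_left, smul_smul, inv_mul_cancel₀ hne, one_smul] at h2
  obtain ⟨u, hu⟩ := (hf.nondegenerate w hw0).2
  refine hu ?_
  by_cases huW : u ∈ W
  · have h1 := key (v + u) fun h => hv (by simpa using W.sub_mem h huW)
    rwa [hf.bilinear.add_right, key v hv, zero_add] at h1
  · exact key u huW

/-- All transvections stabilise no decomposition into subspaces of dimension at least two. -/
theorem st_not_decomposition {m t : ℕ} (hm : 2 ≤ m) {D : Fin t → Submodule F (ι → F)}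
    (hD : Geo.IsMDecomposition m D) : ¬ ∀ v c, st hf v c ∈ Geo.decompositionStabilizer D := by
  intro hT
  have hdis : ∀ k l : Fin t, k ≠ l → ∀ x, x ∈ D k → x ∈ D l → x = 0 := fun k l hkl x h1 h2 =>
    Submodule.disjoint_def.mp (hD.indep.pairwiseDisjoint hkl) x h1 h2
  have hpart : ∀ v : ι → F, ∃ i, v ∈ D i := by
    intro v
    by_cases hv0 : v = 0
    · exact ⟨⟨0, by have := hD.two_le; omega⟩, hv0 ▸ zero_mem _⟩
    obtain ⟨π, hπ⟩ := hT v 1
    have himg : ∀ i, ∀ x ∈ D i, x + f x v • v ∈ D (π i) := fun i x hx => by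
      rw [← hπ i]
      exact ⟨x, hx, by rw [Matrix.toLin'_apply, st_mulVec, one_mul]⟩
    obtain ⟨i, x, hx, hxv⟩ : ∃ i, ∃ x ∈ D i, f x v ≠ 0 := by
      by_contra hc
      simp only [not_exists, not_and, not_not] at hc
      obtain ⟨y, hy⟩ := (hf.nondegenerate v hv0).1
      refine hy ?_
      have hle : iSup D ≤ LinearMap.ker (Transvect.flin hf.bilinear v) :=
        iSup_le fun i x hx => by rw [LinearMap.mem_ker, Transvect.flin_apply]; exact hc i x hx
      simpa using hle (hD.iSup_eq_top ▸ Submodule.mem_top : y ∈ iSup D)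
    have hπi : π i = i := by
      by_contra hne
      have hinj : Function.Injective ((Transvect.flin hf.bilinear v).domRestrict (D i)) := by
        rw [← LinearMap.ker_eq_bot, Submodule.eq_bot_iff]
        intro z hz
        have hz0 : f (z : ι → F) v = 0 := by simpa using hz
        have h1 := himg i z z.2
        rw [hz0, zero_smul, add_zero] at h1
        exact Subtype.ext (hdis _ _ hne _ h1 z.2)
      have h2 := LinearMap.finrank_le_finrank_of_injective hinj
      rw [hD.finrank_eq, Module.finrank_self] at h2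
      omega
    refine ⟨i, ?_⟩
    have h1 := himg i x hx
    rw [hπi] at h1
    have h2 := (D i).smul_mem (f x v)⁻¹ ((D i).sub_mem h1 hx)
    rwa [add_sub_cancel_left, smul_smul, inv_mul_cancel₀ hxv, one_smul] at h2
  obtain ⟨i, j, hij⟩ : ∃ i j : Fin t, i ≠ j :=
    ⟨⟨0, by have := hD.two_le; omega⟩, ⟨1, by have := hD.two_le; omega⟩, by simp⟩
  have hne : ∀ k, ∃ x ∈ D k, x ≠ 0 := fun k => Submodule.exists_mem_ne_zero_of_ne_bot fun h => by
    have := hD.finrank_eq k
    rw [h, finrank_bot] at this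
    omega
  obtain ⟨x, hx, hx0⟩ := hne i
  obtain ⟨y, hy, hy0⟩ := hne j
  obtain ⟨k, hk⟩ := hpart (x + y)
  by_cases hki : k = i
  · refine hy0 (hdis j i hij.symm y hy ?_)
    have h := (D i).sub_mem (hki ▸ hk : x + y ∈ D i) hx
    rwa [add_sub_cancel_left] at h
  by_cases hkj : k = j
  · refine hx0 (hdis i j hij x hx ?_)
    have h := (D j).sub_mem (hkj ▸ hk : x + y ∈ D j) hy
    rwa [add_sub_cancel_right] at h
  have h1 : x + y ∈ ⨆ l ≠ k, D l := add_mem
    (Submodule.mem_iSup_of_mem i (Submodule.mem_iSup_of_mem (Ne.symm hki) hx))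
    (Submodule.mem_iSup_of_mem j (Submodule.mem_iSup_of_mem (Ne.symm hkj) hy))
  have h2 := Submodule.disjoint_def.mp (hD.indep k) _ hk h1
  refine hy0 (hdis j i hij.symm y hy ?_)
  rw [show y = -x from eq_neg_of_add_eq_zero_right h2]
  exact (D i).neg_mem hx

/-- All transvections normalise no field subalgebra. -/
theorem st_not_field (h3 : 3 ≤ Fintype.card ι) {r : ℕ} (hr : 2 ≤ r) {K : Subalgebra F (Matrix ι ι F)}
    (hK : Geo.IsFieldSubalgebra r K) : ¬ ∀ v c, st hf v c ∈ Geo.subalgebraNormalizer K := by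
  intro hT
  have : Nonempty ι := Fintype.card_pos_iff.mp (by omega)
  obtain ⟨v, hv⟩ := exists_ne (0 : ι → F)
  obtain ⟨x, hx⟩ := (hf.nondegenerate v hv).1
  refine tv_not_mem_subalgebraNormalizer h3 hr hK (v := v) (φ := (1 : F) • Transvect.flin hf.bilinear v)
    (by simp [hf.alternating]) hv (fun h => hx ?_) (hT v 1)
  simpa using LinearMap.congr_fun h x

/-- All transvections preserve no tensor decomposition. -/
theorem st_not_tensor {d t : ℕ} (hd : 2 ≤ d) (ht : 2 ≤ t) (e : ι ≃ Fin d × Fin t) (P : GL ι F) :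
    ¬ ∀ v c, st hf v c ∈ Geo.tensorProductSubgroup d t e P := by
  intro hT
  have : Nonempty ι := ⟨e.symm (⟨0, by omega⟩, ⟨0, by omega⟩)⟩
  obtain ⟨v, hv⟩ := exists_ne (0 : ι → F)
  obtain ⟨x, hx⟩ := (hf.nondegenerate v hv).1
  obtain ⟨A, B, hAB⟩ := (mem_tensorProductSubgroup_iff e P _).mp (hT v 1)
  have hPi : ∀ z : ι → F, ((P⁻¹ : GL ι F) : Matrix ι ι F) *ᵥ ((P : Matrix ι ι F) *ᵥ z) = z := fun z => by
    rw [Matrix.mulVec_mulVec, Units.inv_mul, Matrix.one_mulVec]
  have hT' : tens e (A : Matrix (Fin d) (Fin d) F) (B : Matrix (Fin t) (Fin t) F)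
      = cj P⁻¹ (st hf v 1 : Matrix ι ι F) := by rw [hAB, cj_inv_cj]
  have hh : ∀ z, ∃ c : F, tens e (A : Matrix (Fin d) (Fin d) F) (B : Matrix (Fin t) (Fin t) F) *ᵥ z - z
      = c • (((P⁻¹ : GL ι F) : Matrix ι ι F) *ᵥ v) := fun z => ⟨f ((P : Matrix ι ι F) *ᵥ z) v, by
    rw [hT', cj_apply, inv_inv, ← Matrix.mulVec_mulVec, ← Matrix.mulVec_mulVec, st_mulVec, Matrix.mulVec_add,
      hPi, Matrix.mulVec_smul, one_mul, add_sub_cancel_left]⟩
  obtain ⟨c, hc⟩ := tens_not_transvection (by omega) ht e _ hh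
  obtain ⟨c', hc'⟩ := tens_not_transvection (e := e.trans (Equiv.prodComm _ _)) (by omega) hd
    (A := (B : Matrix (Fin t) (Fin t) F)) (B := (A : Matrix (Fin d) (Fin d) F)) _ (fun z => by
      have he : tens (e.trans (Equiv.prodComm _ _)) (B : Matrix (Fin t) (Fin t) F) (A : Matrix (Fin d) (Fin d) F)
          = tens e (A : Matrix (Fin d) (Fin d) F) (B : Matrix (Fin t) (Fin t) F) := by
        ext i j; simp [tens_apply, mul_comm]
      rw [he]; exact hh z)
  have hu : (st hf v 1 : Matrix ι ι F) = (c * c') • 1 := by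
    rw [hAB, hc, hc']
    have : tens e (c • (1 : Matrix (Fin d) (Fin d) F)) (c' • (1 : Matrix (Fin t) (Fin t) F))
        = (c * c') • (1 : Matrix ι ι F) := by
      ext i j
      rw [← tens_one (F := F) e]
      simp [tens_apply]
      ring
    rw [this, map_smul, map_one]
  have h1 := st_mulVec hf v 1 v
  rw [hu, Matrix.smul_mulVec, Matrix.one_mulVec, hf.alternating, mul_zero, zero_smul, add_zero] at h1
  have hcc : c * c' = 1 := smul_left_injective F hv (h1.trans (one_smul F v).symm)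
  have h2 := st_mulVec hf v 1 x
  rw [hu, hcc, one_smul, Matrix.one_mulVec, one_mul, left_eq_add, smul_eq_zero] at h2
  exact h2.elim hx hv

/-- All transvections preserve no subfield structure. -/
theorem st_not_subfield (h2 : 2 ≤ Fintype.card ι) {F₁ : Subfield F} (hF₁ : F₁ ≠ ⊤) (B : GL ι F) :
    ¬ ∀ v c, st hf v c ∈ Geo.subfieldSubgroup F₁ B := by
  intro hT
  have : Nonempty ι := Fintype.card_pos_iff.mp (by omega)
  obtain ⟨g, -, hg⟩ := SetLike.exists_of_lt (lt_top_iff_ne_top.mpr hF₁)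
  obtain ⟨i⟩ := ‹Nonempty ι›
  set v := (B : Matrix ι ι F) *ᵥ Pi.single i 1 with hv
  have hBi : ∀ z : ι → F, ((B⁻¹ : GL ι F) : Matrix ι ι F) *ᵥ ((B : Matrix ι ι F) *ᵥ z) = z := fun z => by
    rw [Matrix.mulVec_mulVec, Units.inv_mul, Matrix.one_mulVec]
  have hv0 : v ≠ 0 := fun h => by
    have := hBi (Pi.single i 1)
    rw [← hv, h, Matrix.mulVec_zero] at this
    simpa using congrFun this.symm i
  obtain ⟨j, hj⟩ : ∃ j, f ((B : Matrix ι ι F) *ᵥ Pi.single j 1) v ≠ 0 := by
    by_contra hc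
    simp only [not_exists, not_not] at hc
    obtain ⟨y, hy⟩ := (hf.nondegenerate v hv0).1
    refine hy ?_
    have h0 : (Transvect.flin hf.bilinear v).comp (Matrix.toLin' (B : Matrix ι ι F)) = 0 := by
      ext j
      simp only [LinearMap.comp_apply, LinearMap.coe_single, Matrix.toLin'_apply, Transvect.flin_apply,
        LinearMap.zero_apply]
      exact hc j
    have h1 := LinearMap.congr_fun h0 (((B⁻¹ : GL ι F) : Matrix ι ι F) *ᵥ y)
    simpa [Matrix.mulVec_mulVec] using h1
  have hji : j ≠ i := fun h => hj (by rw [h, ← hv, hf.alternating])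
  obtain ⟨s, hs0, hs⟩ := exists_smul_entries (hT v (g / f ((B : Matrix ι ι F) *ᵥ Pi.single j 1) v))
  have hent : ∀ k, cj B⁻¹ (st hf v (g / f ((B : Matrix ι ι F) *ᵥ Pi.single j 1) v) : Matrix ι ι F) k j
      = (Pi.single j 1 : ι → F) k + g * (Pi.single i 1 : ι → F) k := by
    intro k
    set M := cj B⁻¹ (st hf v (g / f ((B : Matrix ι ι F) *ᵥ Pi.single j 1) v) : Matrix ι ι F) with hM
    have : M k j = (M *ᵥ Pi.single j 1) k := by simp
    rw [this, hM, cj_apply, inv_inv, ← Matrix.mulVec_mulVec, ← Matrix.mulVec_mulVec, st_mulVec,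
      Matrix.mulVec_add, Matrix.mulVec_smul, hBi, hv, hBi, div_mul_cancel₀ _ hj, Pi.add_apply, Pi.smul_apply,
      smul_eq_mul]
  have hsF : s ∈ F₁ := by
    have := hs j j
    rw [hent] at this
    simpa [Ne.symm hji, hji] using this
  have := hs i j
  rw [hent] at this
  simp [Ne.symm hji] at this
  refine hg ?_
  have h := mul_mem (inv_mem hsF) this
  rwa [← mul_assoc, inv_mul_cancel₀ hs0, one_mul] at h

/-- All transvections normalise no group of symplectic type. -/
theorem st_not_normalizer [Finite F] (h3 : 3 ≤ Fintype.card ι) (h20 : (2 : F) ≠ 0) (hn : (Fintype.card ι : F) ≠ 0)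
    {R : Subgroup (GL ι F)} (hspan : Submodule.span F (Geo.matrixSet R) = ⊤)
    (hcomm : ∀ x ∈ R, ∀ y ∈ R, ⁅x, y⁆ ∈ Geo.scalars ι F) {x : GL ι F} (hx : x ∈ R)
    (hxs : x ∉ Geo.scalars ι F) {μ : F} (hx2 : (x : Matrix ι ι F) * (x : Matrix ι ι F) = μ • 1) :
    ¬ ∀ v c, st hf v c ∈ Geo.subgroupNormalizer R := by
  intro hT
  have : Nonempty ι := Fintype.card_pos_iff.mp (by omega)
  set X := (x : Matrix ι ι F) with hX
  set Xi := ((x⁻¹ : GL ι F) : Matrix ι ι F) with hXi
  -- zeros of `v ↦ f (X v) v` are eigenvectors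
  have key : ∀ v : ι → F, f (X *ᵥ v) v = 0 → ∃ l : F, X *ᵥ v = l • v := by
    intro v hv
    by_cases hv0 : v = 0
    · exact ⟨0, by simp [hv0]⟩
    set T := st hf v 1 with hTd
    set φ := Transvect.flin hf.bilinear v with hφ
    set y := T * x * T⁻¹ * x⁻¹ with hy
    have hyR : y ∈ R := mul_mem (((Subgroup.mem_normalizer_iff.mp (hT v 1)) x).mp hx) (inv_mem hx)
    have hTfix : ∀ w, f w v = 0 → (T : Matrix ι ι F) *ᵥ w = w := fun w hw => by
      rw [hTd, st_mulVec, hw, mul_zero, zero_smul, add_zero]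
    have hTi : ∀ w, ((T⁻¹ : GL ι F) : Matrix ι ι F) *ᵥ w = w - f w v • v := fun w => by
      have h1 : (T : Matrix ι ι F) *ᵥ (w - f w v • v) = w := by
        rw [Matrix.mulVec_sub, Matrix.mulVec_smul, hTfix v (hf.alternating v), hTd, st_mulVec, one_mul,
          add_sub_cancel_right]
      conv_lhs => rw [← h1, Matrix.mulVec_mulVec, Units.inv_mul, Matrix.one_mulVec]
    have hyw : ∀ w, (y : Matrix ι ι F) *ᵥ w =
        w - f (Xi *ᵥ w) v • (X *ᵥ v) + f w v • v := by
      intro w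
      rw [hy, Units.val_mul, Units.val_mul, Units.val_mul, ← Matrix.mulVec_mulVec, ← Matrix.mulVec_mulVec,
        ← Matrix.mulVec_mulVec, hTi, Matrix.mulVec_sub, Matrix.mulVec_smul, ← hX, ← hXi, Matrix.mulVec_mulVec w,
        hX, hXi, Units.mul_inv, Matrix.one_mulVec, hTd, st_mulVec, one_mul]
      rw [← hX, ← hXi]
      have : f (w - f (Xi *ᵥ w) v • (X *ᵥ v)) v = f w v := by
        have h2 := hf.bilinear.add_left w ((-f (Xi *ᵥ w) v) • (X *ᵥ v)) v
        rw [hf.bilinear.smul_left, hv, mul_zero, add_zero, neg_smul, ← sub_eq_add_neg] at h2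
        exact h2
      rw [this]
    by_cases hys : y ∈ Geo.scalars ι F
    · obtain ⟨c, hc⟩ := (Geo.mem_scalars_iff _).mp hys
      obtain ⟨w, hw, hw1, hw2⟩ := exists_ker_ne_zero h3 φ (φ ∘ₗ Matrix.toLin' Xi)
      have h1 := hyw w
      simp only [hφ, LinearMap.comp_apply, Matrix.toLin'_apply, Transvect.flin_apply] at hw1 hw2
      rw [hw1, hw2, zero_smul, zero_smul, sub_zero, add_zero, hc, Matrix.smul_mulVec, Matrix.one_mulVec] at h1
      have hc1 : (c : F) = 1 := smul_left_injective F hw (h1.trans (one_smul F w).symm)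
      obtain ⟨z, hz⟩ := (hf.nondegenerate v hv0).1
      have h2 := hyw (X *ᵥ z)
      have hXX : Xi *ᵥ (X *ᵥ z) = z := by rw [Matrix.mulVec_mulVec, hXi, hX, Units.inv_mul, Matrix.one_mulVec]
      rw [hc, hc1, one_smul, Matrix.one_mulVec, hXX] at h2
      refine ⟨(f z v)⁻¹ * f (X *ᵥ z) v, ?_⟩
      have h3' : f z v • (X *ᵥ v) = f (X *ᵥ z) v • v := by
        have h4 := congrArg (fun u => u - X *ᵥ z + f z v • (X *ᵥ v)) h2
        simp only [sub_self, zero_add] at h4
        rw [h4]; abel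
      rw [mul_smul, ← h3', smul_smul, inv_mul_cancel₀ hz, one_smul]
    · exfalso
      refine hn ?_
      have htr := trace_zero_of_comm hspan hcomm hyR hys
      have hlin : Matrix.toLin' (y : Matrix ι ι F) = LinearMap.id - (φ ∘ₗ Matrix.toLin' Xi).smulRight (X *ᵥ v)
          + φ.smulRight v := by
        refine LinearMap.ext fun w => ?_
        rw [Matrix.toLin'_apply, hyw]
        simp [hφ]
      rw [← Matrix.trace_toLin'_eq] at htr
      rw [hlin, map_add, map_sub, LinearMap.trace_id, LinearMap.trace_smulRight, LinearMap.trace_smulRight,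
        Module.finrank_fintype_fun_eq_card] at htr
      simpa [hφ, Matrix.mulVec_mulVec, hXi, hX, hf.alternating] using htr
  -- the eigenvalues square to μ
  have heig : ∀ (v : ι → F) (l : F), v ≠ 0 → X *ᵥ v = l • v → l * l = μ := fun v l hv h => by
    refine smul_left_injective F hv ?_
    show (l * l) • v = μ • v
    have h1 : (X * X) *ᵥ v = μ • v := by rw [hx2, Matrix.smul_mulVec, Matrix.one_mulVec]
    rw [← h1, ← Matrix.mulVec_mulVec, h, Matrix.mulVec_smul, h, smul_smul]
  let Q : QuadraticForm F (ι → F) := LinearMap.BilinMap.toQuadraticMap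
    (LinearMap.mk₂ F (fun a b => f (X *ᵥ a) b)
      (fun a a' b => by rw [Matrix.mulVec_add, hf.bilinear.add_left])
      (fun c a b => by rw [Matrix.mulVec_smul, hf.bilinear.smul_left]; rfl)
      (fun a b b' => hf.bilinear.add_right _ b b')
      (fun c a b => by rw [hf.bilinear.smul_right]; rfl))
  obtain ⟨v₀, hv₀, hQ⟩ := Forms.exists_singular_of_three_le Q
    (by rw [Module.finrank_fintype_fun_eq_card]; exact h3)
  obtain ⟨l, hl⟩ := key v₀ (by simpa [Q] using hQ)
  have hll := heig v₀ l hv₀ hl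
  have hmem : ∀ z, f (X *ᵥ z) z = 0 → X *ᵥ z = l • z ∨ X *ᵥ z = (-l) • z := by
    intro z hz
    by_cases hz0 : z = 0
    · simp [hz0]
    obtain ⟨k, hk⟩ := key z hz
    have hk' : (k - l) * (k + l) = 0 := by linear_combination heig z k hz0 hk - hll
    rcases mul_eq_zero.mp hk' with h | h
    · exact Or.inl (by rw [hk, sub_eq_zero.mp h])
    · exact Or.inr (by rw [hk, eq_neg_of_add_eq_zero_left h])
  have hl0 : l ≠ 0 := fun h0 => by
    rw [h0, mul_zero] at hll
    have h1 : X * X = 0 := by rw [hx2, ← hll, zero_smul]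
    exact (x * x).ne_zero (by rw [Units.val_mul]; exact h1)
  have h2l : l + l ≠ 0 := by
    rw [← two_mul]
    exact mul_ne_zero h20 hl0
  -- `X` has two proper eigenspaces
  have hnot : ∀ k : F, ¬ ∀ z, X *ᵥ z = k • z := fun k h => hxs (smul_one_mem_scalars
    (show X = k • 1 from Matrix.ext_of_mulVec_single fun i => by rw [h, Matrix.smul_mulVec, Matrix.one_mulVec]))
  have hXX : ∀ z, X *ᵥ (X *ᵥ z) = (l * l) • z := fun z => by
    rw [Matrix.mulVec_mulVec, hx2, Matrix.smul_mulVec, Matrix.one_mulVec, hll]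
  have hplus : ∀ z, X *ᵥ (X *ᵥ z + l • z) = l • (X *ᵥ z + l • z) := fun z => by
    rw [Matrix.mulVec_add, hXX, Matrix.mulVec_smul, smul_add, smul_smul, add_comm]
  have hminus : ∀ z, X *ᵥ (X *ᵥ z - l • z) = (-l) • (X *ᵥ z - l • z) := fun z => by
    rw [Matrix.mulVec_sub, hXX, Matrix.mulVec_smul, smul_sub, smul_smul, neg_mul, neg_smul, neg_smul]
    abel
  obtain ⟨z₁, hz₁⟩ := not_forall.mp (hnot (-l))
  obtain ⟨z₂, hz₂⟩ := not_forall.mp (hnot l)
  set a := X *ᵥ z₁ + l • z₁ with ha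
  set b := X *ᵥ z₂ - l • z₂ with hb
  have ha0 : a ≠ 0 := fun h => hz₁ (by rw [neg_smul]; exact eq_neg_of_add_eq_zero_left h)
  have hb0 : b ≠ 0 := fun h => hz₂ (sub_eq_zero.mp h)
  obtain ⟨u, w, hu, hw, hu0, hw0, huw⟩ : ∃ u w, X *ᵥ u = l • u ∧ X *ᵥ w = (-l) • w ∧ u ≠ 0 ∧ w ≠ 0 ∧
      f u w = 0 := by
    by_contra hc
    have hall : ∀ u w, X *ᵥ u = l • u → X *ᵥ w = (-l) • w → u ≠ 0 → w ≠ 0 → f u w ≠ 0 :=
      fun u w h1 h2 h3 h4 h5 => hc ⟨u, w, h1, h2, h3, h4, h5⟩
    have hab := hall a b (hplus _) (hminus _) ha0 hb0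
    have hsub : ∀ p q r : ι → F, f (p - q) r = f p r - f q r := fun p q r => by
      simpa using (Transvect.flin hf.bilinear r).map_sub p q
    obtain ⟨y, hy0, hy1, hy2⟩ := exists_ker_ne_zero h3 (Transvect.flin hf.bilinear a)
      (Transvect.flin hf.bilinear b)
    simp only [Transvect.flin_apply] at hy1 hy2
    obtain ⟨c₁, hc₁⟩ : ∃ c : F, X *ᵥ y + l • y = c • a := by
      refine ⟨f (X *ᵥ y + l • y) b / f a b, ?_⟩
      by_contra hne
      refine hall (X *ᵥ y + l • y - (f (X *ᵥ y + l • y) b / f a b) • a) b ?_ (hminus _) (sub_ne_zero.mpr hne) hb0 ?_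
      · rw [Matrix.mulVec_sub, Matrix.mulVec_smul, hplus, hplus, smul_sub _ (X *ᵥ y + l • y), smul_comm]
      · rw [hsub, hf.bilinear.smul_left, div_mul_cancel₀ _ hab, sub_self]
    obtain ⟨c₂, hc₂⟩ : ∃ c : F, X *ᵥ y - l • y = c • b := by
      refine ⟨f (X *ᵥ y - l • y) a / f b a, ?_⟩
      by_contra hne
      refine hall a (X *ᵥ y - l • y - (f (X *ᵥ y - l • y) a / f b a) • b) (hplus _) ?_ ha0 (sub_ne_zero.mpr hne) ?_
      · rw [Matrix.mulVec_sub, Matrix.mulVec_smul, hminus, hminus, smul_sub _ (X *ᵥ y - l • y), smul_comm]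
      · rw [hf.skew, hsub, hf.bilinear.smul_left, div_mul_cancel₀ _ (fun h => hab (by rw [hf.skew, h, neg_zero])),
          sub_self, neg_zero]
    have h2w : (l + l) • y = c₁ • a - c₂ • b := by rw [← hc₁, ← hc₂, add_smul]; abel
    have e1 := congrArg (fun p => f p b) h2w
    have e2 := congrArg (fun p => f p a) h2w
    simp only [hsub, hf.bilinear.smul_left, hf.alternating, hy1, hy2, mul_zero, sub_zero, zero_sub] at e1 e2
    have hc1 : c₁ = 0 := (mul_eq_zero.mp e1.symm).resolve_right hab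
    have hc2 : c₂ = 0 :=
      (mul_eq_zero.mp (neg_eq_zero.mp e2.symm)).resolve_right fun h => hab (by rw [hf.skew, h, neg_zero])
    rw [hc1, hc2, zero_smul, zero_smul, sub_zero, smul_eq_zero] at h2w
    exact h2w.elim h2l hy0
  have hzero : f (X *ᵥ (u + w)) (u + w) = 0 := by
    rw [Matrix.mulVec_add, hu, hw, hf.bilinear.add_left, hf.bilinear.smul_left, hf.bilinear.smul_left,
      hf.bilinear.add_right, hf.bilinear.add_right, hf.alternating, hf.alternating, huw, hf.skew w u, huw]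
    simp
  rcases hmem _ hzero with h | h <;> rw [Matrix.mulVec_add, hu, hw, smul_add] at h
  · have h1 := add_left_cancel h
    rw [neg_smul, neg_eq_iff_add_eq_zero, ← add_smul, smul_eq_zero] at h1
    exact h1.elim h2l hw0
  · have h1 := add_right_cancel h
    rw [neg_smul, eq_neg_iff_add_eq_zero, ← add_smul, smul_eq_zero] at h1
    exact h1.elim h2l hu0

/-- All transvections preserve no quadratic form polarising to `f`. -/
theorem st_not_quad [Finite F] (h4 : 4 ≤ Fintype.card ι) (hF2 : (2 : F) = 0) {Q : (ι → F) → F}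
    (hQ : Geo.IsNondegenerateQuadraticForm Q) (hpol : ∀ u v, QuadraticMap.polar Q u v = f u v) :
    ¬ ∀ v c, st hf v c ∈ Geo.quadSimilarityGroup Q := by
  intro hT
  have : Fintype F := Fintype.ofFinite F
  have hadd : ∀ u v, Q (u + v) = Q u + Q v + f u v := fun u v => by
    rw [← hpol]; simp [QuadraticMap.polar]
  obtain ⟨a, ha⟩ : ∃ a : ι → F, a ≠ 0 := by
    have : Nonempty ι := Fintype.card_pos_iff.mp (by omega)
    exact exists_ne 0
  obtain ⟨b, hb, hab, hb'⟩ : ∃ b, b ≠ 0 ∧ f b a = 0 ∧ ∀ c : F, b ≠ c • a := by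
    obtain ⟨a', ha'⟩ := (hf.nondegenerate a ha).1
    obtain ⟨b, hb, hb1, hb2⟩ := exists_ker_ne_zero (by omega) (Transvect.flin hf.bilinear a)
      (Transvect.flin hf.bilinear a')
    simp only [Transvect.flin_apply] at hb1 hb2
    refine ⟨b, hb, hb1, fun c hc => ?_⟩
    rw [hc, hf.bilinear.smul_left] at hb2
    rcases mul_eq_zero.mp hb2 with h | h
    · exact hb (by rw [hc, h, zero_smul])
    · exact ha' (by rw [hf.skew, h, neg_zero])
  obtain ⟨v, hv, hQv⟩ : ∃ v, v ≠ 0 ∧ Q v = 0 := by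
    by_cases hQb : Q b = 0
    · exact ⟨b, hb, hQb⟩
    have : CharP F 2 := CharTwo.of_one_ne_zero_of_two_eq_zero one_ne_zero hF2
    obtain ⟨s, hs⟩ := (Finite.injective_iff_surjective.mp (frobenius F 2).injective) (Q a / Q b)
    rw [frobenius_def] at hs
    refine ⟨a + s • b, fun h => ?_, ?_⟩
    · by_cases hs0 : s = 0
      · exact ha (by simpa [hs0] using h)
      · refine hb' (-(s⁻¹)) ?_
        rw [eq_neg_of_add_eq_zero_left h]
        simp [smul_smul, hs0]
    · rw [hadd, hQ.smul, hs, hf.bilinear.smul_right, hf.skew, hab, neg_zero, mul_zero, add_zero,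
        div_mul_cancel₀ _ hQb, ← two_mul, hF2, zero_mul]
  obtain ⟨x, hx⟩ := (hf.nondegenerate v hv).1
  obtain ⟨k, hk⟩ := hT v 1
  have hk1 : (k : F) = 1 := by
    have h1 := hadd x v
    have h2 := hk (x + v)
    have hvx : (st hf v 1 : Matrix ι ι F) *ᵥ v = v := by
      rw [st_mulVec, hf.alternating, mul_zero, zero_smul, add_zero]
    rw [Matrix.mulVec_add, hvx, hadd, hk, hQv, hadd, hQv] at h2
    rw [st_mulVec, hf.bilinear.add_left, hf.bilinear.smul_left, hf.alternating] at h2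
    have h3 : f x v * (1 - k) = 0 := by linear_combination h2
    rcases mul_eq_zero.mp h3 with h | h
    · exact absurd h hx
    · exact (sub_eq_zero.mp h).symm
  have h2 := hk x
  rw [st_mulVec, hadd, hQ.smul, hQv, hk1, hf.bilinear.smul_right] at h2
  have h3 : f x v * f x v = 0 := by linear_combination h2
  exact hx (mul_self_eq_zero.mp h3)

end Cfsg.Agent.Aschbacher
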