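/-
The maximal subgroups of Sp_2m(q), m ≥ 2: each lies in one of the classes, with numerical side conditions.
Main results: `st_not_wreath`, `sp_cases`.
-/
import Cfsg.Agent.Lib.Aschbacher.SymplecticMain
import Cfsg.Agent.Lib.Aschbacher.SymplecticNotLe
import Cfsg.Agent.Lib.Aschbacher.SymplecticFacts
import Cfsg.Agent.Lib.Aschbacher.SympTypeTwo
import Cfsg.Agent.Lib.Aschbacher.FrameThree

set_option autoImplicit false

namespace Cfsg.Agent.Aschbacher

open Matrix
open Cfsg.Agent.PrimeDim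
open Cfsg.Agent.Transvect (st st_apply)

variable {F : Type*} [Field F] [Fintype F] {m : ℕ}

local notation "N" => Fin m ⊕ Fin m
local notation "fs" => Cfsg.sympForm m F
local notation "Γ" => Cfsg.spGL m F

/-- A symplectic form lives in even dimension. -/
theorem symplectic_even {d : ℕ} {f : (Fin d → F) → (Fin d → F) → F} (hf : Geo.IsSymplecticForm f) : Even d := by
  have h := nondeg_even (W := (⊤ : Submodule F (Fin d → F))) hf fun w _ hw => by
    obtain ⟨⟨x, hx⟩, y, hy⟩ := hf.nondegenerate w hw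
    exact ⟨⟨x, Submodule.mem_top, hx⟩, y, Submodule.mem_top, hy⟩
  simpa using h

/-- All transvections preserve no tensor induced decomposition. -/
theorem st_not_wreath {d k : ℕ} (hd : 2 ≤ d) (hk : 2 ≤ k) (e : N ≃ (Fin k → Fin d)) (P : GL N F) :
    ¬ ∀ v c, st (Transvect.sympForm_isSymplectic m) v c ∈ Geo.tensorWreathSubgroup d k e P := by
  classical
  intro hT
  set hf := Transvect.sympForm_isSymplectic (F := F) m
  set S : Set (N → F) := {s : N → F | ∃ w : Fin k → Fin d → F,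
    s = (P : Matrix N N F) *ᵥ fun a => ∏ i, w i (e a i)} with hS
  have hinv : ∀ v c, ∀ s ∈ S, (st hf v c : Matrix N N F) *ᵥ s ∈ S :=
    fun v c => wreath_pure_invariant e P _ (hT v c)
  have hmove : ∀ u v, u ∈ S → fs u v ≠ 0 → v ∈ S := by
    intro u v hu huv
    have h1 : fs u (v - u) = fs u v := by
      have := (Transvect.flin hf.bilinear u).map_sub v u
      simp only [Transvect.flin_apply] at this
      rw [hf.skew, this, hf.alternating, sub_zero, ← hf.skew]
    have h2 := hinv (v - u) (fs u v)⁻¹ u hu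
    rwa [st_mulVec, h1, inv_mul_cancel₀ huv, one_smul, add_sub_cancel] at h2
  obtain ⟨k', rfl⟩ : ∃ k', k = k' + 1 := ⟨k - 1, by omega⟩
  let i₀ : Fin d := ⟨0, by omega⟩
  let i₁ : Fin d := ⟨1, by omega⟩
  set u₀ : N → F := (P : Matrix N N F) *ᵥ fun a => if e a = fun _ => i₀ then 1 else 0 with hu₀
  have hinjP : ∀ x y : N → F, (P : Matrix N N F) *ᵥ x = (P : Matrix N N F) *ᵥ y → x = y := fun x y h =>
    Matrix.mulVec_injective_iff_isUnit.mpr P.isUnit h
  have hu : u₀ ∈ S := by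
    refine ⟨fun _ j => if j = i₀ then 1 else 0, ?_⟩
    rw [hu₀]
    congr 1
    funext a
    rw [Fintype.prod_boole]
    simp [funext_iff]
  have hu0 : u₀ ≠ 0 := fun h => by
    have h2 := congrFun (hinjP _ 0 (h.trans (Matrix.mulVec_zero _).symm)) (e.symm fun _ => i₀)
    simp at h2
  have hall : ∀ v, v ∈ S := by
    intro v
    by_cases hv0 : v = 0
    · refine ⟨fun _ _ => 0, ?_⟩
      rw [hv0]
      symm
      convert Matrix.mulVec_zero (P : Matrix N N F)
      simp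
    obtain ⟨⟨x, hx⟩, y, hy⟩ := hf.nondegenerate u₀ hu0
    obtain ⟨⟨z, hz⟩, z', hz'⟩ := hf.nondegenerate v hv0
    by_cases h1 : fs u₀ v ≠ 0
    · exact hmove _ _ hu h1
    -- a vector pairing with both
    obtain ⟨w, hw1, hw2⟩ : ∃ w, fs u₀ w ≠ 0 ∧ fs w v ≠ 0 := by
      by_cases hy2 : fs y v ≠ 0
      · exact ⟨y, hy, hy2⟩
      by_cases hz2 : fs u₀ z ≠ 0
      · exact ⟨z, hz2, hz⟩
      simp only [not_not] at hy2 hz2
      refine ⟨y + z, ?_, ?_⟩
      · rwa [hf.bilinear.add_right, hz2, add_zero]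
      · rwa [hf.bilinear.add_left, hy2, zero_add]
    exact hmove _ _ (hmove _ _ hu hw1) hw2
  obtain ⟨w, hw⟩ := hall ((P : Matrix N N F) *ᵥ fun a =>
    if (e a = fun _ => i₀) ∨ (e a = fun _ => i₁) then 1 else 0)
  have hw' := hinjP _ _ hw
  have hval : ∀ g : Fin (k' + 1) → Fin d, (if (g = fun _ => i₀) ∨ (g = fun _ => i₁) then (1 : F) else 0) =
      ∏ i, w i (g i) := fun g => by simpa using congrFun hw' (e.symm g)
  have hi : i₀ ≠ i₁ := fun h => by simp [i₀, i₁] at h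
  have hA := hval fun _ => i₀
  have hB := hval fun _ => i₁
  rw [if_pos (Or.inl rfl)] at hA
  rw [if_pos (Or.inr rfl)] at hB
  set g : Fin (k' + 1) → Fin d := Function.update (fun _ => i₀) 0 i₁ with hg
  have hlast : Fin.last k' ≠ (0 : Fin (k' + 1)) := fun h => by
    have := congrArg Fin.val h
    simp at this; omega
  have hC := hval g
  rw [if_neg (by
    rintro (h | h)
    · have := congrFun h 0; rw [hg, Function.update_self] at this; exact hi this.symm
    · have := congrFun h (Fin.last k'); rw [hg, Function.update_of_ne hlast] at this; exact hi this)] at hC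
  obtain ⟨i, -, hi'⟩ := Finset.prod_eq_zero_iff.mp hC.symm
  by_cases h0 : i = 0
  · subst h0
    rw [hg, Function.update_self] at hi'
    exact one_ne_zero (hB.trans (Finset.prod_eq_zero (Finset.mem_univ 0) hi'))
  · rw [hg, Function.update_of_ne h0] at hi'
    exact one_ne_zero (hA.trans (Finset.prod_eq_zero (Finset.mem_univ i) hi'))

set_option maxHeartbeats 1000000 in
/-- Maximal subgroups of Sp_2m(q), m ≥ 2. -/
theorem sp_cases (hm : 2 ≤ m) {H : Subgroup (GL N F)} (hH : Geo.IsMaximalIn Γ H) :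
    (∃ W : Submodule F (N → F), W ≠ ⊥ ∧ Geo.IsTotallySingularFor fs W ∧ H = Geo.subspaceStabilizer W ⊓ Γ) ∨
    (∃ W : Submodule F (N → F), W ≠ ⊥ ∧ Geo.IsNondegenerateOn fs W ∧ Module.finrank F W < m ∧
      H = Geo.subspaceStabilizer W ⊓ Γ) ∨
    (∃ (t k : ℕ) (D : Fin t → Submodule F (N → F)), t * k = m + m ∧ 2 ≤ t ∧ 2 ≤ k ∧ Even k ∧
      (k = 2 → 3 ≤ Fintype.card F) ∧
      Geo.IsNondegenerateMDecomposition fs k D ∧ H = Geo.decompositionStabilizer D ⊓ Γ) ∨
    (∃ D : Fin 2 → Submodule F (N → F), Odd (Fintype.card F) ∧ Geo.IsMDecomposition m D ∧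
      (∀ i, Geo.IsTotallySingularFor fs (D i)) ∧ H = Geo.decompositionStabilizer D ⊓ Γ) ∨
    (∃ (r : ℕ) (K : Subalgebra F (Matrix N N F)), r.Prime ∧ r ∣ m ∧ Geo.IsFieldSubalgebra r K ∧
      Geo.IsSelfAdjointFor fs K ∧ (∀ k ∈ K, ∀ v, fs (k *ᵥ v) v = 0) ∧ H = Geo.subalgebraNormalizer K ⊓ Γ) ∨
    (Odd (Fintype.card F) ∧ ∃ K : Subalgebra F (Matrix N N F), Geo.IsFieldSubalgebra 2 K ∧
      Geo.IsAdjointClosedFor fs K ∧ ¬ Geo.IsSelfAdjointFor fs K ∧ H = Geo.subalgebraNormalizer K ⊓ Γ) ∨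
    (Odd (Fintype.card F) ∧ ∃ (n₁ n₂ : ℕ) (e : N ≃ Fin n₁ × Fin n₂) (P : GL N F)
      (f₁ : (Fin n₁ → F) → (Fin n₁ → F) → F) (f₂ : (Fin n₂ → F) → (Fin n₂ → F) → F),
      n₁ * n₂ = m + m ∧ 2 ≤ n₁ ∧ Even n₁ ∧ 3 ≤ n₂ ∧ (n₂ = 3 → 5 ≤ Fintype.card F) ∧
      Geo.IsSymplecticForm f₁ ∧ Geo.IsSymmetricForm f₂ ∧
      Geo.IsTensorFormStructure id fs f₁ f₂ e P ∧ H = Geo.tensorProductSubgroup n₁ n₂ e P ⊓ Γ) ∨
    (Odd (Fintype.card F) ∧ ∃ (k t : ℕ) (e : N ≃ (Fin t → Fin k)) (P : GL N F)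
      (f₁ : (Fin k → F) → (Fin k → F) → F),
      k ^ t = m + m ∧ Odd t ∧ 3 ≤ t ∧ 2 ≤ k ∧ Even k ∧ (k = 2 → 5 ≤ Fintype.card F) ∧ Geo.IsSymplecticForm f₁ ∧
      Geo.IsTensorPowerFormStructure id fs f₁ e P ∧ H = Geo.tensorWreathSubgroup k t e P ⊓ Γ) ∨
    (∃ (F₀ : Subfield F) (r : ℕ) (P : GL N F) (ζ : F), r.Prime ∧ Fintype.card F = Nat.card F₀ ^ r ∧ ζ ≠ 0 ∧
      Geo.IsFormRationalStructure fs F₀ ζ P ∧ H = Geo.subfieldSubgroup F₀ P ⊓ Γ) ∨
    (∃ (R : Subgroup (GL N F)) (p k : ℕ), m + m = 2 ^ k ∧ Geo.IsSymplecticTypeGroup 2 R ∧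
      Geo.ActsAbsolutelyIrreducibly (Geo.matrixSet R) ∧ R ≤ Geo.similarityGroup fs ∧ p.Prime ∧ Odd p ∧
      Fintype.card F = p ∧ Nat.card R = 2 ^ (1 + 2 * k) ∧ Nat.card (Subgroup.center R) = 2 ∧
      Geo.IsOfMinusType k R ∧ H = Geo.subgroupNormalizer R ⊓ Γ) ∨
    (¬ Odd (Fintype.card F) ∧ ∃ Q : (N → F) → F, Geo.IsNondegenerateQuadraticForm Q ∧
      (∀ u v, QuadraticMap.polar Q u v = fs u v) ∧ H = Geo.quadSimilarityGroup Q ⊓ Γ) ∨
    Geo.InSymplecticResidualClass H := by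
  classical
  set hf := Transvect.sympForm_isSymplectic (F := F) m
  have : Nonempty N := ⟨Sum.inl ⟨0, by omega⟩⟩
  have hcardN : Fintype.card N = m + m := by simp
  have key : ∀ M' : Subgroup (GL N F), (¬ ∀ v c, st hf v c ∈ M') → H ≤ M' ⊓ Γ → H = M' ⊓ Γ := by
    intro M' hn hle
    rcases hH.2 (M' ⊓ Γ) hle inf_le_right with h | h
    · exact h.symm
    · exact absurd (fun v c => (h.symm.le (st_mem_spGL v c)).1) hn
  have h2of : Odd (Fintype.card F) → (2 : F) ≠ 0 := by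
    rcases two_ne_zero_or F with h | ⟨h, -⟩
    · intro hodd h'
      have : Fact (Nat.Prime 2) := ⟨Nat.prime_two⟩
      have : CharP F 2 := CharTwo.of_one_ne_zero_of_two_eq_zero one_ne_zero h'
      obtain ⟨n, hp, hn⟩ := FiniteField.card F 2
      rw [hn, Nat.odd_pow_iff n.pos.ne'] at hodd
      exact absurd hodd (by decide)
    · exact fun _ => h
  rcases symplectic_structure hm hH.1.le with ⟨M, hM, hle⟩ | h
  swap
  · iterate 11 right
    exact h
  rcases hM with hM | ⟨r, K, hr, hK, hsa, halt, rfl⟩ | ⟨K, hodd, hK, hadj, hns, rfl⟩ |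
    ⟨n₁, n₂, e, P, f₁, f₂, hodd, hn₂, hf₁, hf₂, hT, rfl⟩ |
    ⟨k, t, e, P, f₁, hodd, htodd, ht, hq3, hf₁, hT, rfl⟩
  · rcases hM with ⟨W, hb, hts, rfl⟩ | ⟨W, hb, hnd, hdim, rfl⟩ | ⟨t, k, D, hD, rfl⟩ | ⟨D, hodd, hD, hts, rfl⟩ |
      ⟨F₀, r, P, ζ, hr, hc, hζ, hform, rfl⟩ | ⟨R, p, k, hR, habs, hsim, hp, hpo, hFp, hcard, hcen, hmin, rfl⟩ |
      ⟨Q, hev, hQ, hpol, rfl⟩
    · refine Or.inl ⟨W, hb, hts, key _ (st_not_subspace hf hb ?_) hle⟩
      rintro rfl
      obtain ⟨w, hw⟩ := exists_ne (0 : N → F)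
      obtain ⟨⟨x, hx⟩, -⟩ := hf.nondegenerate w hw
      exact hx (hts x Submodule.mem_top w Submodule.mem_top)
    · refine Or.inr (Or.inl ⟨W, hb, hnd, hdim, key _ (st_not_subspace hf hb ?_) hle⟩)
      rintro rfl
      rw [finrank_top, Module.finrank_fintype_fun_eq_card, hcardN] at hdim
      omega
    · have hev : Even k := hD.decomp.finrank_eq ⟨0, by have := hD.decomp.two_le; omega⟩ ▸
        nondeg_even hf (hD.nondegenerate _)
      have hk : 2 ≤ k := by
        have := hD.decomp.pos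
        obtain ⟨j, hj⟩ := hev
        omega
      have htk := (mdecomp_card hD.decomp).trans hcardN
      by_cases hq : k = 2 ∧ Fintype.card F = 2
      · obtain ⟨rfl, hq⟩ := hq
        obtain ⟨Q, hQ, hpol, hQle⟩ := planes_quad hf hq hD
        have h20 : (2 : F) = 0 := by
          have := FiniteField.cast_card_eq_zero F
          rw [hq] at this; simpa using this
        iterate 10 right
        refine Or.inl ⟨by rw [hq]; decide, Q, hQ, hpol, ?_⟩
        exact key _ (st_not_quad hf (by omega) h20 hQ hpol) (hle.trans (inf_le_inf_right _ hQle))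
      have := Fintype.one_lt_card (α := F)
      exact Or.inr (Or.inr (Or.inl ⟨t, k, D, htk, hD.decomp.two_le, hk, hev,
        fun h => by by_contra h'; exact hq ⟨h, by omega⟩, hD, key _ (st_not_decomposition hf hk hD.decomp) hle⟩))
    · exact Or.inr (Or.inr (Or.inr (Or.inl ⟨D, hodd, hD, hts, key _ (st_not_decomposition hf hm hD) hle⟩)))
    · iterate 8 right
      refine Or.inl ⟨F₀, r, P, ζ, hr, hc, hζ, hform, key _ (st_not_subfield hf (by omega) ?_ P) hle⟩
      rintro rfl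
      have h1 : Nat.card (⊤ : Subfield F) = Fintype.card F := by
        rw [← Nat.card_eq_fintype_card]; exact Nat.card_congr Subfield.topEquiv.toEquiv
      rw [h1] at hc
      exact absurd hc (Nat.ne_of_lt (lt_self_pow₀ Fintype.one_lt_card hr.one_lt))
    · obtain ⟨hspan, hcomm, hn, hk, x, hx, hxs, μ, hμ⟩ := symp_two_facts (by omega) hR habs hcard hcen
      iterate 9 right
      exact Or.inl ⟨R, p, k, hcardN.symm.trans hk, hR, habs, hsim, hp, hpo, hFp, hcard, hcen, hmin,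
        key _ (st_not_normalizer hf (by omega) (h2of (hFp ▸ hpo)) hn hspan hcomm hx hxs hμ) hle⟩
    · iterate 10 right
      refine Or.inl ⟨hev, Q, hQ, hpol, key _ (st_not_quad hf (by omega) ?_ hQ hpol) hle⟩
      exact (two_ne_zero_or F).resolve_right fun h => hev h.2
  · iterate 4 right
    have hdvd : r ∣ m := by
      have h := selfadj_dvd hf hK hsa halt
      rw [hcardN, ← two_mul] at h
      exact Nat.dvd_of_mul_dvd_mul_left two_pos h
    exact Or.inl ⟨r, K, hr, hdvd, hK, hsa, halt, key _ (st_not_field hf (by omega) hr.two_le hK) hle⟩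
  · iterate 5 right
    exact Or.inl ⟨hodd, K, hK, hadj, hns, key _ (st_not_field hf (by omega) le_rfl hK) hle⟩
  · have hcard : n₁ * n₂ = m + m := by
      rw [← hcardN, Fintype.card_congr e, Fintype.card_prod, Fintype.card_fin, Fintype.card_fin]
    have hev := symplectic_even hf₁
    have hn₁ : 2 ≤ n₁ := by
      obtain ⟨j, hj⟩ := hev
      rcases Nat.eq_zero_or_pos n₁ with h | h
      · rw [h, zero_mul] at hcard; omega
      · omega
    have heq := key _ (st_not_tensor hf hn₁ (by omega) e P) hle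
    iterate 6 right
    refine Or.inl ⟨hodd, n₁, n₂, e, P, f₁, f₂, hcard, hn₁, hev, hn₂, fun h3 => ?_, hf₁, hf₂, hT, heq⟩
    subst h3
    by_contra h5
    have hq : Fintype.card F = 3 := by
      obtain ⟨j, hj⟩ := hodd
      have := Fintype.one_lt_card (α := F)
      omega
    obtain ⟨K, hlt, hKlt⟩ := FrameThree.not_maximal m (by omega) hq n₁ e P f₁ f₂ hf₁ hf₂ hT
    rcases hH.2 K (heq.le.trans hlt.le) hKlt.le with h | h
    · exact (h.trans heq ▸ hlt).ne rfl
    · exact hKlt.ne h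
  · have hcard : k ^ t = m + m := by
      rw [← hcardN, Fintype.card_congr e, Fintype.card_fun, Fintype.card_fin, Fintype.card_fin]
    have hev := symplectic_even hf₁
    have hk : 2 ≤ k := by
      obtain ⟨j, hj⟩ := hev
      rcases Nat.eq_zero_or_pos k with h | h
      · rw [h, zero_pow (by omega)] at hcard; omega
      · omega
    iterate 7 right
    refine Or.inl ⟨hodd, k, t, e, P, f₁, hcard, htodd, ht, hk, hev, fun h2 => ?_, hf₁, hT,
      key _ (st_not_wreath hk (by omega) e P) hle⟩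
    obtain ⟨j, hj⟩ := hodd
    have := Fintype.one_lt_card (α := F)
    by_contra h5
    exact hq3 ⟨by omega, h2⟩

end Cfsg.Agent.Aschbacher
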