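/-
A tensor stabiliser Sp_2 ⊗ O_4^+ lies properly inside the tensor-induced group Sp_2 wr S_3.
Main result: `TensorPlus.not_maximal`.
-/
import Cfsg.Agent.Lib.Aschbacher.DetSimilitude
import Cfsg.Agent.Lib.Aschbacher.SymplecticCases

set_option autoImplicit false

namespace Cfsg.Agent.Aschbacher.TensorPlus

open Matrix
open Cfsg.Agent.Transvect (app app_apply flin flin_apply tp tp_apply exists_app_tp form_tp mem_spGL_iff)

variable {F : Type*} [Field F]

local notation "M₂" => Matrix (Fin 2) (Fin 2) F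

/-- The outer product of two vectors. -/
def outer (b c : Fin 2 → F) : M₂ := Matrix.of fun i j => b i * c j

/-- The determinant bracket. -/
def br (a b : Fin 2 → F) : F := a 0 * b 1 - a 1 * b 0

/-- A symmetric form of plus type on F⁴ is the determinant on two by two matrices. -/
theorem exists_hyperbolic (h2 : (2 : F) ≠ 0) {f : (Fin 4 → F) → (Fin 4 → F) → F} (hf : Geo.IsSymmetricForm f)
    (hplus : Geo.IsPlusTypeOn (fun v : Fin 4 → F => f v v) ⊤) :
    ∃ ψ : M₂ ≃ₗ[F] (Fin 4 → F), (∀ X, f (ψ X) (ψ X) = 2 * X.det) ∧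
      ∀ b c b' c', f (ψ (outer b c)) (ψ (outer b' c')) = br b b' * br c c' := by
  classical
  obtain ⟨U, -, hU, hd⟩ := hplus
  rw [finrank_top, Module.finrank_fintype_fun_eq_card, Fintype.card_fin] at hd
  let b := Module.finBasisOfFinrankEq F U (show Module.finrank F U = 2 by omega)
  have hUU : ∀ x ∈ U, ∀ y ∈ U, f x y = 0 := fun x hx y hy => by
    have h := hU (x + y) (U.add_mem hx hy)
    have hxx : f x x = 0 := hU x hx
    have hyy : f y y = 0 := hU y hy
    simp only [hf.bilinear.add_left, hf.bilinear.add_right, hxx, hyy, hf.symm y x, zero_add, add_zero] at h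
    exact (mul_eq_zero.mp (by linear_combination h : (2 : F) * f x y = 0)).resolve_left h2
  let u : Fin 2 → Fin 4 → F := fun i => (b i : Fin 4 → F)
  let φ : (Fin 4 → F) →ₗ[F] (Fin 2 → F) := LinearMap.pi fun i => flin hf.bilinear (u i)
  have hφ : Function.Surjective φ := by
    rw [← LinearMap.range_eq_top]
    by_contra hne
    obtain ⟨g, hg0, hg⟩ := Submodule.exists_le_ker_of_lt_top _ (lt_top_iff_ne_top.mpr hne)
    refine hg0 ((Pi.basisFun F (Fin 2)).ext fun i => ?_)
    have hz : ∀ v, f v (g (Pi.single 0 1) • u 0 + g (Pi.single 1 1) • u 1) = 0 := fun v => by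
      have h := hg (LinearMap.mem_range_self φ v)
      rw [LinearMap.mem_ker] at h
      rw [hf.bilinear.add_right, hf.bilinear.smul_right, hf.bilinear.smul_right]
      have e : φ v = f v (u 0) • Pi.single 0 1 + f v (u 1) • Pi.single 1 1 := by
        funext i; fin_cases i <;> simp [φ]
      rw [e, map_add, map_smul, map_smul, smul_eq_mul, smul_eq_mul] at h
      linear_combination h
    have h0 : g (Pi.single 0 1) • u 0 + g (Pi.single 1 1) • u 1 = 0 := by
      by_contra hne'
      obtain ⟨⟨v, hv⟩, -⟩ := hf.nondegenerate _ hne'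
      exact hv (hz v)
    have h1 : g (Pi.single 0 1) • b 0 + g (Pi.single 1 1) • b 1 = 0 := Subtype.ext h0
    have h3 := Fintype.linearIndependent_iff.mp b.linearIndependent ![g (Pi.single 0 1), g (Pi.single 1 1)]
      (by simpa [Fin.sum_univ_two] using h1)
    fin_cases i
    · simpa [Pi.basisFun_apply] using h3 0
    · simpa [Pi.basisFun_apply] using h3 1
  obtain ⟨w₁, hw₁⟩ := hφ (Pi.single 0 1)
  obtain ⟨w₂, hw₂⟩ := hφ (Pi.single 1 1)
  have a1 : f w₁ (u 0) = 1 := by simpa [φ] using congrFun hw₁ 0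
  have a2 : f w₁ (u 1) = 0 := by simpa [φ] using congrFun hw₁ 1
  have a3 : f w₂ (u 0) = 0 := by simpa [φ] using congrFun hw₂ 0
  have a4 : f w₂ (u 1) = 1 := by simpa [φ] using congrFun hw₂ 1
  set v₁ := w₁ + (-(f w₁ w₁ / 2)) • u 0 with hv₁
  set v₂ := w₂ + (-(f w₂ w₂ / 2)) • u 1 + (-(f w₁ w₂)) • u 0 with hv₂
  have huu : ∀ i j, f (u i) (u j) = 0 := fun i j => hUU _ (b i).2 _ (b j).2
  have c1 : f (u 0) w₁ = 1 := by rw [hf.symm]; exact a1
  have c2 : f (u 1) w₁ = 0 := by rw [hf.symm]; exact a2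
  have c3 : f (u 0) w₂ = 0 := by rw [hf.symm]; exact a3
  have c4 : f (u 1) w₂ = 1 := by rw [hf.symm]; exact a4
  have d11 : f v₁ v₁ = 0 := by
    simp only [hv₁, hf.bilinear.add_left, hf.bilinear.add_right, hf.bilinear.smul_left, hf.bilinear.smul_right,
      huu, a1, c1]
    field_simp
    ring
  have d22 : f v₂ v₂ = 0 := by
    simp only [hv₂, hf.bilinear.add_left, hf.bilinear.add_right, hf.bilinear.smul_left, hf.bilinear.smul_right,
      huu, a3, a4, c3, c4]
    field_simp
    ring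
  have d12 : f v₁ v₂ = 0 := by
    simp only [hv₁, hv₂, hf.bilinear.add_left, hf.bilinear.add_right, hf.bilinear.smul_left,
      hf.bilinear.smul_right, huu, a1, a2, c3, mul_zero, mul_one, add_zero]
    ring
  have e10 : f v₁ (u 0) = 1 := by
    simp only [hv₁, hf.bilinear.add_left, hf.bilinear.smul_left, huu, a1, mul_zero, add_zero]
  have e11 : f v₁ (u 1) = 0 := by
    simp only [hv₁, hf.bilinear.add_left, hf.bilinear.smul_left, huu, a2, mul_zero, add_zero]
  have e20 : f v₂ (u 0) = 0 := by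
    simp only [hv₂, hf.bilinear.add_left, hf.bilinear.smul_left, huu, a3, mul_zero, add_zero]
  have e21 : f v₂ (u 1) = 1 := by
    simp only [hv₂, hf.bilinear.add_left, hf.bilinear.smul_left, huu, a4, mul_zero, add_zero]
  let ψ₀ : M₂ →ₗ[F] (Fin 4 → F) :=
    { toFun := fun X => X 0 0 • u 0 + X 1 1 • v₁ + X 0 1 • u 1 + (-X 1 0) • v₂
      map_add' := fun X Y => by simp only [Matrix.add_apply]; module
      map_smul' := fun c X => by simp only [Matrix.smul_apply, smul_eq_mul, RingHom.id_apply]; module }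
  have hβ : ∀ X Y : M₂, f (ψ₀ X) (ψ₀ Y) = X 0 0 * Y 1 1 + X 1 1 * Y 0 0 - X 0 1 * Y 1 0 - X 1 0 * Y 0 1 := fun X Y => by
    show f (X 0 0 • u 0 + X 1 1 • v₁ + X 0 1 • u 1 + (-X 1 0) • v₂)
      (Y 0 0 • u 0 + Y 1 1 • v₁ + Y 0 1 • u 1 + (-Y 1 0) • v₂) = _
    simp only [hf.bilinear.add_left, hf.bilinear.add_right, hf.bilinear.smul_left, hf.bilinear.smul_right,
      huu, d11, d22, d12, e10, e11, e20, e21, hf.symm v₂ v₁, hf.symm (u 0) v₁, hf.symm (u 1) v₁,
      hf.symm (u 0) v₂, hf.symm (u 1) v₂]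
    ring
  have hinj : Function.Injective ψ₀ := by
    rw [← LinearMap.ker_eq_bot, LinearMap.ker_eq_bot']
    intro X hX
    have hz : ∀ Y : M₂, X 0 0 * Y 1 1 + X 1 1 * Y 0 0 - X 0 1 * Y 1 0 - X 1 0 * Y 0 1 = 0 := fun Y => by
      rw [← hβ, hX]
      simpa using (flin hf.bilinear (ψ₀ Y)).map_zero
    have z1 := hz !![1, 0; 0, 0]
    have z2 := hz !![0, 0; 0, 1]
    have z3 := hz !![0, 1; 0, 0]
    have z4 := hz !![0, 0; 1, 0]
    simp at z1 z2 z3 z4
    ext i j
    fin_cases i <;> fin_cases j <;> simp [z1, z2, z3, z4]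
  let ψ : M₂ ≃ₗ[F] (Fin 4 → F) := LinearEquiv.ofBijective ψ₀ ⟨hinj,
    (LinearMap.injective_iff_surjective_of_finrank_eq_finrank (by simp [Module.finrank_matrix])).mp hinj⟩
  refine ⟨ψ, fun X => ?_, fun b c b' c' => ?_⟩
  · show f (ψ₀ X) (ψ₀ X) = _
    rw [hβ, Matrix.det_fin_two]; ring
  · show f (ψ₀ _) (ψ₀ _) = _
    rw [hβ]
    simp [outer, br]
    ring

theorem pureMat_mulVec {k d : ℕ} (X : Fin k → Matrix (Fin d) (Fin d) F) (w : Fin k → Fin d → F) :
    pureMat X *ᵥ (fun y => ∏ i, w i (y i)) = fun x => ∏ i, (X i *ᵥ w i) (x i) := by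
  funext x
  simp only [Matrix.mulVec, dotProduct, pureMat_apply, ← Finset.prod_mul_distrib]
  exact (Fintype.prod_sum fun i a => X i (x i) a * w i a).symm

/-- The permutation of the tensor factors. -/
def permMat {k d : ℕ} (σ : Equiv.Perm (Fin k)) : Matrix (Fin k → Fin d) (Fin k → Fin d) F :=
  Matrix.of fun x y => if y = x ∘ σ then 1 else 0

theorem permMat_mulVec {k d : ℕ} (σ : Equiv.Perm (Fin k)) (v : (Fin k → Fin d) → F) :
    (permMat σ : Matrix _ _ F) *ᵥ v = fun x => v (x ∘ σ) := by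
  funext x
  simp [permMat, Matrix.mulVec, dotProduct]

/-- The permutation of the tensor factors, as a unit. -/
def permGL {k d : ℕ} (σ : Equiv.Perm (Fin k)) : GL (Fin k → Fin d) F where
  val := permMat σ
  inv := permMat σ⁻¹
  val_inv := Matrix.ext_of_mulVec_single fun i => by
    rw [← Matrix.mulVec_mulVec, permMat_mulVec, permMat_mulVec, Matrix.one_mulVec]
    funext x
    simp [Function.comp_assoc]
  inv_val := Matrix.ext_of_mulVec_single fun i => by
    rw [← Matrix.mulVec_mulVec, permMat_mulVec, permMat_mulVec, Matrix.one_mulVec]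
    funext x
    simp [Function.comp_assoc]

theorem permGL_pure {k d : ℕ} (σ : Equiv.Perm (Fin k)) (w : Fin k → Fin d → F) :
    ((permGL σ : GL (Fin k → Fin d) F) : Matrix (Fin k → Fin d) (Fin k → Fin d) F) *ᵥ
      (fun y : Fin k → Fin d => ∏ i, w i (y i)) = fun x : Fin k → Fin d => ∏ i, w (σ⁻¹ i) (x i) := by
  show permMat σ *ᵥ _ = _
  rw [permMat_mulVec]
  funext x
  exact Fintype.prod_equiv σ _ _ fun i => by simp

variable [Fintype F] {m : ℕ}

local notation "N" => Fin m ⊕ Fin m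

set_option maxHeartbeats 1000000 in
/-- Sp_2 ⊗ O_4^+ is not maximal in Sp_8. -/
theorem not_maximal (h2 : (2 : F) ≠ 0) (e : N ≃ Fin 2 × Fin 4) (P : GL N F)
    (f₁ : (Fin 2 → F) → (Fin 2 → F) → F) (f₂ : (Fin 4 → F) → (Fin 4 → F) → F)
    (hf₁ : Geo.IsSymplecticForm f₁) (hf₂ : Geo.IsSymmetricForm f₂)
    (hplus : Geo.IsPlusTypeOn (fun v : Fin 4 → F => f₂ v v) ⊤)
    (hT : Geo.IsTensorFormStructure id (Cfsg.sympForm m F) f₁ f₂ e P) :
    ∃ K : Subgroup (GL N F), Geo.tensorProductSubgroup 2 4 e P ⊓ Cfsg.spGL m F < K ∧ K < Cfsg.spGL m F := by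
  classical
  have hf := Transvect.sympForm_isSymplectic (F := F) m
  obtain ⟨C, hC, htp⟩ := form_tp (σ := id) (fun x y => rfl) (FrameThree.fog_eq hf₁.bilinear)
    (FrameThree.fog_eq hf₂.bilinear) hT
  obtain ⟨ψ, hψd, hψb⟩ := exists_hyperbolic h2 hf₂ hplus
  set δ := f₁ (Pi.single 0 1) (Pi.single 1 1) with hδ
  have hf₁e : ∀ a a', f₁ a a' = δ * br a a' := fun a a' => by
    have ea : ∀ a : Fin 2 → F, a = a 0 • Pi.single 0 1 + a 1 • Pi.single 1 1 := fun a => by
      funext i; fin_cases i <;> simp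
    conv_lhs => rw [ea a, ea a']
    simp only [hf₁.bilinear.add_left, hf₁.bilinear.add_right, hf₁.bilinear.smul_left, hf₁.bilinear.smul_right,
      hf₁.alternating, hf₁.skew (Pi.single 1 1) (Pi.single 0 1), ← hδ, br]
    ring
  -- triple tensors
  let T3 : (Fin 2 → F) → (Fin 2 → F) → (Fin 2 → F) → (N → F) := fun a b c => tp e P a (ψ (outer b c))
  have hT3f : ∀ a b c a' b' c', Cfsg.sympForm m F (T3 a b c) (T3 a' b' c') =
      C * δ * (br a a' * br b b' * br c c') := fun a b c a' b' c' => by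
    simp only [T3, htp, hf₁e, hψb]; ring
  have hcard : Fintype.card N = Fintype.card (Fin 3 → Fin 2) := by
    rw [Fintype.card_congr e]; simp
  let e' : N ≃ (Fin 3 → Fin 2) := Fintype.equivOfCardEq hcard
  let eq3 : Fin 2 × Fin 2 × Fin 2 ≃ (Fin 3 → Fin 2) :=
    { toFun := fun p => ![p.1, p.2.1, p.2.2]
      invFun := fun g => (g 0, g 1, g 2)
      left_inv := fun p => rfl
      right_inv := fun g => by funext i; fin_cases i <;> rfl }
  let unit : Fin 2 → Fin 2 → F := fun i => Pi.single i 1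
  let P₀ : Matrix N N F := Matrix.of fun i s => T3 (unit (e' s 0)) (unit (e' s 1)) (unit (e' s 2)) i
  have hP₀ : ∀ v : (Fin 3 → Fin 2) → F, P₀ *ᵥ (v ∘ e') =
      ∑ a, ∑ b, ∑ c, v ![a, b, c] • T3 (unit a) (unit b) (unit c) := fun v => by
    funext i
    simp only [Matrix.mulVec, dotProduct, Function.comp_apply, P₀, Matrix.of_apply]
    rw [← e'.symm.sum_comp, ← eq3.sum_comp, Fintype.sum_prod_type]
    simp only [Fintype.sum_prod_type, Equiv.apply_symm_apply, Finset.sum_apply, Pi.smul_apply, smul_eq_mul]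
    refine Finset.sum_congr rfl fun a _ => Finset.sum_congr rfl fun b _ => Finset.sum_congr rfl fun c _ => ?_
    exact mul_comm _ _
  have hpure : ∀ w : Fin 3 → Fin 2 → F, P₀ *ᵥ ((fun g => ∏ i, w i (g i)) ∘ e') = T3 (w 0) (w 1) (w 2) := by
    intro w
    rw [hP₀]
    have e1 : outer (w 1) (w 2) = ∑ b, ∑ c, (w 1 b * w 2 c) • outer (unit b) (unit c) := by
      ext i j
      fin_cases i <;> fin_cases j <;> simp [outer, unit, Fin.sum_univ_two]
    have e0 : w 0 = ∑ a, w 0 a • unit a := by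
      funext i; fin_cases i <;> simp [unit, Fin.sum_univ_two]
    show _ = tp e P (w 0) (ψ (outer (w 1) (w 2)))
    conv_rhs => rw [e0, e1]
    simp only [Fin.sum_univ_two, map_add, map_smul, LinearMap.add_apply, LinearMap.smul_apply, smul_add, smul_smul,
      Fin.prod_univ_three, Matrix.cons_val, T3]
    module
  -- `P₀` is invertible
  have hP₀u : IsUnit P₀ := by
    rw [← Matrix.mulVec_surjective_iff_isUnit]
    let R := LinearMap.range (Matrix.mulVecLin P₀)
    have hR : ∀ a b c, T3 a b c ∈ R := fun a b c => ⟨_, hpure ![a, b, c]⟩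
    have hR' : ∀ a z, tp e P a z ∈ R := fun a z => by
      obtain ⟨X, rfl⟩ := ψ.surjective z
      have eX : X = ∑ b, ∑ c, X b c • outer (unit b) (unit c) := by
        ext i j
        fin_cases i <;> fin_cases j <;> simp [outer, unit, Fin.sum_univ_two]
      rw [eX]
      simp only [map_sum, map_smul]
      exact Submodule.sum_mem _ fun b _ => Submodule.sum_mem _ fun c _ => Submodule.smul_mem _ _ (hR _ _ _)
    have htop : R = ⊤ := by
      rw [eq_top_iff]
      intro z _
      obtain ⟨x, rfl⟩ := (app P).surjective z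
      have ex : x = ∑ i, x i • Pi.single i (1 : F) := pi_eq_sum_univ' x
      rw [ex, map_sum]
      refine Submodule.sum_mem _ fun i _ => ?_
      rw [map_smul]
      refine Submodule.smul_mem _ _ ?_
      have : app P (Pi.single i 1) = tp e P (Pi.single (e i).1 1) (Pi.single (e i).2 1) := by
        rw [tp_apply]; congr 1; funext j
        by_cases h : j = i
        · subst h; simp
        · rw [Pi.single_eq_of_ne h]
          have : (e j).1 ≠ (e i).1 ∨ (e j).2 ≠ (e i).2 := by
            by_contra hc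
            simp only [not_or, not_not] at hc
            exact h (e.injective (Prod.ext hc.1 hc.2))
          rcases this with h' | h' <;> simp [Pi.single_eq_of_ne h']
      rw [this]
      exact hR' _ _
    exact LinearMap.range_eq_top.mp htop
  set P' : GL N F := hP₀u.unit with hP'
  have hP'v : (P' : Matrix N N F) = P₀ := rfl
  let W : GL (Fin 3 → Fin 2) F → GL N F := fun h =>
    MulAut.conj P' (Geo.glReindex e'.symm h)
  have hWmem : ∀ h ∈ Geo.tensorWreathStandard 2 3 F, W h ∈ Geo.tensorWreathSubgroup 2 3 e' P' := fun h hh =>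
    Subgroup.mem_map_of_mem _ (Subgroup.mem_map_of_mem _ hh)
  have hWact : ∀ h v, (W h : Matrix N N F) *ᵥ (P₀ *ᵥ (v ∘ e')) =
      P₀ *ᵥ (((h : Matrix (Fin 3 → Fin 2) (Fin 3 → Fin 2) F) *ᵥ v) ∘ e') := fun h v => by
    have hR : (Geo.glReindex e'.symm h : Matrix N N F) *ᵥ (v ∘ e') =
        ((h : Matrix (Fin 3 → Fin 2) (Fin 3 → Fin 2) F) *ᵥ v) ∘ e' := by
      show ((h : Matrix (Fin 3 → Fin 2) (Fin 3 → Fin 2) F).submatrix e'.symm.symm e'.symm.symm) *ᵥ _ = _
      rw [Equiv.symm_symm, Matrix.submatrix_mulVec_equiv, Function.comp_assoc]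
      simp
    show ((P' * Geo.glReindex e'.symm h * P'⁻¹ : GL N F) : Matrix N N F) *ᵥ _ = _
    rw [← hR, ← hP'v, Matrix.mulVec_mulVec, Matrix.mulVec_mulVec, Units.val_mul, Units.val_mul, mul_assoc,
      Units.inv_mul, mul_one]
  have hWT3 : ∀ (h : GL (Fin 3 → Fin 2) F) (w w' : Fin 3 → Fin 2 → F), (h : Matrix (Fin 3 → Fin 2) (Fin 3 → Fin 2) F) *ᵥ
      (fun g => ∏ i, w i (g i)) = (fun g => ∏ i, w' i (g i)) →
      (W h : Matrix N N F) *ᵥ T3 (w 0) (w 1) (w 2) = T3 (w' 0) (w' 1) (w' 2) := fun h w w' hh => by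
    rw [← hpure, hWact, hh, hpure]
  -- comparison of matrices on triple tensors
  have hext : ∀ g g' : GL N F, (∀ a b c, (g : Matrix N N F) *ᵥ T3 a b c = (g' : Matrix N N F) *ᵥ T3 a b c) →
      g = g' := fun g g' h => by
    refine Units.ext (hP₀u.mul_right_cancel (Matrix.ext_of_mulVec_single fun s => ?_))
    rw [← Matrix.mulVec_mulVec, ← Matrix.mulVec_mulVec]
    have : P₀ *ᵥ Pi.single s 1 = T3 (unit (e' s 0)) (unit (e' s 1)) (unit (e' s 2)) := by
      rw [Matrix.mulVec_single_one]; rfl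
    rw [this]
    exact h _ _ _
  set K := Geo.tensorWreathSubgroup 2 3 e' P' ⊓ Cfsg.spGL m F with hK
  have hle : Geo.tensorProductSubgroup 2 4 e P ⊓ Cfsg.spGL m F ≤ K := by
    intro T hTm
    refine ⟨?_, hTm.2⟩
    obtain ⟨A, B, hAB⟩ := exists_app_tp hTm.1
    have hiso : ∀ a a' z, f₁ (app A a) (app A a') * f₂ (app B z) (app B z) = f₁ a a' * f₂ z z :=
      fun a a' z => by
        have h1 : Cfsg.sympForm m F (app T (tp e P a z)) (app T (tp e P a' z)) =
            Cfsg.sympForm m F (tp e P a z) (tp e P a' z) := mem_spGL_iff.1 hTm.2 _ _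
        rw [hAB, hAB, htp, htp] at h1
        exact mul_left_cancel₀ hC h1
    set r := f₁ (app A (Pi.single 0 1)) (app A (Pi.single 1 1)) with hr
    have hδ0 : δ ≠ 0 := fun h0 => by
      obtain ⟨⟨x, hx⟩, -⟩ := hf₁.nondegenerate (Pi.single 0 1) (by simp)
      exact hx (by rw [hf₁e, h0, zero_mul])
    have hr0 : r ≠ 0 := fun h0 => by
      have h1 := hiso (Pi.single 0 1) (Pi.single 1 1) (ψ 1)
      rw [← hr, h0, zero_mul, hψd, Matrix.det_one, ← hδ, mul_one] at h1
      exact mul_ne_zero hδ0 h2 h1.symm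
    let B' : M₂ →ₗ[F] M₂ := (ψ.symm.toLinearMap.comp (app B).toLinearMap).comp ψ.toLinearMap
    have hB' : ∀ X, ψ (B' X) = app B (ψ X) := fun X => ψ.apply_symm_apply _
    obtain ⟨α, β, hcase⟩ := det_similitude B' (div_ne_zero hδ0 hr0) (fun X => by
      have h1 := hiso (Pi.single 0 1) (Pi.single 1 1) (ψ X)
      rw [← hr, ← hB', hψd, hψd, ← hδ] at h1
      field_simp
      exact mul_left_cancel₀ h2 (by linear_combination h1)) (fun X Y h => ψ.injective ((app B).injective (by
      rw [← hB', ← hB', h])))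
    have hβt : IsUnit ((β : M₂)ᵀ) := by
      rw [Matrix.isUnit_iff_isUnit_det, Matrix.det_transpose]
      exact (Matrix.isUnit_iff_isUnit_det _).mp β.isUnit
    let As : Fin 3 → GL (Fin 2) F := ![A, α, hβt.unit]
    have hpu : pureUnit As ∈ Geo.tensorWreathStandard 2 3 F :=
      Subgroup.subset_closure (Or.inl ⟨As, fun x y => rfl⟩)
    have houter : ∀ b c, (α : M₂) * outer b c * (β : M₂) = outer ((α : M₂) *ᵥ b) ((β : M₂)ᵀ *ᵥ c) := fun b c => by
      ext i j
      simp [outer, Matrix.mul_apply, Matrix.mulVec, dotProduct, Fin.sum_univ_two, Matrix.vecMul]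
      ring
    have houterT : ∀ b c, (outer b c : M₂)ᵀ = outer c b := fun b c => by
      ext i j; simp [outer, mul_comm]
    have hTT : ∀ a b c, (T : Matrix N N F) *ᵥ T3 a b c = tp e P (app A a) (ψ (B' (outer b c))) := fun a b c => by
      rw [hB']; exact hAB _ _
    rcases hcase with hcase | hcase
    · have : T = W (pureUnit As) := hext _ _ fun a b c => by
        rw [hTT, hcase, houter]
        exact (hWT3 (pureUnit As) ![a, b, c] ![app A a, (α : M₂) *ᵥ b, (β : M₂)ᵀ *ᵥ c] (by
          show pureMat _ *ᵥ _ = _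
          rw [pureMat_mulVec]
          funext x
          refine Finset.prod_congr rfl fun i _ => ?_
          fin_cases i <;> rfl)).symm
      rw [this]
      exact hWmem _ hpu
    · have hperm : (permGL (Equiv.swap 1 2) : GL (Fin 3 → Fin 2) F) ∈ Geo.tensorWreathStandard 2 3 F :=
        Subgroup.subset_closure (Or.inr ⟨Equiv.swap 1 2, fun x y => rfl⟩)
      have : T = W (pureUnit As * permGL (Equiv.swap 1 2)) := hext _ _ fun a b c => by
        rw [hTT, hcase, houterT, houter]
        exact (hWT3 (pureUnit As * permGL (Equiv.swap 1 2)) ![a, b, c] ![app A a, (α : M₂) *ᵥ c, (β : M₂)ᵀ *ᵥ b] (by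
          rw [Units.val_mul, ← Matrix.mulVec_mulVec, permGL_pure]
          show pureMat _ *ᵥ _ = _
          rw [pureMat_mulVec]
          funext x
          refine Finset.prod_congr rfl fun i _ => ?_
          fin_cases i <;> rfl)).symm
      rw [this]
      exact hWmem _ (mul_mem hpu hperm)
  -- the swap of the first two factors
  set S := W (permGL (Equiv.swap 0 1)) with hS
  have hSact : ∀ a b c, (S : Matrix N N F) *ᵥ T3 a b c = T3 b a c := fun a b c =>
    hWT3 (permGL (Equiv.swap 0 1)) ![a, b, c] ![b, a, c] (by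
      rw [permGL_pure]
      funext x
      refine Finset.prod_congr rfl fun i _ => ?_
      fin_cases i <;> rfl)
  have hSK : S ∈ K := by
    refine ⟨hWmem _ (Subgroup.subset_closure (Or.inr ⟨Equiv.swap 0 1, fun x y => rfl⟩)), mem_spGL_iff.2 ?_⟩
    intro x y
    obtain ⟨x', rfl⟩ : ∃ x', P₀ *ᵥ x' = x := Matrix.mulVec_surjective_iff_isUnit.mpr hP₀u x
    obtain ⟨y', rfl⟩ : ∃ y', P₀ *ᵥ y' = y := Matrix.mulVec_surjective_iff_isUnit.mpr hP₀u y
    have hx : ∀ x' : N → F, P₀ *ᵥ x' = ∑ s, x' s • T3 (unit (e' s 0)) (unit (e' s 1)) (unit (e' s 2)) :=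
      fun x' => by
        funext i
        simp only [Matrix.mulVec, dotProduct, P₀, Matrix.of_apply, Finset.sum_apply, Pi.smul_apply, smul_eq_mul]
        exact Finset.sum_congr rfl fun s _ => mul_comm _ _
    simp only [app_apply, hx, Matrix.mulVec_sum, Matrix.mulVec_smul, hSact]
    have hsumr : ∀ (u : N → F) (v : N → N → F), Cfsg.sympForm m F u (∑ s, v s) = ∑ s, Cfsg.sympForm m F u (v s) :=
      fun u v => by
        rw [hf.skew, ← flin_apply hf.bilinear, map_sum, ← Finset.sum_neg_distrib]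
        exact Finset.sum_congr rfl fun s _ => by rw [flin_apply, ← hf.skew]
    have hsuml : ∀ (u : N → F) (v : N → N → F), Cfsg.sympForm m F (∑ s, v s) u = ∑ s, Cfsg.sympForm m F (v s) u :=
      fun u v => by
        rw [← flin_apply hf.bilinear, map_sum]
        rfl
    simp only [hsuml, hsumr, hf.bilinear.smul_left, hf.bilinear.smul_right, hT3f]
    refine Finset.sum_congr rfl fun s _ => Finset.sum_congr rfl fun s' _ => ?_
    ring
  refine ⟨K, lt_of_le_of_ne hle fun heq => ?_, lt_of_le_of_ne inf_le_right fun heq => ?_⟩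
  · have hSH := heq.ge hSK
    obtain ⟨A, B, hAB⟩ := exists_app_tp hSH.1
    set z := ψ (outer (unit 0) (unit 0)) with hz
    have h1 : ∀ a, tp e P (app A a) (app B z) = tp e P (unit 0) (ψ (outer a (unit 0))) := fun a => by
      rw [← hAB]; exact hSact a (unit 0) (unit 0)
    have hBz : app B z ≠ 0 := fun h => by
      have h0 : z = 0 := (app B).injective (h.trans (map_zero _).symm)
      have h3 : outer (unit 0) (unit 0) = (0 : M₂) := ψ.injective (h0.trans (map_zero _).symm)
      have := congrFun (congrFun h3 0) 0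
      simp [outer, unit] at this
    obtain ⟨-, y, hy⟩ := hf₂.nondegenerate _ hBz
    have h4 : ∀ a, f₁ (app A a) (unit 0) = 0 := fun a => by
      have h5 := congrArg (fun v => Cfsg.sympForm m F v (tp e P (unit 0) y)) (h1 a)
      simp only [htp, hf₁.alternating, zero_mul, mul_zero] at h5
      exact (mul_eq_zero.mp ((mul_eq_zero.mp h5).resolve_left hC)).resolve_right hy
    obtain ⟨⟨x, hx⟩, -⟩ := hf₁.nondegenerate (unit 0) (by simp [unit])
    obtain ⟨a, rfl⟩ := (app A).surjective x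
    exact hx (h4 a)
  · exact st_not_wreath le_rfl (by norm_num) e' P' fun v c => (heq.ge (st_mem_spGL v c)).1

end Cfsg.Agent.Aschbacher.TensorPlus
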