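/-
Tensor decompositions with factors of dimension three and four.
Main results: `form_plus_iff`, `TStr.three_frame`, `TStr.three_plus`.
-/
import Cfsg.Agent.Lib.Aschbacher.EvenTensor
import Cfsg.Agent.Lib.Aschbacher.TensorPlus
import Cfsg.Agent.Lib.Aschbacher.OrthThree
import Cfsg.Agent.Lib.Aschbacher.FormOrthOdd
import Cfsg.Agent.Lib.PrimeDim.OrthBasic

set_option autoImplicit false
set_option linter.unusedSectionVars false

namespace Cfsg.Agent.Aschbacher

open Matrix Module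
open Cfsg.Agent.PrimeDim
open QuadraticMap (polar)
open Transvect (tp tp_apply app app_apply)

variable {ι : Type} [Fintype ι] [DecidableEq ι] {F : Type*} [Field F] [Fintype F]
variable {Q : QuadraticForm F (ι → F)}

/-- The type of a symmetric form in four variables. -/
theorem form_plus_iff (h2 : (2 : F) ≠ 0) {G : Matrix (Fin 4) (Fin 4) F} (hdet : IsUnit G.det) (hsym : Gᵀ = G) :
    Geo.IsPlusTypeOn (fun v : Fin 4 → F => Geo.formOfGram (RingHom.id F) G v v) ⊤ ↔ IsSquare G.det := by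
  classical
  let Q₁ : QuadraticForm F (Fin 4 → F) := G.toQuadraticForm'
  have hev : ∀ v, Q₁ v = Geo.formOfGram (RingHom.id F) G v v := fun v => by
    show LinearMap.BilinMap.toQuadraticMap (Matrix.toLinearMap₂' F G) v = _
    rw [LinearMap.BilinMap.toQuadraticMap_apply, Matrix.toLinearMap₂'_apply', formOfGram_eq]
    rfl
  have hgram : gramQ Q₁ = (2 : F) • G := by
    ext i j
    show polar ⇑(LinearMap.BilinMap.toQuadraticMap (Matrix.toLinearMap₂' F G)) (Pi.single i 1) (Pi.single j 1) = _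
    rw [LinearMap.BilinMap.polar_toQuadraticMap, Matrix.toLinearMap₂'_apply', Matrix.toLinearMap₂'_apply']
    have hji : G j i = G i j := congrFun (congrFun hsym i) j
    simp [hji, two_mul]
  have hdet2 : (gramQ Q₁).det = 16 * G.det := by
    rw [hgram, Matrix.det_smul, Fintype.card_fin]; norm_num
  have h16 : (16 : F) ≠ 0 := by
    rw [show (16 : F) = 2 ^ 4 by norm_num]; exact pow_ne_zero _ h2
  have hn₁ : Q₁.polarBilin.Nondegenerate := by
    refine LinearMap.BilinForm.nondegenerate_toMatrix'_iff.1 (Matrix.nondegenerate_iff_det_ne_zero.2 ?_)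
    show (gramQ Q₁).det ≠ 0
    rw [hdet2]
    exact mul_ne_zero h16 hdet.ne_zero
  rw [show (fun v : Fin 4 → F => Geo.formOfGram (RingHom.id F) G v v) = ⇑Q₁ from funext fun v => (hev v).symm,
    plus_iff_disc hn₁ h2 (k := 2) (by omega) (by simp), hdet2, neg_one_sq, one_mul]
  refine ⟨fun h => ?_, fun h => IsSquare.mul ⟨4, by norm_num⟩ h⟩
  have h3 := IsSquare.div h (⟨4, by norm_num⟩ : IsSquare (16 : F))
  rwa [mul_comm, mul_div_assoc, div_self h16, mul_one] at h3

namespace TStr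

variable {H : Subgroup (GL ι F)}

theorem three_symm (h2 : (2 : F) ≠ 0) {t : ℕ} {e : ι ≃ Fin 3 × Fin t} {P : GL ι F}
    {G1 : Matrix (Fin 3) (Fin 3) F} {G2 : Matrix (Fin t) (Fin t) F} (h : TStr Q H e P G1 G2) :
    G1ᵀ = G1 ∧ G2ᵀ = G2 := by
  rcases h.symm_or_skew with r | r
  · exact r
  · exact absurd (h.even_of_alt fun a => skew_alternating h2 r.1 a) (by decide)

/-- Over three elements a factor of dimension three splits the space. -/
theorem three_frame (h3 : Fintype.card F = 3) (h2 : (2 : F) ≠ 0) {e : ι ≃ Fin 3 × Fin 4} {P : GL ι F}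
    {G1 : Matrix (Fin 3) (Fin 3) F} {G2 : Matrix (Fin 4) (Fin 4) F} (h : TStr Q H e P G1 G2) :
    ∃ D : Fin 3 → Submodule F (ι → F), Geo.IsNondegenerateMDecomposition (polar ⇑Q) 4 D ∧
      H ≤ Geo.decompositionStabilizer D := by
  classical
  obtain ⟨hs1, -⟩ := h.three_symm h2
  obtain ⟨a, A, ha, hA⟩ := symm_congr h2 (⟨1, rfl⟩ : Odd 3) h.herm1.det hs1
  let av : Fin 3 → Fin 3 → F := fun i => (A : Matrix (Fin 3) (Fin 3) F) *ᵥ Pi.single i 1
  have hav : ∀ i j, av i ⬝ᵥ G1 *ᵥ av j = a * (1 : Matrix (Fin 3) (Fin 3) F) i j := by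
    intro i j
    rw [← smul_eq_mul, ← Matrix.smul_apply, ← hA]
    simp only [av, Matrix.mulVec_mulVec, Matrix.dotProduct_mulVec, Matrix.mulVec_single_one]
    simp [Matrix.mul_apply, dotProduct, Matrix.vecMul, Matrix.col_apply]
  have hinj : ∀ i, Function.Injective (tp e P (av i)) := by
    intro i
    rw [injective_iff_map_eq_zero]
    intro y hy
    have h1 : Matrix.vecMul y G2 = 0 := funext fun j => by
      have h3' := h.polar_tp (av i) (av i) y (Pi.single j 1)
      rw [hy, Orth.pl_zero_left, hav, Matrix.one_apply_eq, mul_one, eq_comm, Matrix.dotProduct_mulVec,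
        dotProduct_single, mul_one] at h3'
      exact (mul_eq_zero.1 h3').resolve_left ha
    exact Matrix.vecMul_injective_iff_isUnit.2 ((Matrix.isUnit_iff_isUnit_det _).2 h.herm2.det)
      (h1.trans (Matrix.zero_vecMul _).symm)
  refine ⟨fun i => LinearMap.range (tp e P (av i)), orth_decomp_of_family h.nd _ (by omega) (by omega)
    (by rw [← h.card_eq]) (fun i => ?_) (fun i => ?_) (fun i j hij x hx y hy => ?_) fun g hg i => ?_⟩
  · rw [LinearMap.finrank_range_of_inj (hinj i), Module.finrank_fintype_fun_eq_card, Fintype.card_fin]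
  · rintro _ ⟨y, rfl⟩ hne
    by_contra hc
    simp only [not_exists, not_and, not_not] at hc
    refine hne ?_
    have hy0 : Matrix.vecMul y G2 = 0 := funext fun j => by
      have h3' := hc _ ⟨Pi.single j 1, rfl⟩
      rw [h.polar_tp, hav, Matrix.one_apply_eq, mul_one, Matrix.dotProduct_mulVec, dotProduct_single,
        mul_one] at h3'
      exact (mul_eq_zero.1 h3').resolve_left ha
    rw [Matrix.vecMul_injective_iff_isUnit.2 ((Matrix.isUnit_iff_isUnit_det _).2 h.herm2.det)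
      (hy0.trans (Matrix.zero_vecMul _).symm), map_zero]
  · obtain ⟨x, rfl⟩ := hx
    obtain ⟨y, rfl⟩ := hy
    rw [h.polar_tp, hav, Matrix.one_apply_ne hij, mul_zero, zero_mul]
  obtain ⟨u, v, κ, hκ, huv, hu, -⟩ := h.factors hg
  set U' : Matrix (Fin 3) (Fin 3) F := ((A⁻¹ : GL (Fin 3) F) : Matrix (Fin 3) (Fin 3) F) *
    (u : Matrix (Fin 3) (Fin 3) F) * (A : Matrix (Fin 3) (Fin 3) F) with hU'
  have hUU : U'ᵀ * U' = κ⁻¹ • (1 : Matrix (Fin 3) (Fin 3) F) := by
    refine smul_right_injective _ ha ?_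
    have hAU : (A : Matrix (Fin 3) (Fin 3) F) * U' = (u : Matrix (Fin 3) (Fin 3) F) * A := by
      rw [hU', ← mul_assoc, ← mul_assoc, Units.mul_inv, one_mul]
    calc a • (U'ᵀ * U') = U'ᵀ * (a • 1) * U' := by simp
      _ = ((A : Matrix (Fin 3) (Fin 3) F) * U')ᵀ * G1 * ((A : Matrix (Fin 3) (Fin 3) F) * U') := by
        rw [← hA]; simp [Matrix.transpose_mul, mul_assoc]
      _ = (A : Matrix (Fin 3) (Fin 3) F)ᵀ * ((u : Matrix (Fin 3) (Fin 3) F)ᵀ * G1 *
          (u : Matrix (Fin 3) (Fin 3) F)) * (A : Matrix (Fin 3) (Fin 3) F) := by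
        rw [hAU]; simp [Matrix.transpose_mul, mul_assoc]
      _ = κ⁻¹ • ((A : Matrix (Fin 3) (Fin 3) F)ᵀ * G1 * (A : Matrix (Fin 3) (Fin 3) F)) := by
        conv_rhs => rw [hu]
        simp [smul_smul, hκ]
      _ = _ := by simp only [hA, smul_smul, mul_comm]
  have hκ1 : κ⁻¹ = 1 := kappa_eq_one h3 (inv_ne_zero hκ) hUU
  rw [hκ1, one_smul] at hUU
  obtain ⟨p, hp⟩ := orth_three_monomial h3 hUU
  refine ⟨p i, ?_⟩
  rintro _ ⟨y, rfl⟩
  rw [h.act huv]
  have hua : (u : Matrix (Fin 3) (Fin 3) F) *ᵥ av i = U' (p i) i • av (p i) := by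
    have h1 : (u : Matrix (Fin 3) (Fin 3) F) *ᵥ av i = (A : Matrix (Fin 3) (Fin 3) F) *ᵥ (U' *ᵥ Pi.single i 1) := by
      simp only [av, hU', Matrix.mulVec_mulVec, ← mul_assoc, Units.mul_inv, one_mul]
    have h2' : U' *ᵥ Pi.single i 1 = U' (p i) i • (Pi.single (p i) 1 : Fin 3 → F) := by
      funext l
      rw [Matrix.mulVec_single_one, Matrix.col_apply, Pi.smul_apply, smul_eq_mul]
      by_cases hl : l = p i
      · subst hl; simp
      · rw [(hp i).2 l hl, Pi.single_eq_of_ne hl, mul_zero]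
    rw [h1, h2', Matrix.mulVec_smul]
  rw [hua, map_smul, LinearMap.smul_apply]
  exact Submodule.smul_mem _ _ ⟨_, rfl⟩

set_option maxHeartbeats 1000000 in
/-- A plus factor of dimension four regroups into two alternating factors. -/
theorem three_plus (h2 : (2 : F) ≠ 0) (hΩ : H ≤ Geo.omegaGL ⇑Q) {e : ι ≃ Fin 3 × Fin 4} {P : GL ι F}
    {G1 : Matrix (Fin 3) (Fin 3) F} {G2 : Matrix (Fin 4) (Fin 4) F} (h : TStr Q H e P G1 G2)
    (hplus : Geo.IsPlusTypeOn ⇑Q ⊤) :
    ∃ (e' : ι ≃ Fin 2 × Fin 6) (P' : GL ι F) (G1' : Matrix (Fin 2) (Fin 2) F) (G2' : Matrix (Fin 6) (Fin 6) F),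
      TStr Q H e' P' G1' G2' ∧ G1'ᵀ = -G1' ∧ G2'ᵀ = -G2' := by
  classical
  obtain ⟨hs1, hs2⟩ := h.three_symm h2
  have hι : Fintype.card ι = 2 * 6 := h.card_eq.symm
  have hsq : IsSquare G2.det := by
    have h1 := (h.disc h2 (k := 6) (by omega) hι).1 hplus
    have h2' := h1.div (IsSquare.mul_self (G1.det ^ 2 * G2.det))
    rwa [show (-1 : F) ^ 6 * (G1.det ^ 4 * G2.det ^ 3) / (G1.det ^ 2 * G2.det * (G1.det ^ 2 * G2.det)) = G2.det by
      field_simp [h.herm1.det.ne_zero, h.herm2.det.ne_zero]] at h2'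
  obtain ⟨ψ, hψd, hψb⟩ := TensorPlus.exists_hyperbolic h2 (symmetricForm_of_gram h.herm2.det hs2)
    ((form_plus_iff h2 h.herm2.det hs2).2 hsq)
  let φ : Fin 4 ≃ Fin 2 × Fin 2 := (finProdFinEquiv (m := 2) (n := 2)).symm
  let φ6 : Fin 6 ≃ Fin 3 × Fin 2 := (finProdFinEquiv (m := 3) (n := 2)).symm
  let E : (Fin 4 → F) ≃ₗ[F] Matrix (Fin 2) (Fin 2) F :=
    { toFun := fun v => Matrix.of fun i k => v (φ.symm (i, k))
      invFun := fun X a => X (φ a).1 (φ a).2
      map_add' := fun u v => rfl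
      map_smul' := fun c v => rfl
      left_inv := fun v => funext fun a => by simp
      right_inv := fun X => by ext i k; simp }
  have hEs : ∀ a, E (Pi.single a 1) = Matrix.single (φ a).1 (φ a).2 1 := fun a => by
    ext i k
    show (Pi.single a (1 : F) : Fin 4 → F) (φ.symm (i, k)) = _
    rw [Pi.single_apply, Matrix.single_apply]
    congr 1
    rw [Equiv.symm_apply_eq, Prod.ext_iff]
    exact propext ⟨fun ⟨x, y⟩ => ⟨x.symm, y.symm⟩, fun ⟨x, y⟩ => ⟨x.symm, y.symm⟩⟩
  let Ψl : (Fin 4 → F) ≃ₗ[F] (Fin 4 → F) := E.trans ψ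
  let Ψm : Matrix (Fin 4) (Fin 4) F := LinearMap.toMatrix' Ψl.toLinearMap
  have hΨv : ∀ v, Ψm *ᵥ v = ψ (E v) := fun v => by
    rw [← Matrix.toLin'_apply, Matrix.toLin'_toMatrix']; rfl
  have hΨu : IsUnit Ψm := (Matrix.isUnit_iff_isUnit_det _).mpr (by
    rw [LinearMap.det_toMatrix']; exact Ψl.isUnit_det')
  set J : Matrix (Fin 2) (Fin 2) F := !![0, 1; -1, 0] with hJ
  have hJs : Jᵀ = -J := by ext i j; fin_cases i <;> fin_cases j <;> simp [hJ]
  have hJd : J.det = 1 := by simp [hJ, Matrix.det_fin_two]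
  have houter : ∀ i k, (Matrix.single i k (1 : F) : Matrix (Fin 2) (Fin 2) F) =
      TensorPlus.outer (Pi.single i 1) (Pi.single k 1) := fun i k => by
    ext x y; fin_cases i <;> fin_cases k <;> fin_cases x <;> fin_cases y <;> simp [TensorPlus.outer]
  have hΨG : Ψmᵀ * G2 * Ψm = tens φ J J := by
    ext a b
    have h1 : (Ψmᵀ * G2 * Ψm) a b = Geo.formOfGram (RingHom.id F) G2 (Ψm *ᵥ Pi.single a 1) (Ψm *ᵥ Pi.single b 1) := by
      rw [formOfGram_mulVec, formOfGram_single, RingHom.coe_id, Matrix.map_id]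
    rw [h1, hΨv, hΨv, hEs, hEs, houter, houter, hψb, tens_apply]
    rcases φ a with ⟨i, k⟩
    rcases φ b with ⟨i', k'⟩
    fin_cases i <;> fin_cases k <;> fin_cases i' <;> fin_cases k' <;> simp [TensorPlus.br, hJ]
  let e' : ι ≃ Fin 2 × Fin 6 :=
    e.trans
      { toFun := fun p => ((φ p.2).1, φ6.symm (p.1, (φ p.2).2))
        invFun := fun q => ((φ6 q.2).1, φ.symm (q.1, (φ6 q.2).2))
        left_inv := fun p => by simp
        right_inv := fun q => by simp }
  have hre : ∀ (X : Matrix (Fin 3) (Fin 3) F) (Y Z : Matrix (Fin 2) (Fin 2) F),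
      tens e X (tens φ Y Z) = tens e' Y (tens φ6 X Z) := by
    intro X Y Z
    ext a b
    simp [tens_apply, e']
    ring
  obtain ⟨T, hT, hTi⟩ := tens_unit_exists e (1 : GL (Fin 3) F) hΨu.unit
  rw [Units.val_one, IsUnit.unit_spec] at hT
  have hgram' : ((P * T : GL ι F) : Matrix ι ι F)ᵀ * gramQ Q * ((P * T : GL ι F) : Matrix ι ι F) =
      tens e' J (tens φ6 G1 J) := by
    rw [← hre, ← hΨG, Units.val_mul, Matrix.transpose_mul,
      show (T : Matrix ι ι F)ᵀ * (P : Matrix ι ι F)ᵀ * gramQ Q * ((P : Matrix ι ι F) * (T : Matrix ι ι F)) =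
        (T : Matrix ι ι F)ᵀ * ((P : Matrix ι ι F)ᵀ * gramQ Q * (P : Matrix ι ι F)) * (T : Matrix ι ι F) by
        simp [mul_assoc], h.gram, hT, tens_transpose, tens_mul, tens_mul, Matrix.transpose_one, one_mul, mul_one]
  have hGd : IsUnit (tens φ6 G1 J).det := by
    rw [det_tens, hJd, one_pow, mul_one]; exact h.herm1.det.pow _
  have hGs : (tens φ6 G1 J)ᵀ = -tens φ6 G1 J := by
    rw [tens_transpose, hs1, hJs]; ext a b; simp only [tens_apply, Matrix.neg_apply, mul_neg]
  refine ⟨e', P * T, J, tens φ6 G1 J, ⟨h.nd, h.ne, h.iso, h.irr, fun g hg => ?_, hgram', ?_, ?_⟩, hJs, hGs⟩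
  rotate_left
  · exact ⟨fun _ => rfl, by rw [hJd]; exact isUnit_one, -1, neg_ne_zero.2 one_ne_zero, by
      rw [RingHom.coe_id, Matrix.map_id, hJs, neg_one_smul]⟩
  · exact ⟨fun _ => rfl, hGd, -1, neg_ne_zero.2 one_ne_zero, by
      rw [RingHom.coe_id, Matrix.map_id, hGs, neg_one_smul]⟩
  obtain ⟨u, v, κ, hκ, huv, hu, hv⟩ := h.factors hg
  set U : Matrix (Fin 3) (Fin 3) F := (u : Matrix (Fin 3) (Fin 3) F) with hU
  set s : F := U.det * κ with hs
  have hUd : U.det ≠ 0 := ((Matrix.isUnit_iff_isUnit_det _).mp u.isUnit).ne_zero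
  have hs0 : s ≠ 0 := mul_ne_zero hUd hκ
  have hUκ : U.det * U.det * κ ^ 3 = 1 := by
    have h1 := congrArg Matrix.det hu
    rw [Matrix.det_smul, Matrix.det_mul, Matrix.det_mul, Matrix.det_transpose, Fintype.card_fin] at h1
    refine mul_right_cancel₀ h.herm1.det.ne_zero ?_
    linear_combination -h1
  have hsκ : s * s * κ = 1 := by rw [hs]; linear_combination hUκ
  set V : Matrix (Fin 4) (Fin 4) F := s • (v : Matrix (Fin 4) (Fin 4) F) with hV
  have hVG : Vᵀ * G2 * V = G2 := by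
    rw [hV, Matrix.transpose_smul, Matrix.smul_mul, Matrix.smul_mul, Matrix.mul_smul, hv, smul_smul, smul_smul,
      hsκ, one_smul]
  have hgd : (g : Matrix ι ι F).det = 1 :=
    congrArg Units.val (MonoidHom.mem_ker.mp ((omega_le_sl (Q := Q)) (hΩ hg)))
  have hUs : U.det = s ^ 3 := by
    rw [hs]; linear_combination (-U.det) * hUκ
  have hV1 : V.det = 1 := by
    have h1 : U.det ^ 4 * (v : Matrix (Fin 4) (Fin 4) F).det ^ 3 = 1 := by
      rw [← det_tens e, ← hgd, huv, cj_apply, Matrix.det_units_conj]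
    have hV3 : V.det ^ 3 = 1 := by
      rw [hV, Matrix.det_smul, Fintype.card_fin]
      rw [hUs] at h1
      linear_combination h1
    have hV2 : V.det * V.det = 1 := by
      have h3 := congrArg Matrix.det hVG
      rw [Matrix.det_mul, Matrix.det_mul, Matrix.det_transpose] at h3
      refine mul_right_cancel₀ h.herm2.det.ne_zero ?_
      linear_combination h3
    linear_combination hV3 - V.det * hV2
  have hVu : IsUnit V := (Matrix.isUnit_iff_isUnit_det _).mpr (by rw [hV1]; exact isUnit_one)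
  let B : Matrix (Fin 2) (Fin 2) F →ₗ[F] Matrix (Fin 2) (Fin 2) F :=
    (ψ.symm.toLinearMap.comp (Matrix.toLin' V)).comp ψ.toLinearMap
  have hB : ∀ X, ψ (B X) = V *ᵥ ψ X := fun X => by
    show ψ (ψ.symm (Matrix.toLin' V (ψ X))) = _
    rw [LinearEquiv.apply_symm_apply, Matrix.toLin'_apply]
  have hBd : ∀ X, (B X).det = X.det := fun X => by
    refine mul_left_cancel₀ h2 ?_
    rw [← hψd, ← hψd, hB, formOfGram_mulVec, RingHom.coe_id, Matrix.map_id, hVG]
  obtain ⟨α, β, hcase⟩ := det_similitude B (c := 1) one_ne_zero (fun X => by rw [hBd, one_mul])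
    (fun X Y hXY => ψ.injective (Matrix.mulVec_injective_iff_isUnit.2 hVu (by rw [← hB, ← hB, hXY])))
  set K : Matrix (Fin 4) (Fin 4) F := tens φ (α : Matrix (Fin 2) (Fin 2) F) (β : Matrix (Fin 2) (Fin 2) F)ᵀ with hK
  have hEK : ∀ a, E (K *ᵥ Pi.single a 1) =
      (α : Matrix (Fin 2) (Fin 2) F) * Matrix.single (φ a).1 (φ a).2 1 * (β : Matrix (Fin 2) (Fin 2) F) := by
    intro a
    ext i k
    show (K *ᵥ Pi.single a 1) (φ.symm (i, k)) = _
    rw [Matrix.mulVec_single_one, Matrix.col_apply, hK, tens_apply, Equiv.apply_symm_apply]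
    simp [Matrix.mul_apply, Matrix.single_apply, ite_and]
  rcases hcase with hcase | hcase
  swap
  · exfalso
    let σ : Equiv.Perm (Fin 4) := Equiv.swap 1 2
    have hσ : ∀ a, (φ (σ a)) = ((φ a).2, (φ a).1) := (by decide : ∀ a : Fin 4,
      (finProdFinEquiv (m := 2) (n := 2)).symm (Equiv.swap (1 : Fin 4) 2 a) =
        (((finProdFinEquiv (m := 2) (n := 2)).symm a).2, ((finProdFinEquiv (m := 2) (n := 2)).symm a).1))
    have hVΨ : V * Ψm = Ψm * K.submatrix id σ := by
      refine Matrix.ext_of_mulVec_single fun a => ?_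
      have hsub : K.submatrix id σ *ᵥ Pi.single a 1 = K *ᵥ Pi.single (σ a) 1 := by
        funext l; simp [Matrix.mulVec_single_one]
      rw [← Matrix.mulVec_mulVec, ← Matrix.mulVec_mulVec, hsub, hΨv, hΨv, hEK, hEs, ← hB, hcase, hσ,
        Matrix.transpose_single]
    have h1 := congrArg Matrix.det hVΨ
    rw [Matrix.det_mul, Matrix.det_mul, hV1, one_mul, Matrix.det_permute'] at h1
    have hab : (α : Matrix (Fin 2) (Fin 2) F).det * (β : Matrix (Fin 2) (Fin 2) F).det = 1 := by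
      have h3 := hBd 1
      rwa [hcase, Matrix.transpose_one, mul_one, Matrix.det_mul, Matrix.det_one] at h3
    have hσs : Equiv.Perm.sign σ = -1 := Equiv.Perm.sign_swap (by decide)
    rw [hσs, hK, det_tens, Matrix.det_transpose] at h1
    refine h2 ?_
    have h4 : ((α : Matrix (Fin 2) (Fin 2) F).det * (β : Matrix (Fin 2) (Fin 2) F).det) ^ 2 = -1 := by
      refine mul_left_cancel₀ ((Matrix.isUnit_iff_isUnit_det _).mp hΨu).ne_zero ?_
      push_cast at h1
      linear_combination h1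
    rw [hab] at h4
    linear_combination h4
  have hVΨ : V * Ψm = Ψm * K := by
    refine Matrix.ext_of_mulVec_single fun a => ?_
    rw [← Matrix.mulVec_mulVec, ← Matrix.mulVec_mulVec, hΨv, hΨv, hEK, hEs, ← hB, hcase]
  have hUu : IsUnit (tens φ6 (s⁻¹ • U) (β : Matrix (Fin 2) (Fin 2) F)ᵀ) := by
    rw [Matrix.isUnit_iff_isUnit_det, det_tens, Matrix.det_smul, Matrix.det_transpose]
    exact IsUnit.mul ((IsUnit.mk0 _ (mul_ne_zero (pow_ne_zero _ (inv_ne_zero hs0)) hUd)).pow _)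
      (((Matrix.isUnit_iff_isUnit_det _).mp β.isUnit).pow _)
  refine (mem_tensorProductSubgroup_iff e' (P * T) g).2 ⟨α, hUu.unit, ?_⟩
  rw [IsUnit.unit_spec, ← hre, ← cj_cj]
  rw [huv]
  congr 1
  rw [cj_apply, hT, ← hK, hTi, inv_one, Units.val_one, tens_mul, tens_mul, one_mul, mul_one, ← hVΨ, hV,
    Matrix.smul_mul, Matrix.smul_mul, mul_assoc, IsUnit.mul_val_inv, mul_one, tens_smul_left, tens_smul,
    smul_smul, inv_mul_cancel₀ hs0, one_smul]

end TStr

end Cfsg.Agent.Aschbacher
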