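/-
Maximal subgroups of orthogonal groups in dimensions 8, 10 and 12: the possible structures.
Main results: `EvenCase`, `even_structure`.
-/
import Cfsg.Agent.Lib.Aschbacher.EvenTensorThree
import Cfsg.Agent.Lib.Aschbacher.EvenCore
import Cfsg.Agent.Lib.Aschbacher.EvenEight
import Cfsg.Agent.Lib.Aschbacher.EvenFive
import Cfsg.Agent.Lib.Aschbacher.EvenSmall
import Cfsg.Agent.Lib.Aschbacher.EvenF2
import Cfsg.Agent.Lib.Aschbacher.OrthNotLe
import Cfsg.Agent.Lib.Aschbacher.SmallQ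

set_option autoImplicit false
set_option linter.unusedSectionVars false

namespace Cfsg.Agent.Aschbacher

open Matrix Module
open Cfsg.Agent.PrimeDim
open QuadraticMap (polar)

variable {ι : Type} [Fintype ι] [DecidableEq ι] {F : Type*} [Field F] [Fintype F]

/-- The stabiliser of an orthogonal decomposition into isometric members. -/
def DecompCase (Q : QuadraticForm F (ι → F)) (H : Subgroup (GL ι F)) : Prop :=
  ∃ (m t : ℕ) (D : Fin t → Submodule F (ι → F)), t * m = Fintype.card ι ∧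
    Geo.IsOrthogonalMDecomposition ⇑Q m D ∧ H = Geo.decompositionStabilizer D ⊓ Geo.omegaGL ⇑Q

/-- The stabiliser of two totally singular halves. -/
def HalvesCase (Q : QuadraticForm F (ι → F)) (H : Subgroup (GL ι F)) : Prop :=
  ∃ (m : ℕ) (D : Fin 2 → Submodule F (ι → F)), 2 * m = Fintype.card ι ∧ Even m ∧ Geo.IsPlusTypeOn ⇑Q ⊤ ∧
    Geo.IsMDecomposition m D ∧ (∀ i, Geo.IsTotallySingularQuad ⇑Q (D i)) ∧
    H = Geo.decompositionStabilizer D ⊓ Geo.omegaGL ⇑Q

/-- The normaliser of an extension field. -/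
def FieldCase (Q : QuadraticForm F (ι → F)) (H : Subgroup (GL ι F)) : Prop :=
  ∃ (r : ℕ) (K : Subalgebra F (Matrix ι ι F)), r.Prime ∧ r ∣ Fintype.card ι ∧
    (Fintype.card ι = 10 → r = 2) ∧ Geo.IsFieldSubalgebra r K ∧
    (Fintype.card ι ≠ 12 → ∀ k ∈ K, adj (RingHom.id F) (gramQ Q) k ∈ K) ∧
    H = Geo.subalgebraNormalizer K ⊓ Geo.omegaGL ⇑Q

/-- The stabiliser of a product of alternating forms in two and six variables. -/
def TwoSixCase (Q : QuadraticForm F (ι → F)) (H : Subgroup (GL ι F)) : Prop :=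
  3 ≤ Fintype.card F ∧ Geo.IsPlusTypeOn ⇑Q ⊤ ∧ ∃ (e : ι ≃ Fin 2 × Fin 6) (P : GL ι F)
    (f₁ : (Fin 2 → F) → (Fin 2 → F) → F) (f₂ : (Fin 6 → F) → (Fin 6 → F) → F),
    Geo.IsSymplecticForm f₁ ∧ Geo.IsSymplecticForm f₂ ∧ Geo.IsTensorFormStructure id (polar ⇑Q) f₁ f₂ e P ∧
    (∀ (x₁ : Fin 2 → F) (x₂ : Fin 6 → F),
      Q ((P : Matrix ι ι F) *ᵥ ((fun a : Fin 2 × Fin 6 => x₁ a.1 * x₂ a.2) ∘ e)) = 0) ∧
    H = Geo.tensorProductSubgroup 2 6 e P ⊓ Geo.omegaGL ⇑Q

/-- The stabiliser of a product of symmetric forms in three and four variables. -/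
def ThreeFourCase (Q : QuadraticForm F (ι → F)) (H : Subgroup (GL ι F)) : Prop :=
  Odd (Fintype.card F) ∧ 5 ≤ Fintype.card F ∧ ¬ Geo.IsPlusTypeOn ⇑Q ⊤ ∧
  ∃ (e : ι ≃ Fin 3 × Fin 4) (P : GL ι F) (f₁ : (Fin 3 → F) → (Fin 3 → F) → F)
    (f₂ : (Fin 4 → F) → (Fin 4 → F) → F), Geo.IsSymmetricForm f₁ ∧ Geo.IsSymmetricForm f₂ ∧
    ¬ Geo.IsPlusTypeOn (fun v : Fin 4 → F => f₂ v v) ⊤ ∧
    Geo.IsTensorFormStructure id (polar ⇑Q) f₁ f₂ e P ∧
    H = Geo.tensorProductSubgroup 3 4 e P ⊓ Geo.omegaGL ⇑Q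

/-- A subfield group. -/
def SubfieldCase (Q : QuadraticForm F (ι → F)) (H : Subgroup (GL ι F)) : Prop :=
  ∃ (F₀ : Subfield F) (r : ℕ) (P : GL ι F) (ζ : F), r.Prime ∧ (¬ Geo.IsPlusTypeOn ⇑Q ⊤ → Odd r) ∧
    Fintype.card F = Nat.card F₀ ^ r ∧ ζ ≠ 0 ∧
    Geo.IsQuadFormRationalStructure (fun v => ζ * Q v) F₀ P ∧
    H = Geo.subfieldSubgroup F₀ P ⊓ Geo.omegaGL ⇑Q

/-- The structures of an irreducible maximal subgroup. -/
def EvenCase (Q : QuadraticForm F (ι → F)) (H : Subgroup (GL ι F)) : Prop :=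
  DecompCase Q H ∨ HalvesCase Q H ∨ FieldCase Q H ∨ TwoSixCase Q H ∨ ThreeFourCase Q H ∨ SubfieldCase Q H ∨
    (Fintype.card ι = 8 ∧ Geo.IsPlusTypeOn ⇑Q ⊤) ∨ Geo.InOrthogonalResidualClass H

variable {Q : QuadraticForm F (ι → F)}

section

variable (hQ : Q.polarBilin.Nondegenerate)
  (hn : Fintype.card ι = 8 ∨ Fintype.card ι = 10 ∨ Fintype.card ι = 12)
  {H : Subgroup (GL ι F)} (hH : Geo.IsMaximalIn (Geo.omegaGL ⇑Q) H)
include hQ hn hH

theorem subfield_case {F₁ : Subfield F} {r : ℕ} {P : GL ι F} {ζ : F} (hr : r.Prime)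
    (hc : Fintype.card F = Nat.card F₁ ^ r) (hζ : ζ ≠ 0)
    (hst : Geo.IsQuadFormRationalStructure (fun v => ζ * Q v) F₁ P)
    (hle : H ≤ Geo.subfieldSubgroup F₁ P) : SubfieldCase Q H := by
  obtain ⟨k, hk⟩ : 2 ∣ Fintype.card ι := by omega
  refine ⟨F₁, r, P, ζ, hr, fun hm => ?_, hc, hζ, hst,
    eq_inf_of_le hH hle (not_omega_le_subfield hQ (by omega) hr.two_le hc P)⟩
  rcases hr.eq_two_or_odd' with rfl | h
  · exact absurd (plus_of_rational_two hQ hk hc P hζ hst) hm
  · exact h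

theorem decomp_case {m t : ℕ} {D : Fin t → Submodule F (ι → F)}
    (hirr : Geo.ActsIrreducibly (Geo.matrixSet H))
    (hD : Geo.IsNondegenerateMDecomposition (polar ⇑Q) m D) (htm : t * m = Fintype.card ι)
    (hle : H ≤ Geo.decompositionStabilizer D) : DecompCase Q H :=
  ⟨m, t, D, htm, decomp_outcome hQ hn hH hirr hD htm hle⟩

theorem fdecomp_case (hirr : Geo.ActsIrreducibly (Geo.matrixSet H))
    (h : FDecomp (RingHom.id F) (gramQ Q) (H ⊔ Geo.scalars ι F)) : EvenCase Q H := by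
  obtain ⟨m, t, D, htm, hle, hD⟩ := h
  have hHD : H ≤ Geo.decompositionStabilizer D := le_sup_left.trans hle
  rw [← polar_eq_gram] at hD
  rcases hD with hD | ⟨rfl, hD, hts⟩
  · exact .inl (decomp_case hQ hn hH hirr hD htm hHD)
  · obtain ⟨hsing, hev, hplus⟩ := halves_singular hQ (k := m) htm.symm (by omega) hH.1.le hirr hD hts hHD
    exact .inr (.inl ⟨m, D, htm, hev, hplus, hD, hsing, eq_inf_of_le hH hHD
      (not_omega_le_mdecomp hQ (by omega) hD (size_ok hn le_rfl htm Fintype.one_lt_card))⟩)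

theorem normalizer_eq {r : ℕ} (hr : r.Prime) {K : Subalgebra F (Matrix ι ι F)} (hK : Geo.IsFieldSubalgebra r K)
    (hle : H ≤ Geo.subalgebraNormalizer K) : H = Geo.subalgebraNormalizer K ⊓ Geo.omegaGL ⇑Q :=
  eq_inf_of_le hH hle (not_omega_le_field hQ (by omega) hr.two_le hK)

theorem ffield_case (hirr : Geo.ActsIrreducibly (Geo.matrixSet H))
    (h : FField (RingHom.id F) (gramQ Q) (H ⊔ Geo.scalars ι F)) : EvenCase Q H := by
  obtain ⟨r, K, hr, hrn, hK, hadj, hle⟩ := h
  have hHK : H ≤ Geo.subalgebraNormalizer K := le_sup_left.trans hle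
  by_cases h10 : Fintype.card ι = 10 → r = 2
  · exact .inr (.inr (.inl ⟨r, K, hr, hrn, h10, hK, fun _ => hadj, normalizer_eq hQ hn hH hr hK hHK⟩))
  obtain ⟨hten, hr2⟩ := Classical.not_imp.1 h10
  have hr5 : r = 5 := by
    rw [hten] at hrn
    have hle' := Nat.le_of_dvd (by norm_num) hrn
    have := hr.two_le
    interval_cases r <;> first | rfl | omega | (norm_num at hrn; done) | (norm_num at hr; done)
  subst hr5
  rcases field_half hQ hr ⟨2, rfl⟩ hten hH.1.le hirr hK hadj hHK with h' | ⟨K', hK', hadj', hle'⟩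
  · exact fdecomp_case hQ hn hH hirr h'
  · exact .inr (.inr (.inl ⟨2, K', Nat.prime_two, by omega, fun _ => rfl, hK', fun _ => hadj',
      normalizer_eq hQ hn hH Nat.prime_two hK' hle'⟩))

theorem two_symm_case (h2 : (2 : F) ≠ 0) (hirr : Geo.ActsIrreducibly (Geo.matrixSet H)) {t : ℕ}
    {e : ι ≃ Fin 2 × Fin t} {P : GL ι F} {G1 : Matrix (Fin 2) (Fin 2) F} {G2 : Matrix (Fin t) (Fin t) F}
    (h : TStr Q H e P G1 G2) (ht : 0 < t) (hs : G1ᵀ = G1) : EvenCase Q H := by
  rcases h.two_symm h2 ht hs with h' | h'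
  · exact ffield_case hQ hn hH hirr h'
  · exact fdecomp_case hQ hn hH hirr h'

theorem two_six_alt (hplus : Geo.IsPlusTypeOn ⇑Q ⊤) {e : ι ≃ Fin 2 × Fin 6} {P : GL ι F}
    {G1 : Matrix (Fin 2) (Fin 2) F} {G2 : Matrix (Fin 6) (Fin 6) F} (h : TStr Q H e P G1 G2)
    (hs1 : G1ᵀ = -G1) (hs2 : G2ᵀ = -G2) (ha1 : ∀ a, a ⬝ᵥ G1 *ᵥ a = 0) (ha2 : ∀ a, a ⬝ᵥ G2 *ᵥ a = 0)
    (hpure : ∀ a y, Q (Transvect.tp e P a y) = 0) : EvenCase Q H := by
  classical
  have : Nonempty ι := h.ne
  have h12 : Fintype.card ι = 12 := h.card_eq.symm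
  by_cases hq : 3 ≤ Fintype.card F
  · refine .inr (.inr (.inr (.inl ⟨hq, hplus, e, P, Geo.formOfGram (RingHom.id F) G1,
      Geo.formOfGram (RingHom.id F) G2, symplecticForm_of_gram h.herm1.det hs1 ha1,
      symplecticForm_of_gram h.herm2.det hs2 ha2, ?_, fun x y => ?_,
      eq_inf_of_le hH h.le (not_omega_le_tensor hQ (by omega) (by omega) (by omega) (by omega) e P)⟩)))
    · refine tensorFormStructure_of_gram (Φ := gramQ Q) (RingHom.id F) id (fun _ => rfl) (polar_eq_gram Q) e P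
        (c := 1) one_ne_zero G1 G2 ?_
      rw [one_smul, RingHom.coe_id, Matrix.map_id]
      exact h.gram
    · exact hpure x y
  · have hq2 : Fintype.card F = 2 := by have := Fintype.one_lt_card (α := F); omega
    have h1 := tensor_two_not_noField (H := H) hq2 (t := 6) (by omega) (by omega) e P h.le
    simp only [NoField, not_forall, not_not, exists_prop] at h1
    obtain ⟨r, K, hr, hrn, hK, hle⟩ := h1
    exact .inr (.inr (.inl ⟨r, K, hr, hrn, fun h10 => by omega, hK, fun h' => absurd h12 h',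
      normalizer_eq hQ hn hH hr hK hle⟩))

theorem two_case (hirr : Geo.ActsIrreducibly (Geo.matrixSet H)) {t : ℕ} (ht : 4 ≤ t)
    {e : ι ≃ Fin 2 × Fin t} {P : GL ι F} {G1 : Matrix (Fin 2) (Fin 2) F} {G2 : Matrix (Fin t) (Fin t) F}
    (h : TStr Q H e P G1 G2) : EvenCase Q H := by
  classical
  have hcard := h.card_eq
  by_cases h2 : (2 : F) = 0
  · have hev : Even t := h.swap.even_of_alt (h.swap.alt_left h2 (by omega))
    have hpure : ∀ a y, Q (Transvect.tp e P a y) = 0 := fun a y =>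
      h.pure_zero h2 le_rfl (by omega) (by omega) a y
    have hplus := h.plus_of_pure rfl hpure
    rcases (show t = 4 ∨ t = 6 by rcases hev with ⟨j, rfl⟩; omega) with rfl | rfl
    · exact .inr (.inr (.inr (.inr (.inr (.inr (.inl ⟨hcard.symm, hplus⟩))))))
    · have hneg : ∀ {d : ℕ} (M : Matrix (Fin d) (Fin d) F), -M = M := fun M => by
        ext i j
        rw [Matrix.neg_apply]
        linear_combination (-(M i j)) * h2
      obtain ⟨hs1, hs2⟩ : G1ᵀ = -G1 ∧ G2ᵀ = -G2 := by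
        rcases h.symm_or_skew with r | r
        · exact ⟨by rw [hneg]; exact r.1, by rw [hneg]; exact r.2⟩
        · exact r
      exact two_six_alt hQ hn hH hplus h hs1 hs2 (h.alt_left h2 le_rfl) (h.swap.alt_left h2 (by omega)) hpure
  rcases h.symm_or_skew with ⟨hs, -⟩ | ⟨hs1, hs2⟩
  · exact two_symm_case hQ hn hH h2 hirr h (by omega) hs
  have ha1 := skew_alternating h2 hs1
  have ha2 := skew_alternating h2 hs2
  have hev : Even t := h.swap.even_of_alt ha2
  have hplus := h.plus_of_even h2 even_two hev (by omega) (by omega)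
  rcases (show t = 4 ∨ t = 6 by rcases hev with ⟨j, rfl⟩; omega) with rfl | rfl
  · exact .inr (.inr (.inr (.inr (.inr (.inr (.inl ⟨hcard.symm, hplus⟩))))))
  · refine two_six_alt hQ hn hH hplus h hs1 hs2 ha1 ha2 fun a y => ?_
    have h1 := h.Q_tp a y
    rw [ha1, zero_mul] at h1
    exact (mul_eq_zero.1 h1).resolve_left h2

theorem three_case (hirr : Geo.ActsIrreducibly (Geo.matrixSet H)) {e : ι ≃ Fin 3 × Fin 4} {P : GL ι F}
    {G1 : Matrix (Fin 3) (Fin 3) F} {G2 : Matrix (Fin 4) (Fin 4) F} (h : TStr Q H e P G1 G2) :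
    EvenCase Q H := by
  classical
  have h12 : Fintype.card ι = 12 := h.card_eq.symm
  have h2 : (2 : F) ≠ 0 := fun h2 => absurd (h.even_of_alt (h.alt_left h2 (by omega))) (by decide)
  by_cases hplus : Geo.IsPlusTypeOn ⇑Q ⊤
  · obtain ⟨e', P', G1', G2', h', hs1, hs2⟩ := h.three_plus h2 hH.1.le hplus
    refine two_six_alt hQ hn hH hplus h' hs1 hs2 (skew_alternating h2 hs1) (skew_alternating h2 hs2)
      fun a y => ?_
    have h1 := h'.Q_tp a y
    rw [skew_alternating h2 hs1, zero_mul] at h1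
    exact (mul_eq_zero.1 h1).resolve_left h2
  by_cases hq : 5 ≤ Fintype.card F
  · obtain ⟨hs1, hs2⟩ := h.three_symm h2
    refine .inr (.inr (.inr (.inr (.inl ⟨odd_of_two_ne_zero h2, hq, hplus, e, P,
      Geo.formOfGram (RingHom.id F) G1, Geo.formOfGram (RingHom.id F) G2,
      symmetricForm_of_gram h.herm1.det hs1, symmetricForm_of_gram h.herm2.det hs2, ?_, ?_,
      eq_inf_of_le hH h.le (not_omega_le_tensor hQ (by omega) (by omega) (by omega) (by omega) e P)⟩))))
    · rw [form_plus_iff h2 h.herm2.det hs2]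
      intro hsq
      refine hplus ((h.disc h2 (k := 6) (by omega) h12).2 ?_)
      rw [show (-1 : F) ^ 6 * (G1.det ^ 4 * G2.det ^ 3) = (G1.det ^ 2 * G2.det) * (G1.det ^ 2 * G2.det) * G2.det by
        ring]
      exact (IsSquare.mul_self _).mul hsq
    · refine tensorFormStructure_of_gram (Φ := gramQ Q) (RingHom.id F) id (fun _ => rfl) (polar_eq_gram Q) e P
        (c := 1) one_ne_zero G1 G2 ?_
      rw [one_smul, RingHom.coe_id, Matrix.map_id]
      exact h.gram
  · have h3 : Fintype.card F = 3 := by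
      have := Fintype.one_lt_card (α := F)
      rcases odd_of_two_ne_zero h2 with ⟨j, hj⟩
      omega
    obtain ⟨D, hD, hle⟩ := h.three_frame h3 h2
    exact .inl (decomp_case hQ hn hH hirr hD h12.symm hle)

theorem tensor_case (hirr : Geo.ActsIrreducibly (Geo.matrixSet H)) {d t : ℕ} (hd : 2 ≤ d) (hdt : d ≤ t)
    (h : FTensor (RingHom.id F) (gramQ Q) (H ⊔ Geo.scalars ι F) d t) : EvenCase Q H := by
  classical
  have : Nonempty ι := Fintype.card_pos_iff.mp (by omega)
  have hdt' := h.1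
  have h2d : d = 2 ∨ (d = 3 ∧ t = 4) := by
    have h1 : d * d ≤ d * t := Nat.mul_le_mul_left _ hdt
    have hd3 : d ≤ 3 := by
      by_contra hc
      have : 4 * 4 ≤ d * d := Nat.mul_le_mul (by omega) (by omega)
      omega
    interval_cases d <;> omega
  rcases h2d with rfl | ⟨rfl, rfl⟩
  · let e : ι ≃ Fin 2 × Fin t := Fintype.equivOfCardEq (by simp [hdt'])
    obtain ⟨P, G1, G2, hS⟩ := TStr.of_ftensor hQ (le_iso hH.1.le) hirr h e
    exact two_case hQ hn hH hirr (by omega) hS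
  · let e : ι ≃ Fin 3 × Fin 4 := Fintype.equivOfCardEq (by simp [← hdt'])
    obtain ⟨P, G1, G2, hS⟩ := TStr.of_ftensor hQ (le_iso hH.1.le) hirr h e
    exact three_case hQ hn hH hirr hS

/-- The structures of an irreducible maximal subgroup. -/
theorem even_structure (hirr : Geo.ActsIrreducibly (Geo.matrixSet H)) : EvenCase Q H := by
  classical
  have : Nonempty ι := Fintype.card_pos_iff.mp (by omega)
  have hI := le_iso hH.1.le
  rcases form_master_data (by omega) (herm_gramQ hQ) (sim_gramQ hI) le_sup_right (irred_sup_scalars hirr) with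
    h | h | ⟨d, t, hd, ht, h⟩ | ⟨-, d, k, hd, hk, -, hT⟩ | ⟨hgood, r, m, z, p, f, R, hD⟩ | ⟨-, P, hP⟩
  · exact fdecomp_case hQ hn hH hirr h
  · exact ffield_case hQ hn hH hirr h
  · rcases le_total d t with hdt | hdt
    · exact tensor_case hQ hn hH hirr hd hdt h
    · exact tensor_case hQ hn hH hirr ht hdt h.swap
  · obtain ⟨hcard, -⟩ := hT.wreath (by omega) (by omega)
    have hk3 : k ≤ 3 := by
      by_contra hc
      have : 2 ^ 4 ≤ d ^ k := (Nat.pow_le_pow_left hd 4).trans (Nat.pow_le_pow_right (by omega) (by omega))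
      omega
    obtain ⟨rfl, rfl⟩ : d = 2 ∧ k = 3 := by
      have hd3 : d ≤ 3 := by
        by_contra hc
        have : 4 ^ 2 ≤ d ^ k := (Nat.pow_le_pow_left (show 4 ≤ d by omega) 2).trans
          (Nat.pow_le_pow_right (by omega) hk)
        omega
      interval_cases d <;> interval_cases k <;> norm_num at hcard ⊢ <;> omega
    exact .inr (.inr (.inr (.inr (.inr (.inr (.inl ⟨hcard.symm, ti_plus hQ hcard.symm hI hT⟩))))))
  · have h8 : Fintype.card ι = 8 := by
      have hc := hD.card_eq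
      have hr := hD.prime
      rcases hn with h | h | h
      · exact h
      all_goals
        exfalso
        rw [h] at hc
        have hm1 := hD.pos
        have hr2 := hr.two_le
        have hm4 : m < 4 := by
          by_contra hcon
          have : 2 ^ 4 ≤ r ^ m := (Nat.pow_le_pow_left hr2 4).trans (Nat.pow_le_pow_right (by omega) (by omega))
          omega
        have hr12 : r ≤ 12 := (Nat.le_self_pow (show m ≠ 0 by omega) r).trans (by omega)
        interval_cases m <;> interval_cases r <;> first | omega | (norm_num at hr; done) | (norm_num at hc; done)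
    exact .inr (.inr (.inr (.inr (.inr (.inr (.inl ⟨h8, sympData_plus hQ h8 hI hgood hD⟩))))))
  · obtain ⟨k, hk⟩ : 2 ∣ Fintype.card ι := by omega
    rcases even_core hQ (k := k) (by omega) hk hI (core_mono hP) with
      ⟨F₁, r, B, ζ, hr, hc, hζ, hst, -, hle⟩ | h
    · exact .inr (.inr (.inr (.inr (.inr (.inl (subfield_case hQ hn hH hr hc hζ hst hle))))))
    · exact .inr (.inr (.inr (.inr (.inr (.inr (.inr h))))))

end

end Cfsg.Agent.Aschbacher
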