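/-
The decompositions stabilised by maximal subgroups of orthogonal groups in dimensions 10 and 12.
Main results: `LinesCase`, `lines_case`, `planes_case`, `decomp_ten`, `decomp_twelve`, `pair_decomp`.
-/
import Cfsg.Agent.Lib.Aschbacher.EvenMain
import Cfsg.Agent.Lib.Orth.DecompMain

set_option autoImplicit false
set_option linter.unusedSectionVars false

namespace Cfsg.Agent.Aschbacher

open Matrix Module
open Cfsg.Agent.PrimeDim
open QuadraticMap (polar)

variable {ι : Type} [Fintype ι] [DecidableEq ι] {F : Type*} [Field F] [Fintype F]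

/-- The stabiliser of an orthogonal frame over a prime field. -/
def LinesCase (Q : QuadraticForm F (ι → F)) (H : Subgroup (GL ι F)) (t : ℕ) : Prop :=
  ∃ p : ℕ, p.Prime ∧ Odd p ∧ Fintype.card F = p ∧
    (Geo.IsPlusTypeOn ⇑Q ⊤ ↔ IsSquare ((-1 : F) ^ (Fintype.card ι / 2))) ∧
    ∃ D : Fin t → Submodule F (ι → F), Geo.IsOrthogonalMDecomposition ⇑Q 1 D ∧
      H = Geo.decompositionStabilizer D ⊓ Geo.omegaGL ⇑Q

variable {Q : QuadraticForm F (ι → F)}

variable (hQ : Q.polarBilin.Nondegenerate)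
  (hn : Fintype.card ι = 8 ∨ Fintype.card ι = 10 ∨ Fintype.card ι = 12)
  {H : Subgroup (GL ι F)} (hH : Geo.IsMaximalIn (Geo.omegaGL ⇑Q) H)
  (hirr : Geo.ActsIrreducibly (Geo.matrixSet H))
include hQ hn hH hirr

theorem lines_case {t : ℕ} {D : Fin t → Submodule F (ι → F)} (ht : t = Fintype.card ι)
    (hD : Geo.IsOrthogonalMDecomposition ⇑Q 1 D) (hle : H ≤ Geo.decompositionStabilizer D) :
    LinesCase Q H t ∨ SubfieldCase Q H := by
  obtain ⟨k, hk⟩ : 2 ∣ Fintype.card ι := by omega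
  by_cases hp : (Fintype.card F).Prime
  · have h2 := (lines_frame hD).1
    refine .inl ⟨_, hp, odd_of_two_ne_zero h2, rfl, ?_, D, hD,
      (decomp_outcome hQ hn hH hirr hD.decomp (by omega) hle).2⟩
    rw [show Fintype.card ι / 2 = k by omega]
    exact lines_disc hQ (by omega) hk ht hD
  · obtain ⟨F₁, r, P, ζ, hr, hc, hζ, hst, hle'⟩ := lines_subfield hQ ht hD hp (le_iso hH.1.le) hle
    exact .inr (subfield_case hQ hn hH hr hc hζ hst hle')

theorem planes_case {t : ℕ} {D : Fin t → Submodule F (ι → F)} (hcard : Fintype.card ι = t * 2)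
    (hD : Geo.IsOrthogonalMDecomposition ⇑Q 2 D) (heq : H = Geo.decompositionStabilizer D ⊓ Geo.omegaGL ⇑Q) :
    ((∀ i, Geo.IsPlusTypeOn ⇑Q (D i)) ∧ 7 ≤ Fintype.card F) ∨
      ((∀ i, ¬ Geo.IsPlusTypeOn ⇑Q (D i)) ∧ Fintype.card F ≠ 3) ∨ LinesCase Q H (t * 2) ∨ SubfieldCase Q H := by
  have hI := le_iso hH.1.le
  have hle : H ≤ Geo.decompositionStabilizer D := heq.le.trans inf_le_left
  have hlines : (2 : F) ≠ 0 → (∀ i, ∃ a ∈ D i, ∃ b ∈ D i, Q a = 1 ∧ Q b = 1 ∧ polar ⇑Q a b = 0 ∧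
      ∀ x ∈ D i, Q x = 1 → x ∈ Submodule.span F {a} ∨ x ∈ Submodule.span F {b}) →
      LinesCase Q H (t * 2) ∨ SubfieldCase Q H := fun h2 hab => by
    obtain ⟨E, hE, hleE⟩ := planes_to_lines hQ h2 hD hcard hI hle hab
    exact lines_case hQ hn hH hirr hcard.symm
      (decomp_outcome hQ hn hH hirr hE (by omega) hleE).1 hleE
  by_cases hp : ∀ i, Geo.IsPlusTypeOn ⇑Q (D i)
  · by_cases h7 : 7 ≤ Fintype.card F
    · exact .inl ⟨hp, h7⟩
    have h1 := Fintype.one_lt_card (α := F)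
    have h6 := Orth.card_ne_six (F := F)
    rcases (show Fintype.card F ≤ 3 ∨ Fintype.card F = 4 ∨ Fintype.card F = 5 by omega) with hq | hq | hq
    · exact (plus_planes_false hQ hq hD hcard hp hI hirr hle).elim
    · obtain ⟨F₁, P, hc, hst, hle'⟩ := planes_four_subfield hQ hq hD hcard hp hI hle
      exact .inr (.inr (.inr (subfield_case hQ hn hH Nat.prime_two hc one_ne_zero hst hle')))
    · have h2 : (2 : F) ≠ 0 := Orth.two_ne_zero_of_odd_card (by rw [hq]; decide)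
      exact .inr (.inr (hlines h2 fun i => plus_five_frame hQ hq (member_nd hD i)
        (hD.decomp.decomp.finrank_eq i) (hp i)))
  · have hm := Orth.not_plus_members hD hp
    by_cases hq : Fintype.card F = 3
    · have h2 : (2 : F) ≠ 0 := Orth.two_ne_zero_of_odd_card (by rw [hq]; decide)
      exact .inr (.inr (hlines h2 fun i => minus_three_frame hQ hq (member_nd hD i)
        (hD.decomp.decomp.finrank_eq i) (hm i)))
    · exact .inr (.inl ⟨hm, hq⟩)

/-- The decompositions in dimension ten. -/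
theorem decomp_ten (h10 : Fintype.card ι = 10) (h : DecompCase Q H) :
    LinesCase Q H 10 ∨
      ((Geo.IsPlusTypeOn ⇑Q ⊤ → 7 ≤ Fintype.card F) ∧ (¬ Geo.IsPlusTypeOn ⇑Q ⊤ → Fintype.card F ≠ 3) ∧
        ∃ D : Fin 5 → Submodule F (ι → F), Geo.IsOrthogonalMDecomposition ⇑Q 2 D ∧
          H = Geo.decompositionStabilizer D ⊓ Geo.omegaGL ⇑Q) ∨
      ((2 : F) ≠ 0 ∧ (Geo.IsPlusTypeOn ⇑Q ⊤ ↔ IsSquare (-1 : F)) ∧
        ∃ D : Fin 2 → Submodule F (ι → F), Geo.IsOrthogonalMDecomposition ⇑Q 5 D ∧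
          H = Geo.decompositionStabilizer D ⊓ Geo.omegaGL ⇑Q) ∨ SubfieldCase Q H := by
  obtain ⟨m, t, D, htm, hD, heq⟩ := h
  have ht2 := hD.decomp.decomp.two_le
  have hm1 := hD.decomp.decomp.pos
  rw [h10] at htm
  have ht : t ≤ 10 := by
    calc t = t * 1 := (mul_one t).symm
      _ ≤ t * m := Nat.mul_le_mul_left _ hm1
      _ = 10 := htm
  rcases (show (t = 2 ∧ m = 5) ∨ (t = 5 ∧ m = 2) ∨ (t = 10 ∧ m = 1) by interval_cases t <;> omega) with
    ⟨rfl, rfl⟩ | ⟨rfl, rfl⟩ | ⟨rfl, rfl⟩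
  · have h2 : (2 : F) ≠ 0 := fun h2 => by
      have := nd_even h2 (member_nd hD 0)
      rw [hD.decomp.decomp.finrank_eq] at this
      exact absurd this (by decide)
    refine .inr (.inr (.inl ⟨h2, ?_, D, hD, heq⟩))
    rw [two_halves_disc hQ h2 (k := 5) (by decide) (by omega) hD.decomp]
    simp [hD.isometric 0 1]
  · rcases planes_case hQ hn hH hirr (t := 5) (by omega) hD heq with ⟨hp, h7⟩ | ⟨hm, h3⟩ | h | h
    · have hplus := (decomp_type hQ hD even_two 0).2 (.inr (hp 0))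
      exact .inr (.inl ⟨fun _ => h7, fun hc => absurd hplus hc, D, hD, heq⟩)
    · refine .inr (.inl ⟨fun hc => ?_, fun _ => h3, D, hD, heq⟩)
      rcases (decomp_type hQ hD even_two 0).1 hc with h | h
      · exact absurd h (by decide)
      · exact absurd h (hm 0)
    · exact .inl h
    · exact .inr (.inr (.inr h))
  · rcases lines_case hQ hn hH hirr (t := 10) h10.symm hD (heq.le.trans inf_le_left) with h | h
    · exact .inl h
    · exact .inr (.inr (.inr h))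

/-- The decompositions in dimension twelve. -/
theorem decomp_twelve (h12 : Fintype.card ι = 12) (h : DecompCase Q H) :
    (Geo.IsPlusTypeOn ⇑Q ⊤ ∧ LinesCase Q H 12) ∨
    (Geo.IsPlusTypeOn ⇑Q ⊤ ∧ 7 ≤ Fintype.card F ∧ ∃ D : Fin 6 → Submodule F (ι → F),
      Geo.IsOrthogonalMDecomposition ⇑Q 2 D ∧ (∀ i, Geo.IsPlusTypeOn ⇑Q (D i)) ∧
      H = Geo.decompositionStabilizer D ⊓ Geo.omegaGL ⇑Q) ∨
    (Geo.IsPlusTypeOn ⇑Q ⊤ ∧ Fintype.card F ≠ 3 ∧ ∃ D : Fin 6 → Submodule F (ι → F),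
      Geo.IsOrthogonalMDecomposition ⇑Q 2 D ∧ (∀ i, ¬ Geo.IsPlusTypeOn ⇑Q (D i)) ∧
      H = Geo.decompositionStabilizer D ⊓ Geo.omegaGL ⇑Q) ∨
    (Geo.IsPlusTypeOn ⇑Q ⊤ ∧ Odd (Fintype.card F) ∧ 5 ≤ Fintype.card F ∧ ∃ D : Fin 4 → Submodule F (ι → F),
      Geo.IsOrthogonalMDecomposition ⇑Q 3 D ∧ H = Geo.decompositionStabilizer D ⊓ Geo.omegaGL ⇑Q) ∨
    ((Geo.IsPlusTypeOn ⇑Q ⊤ → 3 ≤ Fintype.card F) ∧ ∃ D : Fin 3 → Submodule F (ι → F),
      Geo.IsOrthogonalMDecomposition ⇑Q 4 D ∧ (¬ Geo.IsPlusTypeOn ⇑Q ⊤ → ∀ i, ¬ Geo.IsPlusTypeOn ⇑Q (D i)) ∧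
      H = Geo.decompositionStabilizer D ⊓ Geo.omegaGL ⇑Q) ∨
    (Geo.IsPlusTypeOn ⇑Q ⊤ ∧ ∃ D : Fin 2 → Submodule F (ι → F), Geo.IsOrthogonalMDecomposition ⇑Q 6 D ∧
      H = Geo.decompositionStabilizer D ⊓ Geo.omegaGL ⇑Q) ∨
    SubfieldCase Q H := by
  classical
  obtain ⟨m, t, D, htm, hD, heq⟩ := h
  have ht2 := hD.decomp.decomp.two_le
  have hm1 := hD.decomp.decomp.pos
  rw [h12] at htm
  have ht : t ≤ 12 := by
    calc t = t * 1 := (mul_one t).symm
      _ ≤ t * m := Nat.mul_le_mul_left _ hm1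
      _ = 12 := htm
  have hplus1 : ∀ {l : ℕ}, LinesCase Q H l → Geo.IsPlusTypeOn ⇑Q ⊤ := fun ⟨p, _, _, _, hp, _⟩ => by
    rw [hp, h12]
    exact ⟨1, by norm_num⟩
  have hplanes : ∀ {D : Fin 6 → Submodule F (ι → F)}, Geo.IsOrthogonalMDecomposition ⇑Q 2 D →
      H = Geo.decompositionStabilizer D ⊓ Geo.omegaGL ⇑Q →
      (Geo.IsPlusTypeOn ⇑Q ⊤ ∧ LinesCase Q H 12) ∨
      (Geo.IsPlusTypeOn ⇑Q ⊤ ∧ 7 ≤ Fintype.card F ∧ ∃ D : Fin 6 → Submodule F (ι → F),
        Geo.IsOrthogonalMDecomposition ⇑Q 2 D ∧ (∀ i, Geo.IsPlusTypeOn ⇑Q (D i)) ∧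
        H = Geo.decompositionStabilizer D ⊓ Geo.omegaGL ⇑Q) ∨
      (Geo.IsPlusTypeOn ⇑Q ⊤ ∧ Fintype.card F ≠ 3 ∧ ∃ D : Fin 6 → Submodule F (ι → F),
        Geo.IsOrthogonalMDecomposition ⇑Q 2 D ∧ (∀ i, ¬ Geo.IsPlusTypeOn ⇑Q (D i)) ∧
        H = Geo.decompositionStabilizer D ⊓ Geo.omegaGL ⇑Q) ∨ SubfieldCase Q H := by
    intro D hD heq
    have hplus := (decomp_type hQ hD even_two 0).2 (.inl (by decide))
    rcases planes_case hQ hn hH hirr (t := 6) (by omega) hD heq with ⟨hp, h7⟩ | ⟨hm, h3⟩ | h | h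
    · exact .inr (.inl ⟨hplus, h7, D, hD, hp, heq⟩)
    · exact .inr (.inr (.inl ⟨hplus, h3, D, hD, hm, heq⟩))
    · exact .inl ⟨hplus, h⟩
    · exact .inr (.inr (.inr h))
  have hlines : ∀ {l : ℕ}, LinesCase Q H l → l = 12 → (Geo.IsPlusTypeOn ⇑Q ⊤ ∧ LinesCase Q H 12) :=
    fun {l} h hl => ⟨hplus1 h, hl ▸ h⟩
  rcases (show (t = 2 ∧ m = 6) ∨ (t = 3 ∧ m = 4) ∨ (t = 4 ∧ m = 3) ∨ (t = 6 ∧ m = 2) ∨ (t = 12 ∧ m = 1) by
    interval_cases t <;> omega) with ⟨rfl, rfl⟩ | ⟨rfl, rfl⟩ | ⟨rfl, rfl⟩ | ⟨rfl, rfl⟩ | ⟨rfl, rfl⟩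
  · exact .inr (.inr (.inr (.inr (.inr (.inl
      ⟨(decomp_type hQ hD (by decide) 0).2 (.inl (by decide)), D, hD, heq⟩)))))
  · by_cases hq : Geo.IsPlusTypeOn ⇑Q ⊤ → 3 ≤ Fintype.card F
    · exact .inr (.inr (.inr (.inr (.inl ⟨hq, D, hD,
        fun hm i hi => hm ((decomp_type hQ hD (by decide) i).2 (.inr hi)), heq⟩))))
    obtain ⟨hplus, hq⟩ := Classical.not_imp.1 hq
    have hq2 : Fintype.card F = 2 := by have := Fintype.one_lt_card (α := F); omega
    have hmem : ∀ i, Geo.IsPlusTypeOn ⇑Q (D i) := fun i =>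
      ((decomp_type hQ hD (by decide) i).1 hplus).resolve_left (by decide)
    obtain ⟨E, hE, hleE, -⟩ := four_spaces_two hQ hq2 hD (by omega) hmem (le_iso hH.1.le)
      (heq.le.trans inf_le_left)
    obtain ⟨hE', heqE⟩ := decomp_outcome hQ hn hH hirr hE (by omega) hleE
    rcases hplanes (D := E) hE' heqE with h | h | h | h
    · exact .inl h
    · exact .inr (.inl h)
    · exact .inr (.inr (.inl h))
    · exact .inr (.inr (.inr (.inr (.inr (.inr h)))))
  · have h2 : (2 : F) ≠ 0 := fun h2 => by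
      have := nd_even h2 (member_nd hD 0)
      rw [hD.decomp.decomp.finrank_eq] at this
      exact absurd this (by decide)
    have hodd := odd_of_two_ne_zero h2
    have hplus : Geo.IsPlusTypeOn ⇑Q ⊤ := plus_of_four hD (by omega)
    by_cases hq : 5 ≤ Fintype.card F
    · exact .inr (.inr (.inr (.inl ⟨hplus, hodd, hq, D, hD, heq⟩)))
    have hq3 : Fintype.card F = 3 := by
      have := Fintype.one_lt_card (α := F)
      rcases hodd with ⟨j, hj⟩
      omega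
    obtain ⟨N, D', hN, hD', hle'⟩ := exists_frame_three hQ hq3 h2 hD
    have hleD' : H ≤ Geo.decompositionStabilizer D' :=
      (le_inf (heq.le.trans inf_le_left) (le_iso hH.1.le)).trans hle'
    rcases lines_case hQ hn hH hirr hN hD' hleD' with h | h
    · exact .inl (hlines h (hN.trans h12))
    · exact .inr (.inr (.inr (.inr (.inr (.inr h)))))
  · rcases hplanes hD heq with h | h | h | h
    · exact .inl h
    · exact .inr (.inl h)
    · exact .inr (.inr (.inl h))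
    · exact .inr (.inr (.inr (.inr (.inr (.inr h)))))
  · rcases lines_case hQ hn hH hirr (t := 12) h12.symm hD (heq.le.trans inf_le_left) with h | h
    · exact .inl ⟨hplus1 h, h⟩
    · exact .inr (.inr (.inr (.inr (.inr (.inr h)))))

omit hirr in
/-- A half-dimensional non-degenerate invariant subspace and its perpendicular form a decomposition. -/
theorem pair_decomp {k : ℕ} (hι : Fintype.card ι = 2 * k) {W : Submodule F (ι → F)} (hW : ND Q W)
    (hd : finrank F W = k) (heq : H = Geo.subspaceStabilizer W ⊓ Geo.omegaGL ⇑Q) :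
    ∃ D : Fin 2 → Submodule F (ι → F), D 0 = W ∧ D 1 = Orth.perpSub Q W ∧
      Geo.IsNondegenerateMDecomposition (polar ⇑Q) k D ∧
      H = Geo.decompositionStabilizer D ⊓ Geo.omegaGL ⇑Q := by
  classical
  have hI := le_iso hH.1.le
  have hWs : ∀ g ∈ H, ∀ w ∈ W, (g : Matrix ι ι F) *ᵥ w ∈ W := fun g hg w hw =>
    stab_mem ((heq.le.trans inf_le_left) hg) hw
  obtain ⟨hdec, hle⟩ := orth_decomp_of_family hQ (H := H) ![W, Orth.perpSub Q W] (t := 2) (m := k) le_rfl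
    (by omega) (by omega) (fun i => by
      fin_cases i
      · exact hd
      · show finrank F (Orth.perpSub Q W) = k
        rw [Orth.finrank_perpSub hQ, hι, hd]; omega)
    (fun i => by fin_cases i <;> [exact hW; exact Orth.perpSub_nondeg hQ hW])
    (fun i j hij a ha b hb => by
      fin_cases i <;> fin_cases j
      · exact absurd rfl hij
      · exact Orth.mem_perpSub.1 hb a ha
      · rw [Orth.pl_comm]; exact Orth.mem_perpSub.1 ha b hb
      · exact absurd rfl hij)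
    (fun g hg i => ⟨i, fun u hu => by
      fin_cases i
      · exact hWs g hg u hu
      · refine Orth.mem_perpSub.2 fun w hw => ?_
        obtain ⟨w', hw', rfl⟩ : ∃ w' ∈ W, (g : Matrix ι ι F) *ᵥ w' = w :=
          ⟨_, hWs _ (inv_mem hg) w hw, by rw [Matrix.mulVec_mulVec, Units.mul_inv, Matrix.one_mulVec]⟩
        rw [iso_polar (hI hg)]
        exact Orth.mem_perpSub.1 hu w' hw'⟩)
  exact ⟨_, rfl, rfl, hdec, eq_inf_of_le hH hle (not_omega_le_mdecomp hQ (by omega) hdec.decomp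
    (size_ok hn le_rfl (by omega) Fintype.one_lt_card))⟩

omit hQ hn hH hirr in
/-- A non-degenerate quadratic form function is a quadratic form. -/
theorem exists_quad_of_geo {Q : (ι → F) → F} (hQ : Geo.IsNondegenerateQuadraticForm Q) :
    ∃ q : QuadraticForm F (ι → F), ⇑q = Q ∧ q.polarBilin.Nondegenerate := by
  let q : QuadraticForm F (ι → F) := QuadraticMap.ofPolar Q
    (fun a v => by rw [hQ.smul, sq, smul_eq_mul]) (fun u v w => hQ.polar_bilinear.add_left u v w)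
    (fun a v w => by rw [hQ.polar_bilinear.smul_left, smul_eq_mul])
  refine ⟨q, rfl, ?_, ?_⟩
  · intro x hx
    by_contra hx0
    obtain ⟨-, ⟨y, hy⟩⟩ := hQ.nondegenerate x hx0
    exact hy (hx y)
  · intro y hy
    by_contra hy0
    obtain ⟨⟨x, hx⟩, -⟩ := hQ.nondegenerate y hy0
    exact hx (hy x)

end Cfsg.Agent.Aschbacher
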