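/-
SL_n lies in no tensor, tensor-wreath, symplectic-type or decomposition group.
Main results: `not_sl_le_tensor`, `not_sl_le_wreath`, `not_sl_le_normalizer`, `not_sl_le_decomposition`.
-/
import Cfsg.Agent.Lib.Aschbacher.Master
import Cfsg.Agent.Lib.PrimeDim.SLCases
import Cfsg.Agent.Lib.Transvect.BlockLine
import Cfsg.Agent.Lib.Linear.SLn

set_option autoImplicit false

namespace Cfsg.Agent.Aschbacher

open Matrix
open scoped commutatorElement Kronecker
open Cfsg.Agent.PrimeDim

variable {ι : Type} [Fintype ι] [DecidableEq ι] {F : Type*} [Field F]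

/-- A matrix commuting with all elementary transvections is scalar. -/
theorem scalar_of_commute_elem {M : Matrix ι ι F}
    (h : ∀ i j : ι, i ≠ j → cj (Transvect.elem i j (1 : F)) M = M) : ∃ c : F, M = c • 1 := by
  obtain ⟨c, hc⟩ := Matrix.mem_range_scalar_of_commute_single (M := M) fun i j hij => by
    have h1 := (cj_eq_self_iff _ _).mp (h i j hij)
    rw [Transvect.elem_val hij, Matrix.transvection, add_mul, mul_add, one_mul, mul_one] at h1
    exact add_left_cancel h1
  exact ⟨c, by rw [← hc, Matrix.smul_one_eq_diagonal]; rfl⟩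

/-- Transvections lie in no tensor group with a factor of dimension at least three. -/
theorem not_sl_le_tensor {d t : ℕ} (hd : 2 ≤ d) (ht : 3 ≤ t) (e : ι ≃ Fin d × Fin t) (P : GL ι F) :
    ¬ ∀ i j : ι, i ≠ j → Transvect.elem i j (1 : F) ∈ Geo.tensorProductSubgroup d t e P := by
  classical
  intro hle
  have key : ∀ X : Matrix (Fin d) (Fin d) F, ∃ c : F, cj P (tens e X 1) = c • 1 := by
    intro X
    refine scalar_of_commute_elem fun i j hij => ?_
    set k := cj P (tens e X (1 : Matrix (Fin t) (Fin t) F)) with hk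
    set T := Transvect.elem i j (1 : F) with hTdef
    obtain ⟨a, b, hab⟩ := (mem_tensorProductSubgroup_iff e P T).mp (hle i j hij)
    obtain ⟨Y, hY⟩ : ∃ Y, cj T k - k = cj P (tens e Y 1) := by
      refine ⟨(a : Matrix (Fin d) (Fin d) F) * X * ((a⁻¹ : GL (Fin d) F) : Matrix (Fin d) (Fin d) F) - X, ?_⟩
      have hinv : ((T⁻¹ : GL ι F) : Matrix ι ι F) = cj P (tens e ((a⁻¹ : GL (Fin d) F) : Matrix (Fin d) (Fin d) F)
          ((b⁻¹ : GL (Fin t) F) : Matrix (Fin t) (Fin t) F)) := by
        refine Units.inv_eq_of_mul_eq_one_right ?_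
        rw [hab, ← map_mul, tens_mul, Units.mul_inv, Units.mul_inv, tens_one, map_one]
      have hsub : ∀ U W : Matrix (Fin d) (Fin d) F,
          tens e (U - W) (1 : Matrix (Fin t) (Fin t) F) = tens e U 1 - tens e W 1 := fun U W => by
        ext x y; simp [tens_apply, sub_mul]
      rw [cj_apply, hab, hinv, hk, ← map_mul, ← map_mul, tens_mul, tens_mul, mul_one, Units.mul_inv, hsub, map_sub]
    have hrange : LinearMap.range (Matrix.toLin' (cj T k - k)) ≤
        Submodule.span F {Pi.single i 1, k *ᵥ Pi.single i 1} := by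
      rintro _ ⟨x, rfl⟩
      have hT : ∀ z : ι → F, (T : Matrix ι ι F) *ᵥ z = z + z j • Pi.single i 1 := fun z => by
        rw [← Transvect.app_apply, Transvect.elem_apply hij, one_mul]
      obtain ⟨z, rfl⟩ : ∃ z, (T : Matrix ι ι F) *ᵥ z = x :=
        ⟨((T⁻¹ : GL ι F) : Matrix ι ι F) *ᵥ x, by simp [Matrix.mulVec_mulVec]⟩
      rw [Matrix.toLin'_apply, Matrix.sub_mulVec, mulVec_cj, hT, hT, Matrix.mulVec_add, Matrix.mulVec_smul,
        add_sub_add_left_eq_sub]
      exact Submodule.sub_mem _ (Submodule.smul_mem _ _ (Submodule.subset_span (Set.mem_insert _ _)))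
        (Submodule.smul_mem _ _ (Submodule.subset_span (Set.mem_insert_of_mem _ rfl)))
    have hY0 : Y = 0 := by
      by_contra hne
      obtain ⟨r, s, hrs⟩ : ∃ r s, Y r s ≠ 0 := by
        by_contra hcon
        simp only [not_exists, not_not] at hcon
        exact hne (Matrix.ext hcon)
      let f : Fin t → (ι → F) := fun l =>
        (cj T k - k) *ᵥ ((P : Matrix ι ι F) *ᵥ Pi.single (e.symm (s, l)) 1)
      have hind : LinearIndependent F f := by
        rw [Fintype.linearIndependent_iff]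
        intro c hc m
        have h1 : ∀ l, f l = (P : Matrix ι ι F) *ᵥ (tens e Y 1 *ᵥ Pi.single (e.symm (s, l)) 1) := fun l => by
          simp only [f, hY]; exact mulVec_cj P _ _
        simp only [h1, ← Matrix.mulVec_smul, ← Matrix.mulVec_sum] at hc
        have h2 := congrArg (((P⁻¹ : GL ι F) : Matrix ι ι F) *ᵥ ·) hc
        simp only [Matrix.mulVec_mulVec, ← mul_assoc, Units.inv_mul, one_mul, Matrix.mulVec_zero] at h2
        have h3 := congrFun h2 (e.symm (r, m))
        rw [Matrix.mulVec_sum, Finset.sum_apply, Finset.sum_eq_single m] at h3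
        · rw [Matrix.mulVec_smul, Pi.smul_apply, Matrix.mulVec_single_one, Matrix.col_apply, tens_apply,
            Equiv.apply_symm_apply, Equiv.apply_symm_apply] at h3
          simpa [hrs] using h3
        · intro l _ hl; simp [Matrix.mulVec_smul, Matrix.mulVec_single, tens_apply, Ne.symm hl]
        · simp
      have h4 : Submodule.span F (Set.range f) ≤ Submodule.span F {Pi.single i 1, k *ᵥ Pi.single i 1} := by
        rw [Submodule.span_le]
        rintro _ ⟨l, rfl⟩
        exact hrange ⟨(P : Matrix ι ι F) *ᵥ Pi.single (e.symm (s, l)) 1, by simp only [f, Matrix.toLin'_apply]⟩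
      have h5 := Submodule.finrank_mono h4
      rw [finrank_span_eq_card hind, Fintype.card_fin] at h5
      have h6 : Module.finrank F (Submodule.span F ({Pi.single i 1, k *ᵥ Pi.single i 1} : Set (ι → F))) ≤ 2 := by
        have := finrank_span_finset_le_card (R := F) ({Pi.single i 1, k *ᵥ Pi.single i 1} : Finset (ι → F))
        rw [Finset.coe_insert, Finset.coe_singleton] at this
        exact this.trans Finset.card_le_two
      omega
    have hzero : tens e (0 : Matrix (Fin d) (Fin d) F) (1 : Matrix (Fin t) (Fin t) F) = 0 := by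
      ext x y; simp [tens_apply]
    rw [hY0, hzero, map_zero, sub_eq_zero] at hY
    exact hY
  obtain ⟨c, hc⟩ := key (single ⟨0, by omega⟩ ⟨1, by omega⟩ 1)
  have h1 := congrArg (cj P⁻¹) hc
  rw [cj_inv_cj, map_smul, map_one] at h1
  have h2 := congrFun (congrFun h1 (e.symm (⟨0, by omega⟩, ⟨0, by omega⟩))) (e.symm (⟨1, by omega⟩, ⟨0, by omega⟩))
  simp [tens_apply, Matrix.one_apply] at h2

theorem elem_eq_commutator {i j k : ι} (hij : i ≠ j) (hik : i ≠ k) (hkj : k ≠ j) :
    Transvect.elem i j (1 : F) = ⁅Transvect.elem i k (1 : F), Transvect.elem k j (1 : F)⁆ := by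
  have hinv : ∀ {a b : ι} (_ : a ≠ b), (Transvect.elem a b (1 : F))⁻¹ = Transvect.elem a b (-1) := by
    intro a b hab
    refine inv_eq_of_mul_eq_one_right (Transvect.gl_ext fun x => ?_)
    rw [map_mul, LinearEquiv.mul_apply, Transvect.elem_apply hab, Transvect.elem_apply hab, map_one]
    funext l
    by_cases hl : l = a <;> simp [hl, Ne.symm hab]
  refine Transvect.gl_ext fun x => ?_
  rw [commutatorElement_def, hinv hik, hinv hkj, map_mul, map_mul, map_mul, LinearEquiv.mul_apply,
    LinearEquiv.mul_apply, LinearEquiv.mul_apply]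
  simp only [Transvect.elem_apply hij, Transvect.elem_apply hik, Transvect.elem_apply hkj]
  funext l
  by_cases hli : l = i
  · subst hli; simp [hik, hij, hik.symm, hij.symm, hkj.symm, hkj]; ring
  · by_cases hlk : l = k
    · subst hlk; simp [hik.symm, hij.symm, hkj.symm, hkj]
    · simp [hli, hlk]

/-- SL lies in no tensor-wreath group with two factors. -/
theorem not_sl_le_wreath {d : ℕ} (hd : 3 ≤ d) (e : ι ≃ (Fin 2 → Fin d)) (P : GL ι F) :
    ¬ Geo.specialLinear ι F ≤ Geo.tensorWreathSubgroup d 2 e P := by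
  classical
  intro hle
  set e' := e.trans (finTwoArrowEquiv (Fin d)) with he'
  set T := Geo.tensorProductSubgroup d d e' P
  obtain ⟨s, hsW, hswap, hcases⟩ := exists_swap e P
  have hs2T : s * s ∈ T := (hcases s hsW).elim (fun h => mul_mem h h) id
  have hss : ∀ g ∈ T, s * g * s⁻¹ ∈ T := by
    intro g hg
    obtain ⟨a, b, hab⟩ := (mem_tensorProductSubgroup_iff e' P g).mp hg
    exact (mem_tensorProductSubgroup_iff e' P _).mpr ⟨b, a, by rw [← cj_coe, hab, hswap]⟩
  have hss' : ∀ g ∈ T, s⁻¹ * g * s ∈ T := by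
    intro g hg
    obtain ⟨a, b, hab⟩ := (mem_tensorProductSubgroup_iff e' P g).mp hg
    refine (mem_tensorProductSubgroup_iff e' P _).mpr ⟨b, a, ?_⟩
    have h1 := cj_coe s⁻¹ g
    rw [inv_inv] at h1
    rw [← h1, hab, ← hswap, cj_inv_cj]
  have hcomm : ∀ x y : GL ι F, (x ∈ T ∨ s * x ∈ T) → (y ∈ T ∨ s * y ∈ T) → ⁅x, y⁆ ∈ T := by
    intro x y hx hy
    rw [commutatorElement_def]
    rcases hx with hx | hx <;> rcases hy with hy | hy
    · exact mul_mem (mul_mem (mul_mem hx hy) (inv_mem hx)) (inv_mem hy)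
    · obtain ⟨u, hu, rfl⟩ : ∃ u ∈ T, s⁻¹ * u = y := ⟨s * y, hy, by simp⟩
      have : x * (s⁻¹ * u) * x⁻¹ * (s⁻¹ * u)⁻¹ = x * (s⁻¹ * (u * x⁻¹ * u⁻¹) * s) := by simp [mul_assoc]
      rw [this]; exact mul_mem hx (hss' _ (mul_mem (mul_mem hu (inv_mem hx)) (inv_mem hu)))
    · obtain ⟨t, ht, rfl⟩ : ∃ t ∈ T, s⁻¹ * t = x := ⟨s * x, hx, by simp⟩
      have : s⁻¹ * t * y * (s⁻¹ * t)⁻¹ * y⁻¹ = (s⁻¹ * (t * y * t⁻¹) * s) * y⁻¹ := by simp [mul_assoc]
      rw [this]; exact mul_mem (hss' _ (mul_mem (mul_mem ht hy) (inv_mem ht))) (inv_mem hy)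
    · obtain ⟨u, hu, rfl⟩ : ∃ u ∈ T, s⁻¹ * u = y := ⟨s * y, hy, by simp⟩
      obtain ⟨t, ht, rfl⟩ : ∃ t ∈ T, s⁻¹ * t = x := ⟨s * x, hx, by simp⟩
      have hprod : ∀ v ∈ T, ∀ w ∈ T, s⁻¹ * v * (s⁻¹ * w) ∈ T := fun v hv w hw => by
        have : s⁻¹ * v * (s⁻¹ * w) = (s⁻¹ * v * s) * (s * s)⁻¹ * w := by simp [mul_assoc]
        rw [this]; exact mul_mem (mul_mem (hss' v hv) (inv_mem hs2T)) hw
      have : ∀ a b : GL ι F, a * b * a⁻¹ * b⁻¹ = a * b * (b * a)⁻¹ := fun a b => by simp [mul_assoc]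
      rw [this]; exact mul_mem (hprod t ht u hu) (inv_mem (hprod u hu t ht))
  have hn : 3 ≤ Fintype.card ι := by
    rw [Fintype.card_congr e', Fintype.card_prod, Fintype.card_fin]; nlinarith
  refine not_sl_le_tensor (t := d) (by omega) hd e' P fun i j hij => ?_
  obtain ⟨k, hik, hkj⟩ := Linear.exists_third hn i j
  rw [elem_eq_commutator hij hik hkj]
  exact hcomm _ _ (hcases _ (hle (Transvect.tv_mem_sl _ _))) (hcases _ (hle (Transvect.tv_mem_sl _ _)))

theorem eq_one_of_fixed {R : Subgroup (GL ι F)} (hle : Geo.specialLinear ι F ≤ Geo.subgroupNormalizer R)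
    {e : ℕ} (he : (e : F) ≠ 0) (hpow : ∀ x ∈ R, x ^ e = 1) {x : GL ι F} (hx : x ∈ R) {w : ι → F}
    (hw0 : w ≠ 0) (hxw : (x : Matrix ι ι F) *ᵥ w = w) : x = 1 := by
  classical
  have hkey : ∀ φ : (ι → F) →ₗ[F] F, φ w = 0 → ∀ z, φ (((x⁻¹ : GL ι F) : Matrix ι ι F) *ᵥ z - z) = 0 := by
    intro φ hφ
    set ψ : (ι → F) →ₗ[F] F := φ - φ ∘ₗ (Transvect.app x⁻¹).toLinearMap with hψ
    have hxw' : Transvect.app x w = w := hxw
    have hxw'' : Transvect.app x⁻¹ w = w := by
      conv_lhs => rw [← hxw', Transvect.app_inv_app]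
    have hcomp : (φ ∘ₗ (Transvect.app x⁻¹).toLinearMap) w = 0 := by
      simp only [LinearMap.comp_apply, LinearEquiv.coe_coe, hxw'', hφ]
    have hψw : ψ w = 0 := by rw [hψ, LinearMap.sub_apply, hφ, hcomp, sub_zero]
    have hy : Transvect.tv w ψ ∈ R := by
      have h1 := (Subgroup.mem_normalizer_iff.mp (hle (Transvect.tv_mem_sl w φ)) x).mp hx
      have h2 : Transvect.tv w ψ = Transvect.tv w φ * x * (Transvect.tv w φ)⁻¹ * x⁻¹ := by
        have h3 : x * (Transvect.tv w φ)⁻¹ * x⁻¹ = Transvect.tv w (-(φ ∘ₗ (Transvect.app x⁻¹).toLinearMap)) := by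
          rw [Transvect.tv_inv hφ, Transvect.tv_conj (by simp [hφ]), hxw', LinearMap.neg_comp]
        rw [mul_assoc (Transvect.tv w φ) x, mul_assoc, h3,
          ← Transvect.tv_add hφ (by simp only [LinearMap.neg_apply, hcomp, neg_zero]), ← sub_eq_add_neg]
      rw [h2]
      exact mul_mem h1 (inv_mem hx)
    have hpw : ∀ m : ℕ, Transvect.tv w ψ ^ m = Transvect.tv w ((m : F) • ψ) := by
      intro m
      induction m with
      | zero => simp
      | succ m ih =>
        rw [pow_succ, ih, ← Transvect.tv_add (by simp [hψw]) hψw, Nat.cast_succ, add_smul, one_smul]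
    intro z
    have h4 := congrArg (fun g => Transvect.app g z) ((hpw e).symm.trans (hpow _ hy))
    simp only [Transvect.tv_apply (show ((e : F) • ψ) w = 0 by simp [hψw]), map_one, LinearEquiv.coe_one,
      id_eq, add_eq_left, smul_eq_zero, LinearMap.smul_apply] at h4
    have h5 : ψ z = 0 := (h4.resolve_right hw0).resolve_left he
    rw [map_sub, ← neg_eq_zero, neg_sub]
    exact h5
  have hline : ∀ z, ∃ a : F, a • w = ((x⁻¹ : GL ι F) : Matrix ι ι F) *ᵥ z - z := by
    intro z
    by_contra hcon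
    obtain ⟨φ, hφ, h1⟩ := Transvect.exists_dual_eq_one (W := Submodule.span F {w})
      (u := ((x⁻¹ : GL ι F) : Matrix ι ι F) *ᵥ z - z) (fun h => hcon (Submodule.mem_span_singleton.mp h))
    exact zero_ne_one ((hkey φ (hφ w (Submodule.mem_span_singleton_self w)) z).symm.trans h1)
  set Y : Matrix ι ι F := ((x⁻¹ : GL ι F) : Matrix ι ι F) with hY
  have hYw : Y *ᵥ w = w := by
    conv_lhs => rw [← hxw]
    rw [hY, Matrix.mulVec_mulVec, ← Units.val_mul, inv_mul_cancel, Units.val_one, Matrix.one_mulVec]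
  have hpowY : ∀ (m : ℕ) (z : ι → F), (Y ^ m) *ᵥ z = z + (m : F) • (Y *ᵥ z - z) := by
    intro m
    induction m with
    | zero => intro z; simp
    | succ m ih =>
      intro z
      obtain ⟨a, ha⟩ := hline z
      rw [pow_succ', ← Matrix.mulVec_mulVec, ih, Matrix.mulVec_add, Matrix.mulVec_smul, ← ha, Matrix.mulVec_smul,
        hYw, Nat.cast_succ, add_smul, one_smul, ha]
      abel
  have hY1 : Y = 1 := by
    refine Matrix.ext_of_mulVec_single fun i => ?_
    have hYn : Y ^ e = 1 := by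
      rw [hY, ← Units.val_pow_eq_pow_val, inv_pow, hpow x hx, inv_one, Units.val_one]
    have := hpowY e (Pi.single i 1)
    rw [hYn, Matrix.one_mulVec, eq_comm, add_eq_left, smul_eq_zero, sub_eq_zero] at this
    rw [Matrix.one_mulVec]
    exact this.resolve_left he
  rw [← inv_eq_one]
  exact Units.ext hY1

/-- SL normalises no group of exponent prime to the characteristic acting irreducibly. -/
theorem not_sl_le_normalizer (h3 : 3 ≤ Fintype.card ι) {R : Subgroup (GL ι F)} {e : ℕ} (he : (e : F) ≠ 0)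
    (hpow : ∀ x ∈ R, x ^ e = 1) (hirr : Geo.ActsIrreducibly (Geo.matrixSet R)) :
    ¬ Geo.specialLinear ι F ≤ Geo.subgroupNormalizer R := by
  classical
  intro hle
  obtain ⟨x, hx, hxs⟩ := not_all_scalar (by omega) hirr
  have key : ∀ i j : ι, i ≠ j → cj (Transvect.elem i j (1 : F)) (x : Matrix ι ι F) = x := by
    intro i j hij
    set T := Transvect.elem i j (1 : F) with hT
    set y := T * x * T⁻¹ * x⁻¹ with hy
    have hyR : y ∈ R :=
      mul_mem ((Subgroup.mem_normalizer_iff.mp (hle (Transvect.tv_mem_sl _ _)) x).mp hx) (inv_mem hx)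
    obtain ⟨w, hw0, hw1, hw2⟩ := exists_ker_ne_zero h3 (LinearMap.proj j)
      (LinearMap.proj j ∘ₗ (Transvect.app x⁻¹).toLinearMap)
    have hTw : ∀ z : ι → F, z j = 0 → Transvect.app T z = z := fun z hz => by
      rw [hT, Transvect.elem_apply hij, one_mul, hz, zero_smul, add_zero]
    have hTinv : ∀ z : ι → F, z j = 0 → Transvect.app T⁻¹ z = z := fun z hz => by
      conv_lhs => rw [← hTw z hz]
      rw [Transvect.app_inv_app]
    have hyw : (y : Matrix ι ι F) *ᵥ w = w := by
      show Transvect.app y w = w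
      rw [hy, map_mul, map_mul, map_mul, LinearEquiv.mul_apply, LinearEquiv.mul_apply, LinearEquiv.mul_apply,
        hTinv _ hw2]
      have : Transvect.app x (Transvect.app x⁻¹ w) = w := by
        rw [← LinearEquiv.mul_apply, ← map_mul, mul_inv_cancel, map_one]; rfl
      rw [this, hTw w hw1]
    have h1 := eq_one_of_fixed hle he hpow hyR hw0 hyw
    rw [cj_apply, ← Units.val_mul, ← Units.val_mul]
    exact congrArg Units.val (mul_inv_eq_one.mp h1)
  obtain ⟨c, hc⟩ := scalar_of_commute_elem key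
  have : Nonempty ι := Fintype.card_pos_iff.mp (by omega); exact hxs (smul_one_mem_scalars hc)

theorem not_sl_le_decomposition [Fintype F] {m t : ℕ} {D : Fin t → Submodule F (ι → F)}
    (hD : Geo.IsMDecomposition m D) : ¬ Geo.specialLinear ι F ≤ Geo.decompositionStabilizer D := by
  obtain ⟨x, hx, hx'⟩ := Transvect.exists_sl_notMem_stab hD
  exact fun h => hx' (h hx)

end Cfsg.Agent.Aschbacher
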