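/-
Four lines over a field with five elements: the monomial group is not maximal in SL_4(5).
Main result: `four_lines_five`.
-/
import Cfsg.Agent.Lib.Aschbacher.NotSL

set_option autoImplicit false

namespace Cfsg.Agent.Aschbacher.FourLines

open Matrix
open Cfsg.Agent.Transvect (pg dg app ee app_pg_dg_ee gl_ext_ee IsMono)

variable {F : Type*} [Field F]

/-- The regular four-group on four points, as a set of permutations. -/
def IsFour (π : Equiv.Perm (Fin 4)) : Prop :=
  π = 1 ∨ π = Equiv.swap 0 1 * Equiv.swap 2 3 ∨ π = Equiv.swap 0 2 * Equiv.swap 1 3 ∨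
    π = Equiv.swap 0 3 * Equiv.swap 1 2

instance : DecidablePred IsFour := fun π => by unfold IsFour; infer_instance

theorem isFour_mul : ∀ π σ : Equiv.Perm (Fin 4), IsFour π → IsFour σ → IsFour (π * σ) := by
  rintro π σ (rfl | rfl | rfl | rfl) (rfl | rfl | rfl | rfl) <;> decide

theorem isFour_sq {π : Equiv.Perm (Fin 4)} (h : IsFour π) : π * π = 1 := by
  rcases h with rfl | rfl | rfl | rfl <;> decide

theorem isFour_conj : ∀ σ π : Equiv.Perm (Fin 4), IsFour π → IsFour (σ * π * σ⁻¹) := by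
  intro σ
  rintro π (rfl | rfl | rfl | rfl) <;> revert σ <;> decide

/-- The normalised group: a four-group of permutations with coefficients of equal square and product one. -/
def Mem (g : GL (Fin 4) F) : Prop :=
  ∃ (π : Equiv.Perm (Fin 4)) (c : Fin 4 → Fˣ),
    IsFour π ∧ (∀ i, c i ^ 2 = c 0 ^ 2) ∧ c 0 * c 1 * c 2 * c 3 = 1 ∧ g = pg π * dg c

theorem prod_perm {M : Type*} [CommMonoid M] {π : Equiv.Perm (Fin 4)} (h : IsFour π) (c : Fin 4 → M) :
    c (π 0) * c (π 1) * c (π 2) * c (π 3) = c 0 * c 1 * c 2 * c 3 := by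
  have := Equiv.prod_comp π c
  simpa [Fin.prod_univ_four] using this

theorem pg_dg_mul (π σ : Equiv.Perm (Fin 4)) (c d : Fin 4 → Fˣ) :
    pg π * dg c * (pg σ * dg d) = pg (π * σ) * dg (fun i => c (σ i) * d i) := by
  refine gl_ext_ee fun s => ?_
  rw [map_mul, LinearEquiv.mul_apply, app_pg_dg_ee, app_pg_dg_ee, map_smul, app_pg_dg_ee, smul_smul,
    Units.val_mul, mul_comm (c (σ s) : F)]
  rfl

theorem Mem.mul {g h : GL (Fin 4) F} (hg : Mem g) (hh : Mem h) : Mem (g * h) := by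
  obtain ⟨π, c, hπ, hc, hcp, rfl⟩ := hg
  obtain ⟨σ, d, hσ, hd, hdp, rfl⟩ := hh
  refine ⟨π * σ, _, isFour_mul π σ hπ hσ, fun i => ?_, ?_, pg_dg_mul π σ c d⟩
  · rw [mul_pow, mul_pow, hc, hd, hc (σ 0)]
  · calc c (σ 0) * d 0 * (c (σ 1) * d 1) * (c (σ 2) * d 2) * (c (σ 3) * d 3)
        = (c (σ 0) * c (σ 1) * c (σ 2) * c (σ 3)) * (d 0 * d 1 * d 2 * d 3) := by ac_rfl
      _ = 1 := by rw [prod_perm hσ, hcp, hdp, one_mul]

theorem pg_one_dg_one : (pg 1 * dg (fun _ => (1 : Fˣ)) : GL (Fin 4) F) = 1 :=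
  gl_ext_ee fun s => by rw [app_pg_dg_ee, map_one]; simp

theorem mem_one : Mem (1 : GL (Fin 4) F) :=
  ⟨1, fun _ => 1, Or.inl rfl, fun _ => rfl, by simp, pg_one_dg_one.symm⟩

theorem Mem.pow_four [Fintype F] (hq : Fintype.card F = 5) {g : GL (Fin 4) F} (hg : Mem g) : g ^ 4 = 1 := by
  classical
  obtain ⟨π, c, hπ, hc, -, rfl⟩ := hg
  rw [show (pg π * dg c) ^ 4 = pg π * dg c * (pg π * dg c) * (pg π * dg c * (pg π * dg c)) by simp [pow_succ, mul_assoc], pg_dg_mul, isFour_sq hπ, pg_dg_mul]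
  refine gl_ext_ee fun s => ?_
  rw [app_pg_dg_ee, one_mul]
  have h4 : c 0 ^ 4 = 1 := Units.ext (by
    have := FiniteField.pow_card_sub_one_eq_one ((c 0 : Fˣ) : F) (Units.ne_zero _)
    rw [hq] at this
    simpa using this)
  have : c (π s) * c s * (c (π s) * c s) = 1 := by
    calc c (π s) * c s * (c (π s) * c s) = c (π s) ^ 2 * c s ^ 2 := by rw [pow_two, pow_two]; ac_rfl
      _ = 1 := by rw [hc, hc s, ← pow_add, h4]
  simp [this]

/-- The group itself. -/
def R (F : Type*) [Field F] [Fintype F] (hq : Fintype.card F = 5) : Subgroup (GL (Fin 4) F) where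
  carrier := {g | Mem g}
  mul_mem' := Mem.mul
  one_mem' := mem_one
  inv_mem' := fun {g} hg => by
    rw [show g⁻¹ = g * g * g from inv_eq_of_mul_eq_one_right (by
      rw [← Mem.pow_four hq hg, pow_succ, pow_succ, pow_succ, pow_one]; simp only [mul_assoc])]
    exact Mem.mul (Mem.mul hg hg) hg

variable [Fintype F] (hq : Fintype.card F = 5)
include hq

theorem sq_cases (u : Fˣ) : u ^ 2 = 1 ∨ u ^ 2 = -1 := by
  have h4 : (u : F) ^ 4 = 1 := by
    have := FiniteField.pow_card_sub_one_eq_one (u : F) (Units.ne_zero _)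
    rwa [hq] at this
  rcases mul_self_eq_one_iff.mp (show (u : F) ^ 2 * (u : F) ^ 2 = 1 by rw [← pow_add, h4]) with h | h
  · exact Or.inl (Units.ext (by simpa using h))
  · exact Or.inr (Units.ext (by simpa using h))

theorem mono_normalizes {g : GL (Fin 4) F} (hg : IsMono g) (hdet : (g : Matrix (Fin 4) (Fin 4) F).det = 1)
    {x : GL (Fin 4) F} (hx : x ∈ R F hq) : g * x * g⁻¹ ∈ R F hq := by
  classical
  obtain ⟨σ, d, rfl⟩ := Transvect.exists_of_isMono hg
  obtain ⟨π, c, hπ, hc, hcp, rfl⟩ := hx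
  have hconj : pg σ * dg d * (pg π * dg c) * (pg σ * dg d)⁻¹ =
      pg (σ * π * σ⁻¹) * dg (fun i => c (σ⁻¹ i) * (d (π (σ⁻¹ i)) / d (σ⁻¹ i))) := by
    rw [mul_inv_eq_iff_eq_mul, pg_dg_mul, pg_dg_mul, inv_mul_cancel_right]
    congr 2
    funext i
    simp only [div_eq_mul_inv, Equiv.Perm.coe_inv, Equiv.symm_apply_apply]
    rw [mul_comm (d (π i)) (d i)⁻¹, mul_comm (c i * _) (d i), mul_left_comm (d i) (c i), mul_inv_cancel_left, mul_comm]
  have he : (d 0 * d 1 * d 2 * d 3) ^ 2 = 1 := by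
    refine Units.ext ?_
    rw [Transvect.det_pg_dg] at hdet
    push_cast
    rcases Int.units_eq_one_or (Equiv.Perm.sign σ) with h | h <;>
      simp only [h, Fin.prod_univ_four, Units.val_one, Units.val_neg, Int.cast_one, Int.cast_neg, one_mul,
        neg_mul] at hdet
    · rw [hdet]; ring
    · linear_combination (-((d 0 : F) * d 1 * d 2 * d 3) + 1) * hdet
  have hsq : ∀ i, d i ^ 2 * d i ^ 2 = 1 := fun i => by
    rcases sq_cases hq (d i) with h | h <;> rw [h] <;> simp
  have hinv : ∀ i, (d i ^ 2)⁻¹ = d i ^ 2 := fun i => inv_eq_of_mul_eq_one_right (hsq i)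
  have hpairs : d 0 ^ 2 * d 1 ^ 2 = d 2 ^ 2 * d 3 ^ 2 ∧ d 0 ^ 2 * d 2 ^ 2 = d 1 ^ 2 * d 3 ^ 2 ∧
      d 0 ^ 2 * d 3 ^ 2 = d 1 ^ 2 * d 2 ^ 2 := by
    rw [mul_pow, mul_pow, mul_pow] at he
    rcases sq_cases hq (d 0) with a | a <;> rcases sq_cases hq (d 1) with b | b <;>
      rcases sq_cases hq (d 2) with e | e <;> rcases sq_cases hq (d 3) with f | f <;>
      rw [a, b, e, f] at he ⊢ <;> simp at he ⊢ <;> simp [he]
  have hk : ∀ s, d (π s) ^ 2 * d s ^ 2 = d (π 0) ^ 2 * d 0 ^ 2 := by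
    obtain ⟨p, q, r⟩ := hpairs
    have p' := p.symm; have q' := q.symm; have r' := r.symm
    intro s
    rcases hπ with rfl | rfl | rfl | rfl <;> fin_cases s <;> simp [Equiv.swap_apply_def, hsq] <;>
      first
        | exact mul_comm _ _
        | exact p.trans (mul_comm _ _) | exact p'.trans (mul_comm _ _)
        | exact q.trans (mul_comm _ _) | exact q'.trans (mul_comm _ _)
        | exact r.trans (mul_comm _ _) | exact r'.trans (mul_comm _ _)
        | exact (mul_comm _ _).trans (p.trans (mul_comm _ _)) | exact (mul_comm _ _).trans (p'.trans (mul_comm _ _))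
        | exact (mul_comm _ _).trans (q.trans (mul_comm _ _)) | exact (mul_comm _ _).trans (q'.trans (mul_comm _ _))
        | exact (mul_comm _ _).trans (r.trans (mul_comm _ _)) | exact (mul_comm _ _).trans (r'.trans (mul_comm _ _))
  refine ⟨_, _, isFour_conj σ π hπ, fun i => ?_, ?_, hconj⟩
  · simp only [mul_pow, div_eq_mul_inv, inv_pow, hinv, hc (σ⁻¹ i), hc (σ⁻¹ 0), hk (σ⁻¹ i), hk (σ⁻¹ 0)]
  · have h1 : ∏ i, c (σ⁻¹ i) * (d (π (σ⁻¹ i)) / d (σ⁻¹ i)) = 1 := by
      rw [Equiv.prod_comp σ⁻¹ (fun i => c i * (d (π i) / d i)), Finset.prod_mul_distrib, Finset.prod_div_distrib,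
        Equiv.prod_comp π d, div_self', mul_one, Fin.prod_univ_four, hcp]
    rwa [Fin.prod_univ_four] at h1

/-- The Hadamard matrix. -/
def had : Matrix (Fin 4) (Fin 4) F := !![1, 1, 1, 1; 1, -1, 1, -1; 1, 1, -1, -1; 1, -1, -1, 1]

theorem five_eq_zero : (5 : F) = 0 := by
  have := FiniteField.cast_card_eq_zero F
  rw [hq] at this
  exact_mod_cast this

theorem had_det : (had : Matrix (Fin 4) (Fin 4) F).det = 1 := by
  simp [had, Matrix.det_succ_row_zero, Fin.sum_univ_succ, Fin.succAbove]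
  linear_combination (3 : F) * five_eq_zero hq

/-- The Hadamard element. -/
noncomputable def h : GL (Fin 4) F :=
  Matrix.GeneralLinearGroup.mkOfDetNeZero had (by rw [had_det hq]; exact one_ne_zero)

theorem app_h (x : Fin 4 → F) : app (h hq) x = had *ᵥ x := Transvect.app_apply _ _

/-- Translation. -/
def tr (a : Fin 3) : Equiv.Perm (Fin 4) :=
  ![Equiv.swap 0 1 * Equiv.swap 2 3, Equiv.swap 0 2 * Equiv.swap 1 3, Equiv.swap 0 3 * Equiv.swap 1 2] a

/-- Character. -/
def chr (a : Fin 3) : Fin 4 → Fˣ := ![![1, -1, 1, -1], ![1, 1, -1, -1], ![1, -1, -1, 1]] a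

theorem gen_mem (a : Fin 3) :
    pg (tr a) * dg (fun _ => (1 : Fˣ)) ∈ R F hq ∧ pg 1 * dg (chr a : Fin 4 → Fˣ) ∈ R F hq := by
  refine ⟨⟨tr a, _, ?_, fun _ => rfl, by simp, rfl⟩, ⟨1, chr a, Or.inl rfl, ?_, ?_, rfl⟩⟩
  · fin_cases a <;> simp [tr, IsFour]
  · intro i; fin_cases a <;> fin_cases i <;> simp [chr]
  · fin_cases a <;> simp [chr]

theorem had_chr (a : Fin 3) :
    h hq * (pg 1 * dg (chr a)) = pg (tr a) * dg (fun _ => (1 : Fˣ)) * h hq ∧
    h hq * (pg (tr a) * dg (fun _ => (1 : Fˣ))) = pg 1 * dg (chr a) * h hq := by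
  constructor <;> refine gl_ext_ee fun s => ?_ <;>
    rw [map_mul app (h hq), map_mul app (_ * _) (h hq), LinearEquiv.mul_apply, LinearEquiv.mul_apply, app_pg_dg_ee,
      map_smul, app_h, app_h] <;>
    funext k <;> simp only [Pi.smul_apply, Transvect.app_pg_dg] <;>
    fin_cases a <;> fin_cases s <;> fin_cases k <;>
    simp [had, chr, tr, ee, Equiv.swap_apply_def, Matrix.mulVec_single]

theorem h_conj_mem {x : GL (Fin 4) F} (hx : x ∈ R F hq) : h hq * x * (h hq)⁻¹ ∈ R F hq := by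
  classical
  obtain ⟨π, c, hπ, hc, hcp, rfl⟩ := hx
  have hsc : ∀ u : Fˣ, pg 1 * dg (fun _ : Fin 4 => u) ∈ R F hq := fun u =>
    ⟨1, fun _ => u, Or.inl rfl, fun _ => rfl, Units.ext (by
      have := FiniteField.pow_card_sub_one_eq_one (u : F) (Units.ne_zero _)
      rw [hq] at this
      simpa [pow_succ] using this), rfl⟩
  let ε : Fin 4 → Fˣ := fun i => c i / c 0
  have hε : ∀ i, ε i = 1 ∨ ε i = -1 := fun i => by
    have : ε i ^ 2 = 1 := by simp only [ε]; rw [div_pow, hc, div_self']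
    rcases sq_eq_one_iff.mp (show ((ε i : F)) ^ 2 = 1 by simpa using congrArg Units.val this) with e | e
    · exact Or.inl (Units.ext e)
    · exact Or.inr (Units.ext (by simpa using e))
  have hεp : ε 1 * ε 2 * ε 3 = 1 := by
    have h4 : c 0 ^ 4 = 1 := Units.ext (by
      have := FiniteField.pow_card_sub_one_eq_one ((c 0 : Fˣ) : F) (Units.ne_zero _)
      rw [hq] at this
      simpa using this)
    simp only [ε, div_eq_mul_inv]
    calc c 1 * (c 0)⁻¹ * (c 2 * (c 0)⁻¹) * (c 3 * (c 0)⁻¹)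
        = (c 0 * c 1 * c 2 * c 3) * (c 0 ^ 4)⁻¹ := by
          refine Units.ext ?_; push_cast; field_simp
      _ = 1 := by rw [hcp, h4, inv_one, mul_one]
  have hε0 : ε 0 = 1 := div_self' _
  have hdecomp : pg π * dg c = pg π * dg (fun _ => (1 : Fˣ)) * (pg 1 * dg ε) * (pg 1 * dg fun _ => c 0) := by
    rw [pg_dg_mul, pg_dg_mul]
    simp [ε]
  have hT : h hq * (pg π * dg (fun _ => (1 : Fˣ))) * (h hq)⁻¹ ∈ R F hq := by
    rcases hπ with rfl | rfl | rfl | rfl
    · rw [pg_one_dg_one]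
      simp
    all_goals first
      | (rw [show Equiv.swap 0 1 * Equiv.swap 2 3 = tr 0 from rfl, (had_chr hq 0).2, mul_inv_cancel_right]
         exact (gen_mem hq 0).2)
      | (rw [show Equiv.swap 0 2 * Equiv.swap 1 3 = tr 1 from rfl, (had_chr hq 1).2, mul_inv_cancel_right]
         exact (gen_mem hq 1).2)
      | (rw [show Equiv.swap 0 3 * Equiv.swap 1 2 = tr 2 from rfl, (had_chr hq 2).2, mul_inv_cancel_right]
         exact (gen_mem hq 2).2)
  have hD : h hq * (pg 1 * dg ε) * (h hq)⁻¹ ∈ R F hq := by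
    have key : ε = (fun _ => 1) ∨ ∃ a, ε = chr a := by
      rcases hε 1 with e1 | e1 <;> rcases hε 2 with e2 | e2 <;> rw [e1, e2] at hεp <;> simp at hεp
      · left; funext i; fin_cases i <;> simp [hε0, e1, e2, hεp]
      · right; refine ⟨1, ?_⟩; funext i; fin_cases i <;> simp [chr, hε0, e1, e2, neg_eq_iff_eq_neg.mp hεp]
      · right; refine ⟨0, ?_⟩; funext i; fin_cases i <;> simp [chr, hε0, e1, e2, neg_eq_iff_eq_neg.mp hεp]
      · right; refine ⟨2, ?_⟩; funext i; fin_cases i <;> simp [chr, hε0, e1, e2, hεp]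
    rcases key with e | ⟨a, e⟩ <;> rw [e]
    · rw [pg_one_dg_one]
      simp
    · rw [(had_chr hq a).1, mul_inv_cancel_right]; exact (gen_mem hq a).1
  have hS : h hq * (pg 1 * dg fun _ => c 0) * (h hq)⁻¹ = pg 1 * dg fun _ => c 0 := by
    rw [mul_inv_eq_iff_eq_mul]
    refine gl_ext_ee fun s => ?_
    rw [map_mul app (h hq), map_mul app (_ * _) (h hq), LinearEquiv.mul_apply, LinearEquiv.mul_apply, app_pg_dg_ee,
      map_smul]
    funext k
    simp only [Pi.smul_apply, Transvect.app_pg_dg]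
    simp
  rw [hdecomp]
  have hsplit : ∀ a b e g : GL (Fin 4) F, g * (a * b * e) * g⁻¹ = (g * a * g⁻¹) * (g * b * g⁻¹) * (g * e * g⁻¹) :=
    fun a b e g => by group
  rw [hsplit, hS]
  exact mul_mem (mul_mem hT hD) (hsc _)

theorem irreducible : Geo.ActsIrreducibly (Geo.matrixSet (R F hq)) := by
  intro W hW
  by_cases hb : W = ⊥
  · exact Or.inl hb
  right
  have inv : ∀ g ∈ R F hq, ∀ w ∈ W, app g w ∈ W := fun g hg w hw => by
    rw [Transvect.app_apply]
    exact (PrimeDim.mapsTo_iff_mulVec _ W).mp (hW _ (PrimeDim.mem_matrixSet hg)) w hw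
  have h4 : (4 : F) ≠ 0 := fun h4 => one_ne_zero (α := F) (by linear_combination five_eq_zero hq - h4)
  obtain ⟨v, hv, hv0⟩ := Submodule.exists_mem_ne_zero_of_ne_bot hb
  obtain ⟨k, hk⟩ := Function.ne_iff.mp hv0
  have hek : ee k ∈ W := by
    have hsum : v + ∑ a : Fin 3, ((chr a k : Fˣ) : F) • app (pg 1 * dg (chr a)) v = (4 * v k) • ee k := by
      funext i
      simp only [Pi.add_apply, Finset.sum_apply, Pi.smul_apply, Transvect.app_pg_dg, Fin.sum_univ_three]
      fin_cases i <;> fin_cases k <;> simp [chr, ee] <;> ring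
    have hmem : (4 * v k) • (ee k : Fin 4 → F) ∈ W := by
      rw [← hsum]
      exact add_mem hv (Submodule.sum_mem _ fun a _ => W.smul_mem _ (inv _ (gen_mem hq a).2 v hv))
    exact (Submodule.smul_mem_iff W (mul_ne_zero h4 hk)).mp hmem
  have hall : ∀ i, ee i ∈ W := by
    intro i
    rcases eq_or_ne i k with rfl | hik
    · exact hek
    obtain ⟨a, ha⟩ : ∃ a, tr a k = i := (by decide : ∀ i k, i ≠ k → ∃ a, tr a k = i) i k hik
    have := inv _ (gen_mem hq a).1 _ hek
    rwa [app_pg_dg_ee, Units.val_one, one_smul, ha] at this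
  rw [eq_top_iff, ← (Pi.basisFun F (Fin 4)).span_eq, Submodule.span_le]
  rintro _ ⟨i, rfl⟩
  simpa [ee] using hall i

/-- The stabiliser of four lines is not maximal in SL_4(5). -/
theorem four_lines_five {D : Fin 4 → Submodule F (Fin 4 → F)} (hD : Geo.IsMDecomposition 1 D)
    {H : Subgroup (GL (Fin 4) F)} (hH : Geo.IsMaximalIn (Geo.specialLinear (Fin 4) F) H)
    (hle : H ≤ Geo.decompositionStabilizer D) : False := by
  classical
  obtain ⟨e, P, hP⟩ := Transvect.exists_lineBasis hD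
  have hspan : ∀ k, ∀ x ∈ D (e k), ∃ a : F, x = a • app P (ee k) := fun k x hx => by
    have hne : app P (ee k) ≠ 0 := fun h0 => by simpa [ee] using (app P).map_eq_zero_iff.1 h0
    have h1 : Submodule.span F {app P (ee k)} = D (e k) := by
      refine Submodule.eq_of_le_of_finrank_eq ((Submodule.span_singleton_le_iff_mem _ _).2 (hP k)) ?_
      rw [finrank_span_singleton hne, hD.finrank_eq]
    rw [← h1] at hx
    obtain ⟨a, ha⟩ := Submodule.mem_span_singleton.1 hx
    exact ⟨a, ha.symm⟩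
  have hmono : ∀ g ∈ Geo.decompositionStabilizer D, IsMono (P⁻¹ * g * P) := by
    intro g hg s
    obtain ⟨π, hπ⟩ := Transvect.exists_blockMap hg
    obtain ⟨r, hr⟩ := e.surjective (π (e s))
    obtain ⟨a, ha⟩ := hspan r _ (hr ▸ hπ _ _ (hP s))
    refine ⟨r, fun k hk => ?_⟩
    rw [map_mul, map_mul, LinearEquiv.mul_apply, LinearEquiv.mul_apply, ha, map_smul, Transvect.app_inv_app]
    simp [ee, hk]
  set S := (R F hq).map (MulAut.conj P).toMonoidHom with hS
  have hnorm : ∀ g, (∀ x ∈ R F hq, g * x * g⁻¹ ∈ R F hq) → P * g * P⁻¹ ∈ Geo.subgroupNormalizer S := by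
    intro g hg
    have hn : g ∈ Subgroup.normalizer (R F hq : Set (GL (Fin 4) F)) := by
      have : Finite (GL (Fin 4) F) := inferInstance
      exact Subgroup.mem_normalizer_iff.mpr fun x => ⟨hg x, fun hx => by
        obtain ⟨y, hy⟩ := Finite.surjective_of_injective (f := fun y : R F hq => (⟨g * y * g⁻¹, hg y y.2⟩ : R F hq))
          (fun a b hab => Subtype.ext (by simpa using congrArg Subtype.val hab)) ⟨_, hx⟩
        have hy' : g * y * g⁻¹ = g * x * g⁻¹ := congrArg Subtype.val hy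
        have hyx : (y : GL (Fin 4) F) = x := by simpa using hy'
        exact hyx ▸ y.2⟩
    exact Subgroup.le_normalizer_map _ (Subgroup.mem_map_of_mem _ hn)
  have hHS : H ≤ Geo.subgroupNormalizer S := by
    intro g hg
    have hdet : ((P⁻¹ * g * P : GL (Fin 4) F) : Matrix (Fin 4) (Fin 4) F).det = 1 := by
      rw [Units.val_mul, Units.val_mul, Matrix.det_mul, Matrix.det_mul, Transvect.mem_sl_iff.mp (hH.1.le hg),
        mul_one, ← Matrix.det_mul, Units.inv_mul, Matrix.det_one]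
    have := hnorm _ fun x hx => mono_normalizes hq (hmono g (hle hg)) hdet hx
    simpa [mul_assoc] using this
  have hh : P * h hq * P⁻¹ ∈ Geo.subgroupNormalizer S := hnorm _ fun x hx => h_conj_mem hq hx
  have hhSL : P * h hq * P⁻¹ ∈ Geo.specialLinear (Fin 4) F := by
    refine Transvect.mem_sl_iff.mpr ?_
    rw [Units.val_mul, Units.val_mul, Matrix.det_mul, Matrix.det_mul, mul_comm, ← mul_assoc, ← Matrix.det_mul,
      Units.inv_mul, Matrix.det_one, one_mul]
    exact had_det hq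
  rcases hH.2 (Geo.subgroupNormalizer S ⊓ Geo.specialLinear (Fin 4) F) (le_inf hHS hH.1.le) inf_le_right with h1 | h1
  · have h2 : P * h hq * P⁻¹ ∈ H := h1 ▸ ⟨hh, hhSL⟩
    obtain ⟨r, hr⟩ := hmono _ (hle h2) 0
    rw [show P⁻¹ * (P * h hq * P⁻¹) * P = h hq by group] at hr
    obtain ⟨k, hk⟩ := Fintype.exists_ne_of_one_lt_card (show 1 < Fintype.card (Fin 4) by simp) r
    have := hr k hk
    rw [app_h] at this
    fin_cases k <;> simp [had, ee] at this
  · refine not_sl_le_normalizer (R := S) (e := 4) (by simp) ?_ ?_ ?_ (h1 ▸ inf_le_left)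
    · exact fun h4 => one_ne_zero (α := F) (by push_cast at h4; linear_combination five_eq_zero hq - h4)
    · rintro _ ⟨x, hx, rfl⟩
      rw [← map_pow, Mem.pow_four hq hx, map_one]
    · intro W hW
      have key : ∀ x ∈ R F hq, ∀ w ∈ W, app (P * x * P⁻¹) w ∈ W := fun x hx w hw => by
        rw [Transvect.app_apply]
        exact (PrimeDim.mapsTo_iff_mulVec _ W).mp (hW _ (PrimeDim.mem_matrixSet ⟨x, hx, rfl⟩)) w hw
      rcases irreducible hq (W.map (app P⁻¹).toLinearMap) (by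
        rintro _ ⟨x, hx, rfl⟩
        rw [PrimeDim.mapsTo_iff_mulVec]
        rintro _ ⟨w, hw, rfl⟩
        refine ⟨_, key x hx w hw, ?_⟩
        rw [← Transvect.app_apply]
        simp only [LinearEquiv.coe_coe, map_mul, LinearEquiv.mul_apply, Transvect.app_inv_app]) with hb | ht
      · exact Or.inl ((Submodule.eq_bot_iff _).mpr fun w hw =>
          (app P⁻¹).map_eq_zero_iff.mp ((Submodule.eq_bot_iff _).mp hb _ ⟨w, hw, rfl⟩))
      · refine Or.inr (Submodule.map_injective_of_injective (app P⁻¹).injective ?_)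
        rw [ht, Submodule.map_top, LinearMap.range_eq_top.mpr (app P⁻¹).surjective]

end Cfsg.Agent.Aschbacher.FourLines
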