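/-
Imprimitive and tensor groups over the smallest fields lie in other classes.
Main results: `block_two_symplectic`, `four_planes_three`, `tensor_two_not_noField`, `tensor_four_form`.
-/
import Cfsg.Agent.Lib.Aschbacher.Master
import Cfsg.Agent.Lib.PrimeDim.SLCases
import Cfsg.Agent.Lib.Transvect.BlockLine

set_option autoImplicit false

namespace Cfsg.Agent.Aschbacher

open Matrix
open Cfsg.Agent.PrimeDim

variable {ι : Type} [Fintype ι] [DecidableEq ι] {F : Type*} [Field F]

/-! ### Blocks of dimension two -/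

theorem exists_block_coord {t : ℕ} {D : Fin t → Submodule F (ι → F)} (hD : Geo.IsMDecomposition 2 D) :
    ∃ e : (ι → F) ≃ₗ[F] (Fin t → Fin 2 → F), ∀ g ∈ Geo.decompositionStabilizer D,
      ∃ (σ : Equiv.Perm (Fin t)) (A : Fin t → Matrix (Fin 2) (Fin 2) F), (∀ i, (A i).det ≠ 0) ∧
        ∀ x i, e ((g : Matrix ι ι F) *ᵥ x) (σ i) = A i *ᵥ e x i := by
  classical
  let b : ∀ i, Module.Basis (Fin 2) F (D i) := fun i => Module.finBasisOfFinrankEq F (D i) (hD.finrank_eq i)
  let c : (ι → F) →ₗ[F] (Fin t → Fin 2 → F) := LinearMap.pi fun i =>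
    (b i).equivFun.toLinearMap ∘ₗ LinearMap.codRestrict (D i) (Transvect.pr hD i) (Transvect.pr_mem hD i)
  let d : (Fin t → Fin 2 → F) →ₗ[F] (ι → F) :=
    ∑ i, (D i).subtype ∘ₗ (b i).equivFun.symm.toLinearMap ∘ₗ LinearMap.proj i
  have hc : ∀ i x (hx : x ∈ D i), c x i = (b i).equivFun ⟨x, hx⟩ := fun i x hx => by
    show (b i).equivFun _ = _
    congr 1
    exact Subtype.ext (Transvect.pr_of_mem hD hx)
  have hc0 : ∀ i j x, j ≠ i → x ∈ D j → c x i = 0 := fun i j x hji hx => by
    show (b i).equivFun _ = _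
    rw [← map_zero (b i).equivFun]
    congr 1
    exact Subtype.ext (Transvect.pr_of_mem_ne hD hji hx)
  have h1 : d ∘ₗ c = LinearMap.id := by
    refine Transvect.ext_blocks hD fun j x hx => ?_
    simp only [LinearMap.comp_apply, d, LinearMap.sum_apply, LinearMap.proj_apply, LinearMap.id_apply]
    rw [Finset.sum_eq_single j]
    · rw [hc j x hx]; simp
    · intro i _ hi; rw [hc0 i j x (Ne.symm hi) hx]; simp
    · simp
  have h2 : c ∘ₗ d = LinearMap.id := by
    refine LinearMap.ext fun v => funext fun i => ?_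
    simp only [LinearMap.comp_apply, d, LinearMap.sum_apply, LinearMap.proj_apply, LinearMap.id_apply,
      map_sum, Finset.sum_apply]
    rw [Finset.sum_eq_single i]
    · rw [LinearEquiv.coe_coe, Submodule.coe_subtype, hc i _ (Submodule.coe_mem _)]
      exact (b i).equivFun.apply_symm_apply (v i)
    · intro j _ hj; exact hc0 i j _ hj (Submodule.coe_mem _)
    · simp
  refine ⟨LinearEquiv.ofLinear c d h2 h1, fun g hg => ?_⟩
  obtain ⟨σ, hσ⟩ := Transvect.exists_blockMap hg
  let L : ∀ i, (Fin 2 → F) →ₗ[F] (Fin 2 → F) := fun i =>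
    LinearMap.proj (σ i) ∘ₗ c ∘ₗ Matrix.toLin' (g : Matrix ι ι F) ∘ₗ (D i).subtype ∘ₗ
      (b i).equivFun.symm.toLinearMap
  have hL : ∀ i x, c ((g : Matrix ι ι F) *ᵥ x) (σ i) = L i (c x i) := by
    intro i
    have : LinearMap.proj (σ i) ∘ₗ c ∘ₗ Matrix.toLin' (g : Matrix ι ι F) =
        L i ∘ₗ LinearMap.proj i ∘ₗ c := by
      refine Transvect.ext_blocks hD fun j x hx => ?_
      simp only [LinearMap.comp_apply, LinearMap.proj_apply, L]
      rcases eq_or_ne j i with rfl | hji
      · rw [hc j x hx]; simp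
      · have hgx : Matrix.toLin' (g : Matrix ι ι F) x ∈ D (σ j) := by
          rw [Matrix.toLin'_apply]; exact hσ j x hx
        rw [hc0 (σ i) (σ j) _ (σ.injective.ne hji) hgx, hc0 i j x hji hx]
        simp
    intro x
    have := LinearMap.congr_fun this x
    simpa using this
  have hinj : ∀ i, Function.Injective (L i) := by
    intro i u v huv
    have hmem : ∀ w : Fin 2 → F, (g : Matrix ι ι F) *ᵥ ((b i).equivFun.symm w : ι → F) ∈ D (σ i) :=
      fun w => hσ i _ (Submodule.coe_mem _)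
    simp only [L, LinearMap.comp_apply, LinearMap.proj_apply, Matrix.toLin'_apply, LinearEquiv.coe_coe,
      Submodule.coe_subtype, hc _ _ (hmem _)] at huv
    have h3 := congrArg (((g⁻¹ : GL ι F) : Matrix ι ι F) *ᵥ ·)
      (congrArg Subtype.val ((b (σ i)).equivFun.injective huv))
    simp only [Matrix.mulVec_mulVec, Units.inv_mul, Matrix.one_mulVec] at h3
    exact (b i).equivFun.symm.injective (Subtype.ext h3)
  refine ⟨σ, fun i => LinearMap.toMatrix' (L i), fun i => ?_, fun x i => ?_⟩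
  · rw [LinearMap.det_toMatrix']
    exact (LinearEquiv.isUnit_det' (LinearEquiv.ofInjectiveEndo (L i) (hinj i))).ne_zero
  · rw [LinearMap.toMatrix'_mulVec]
    exact hL i x

/-- The sum of the determinant forms of the blocks. -/
theorem exists_block_form {t : ℕ} {D : Fin t → Submodule F (ι → F)} (hD : Geo.IsMDecomposition 2 D) :
    ∃ f : (ι → F) → (ι → F) → F, Geo.IsSymplecticForm f ∧ ∀ g ∈ Geo.decompositionStabilizer D,
      ∃ (e : (ι → F) ≃ₗ[F] (Fin t → Fin 2 → F)) (σ : Equiv.Perm (Fin t)) (A : Fin t → Matrix (Fin 2) (Fin 2) F),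
        (∀ i, (A i).det ≠ 0) ∧ (∀ x i, e ((g : Matrix ι ι F) *ᵥ x) (σ i) = A i *ᵥ e x i) ∧
        ∀ d : F, d ≠ 0 → (∀ i, (A i).det = d) → g ∈ Geo.similarityGroup f := by
  classical
  obtain ⟨e, he⟩ := exists_block_coord hD
  refine ⟨fun u v => ∑ i, (e u i 0 * e v i 1 - e u i 1 * e v i 0), ⟨⟨?_, ?_, ?_, ?_⟩, ?_, ?_, ?_⟩,
    fun g hg => ?_⟩
  · intro x y v; simp only [map_add, Pi.add_apply, ← Finset.sum_add_distrib]
    exact Finset.sum_congr rfl fun i _ => by ring
  · intro c x v; simp only [map_smul, Pi.smul_apply, smul_eq_mul, Finset.mul_sum]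
    exact Finset.sum_congr rfl fun i _ => by ring
  · intro v x y; simp only [map_add, Pi.add_apply, ← Finset.sum_add_distrib]
    exact Finset.sum_congr rfl fun i _ => by ring
  · intro c v x; simp only [map_smul, Pi.smul_apply, smul_eq_mul, Finset.mul_sum]
    exact Finset.sum_congr rfl fun i _ => by ring
  · intro v w; simp only [← Finset.sum_neg_distrib]
    exact Finset.sum_congr rfl fun i _ => by ring
  · intro v; exact Finset.sum_eq_zero fun i _ => by ring
  · intro v hv
    obtain ⟨i, k, hik⟩ : ∃ i k, e v i k ≠ 0 := by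
      by_contra hc
      simp only [not_exists, not_not] at hc
      exact hv (e.injective (funext fun i => funext fun k => by simp [hc i k]))
    obtain ⟨w, h1, h2⟩ : ∃ w : Fin 2 → F, e v i 0 * w 1 - e v i 1 * w 0 ≠ 0 ∧
        w 0 * e v i 1 - w 1 * e v i 0 ≠ 0 := by
      fin_cases k
      · exact ⟨![0, 1], by simpa using hik⟩
      · exact ⟨![1, 0], by simpa using hik⟩
    refine ⟨⟨e.symm (Pi.single i w), ?_⟩, ⟨e.symm (Pi.single i w), ?_⟩⟩
    · dsimp only
      rw [Finset.sum_eq_single i]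
      · simpa using h2
      · intro j _ hj; simp [Pi.single_eq_of_ne hj]
      · simp
    · dsimp only
      rw [Finset.sum_eq_single i]
      · simpa using h1
      · intro j _ hj; simp [Pi.single_eq_of_ne hj]
      · simp
  · obtain ⟨σ, A, hA0, hA⟩ := he g hg
    refine ⟨e, σ, A, hA0, hA, fun d hd0 hd => ⟨Units.mk0 d hd0, fun u v => ?_⟩⟩
    dsimp only
    rw [Units.val_mk0, ← Equiv.sum_comp σ, Finset.mul_sum]
    refine Finset.sum_congr rfl fun i _ => ?_
    rw [hA, hA, ← hd i, Matrix.det_fin_two]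
    simp only [Matrix.mulVec, dotProduct, Fin.sum_univ_two]
    ring

theorem block_two_symplectic [Fintype F] (hq : Fintype.card F = 2) {t : ℕ} {D : Fin t → Submodule F (ι → F)}
    (hD : Geo.IsMDecomposition 2 D) :
    ∃ f : (ι → F) → (ι → F) → F, Geo.IsSymplecticForm f ∧ Geo.decompositionStabilizer D ≤ Geo.similarityGroup f := by
  obtain ⟨f, hf, h⟩ := exists_block_form hD
  refine ⟨f, hf, fun g hg => ?_⟩
  obtain ⟨e, σ, A, hA0, -, h1⟩ := h g hg
  exact h1 1 one_ne_zero fun i => by simpa [hq] using FiniteField.pow_card_sub_one_eq_one _ (hA0 i)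

/-- Over three elements two planes in dimension four give a symplectic group. -/
theorem four_planes_three [Fintype F] (hq : Fintype.card F = 3) {D : Fin 2 → Submodule F (ι → F)}
    (hD : Geo.IsMDecomposition 2 D) :
    ∃ f : (ι → F) → (ι → F) → F, Geo.IsSymplecticForm f ∧
      Geo.decompositionStabilizer D ⊓ Geo.specialLinear ι F ≤ Geo.similarityGroup f := by
  classical
  obtain ⟨f, hf, h⟩ := exists_block_form hD
  refine ⟨f, hf, fun g hg => ?_⟩
  obtain ⟨e, σ, A, hA0, hA, h1⟩ := h g hg.1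
  set e' : (ι → F) ≃ₗ[F] (Fin 4 → F) := e.trans
    ((LinearEquiv.curry F F (Fin 2) (Fin 2)).symm.trans (LinearEquiv.funCongrLeft F F (finProdFinEquiv (m := 2) (n := 2)).symm))
    with he'
  set L : (Fin 4 → F) →ₗ[F] (Fin 4 → F) :=
    e'.toLinearMap ∘ₗ Matrix.toLin' (g : Matrix ι ι F) ∘ₗ e'.symm.toLinearMap with hL
  have hdetL : LinearMap.det L = 1 := by
    rw [hL, LinearMap.det_conj, LinearMap.det_toLin']
    exact Transvect.mem_sl_iff.mp hg.2
  have hidx : ∀ x (i k : Fin 2), e' x (finProdFinEquiv (i, k)) = e x i k := fun x i k => by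
    simp [he', LinearEquiv.funCongrLeft_apply, LinearMap.funLeft_apply, Function.uncurry]
  have hM : ∀ (i j k l : Fin 2), LinearMap.toMatrix' L (finProdFinEquiv (σ i, k)) (finProdFinEquiv (j, l))
      = if i = j then A i k l else 0 := by
    intro i j k l
    rw [LinearMap.toMatrix'_apply]
    simp only [hL, LinearMap.comp_apply, LinearEquiv.coe_coe, Matrix.toLin'_apply]
    rw [hidx, hA]
    have : e (e'.symm (Pi.single (finProdFinEquiv (j, l)) 1)) i = if i = j then Pi.single l 1 else 0 := by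
      funext m
      rw [← hidx, LinearEquiv.apply_symm_apply]
      by_cases hij : i = j
      · subst hij; simp [Pi.single_apply]
      · simp [Pi.single_apply, hij]
    rw [this]
    by_cases hij : i = j
    · simp [hij, Matrix.mulVec_single]
    · simp [hij]
  have hσ : σ = 1 ∨ σ = Equiv.swap 0 1 := (by decide : ∀ s : Equiv.Perm (Fin 2), s = 1 ∨ s = Equiv.swap 0 1) σ
  have hdet : (A 0).det * (A 1).det = 1 := by
    rw [← hdetL, ← LinearMap.det_toMatrix', Matrix.det_succ_row_zero]
    simp only [Fin.sum_univ_succ, Matrix.det_succ_row_zero, Matrix.submatrix_apply,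
      Matrix.det_fin_two]
    have h00 := hM 0 0; have h01 := hM 0 1; have h10 := hM 1 0; have h11 := hM 1 1
    rcases hσ with rfl | rfl
    all_goals
      have a0 := h00 0 0; have a1 := h00 0 1; have a2 := h00 1 0; have a3 := h00 1 1
      have b0 := h01 0 0; have b1 := h01 0 1; have b2 := h01 1 0; have b3 := h01 1 1
      have c0 := h10 0 0; have c1 := h10 0 1; have c2 := h10 1 0; have c3 := h10 1 1
      have d0 := h11 0 0; have d1 := h11 0 1; have d2 := h11 1 0; have d3 := h11 1 1
      simp [finProdFinEquiv, Fin.succAbove] at a0 a1 a2 a3 b0 b1 b2 b3 c0 c1 c2 c3 d0 d1 d2 d3 ⊢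
      simp [a0, a1, a2, a3, b0, b1, b2, b3, c0, c1, c2, c3, d0, d1, d2, d3]
      ring
  have hsq : (A 0).det * (A 0).det = 1 := by
    simpa [hq, sq] using FiniteField.pow_card_sub_one_eq_one _ (hA0 0)
  refine h1 (A 0).det (hA0 0) (Fin.forall_fin_two.mpr ⟨rfl, ?_⟩)
  linear_combination (A 0).det * hdet - (A 1).det * hsq

/-! ### Tensor products with a factor of dimension two over two elements -/

theorem tensor_two_not_noField [Fintype F] [Nonempty ι] (hq : Fintype.card F = 2) {t : ℕ} (ht : 0 < t)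
    (hn : 2 ∣ Fintype.card ι) {H : Subgroup (GL ι F)} (e : ι ≃ Fin 2 × Fin t) (P : GL ι F)
    (hle : H ≤ Geo.tensorProductSubgroup 2 t e P) : ¬ NoField H := by
  classical
  intro hnf
  have h01 : ∀ x : F, x = 0 ∨ x = 1 := by
    intro x
    rcases eq_or_ne x 0 with h | h
    · exact Or.inl h
    · exact Or.inr (by simpa [hq] using FiniteField.pow_card_sub_one_eq_one x h)
  have h2 : (2 : F) = 0 := by
    have := FiniteField.cast_card_eq_zero F
    rw [hq] at this
    exact_mod_cast this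
  have : CharP F 2 := CharTwo.of_one_ne_zero_of_two_eq_zero one_ne_zero h2
  set ω : Matrix (Fin 2) (Fin 2) F := !![0, 1; 1, 1] with hω
  have hωω : ω * ω = ω + 1 := by
    ext i j; fin_cases i <;> fin_cases j <;> simp [hω, Matrix.mul_apply, Fin.sum_univ_two, CharTwo.add_self_eq_zero]
  let φ : Matrix (Fin 2) (Fin 2) F → Matrix ι ι F := fun X => cj P (tens e X 1)
  have hφadd : ∀ X Y, φ (X + Y) = φ X + φ Y := fun X Y => by
    simp only [φ]; rw [← map_add]; congr 1; ext a b; simp [tens_apply, add_mul]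
  have hφsmul : ∀ (c : F) X, φ (c • X) = c • φ X := fun c X => by
    simp only [φ]; rw [← map_smul]; congr 1; ext a b; simp [tens_apply, mul_assoc]
  have hφmul : ∀ X Y, φ (X * Y) = φ X * φ Y := fun X Y => by
    simp only [φ]; rw [← map_mul, tens_mul, mul_one]
  have hφone : φ 1 = 1 := by simp only [φ]; rw [tens_one, map_one]
  have hφinj : ∀ X, φ X = 0 → X = 0 := by
    intro X hX
    have h1 := congrArg (cj P⁻¹) hX
    simp only [φ, cj_inv_cj, map_zero] at h1
    ext i j
    have := congrFun (congrFun h1 (e.symm (i, ⟨0, ht⟩))) (e.symm (j, ⟨0, ht⟩))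
    rw [tens_apply, Equiv.apply_symm_apply, Equiv.apply_symm_apply, Matrix.one_apply_eq, mul_one] at this; exact this
  let K : Subalgebra F (Matrix ι ι F) :=
    { carrier := {M | ∃ a b : F, M = φ (a • 1 + b • ω)}
      one_mem' := ⟨1, 0, by simp [hφone]⟩
      mul_mem' := by
        rintro _ _ ⟨a, b, rfl⟩ ⟨a', b', rfl⟩
        refine ⟨a * a' + b * b', a * b' + b * a' + b * b', ?_⟩
        rw [← hφmul]
        congr 1
        simp only [add_mul, mul_add, smul_mul_assoc, mul_smul_comm, one_mul, mul_one, hωω, smul_add, smul_smul,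
          add_smul]
        module
      zero_mem' := ⟨0, 0, by simpa using (by simpa using hφsmul 0 0 : φ 0 = 0).symm⟩
      add_mem' := by
        rintro _ _ ⟨a, b, rfl⟩ ⟨a', b', rfl⟩
        exact ⟨a + a', b + b', by rw [← hφadd]; congr 1; module⟩
      algebraMap_mem' := fun r => ⟨r, 0, by
        rw [zero_smul, add_zero, hφsmul, hφone, Algebra.algebraMap_eq_smul_one]⟩ }
  have hK : Geo.IsFieldSubalgebra 2 K := by
    refine ⟨?_, ?_, ?_⟩
    · rintro _ ⟨a, b, rfl⟩ _ ⟨a', b', rfl⟩
      rw [← hφmul, ← hφmul]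
      congr 1
      simp only [add_mul, mul_add, smul_mul_assoc, mul_smul_comm, one_mul, mul_one, smul_add, smul_smul]
      module
    · rintro _ ⟨a, b, rfl⟩ hne
      rcases h01 a with rfl | rfl <;> rcases h01 b with rfl | rfl
      · exact absurd (by simpa using hφsmul 0 0) hne
      · exact ⟨φ (1 • 1 + (1 : F) • ω), ⟨1, 1, by simp⟩, by
          rw [← hφmul, ← hφone]; congr 1
          ext i j; fin_cases i <;> fin_cases j <;> simp [hω, Matrix.mul_apply, Fin.sum_univ_two, CharTwo.add_self_eq_zero]⟩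
      · exact ⟨1, ⟨1, 0, by simp [hφone]⟩, by simp [hφone]⟩
      · exact ⟨φ ω, ⟨0, 1, by simp⟩, by
          rw [← hφmul, ← hφone]; congr 1
          ext i j; fin_cases i <;> fin_cases j <;> simp [hω, Matrix.mul_apply, Fin.sum_univ_two, CharTwo.add_self_eq_zero]⟩
    · let B : (Fin 2 → F) →ₗ[F] Matrix ι ι F :=
        { toFun := fun v => φ (v 0 • 1 + v 1 • ω)
          map_add' := fun u v => by rw [← hφadd]; congr 1; simp only [Pi.add_apply]; module
          map_smul' := fun c v => by
            simp only [RingHom.id_apply, ← hφsmul, Pi.smul_apply, smul_eq_mul]; congr 1; module }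
      have hB : Function.Injective B := by
        rw [injective_iff_map_eq_zero]
        intro v hv
        have h1 := hφinj _ hv
        have h00 := congrFun (congrFun h1 0) 0
        have h10 := congrFun (congrFun h1 1) 0
        simp [hω] at h00 h10
        funext k; fin_cases k <;> simp [h00, h10]
      have hr : LinearMap.range B = Subalgebra.toSubmodule K := by
        ext M
        exact ⟨fun ⟨v, hv⟩ => ⟨v 0, v 1, hv.symm⟩, fun ⟨a, b, hab⟩ => ⟨![a, b], by simpa [B] using hab.symm⟩⟩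
      rw [← Subalgebra.finrank_toSubmodule, ← hr, LinearMap.finrank_range_of_inj hB]
      simp
  refine hnf 2 K Nat.prime_two hn hK (NormAlg.le_normalizer ?_)
  rintro g hg _ ⟨a, b, rfl⟩
  obtain ⟨u, v, huv⟩ := (mem_tensorProductSubgroup_iff e P g).mp (hle hg)
  have hgi : ((g⁻¹ : GL ι F) : Matrix ι ι F) = cj P (tens e ((u⁻¹ : GL (Fin 2) F) : Matrix (Fin 2) (Fin 2) F)
      ((v⁻¹ : GL (Fin t) F) : Matrix (Fin t) (Fin t) F)) := by
    refine Units.inv_eq_of_mul_eq_one_right ?_
    rw [huv, ← map_mul, tens_mul, Units.mul_inv, Units.mul_inv, tens_one, map_one]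
  have hcj : cj g (φ (a • 1 + b • ω)) =
      φ (a • 1 + b • ((u : Matrix (Fin 2) (Fin 2) F) * ω * ((u⁻¹ : GL (Fin 2) F) : Matrix (Fin 2) (Fin 2) F))) := by
    rw [cj_apply, huv, hgi]
    simp only [φ]
    rw [← map_mul, ← map_mul, tens_mul, tens_mul, mul_one, Units.mul_inv]
    simp [add_mul, mul_add, smul_mul_assoc, mul_smul_comm]
  have hu : (u : Matrix (Fin 2) (Fin 2) F) * ω = ω * u ∨ (u : Matrix (Fin 2) (Fin 2) F) * ω = (ω + 1) * u := by
    obtain ⟨U, hU⟩ : ∃ U : Matrix (Fin 2) (Fin 2) F, U = u := ⟨_, rfl⟩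
    have hd : U.det ≠ 0 := hU ▸ (Matrix.GeneralLinearGroup.det u).ne_zero
    rw [← hU]
    rw [Matrix.det_fin_two] at hd
    simp only [← Matrix.ext_iff, Fin.forall_fin_two, Matrix.mul_apply, Fin.sum_univ_two, hω]
    rcases h01 (U 0 0) with h₁ | h₁ <;> rcases h01 (U 0 1) with h₂ | h₂ <;>
      rcases h01 (U 1 0) with h₃ | h₃ <;> rcases h01 (U 1 1) with h₄ | h₄ <;>
      simp [h₁, h₂, h₃, h₄, CharTwo.add_self_eq_zero] at hd ⊢
  rw [hcj]
  rcases hu with hu | hu
  · exact ⟨a, b, by rw [hu, mul_assoc, Units.mul_inv, mul_one]⟩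
  · exact ⟨a + b, b, by rw [hu, mul_assoc, Units.mul_inv, mul_one]; congr 1; module⟩

/-! ### Two tensor factors of dimension two -/

theorem tensor_four_form [Fintype F] {H : Subgroup (GL ι F)} (e : ι ≃ Fin 2 × Fin 2) (P : GL ι F)
    (hle : H ≤ Geo.tensorProductSubgroup 2 2 e P) : FormOutcome H := by
  classical
  let z : (ι → F) →ₗ[F] (Fin 2 × Fin 2 → F) :=
    (LinearMap.funLeft F F e.symm) ∘ₗ Matrix.toLin' ((P⁻¹ : GL ι F) : Matrix ι ι F)
  let Q : (ι → F) → F := fun v => z v (0, 0) * z v (1, 1) - z v (0, 1) * z v (1, 0)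
  have hz : ∀ v, z v = 0 → v = 0 := by
    intro v hv
    have h1 : ((P⁻¹ : GL ι F) : Matrix ι ι F) *ᵥ v = 0 := funext fun a => by
      have := congrFun hv (e a)
      simpa [z, LinearMap.funLeft_apply] using this
    have h2 := congrArg ((P : Matrix ι ι F) *ᵥ ·) h1
    simpa [Matrix.mulVec_mulVec] using h2
  have hzs : Function.Surjective z := fun w =>
    ⟨(P : Matrix ι ι F) *ᵥ (w ∘ e), by funext p; simp [z, LinearMap.funLeft_apply, Matrix.mulVec_mulVec]⟩
  have hpol : ∀ u v, QuadraticMap.polar Q u v =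
      z u (0, 0) * z v (1, 1) + z v (0, 0) * z u (1, 1) - (z u (0, 1) * z v (1, 0) + z v (0, 1) * z u (1, 0)) := by
    intro u v; simp only [QuadraticMap.polar, Q, map_add, Pi.add_apply]; ring
  have hb : Geo.IsBilinearForm (QuadraticMap.polar Q) := by
    refine ⟨?_, ?_, ?_, ?_⟩ <;> intros <;>
      simp only [hpol, map_add, map_smul, Pi.add_apply, Pi.smul_apply, smul_eq_mul] <;> ring
  have hnd : Geo.IsNondegenerateForm (QuadraticMap.polar Q) := by
    intro v hv
    suffices h : ∃ x, QuadraticMap.polar Q v x ≠ 0 from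
      ⟨h.imp fun x hx => by rwa [QuadraticMap.polar_comm], h⟩
    by_contra hc
    simp only [not_exists, not_not] at hc
    refine hv (hz v (funext fun p => ?_))
    obtain ⟨i, j⟩ := p
    obtain ⟨x, hx⟩ := hzs (Pi.single (1 - i, 1 - j) 1)
    have := hc x
    rw [hpol, hx] at this
    fin_cases i <;> fin_cases j <;> simpa using this
  have hsim : ∀ g ∈ H, ∃ c : Fˣ, ∀ v, Q ((g : Matrix ι ι F) *ᵥ v) = (c : F) * Q v := by
    intro g hg
    obtain ⟨a, b, hab⟩ := (mem_tensorProductSubgroup_iff e P g).mp (hle hg)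
    have hzg : ∀ v (p : Fin 2 × Fin 2), z ((g : Matrix ι ι F) *ᵥ v) p =
        ∑ q : Fin 2 × Fin 2, (a : Matrix (Fin 2) (Fin 2) F) p.1 q.1 * (b : Matrix (Fin 2) (Fin 2) F) p.2 q.2 * z v q := by
      intro v p
      simp only [z, LinearMap.comp_apply, LinearMap.funLeft_apply, Matrix.toLin'_apply, Matrix.mulVec_mulVec]
      rw [hab, cj_apply, ← mul_assoc, ← mul_assoc, Units.inv_mul, one_mul, ← Matrix.mulVec_mulVec, Matrix.mulVec,
        dotProduct, ← Equiv.sum_comp e.symm]
      exact Finset.sum_congr rfl fun q _ => by simp [tens_apply]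
    refine ⟨Matrix.GeneralLinearGroup.det a * Matrix.GeneralLinearGroup.det b, fun v => ?_⟩
    simp only [Q, hzg, Units.val_mul, Matrix.GeneralLinearGroup.val_det_apply, Matrix.det_fin_two,
      Fintype.sum_prod_type, Fin.sum_univ_two]
    ring
  by_cases h2 : (2 : F) = 0
  · have : CharP F 2 := CharTwo.of_one_ne_zero_of_two_eq_zero one_ne_zero h2
    refine Or.inl ⟨QuadraticMap.polar Q, ⟨hb, fun v w => ?_, fun v => ?_, hnd⟩, fun g hg => ?_⟩
    · rw [CharTwo.neg_eq, QuadraticMap.polar_comm]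
    · rw [hpol]; linear_combination (z v (0, 0) * z v (1, 1) - z v (0, 1) * z v (1, 0)) * h2
    · obtain ⟨c, hc⟩ := hsim g hg
      refine ⟨c, fun u v => ?_⟩
      simp only [QuadraticMap.polar, ← Matrix.mulVec_add, hc]
      ring
  · refine Or.inr (Or.inl ⟨odd_card_of_two_ne_zero h2, Q, ⟨fun c v => ?_, hb, hnd⟩, hsim⟩)
    simp only [Q, map_smul, Pi.smul_apply, smul_eq_mul]; ring

end Cfsg.Agent.Aschbacher
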