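/-
Maximal subgroups of SL_n(q) for 3 ≤ n ≤ 17: each lies in a class and equals its intersection with SL.
Main result: `sl_cases`, `linear_data_facts`.
-/
import Cfsg.Agent.Lib.Aschbacher.FourLines
import Cfsg.Agent.Lib.Aschbacher.SmallQ

set_option autoImplicit false

namespace Cfsg.Agent.Aschbacher

open Matrix
open Cfsg.Agent.PrimeDim

variable {n : ℕ} {F : Type*} [Field F] [Fintype F]

/-- Arithmetic of the symplectic-type data. -/
theorem linear_data_facts {r m : ℕ} {R : Subgroup (GL (Fin n) F)} (hn3 : 3 ≤ n) (hm1 : 1 ≤ m) (hn : n = r ^ m)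
    (hR : Geo.IsLinearSymplecticTypeData r R) :
    r.Prime ∧ r ∣ n ∧ (r = 2 → ∃ p, p.Prime ∧ Fintype.card F = p ∧ p % 4 = 1) ∧
      (r = 3 → ∃ p, p.Prime ∧ Fintype.card F = p ∧ p % 3 = 1) := by
  refine ⟨hR.symplecticType.prime, hn ▸ dvd_pow_self r (by omega), fun hr => ?_, fun hr => ?_⟩
  · subst hr
    obtain ⟨p, e, -, ⟨hp, -, hc, hz, -⟩, h⟩ := hR.field
    rcases h with ⟨h2, -⟩ | ⟨-, rfl, hZ, -⟩ | ⟨-, -, h2, -⟩
    · exact absurd h2 (by decide)
    · rw [hZ, pow_one] at hz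
      have := hp.two_le
      exact ⟨p, hp, by rw [hc, pow_one], by omega⟩
    · rw [Fintype.card_fin] at h2; omega
  · subst hr
    obtain ⟨p, e, hne, ⟨hp, -, hc, hz, hmin⟩, h⟩ := hR.field
    rcases h with ⟨-, he, hZ, -⟩ | ⟨h2, -⟩ | ⟨h2, -⟩
    · rw [hZ] at hz hmin
      have hp3 : p % 3 ≠ 0 := fun h0 => hne ((Nat.prime_dvd_prime_iff_eq Nat.prime_three hp).mp (Nat.dvd_of_mod_eq_zero h0))
      have h1 : p % 3 = 1 := by
        by_contra h1
        have h2 : p % 3 = 2 := by omega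
        obtain ⟨k, rfl⟩ := he
        have h3 : p ^ (2 * k + 1) % 3 = 2 := by
          rw [Nat.pow_mod, h2, pow_succ, pow_mul]
          simp [Nat.mul_mod, Nat.pow_mod]
        have h4 := Nat.one_le_pow (2 * k + 1) p hp.pos
        omega
      have he1 : e = 1 := by
        by_contra he1
        have := he.pos
        refine hmin 1 one_pos (by omega) ?_
        rw [pow_one]; omega
      exact ⟨p, hp, by rw [hc, he1, pow_one], h1⟩
    · omega
    · omega

/-- Every maximal subgroup of SL_n(q), 3 ≤ n ≤ 17, is in a class. -/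
theorem sl_cases (hn3 : 3 ≤ n) (hn : n < 18) {H : Subgroup (GL (Fin n) F)}
    (hH : Geo.IsMaximalIn (Geo.specialLinear (Fin n) F) H) :
    (∃ W : Submodule F (Fin n → F), W ≠ ⊥ ∧ W ≠ ⊤ ∧
      H = Geo.subspaceStabilizer W ⊓ Geo.specialLinear (Fin n) F) ∨
    (∃ (m t : ℕ) (D : Fin t → Submodule F (Fin n → F)), t * m = n ∧ 2 ≤ t ∧ 1 ≤ m ∧
      (m = 1 → 5 ≤ Fintype.card F) ∧ (m = 1 → n = 4 → 7 ≤ Fintype.card F) ∧
      (m = 2 → 3 ≤ Fintype.card F) ∧ (m = 2 → n = 4 → 4 ≤ Fintype.card F) ∧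
      Geo.IsMDecomposition m D ∧ H = Geo.decompositionStabilizer D ⊓ Geo.specialLinear (Fin n) F) ∨
    (∃ (r : ℕ) (K : Subalgebra F (Matrix (Fin n) (Fin n) F)), r.Prime ∧ r ∣ n ∧ Geo.IsFieldSubalgebra r K ∧
      H = Geo.subalgebraNormalizer K ⊓ Geo.specialLinear (Fin n) F) ∨
    (∃ (d t : ℕ) (e : Fin n ≃ Fin d × Fin t) (P : GL (Fin n) F), d * t = n ∧ 2 ≤ d ∧ d < t ∧
      (d = 2 → 3 ≤ Fintype.card F) ∧ H = Geo.tensorProductSubgroup d t e P ⊓ Geo.specialLinear (Fin n) F) ∨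
    (∃ (d : ℕ) (e : Fin n ≃ (Fin 2 → Fin d)) (P : GL (Fin n) F), 3 ≤ d ∧ d * d = n ∧
      H = Geo.tensorWreathSubgroup d 2 e P ⊓ Geo.specialLinear (Fin n) F) ∨
    (∃ (F₀ : Subfield F) (r : ℕ) (P : GL (Fin n) F), r.Prime ∧ Fintype.card F = Nat.card F₀ ^ r ∧
      H = Geo.subfieldSubgroup F₀ P ⊓ Geo.specialLinear (Fin n) F) ∨
    (∃ (r m : ℕ) (R : Subgroup (GL (Fin n) F)), 1 ≤ m ∧ n = r ^ m ∧ Geo.IsLinearSymplecticTypeData r R ∧
      H = Geo.subgroupNormalizer R ⊓ Geo.specialLinear (Fin n) F) ∨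
    (Odd (Fintype.card F) ∧ ∃ Q : (Fin n → F) → F, Geo.IsNondegenerateQuadraticForm Q ∧
      H = Geo.quadSimilarityGroup Q ⊓ Geo.specialLinear (Fin n) F) ∨
    (Even n ∧ ∃ f : (Fin n → F) → (Fin n → F) → F, Geo.IsSymplecticForm f ∧
      H = Geo.similarityGroup f ⊓ Geo.specialLinear (Fin n) F) ∨
    (∃ (σ : F ≃+* F) (f : (Fin n → F) → (Fin n → F) → F), Geo.IsUnitaryForm σ f ∧
      H = Geo.similarityGroup f ⊓ Geo.specialLinear (Fin n) F) ∨
    Geo.InLinearResidualClass H := by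
  classical
  have hcard : Fintype.card (Fin n) = n := Fintype.card_fin n
  have h3 : 3 ≤ Fintype.card (Fin n) := by omega
  have : Nonempty (Fin n) := ⟨⟨0, by omega⟩⟩
  have key : ∀ M : Subgroup (GL (Fin n) F), H ≤ M → ¬ Geo.specialLinear (Fin n) F ≤ M →
      H = M ⊓ Geo.specialLinear (Fin n) F := by
    intro M h1 h2
    rcases hH.2 (M ⊓ Geo.specialLinear (Fin n) F) (le_inf h1 hH.1.le) inf_le_right with h | h
    · exact h.symm
    · exact absurd (h ▸ inf_le_left) h2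
  have hW : ∀ W : Submodule F (Fin n → F), W ≠ ⊥ → W ≠ ⊤ → H ≤ Geo.subspaceStabilizer W →
      H = Geo.subspaceStabilizer W ⊓ Geo.specialLinear (Fin n) F :=
    fun W hb ht hle => key _ hle (not_sl_le_subspaceStabilizer hb ht)
  have hsymp : ∀ f : (Fin n → F) → (Fin n → F) → F, Geo.IsSymplecticForm f → H ≤ Geo.similarityGroup f →
      Even n ∧ H = Geo.similarityGroup f ⊓ Geo.specialLinear (Fin n) F := fun f hf hle =>
    ⟨(Nat.even_or_odd n).resolve_right fun ho => not_symplectic_of_odd (hcard.symm ▸ ho) f hf,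
      key _ hle (not_sl_le_similarityGroup h3 hf.bilinear.add_right (fun c v x hc hv => by
        rw [hf.bilinear.smul_right]; exact mul_ne_zero hc hv) hf.nondegenerate)⟩
  have hQ : ∀ Q : (Fin n → F) → F, Geo.IsNondegenerateQuadraticForm Q → H ≤ Geo.quadSimilarityGroup Q →
      H = Geo.quadSimilarityGroup Q ⊓ Geo.specialLinear (Fin n) F :=
    fun Q hQ hle => key _ hle (not_sl_le_quadSimilarityGroup h3 hQ)
  have hU : ∀ (σ : F ≃+* F) (f : (Fin n → F) → (Fin n → F) → F), Geo.IsUnitaryForm σ f →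
      H ≤ Geo.similarityGroup f → H = Geo.similarityGroup f ⊓ Geo.specialLinear (Fin n) F :=
    fun σ f hf hle => key _ hle (not_sl_le_similarityGroup h3 (similarity_hyp_unitary hf).1
      (similarity_hyp_unitary hf).2 hf.nondegenerate)
  have hform : FormOutcome H →
      (Odd (Fintype.card F) ∧ ∃ Q : (Fin n → F) → F, Geo.IsNondegenerateQuadraticForm Q ∧
        H = Geo.quadSimilarityGroup Q ⊓ Geo.specialLinear (Fin n) F) ∨
      (Even n ∧ ∃ f : (Fin n → F) → (Fin n → F) → F, Geo.IsSymplecticForm f ∧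
        H = Geo.similarityGroup f ⊓ Geo.specialLinear (Fin n) F) ∨
      (∃ (σ : F ≃+* F) (f : (Fin n → F) → (Fin n → F) → F), Geo.IsUnitaryForm σ f ∧
        H = Geo.similarityGroup f ⊓ Geo.specialLinear (Fin n) F) := by
    rintro (⟨f, hf, hle⟩ | ⟨ho, Q, hQ', hle⟩ | ⟨σ, f, hf, hle⟩)
    · exact Or.inr (Or.inl ⟨(hsymp f hf hle).1, f, hf, (hsymp f hf hle).2⟩)
    · exact Or.inl ⟨Nat.card_eq_fintype_card (α := F) ▸ ho, Q, hQ', hQ Q hQ' hle⟩
    · exact Or.inr (Or.inr ⟨σ, f, hf, hU σ f hf hle⟩)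
  rcases aschbacher h3 (by omega) H with ⟨W, hb, ht, hle⟩ | ⟨m, t, D, htm, hD, hle⟩ | ⟨r, K, hr, hrn, hK, hle⟩ |
    ⟨hnf, d, t, hd, ht, hT⟩ | hf | ⟨d, hd, hdn, hWr⟩ | ⟨F₀, r, P, hr, hc, hne, hle⟩ |
    ⟨r, R, m, hm1, hm, hR, hle⟩ | h
  · exact Or.inl ⟨W, hb, ht, hW W hb ht hle⟩
  · rw [hcard] at htm
    have goal : (m = 1 → 5 ≤ Fintype.card F) → (m = 1 → n = 4 → 7 ≤ Fintype.card F) →
        (m = 2 → 3 ≤ Fintype.card F) → (m = 2 → n = 4 → 4 ≤ Fintype.card F) →
        ∃ (m t : ℕ) (D : Fin t → Submodule F (Fin n → F)), t * m = n ∧ 2 ≤ t ∧ 1 ≤ m ∧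
          (m = 1 → 5 ≤ Fintype.card F) ∧ (m = 1 → n = 4 → 7 ≤ Fintype.card F) ∧
          (m = 2 → 3 ≤ Fintype.card F) ∧ (m = 2 → n = 4 → 4 ≤ Fintype.card F) ∧
          Geo.IsMDecomposition m D ∧ H = Geo.decompositionStabilizer D ⊓ Geo.specialLinear (Fin n) F :=
      fun a b c e => ⟨m, t, D, htm, hD.two_le, hD.pos, a, b, c, e, hD, key _ hle (not_sl_le_decomposition hD)⟩
    by_cases hm2 : m = 2
    · subst hm2
      by_cases hq : Fintype.card F = 2
      · obtain ⟨f, hf, h⟩ := block_two_symplectic hq hD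
        rcases hform (Or.inl ⟨f, hf, hle.trans h⟩) with h | h | h
        · exact Or.inr <| Or.inr <| Or.inr <| Or.inr <| Or.inr <| Or.inr <| Or.inr <| Or.inl h
        · exact Or.inr <| Or.inr <| Or.inr <| Or.inr <| Or.inr <| Or.inr <| Or.inr <| Or.inr <| Or.inl h
        · exact Or.inr <| Or.inr <| Or.inr <| Or.inr <| Or.inr <| Or.inr <| Or.inr <| Or.inr <| Or.inr <| Or.inl h
      have h2 : 2 ≤ Fintype.card F := Fintype.one_lt_card
      by_cases hq4 : n = 4 ∧ Fintype.card F = 3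
      · obtain rfl : t = 2 := by omega
        obtain ⟨f, hf, h⟩ := four_planes_three hq4.2 hD
        obtain ⟨he, heq⟩ := hsymp f hf ((le_inf hle hH.1.le).trans h)
        exact Or.inr <| Or.inr <| Or.inr <| Or.inr <| Or.inr <| Or.inr <| Or.inr <| Or.inr <| Or.inl ⟨he, f, hf, heq⟩
      exact Or.inr (Or.inl (goal (by omega) (by omega) (fun _ => by omega) (fun _ h => by omega)))
    by_cases hm1 : m = 1
    · subst hm1
      by_cases hq : Fintype.card F < 5
      · rcases small_monomial h3 (by omega) hD hq with ⟨W, hb, ht', h⟩ | ⟨ho, Q, hQ', h⟩ | ⟨σ, f, hf, h⟩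
        · exact Or.inl ⟨W, hb, ht', hW W hb ht' (hle.trans h)⟩
        · exact Or.inr <| Or.inr <| Or.inr <| Or.inr <| Or.inr <| Or.inr <| Or.inr <| Or.inl
            ⟨ho, Q, hQ', hQ Q hQ' (hle.trans h)⟩
        · exact Or.inr <| Or.inr <| Or.inr <| Or.inr <| Or.inr <| Or.inr <| Or.inr <| Or.inr <| Or.inr <| Or.inl
            ⟨σ, f, hf, hU σ f hf (hle.trans h)⟩
      refine Or.inr (Or.inl (goal (by omega) (fun _ h4 => ?_) (by omega) (by omega)))
      by_contra h7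
      subst h4
      obtain rfl : t = 4 := by omega
      obtain ⟨p, hp⟩ := CharP.exists F
      obtain ⟨e, hpp, hpe⟩ := FiniteField.card F p
      have h6 : Fintype.card F ≠ 6 := fun h6 => by
        have a2 : 2 ∣ p := Nat.prime_two.dvd_of_dvd_pow (show 2 ∣ p ^ (e : ℕ) by omega)
        have a3 : 3 ∣ p := Nat.prime_three.dvd_of_dvd_pow (show 3 ∣ p ^ (e : ℕ) by omega)
        have := (Nat.prime_dvd_prime_iff_eq Nat.prime_two hpp).mp a2
        omega
      exact FourLines.four_lines_five (by omega) hD hH hle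
    exact Or.inr (Or.inl (goal (fun h => absurd h hm1) (fun h => absurd h hm1) (fun h => absurd h hm2) (fun h => absurd h hm2)))
  · exact Or.inr <| Or.inr <| Or.inl ⟨r, K, hr, hcard ▸ hrn, hK,
      key _ hle (not_sl_le_subalgebraNormalizer h3 hr.two_le hK)⟩
  · wlog hdt : d ≤ t generalizing d t
    · exact this t d ht hd hT.swap (by omega)
    have hdtn : d * t = n := hT.1.trans hcard
    let e : Fin n ≃ Fin d × Fin t := (finCongr hdtn.symm).trans finProdFinEquiv.symm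
    rcases Nat.lt_or_eq_of_le hdt with hlt | rfl
    · obtain ⟨P, hP⟩ := hT.2 e
      refine Or.inr <| Or.inr <| Or.inr <| Or.inl ⟨d, t, e, P, hdtn, hd, hlt, fun hd2 => ?_,
        key _ hP fun h => not_sl_le_tensor hd (by omega) e P fun i j _ => h (Transvect.tv_mem_sl _ _)⟩
      subst hd2
      by_contra hq
      have h2 : 2 ≤ Fintype.card F := Fintype.one_lt_card
      exact tensor_two_not_noField (by omega) (by omega) (by rw [hcard, ← hdtn]; exact dvd_mul_right 2 t) e P hP hnf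
    · obtain ⟨P, hP⟩ := hT.2 e
      rcases eq_or_ne d 2 with rfl | hd2
      · rcases hform (tensor_four_form e P hP) with h | h | h
        · exact Or.inr <| Or.inr <| Or.inr <| Or.inr <| Or.inr <| Or.inr <| Or.inr <| Or.inl h
        · exact Or.inr <| Or.inr <| Or.inr <| Or.inr <| Or.inr <| Or.inr <| Or.inr <| Or.inr <| Or.inl h
        · exact Or.inr <| Or.inr <| Or.inr <| Or.inr <| Or.inr <| Or.inr <| Or.inr <| Or.inr <| Or.inr <| Or.inl h
      · let e' : Fin n ≃ (Fin 2 → Fin d) := e.trans (finTwoArrowEquiv (Fin d)).symm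
        obtain ⟨P', hP'⟩ := hT.2 (e'.trans (finTwoArrowEquiv (Fin d)))
        exact Or.inr <| Or.inr <| Or.inr <| Or.inr <| Or.inl ⟨d, e', P', by omega, hdtn,
          key _ (hP'.trans (tensor_le_wreath e' P')) (not_sl_le_wreath (by omega) e' P')⟩
  · rcases hform hf with h | h | h
    · exact Or.inr <| Or.inr <| Or.inr <| Or.inr <| Or.inr <| Or.inr <| Or.inr <| Or.inl h
    · exact Or.inr <| Or.inr <| Or.inr <| Or.inr <| Or.inr <| Or.inr <| Or.inr <| Or.inr <| Or.inl h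
    · exact Or.inr <| Or.inr <| Or.inr <| Or.inr <| Or.inr <| Or.inr <| Or.inr <| Or.inr <| Or.inr <| Or.inl h
  · let e : Fin n ≃ (Fin 2 → Fin d) :=
      ((finCongr (hdn.trans hcard).symm).trans finProdFinEquiv.symm).trans (finTwoArrowEquiv (Fin d)).symm
    obtain ⟨P, hP⟩ := hWr e
    exact Or.inr <| Or.inr <| Or.inr <| Or.inr <| Or.inl ⟨d, e, P, hd, hdn.trans hcard,
      key _ hP (not_sl_le_wreath hd e P)⟩
  · exact Or.inr <| Or.inr <| Or.inr <| Or.inr <| Or.inr <| Or.inl ⟨F₀, r, P, hr,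
      Nat.card_eq_fintype_card (α := F) ▸ hc, key _ hle (not_sl_le_subfieldSubgroup (by omega) hne P)⟩
  · refine Or.inr <| Or.inr <| Or.inr <| Or.inr <| Or.inr <| Or.inr <| Or.inl ⟨r, m, R, hm1, hcard ▸ hm, hR,
      key _ hle (not_sl_le_normalizer (e := r * Nat.gcd 2 r) h3 ?_ (fun x hx => ?_) hR.absIrred.1)⟩
    · obtain ⟨p, e, hrp, ⟨hp, hpc, -⟩, -⟩ := hR.field
      rw [Ne, CharP.cast_eq_zero_iff F p, hp.dvd_mul]
      rintro (h | h)
      · exact hrp ((Nat.prime_dvd_prime_iff_eq hp hR.symplecticType.prime).mp h).symm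
      · exact hrp ((Nat.prime_dvd_prime_iff_eq hp hR.symplecticType.prime).mp (h.trans (Nat.gcd_dvd_right 2 r))).symm
    · have h1 := Monoid.pow_exponent_eq_one (⟨x, hx⟩ : R)
      rw [hR.symplecticType.exponent_eq] at h1
      exact congrArg Subtype.val h1
  · exact Or.inr <| Or.inr <| Or.inr <| Or.inr <| Or.inr <| Or.inr <| Or.inr <| Or.inr <| Or.inr <| Or.inr h

end Cfsg.Agent.Aschbacher
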