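/-
The subgroup structure theorem for the orthogonal groups in odd dimension, every dimension.
Main results: `orth_odd_structure`.
-/
import Cfsg.Agent.Lib.Aschbacher.OrthThree

set_option autoImplicit false

namespace Cfsg.Agent.Aschbacher

open Matrix
open scoped commutatorElement
open Cfsg.Agent.PrimeDim
open QuadraticMap (polar)

variable {F : Type*} [Field F] [Fintype F] {m : ℕ}

local notation "N" => Unit ⊕ (Fin m ⊕ Fin m)
local notation "Qo" => Orth.quadOdd m F
local notation "Φo" => gramQ (Orth.quadOdd m F)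
local notation "Io" => Cfsg.isometryGroup F (Cfsg.quadFormOdd m F)

theorem card_odd_index (m : ℕ) : Fintype.card (Unit ⊕ (Fin m ⊕ Fin m)) = 2 * m + 1 := by
  simp; omega

theorem odd_card_odd_index (m : ℕ) : Odd (Fintype.card (Unit ⊕ (Fin m ⊕ Fin m))) :=
  ⟨m, card_odd_index m⟩

/-- Subfield groups. -/
theorem orth_subfield_class {H : Subgroup (GL N F)} (hH : H ≤ Io)
    (h : ∃ (F₁ : Subfield F) (r : ℕ) (B : GL N F), r.Prime ∧ Fintype.card F = Nat.card F₁ ^ r ∧
      Geo.IsQuadFormRationalStructure (Cfsg.quadFormOdd m F) F₁ B ∧ H ≤ Geo.subfieldSubgroup F₁ B) :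
    ∃ M, Geo.InOrthogonalOddClass m F M ∧ H ≤ M := by
  obtain ⟨F₁, r, B, hr, hc, hform, hle⟩ := h
  exact ⟨_, Or.inr (Or.inr (Or.inr (Or.inr (Or.inr (Or.inr (Or.inl ⟨F₁, r, B, hr, hc, hform, rfl⟩)))))),
    le_inf hle hH⟩

/-- Orthogonal decompositions. -/
theorem orth_decomp (h2 : (2 : F) ≠ 0) {H : Subgroup (GL N F)} (hH : H ≤ Io)
    (hirr : Geo.ActsIrreducibly (Geo.matrixSet H)) (h : FDecomp (RingHom.id F) Φo (H ⊔ Geo.scalars N F)) :
    ∃ M, Geo.InOrthogonalOddClass m F M ∧ H ≤ M := by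
  classical
  obtain ⟨k, t, D, htk, hle, hD⟩ := h
  rw [card_odd_index] at htk
  rcases hD with hD | ⟨rfl, -, -⟩
  swap
  · omega
  rw [← polar_eq_gram] at hD
  have hHD : H ≤ Geo.decompositionStabilizer D := le_sup_left.trans hle
  have hO : Geo.IsOrthogonalMDecomposition (⇑Qo) k D :=
    ⟨hD, orth_decomp_isometric hH hirr hD.decomp hHD⟩
  rcases (show 1 < k ∨ k = 1 by have := hD.decomp.pos; omega) with hk | rfl
  · exact ⟨_, Or.inr (Or.inr (Or.inl ⟨t, k, D, hk, hO, rfl⟩)), le_inf hHD hH⟩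
  by_cases hq : (Fintype.card F).Prime
  · exact ⟨_, Or.inr (Or.inr (Or.inr (Or.inl ⟨t, D, hq, hO, rfl⟩))), le_inf hHD hH⟩
  exact orth_subfield_class hH (monomial_subfield (Orth.quadOdd_nondeg m h2) h2 (gramQ_quadOdd_mem m)
    (odd_card_odd_index m) hq hH (by rw [card_odd_index]; omega) hO hHD)

/-- Two factors of different dimensions. -/
theorem orth_tensor_lt {H : Subgroup (GL N F)} (hH : H ≤ Io) {d t : ℕ} (hd : 2 ≤ d) (hdt : d < t)
    (h : FTensor (RingHom.id F) Φo (H ⊔ Geo.scalars N F) d t) :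
    ∃ M, Geo.InOrthogonalOddClass m F M ∧ H ≤ M := by
  classical
  have hdt' : d * t = 2 * m + 1 := h.1.trans (card_odd_index m)
  obtain ⟨hdo, hto⟩ := Nat.odd_mul.mp (⟨m, hdt'⟩ : Odd (d * t))
  let e : N ≃ Fin d × Fin t := Fintype.equivOfCardEq (by simp [Fintype.card_prod, hdt']; omega)
  obtain ⟨P, G1, G2, hle, hgram, h1, h2'⟩ := h.2 e
  refine ⟨Geo.tensorProductSubgroup d t e P ⊓ Io, Or.inr (Or.inr (Or.inr (Or.inr (Or.inr (Or.inl
    ⟨d, t, e, P, Geo.formOfGram (RingHom.id F) G1, Geo.formOfGram (RingHom.id F) G2, ?_, hdt,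
      symmetricForm_of_gram h1.det (h1.symm_of_odd (by simpa using hdo)),
      symmetricForm_of_gram h2'.det (h2'.symm_of_odd (by simpa using hto)), ?_, rfl⟩))))),
    le_inf (le_sup_left.trans hle) hH⟩
  · rcases hdo with ⟨k, hk⟩; omega
  · refine tensorFormStructure_of_gram (Φ := Φo) (RingHom.id F) id (fun _ => rfl) (polar_eq_gram Qo) e P
      (c := 1) one_ne_zero G1 G2 ?_
    rw [one_smul]
    exact hgram

set_option maxHeartbeats 800000 in
/-- Two factors of the same dimension: class 7, or a frame of nine points for three elements. -/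
theorem orth_tensor_eq (h2 : (2 : F) ≠ 0) {H : Subgroup (GL N F)} (hH : H ≤ Io)
    (hirr : Geo.ActsIrreducibly (Geo.matrixSet H)) {d : ℕ} (hd : 2 ≤ d)
    (h : FTensor (RingHom.id F) Φo (H ⊔ Geo.scalars N F) d d) :
    ∃ M, Geo.InOrthogonalOddClass m F M ∧ H ≤ M := by
  classical
  have hcard : d * d = 2 * m + 1 := h.1.trans (card_odd_index m)
  have hdo : Odd d := (Nat.odd_mul.mp (⟨m, hcard⟩ : Odd (d * d))).1
  let e' : N ≃ (Fin 2 → Fin d) := Fintype.equivOfCardEq (by simp [sq, hcard]; omega)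
  let e : N ≃ Fin d × Fin d := e'.trans (finTwoArrowEquiv (Fin d))
  obtain ⟨P, G1, G2, hle, hgram, h1, h1'⟩ := h.2 e
  obtain ⟨a, A, ha, hA⟩ := symm_congr h2 hdo h1.det (h1.symm_of_odd (by simpa using hdo))
  obtain ⟨b, B, hb, hB⟩ := symm_congr h2 hdo h1'.det (h1'.symm_of_odd (by simpa using hdo))
  obtain ⟨T, hT, hTi⟩ := tens_unit_exists e A B
  rw [RingHom.coe_id, Matrix.map_id] at hgram
  have hgram' : ((P * T : GL N F) : Matrix N N F)ᵀ * Φo * ((P * T : GL N F) : Matrix N N F) = (a * b) • 1 := by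
    calc ((P * T : GL N F) : Matrix N N F)ᵀ * Φo * ((P * T : GL N F) : Matrix N N F)
        = (T : Matrix N N F)ᵀ * ((P : Matrix N N F)ᵀ * Φo * (P : Matrix N N F)) * (T : Matrix N N F) := by
          simp [Matrix.transpose_mul, mul_assoc]
      _ = tens e ((A : Matrix (Fin d) (Fin d) F)ᵀ * G1 * (A : Matrix (Fin d) (Fin d) F))
            ((B : Matrix (Fin d) (Fin d) F)ᵀ * G2 * (B : Matrix (Fin d) (Fin d) F)) := by
          rw [hgram, hT, tens_transpose, tens_mul, tens_mul]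
      _ = (a * b) • 1 := by
          rw [hA, hB, ← tens_one e]
          ext x y
          simp [tens_apply]
          ring
  have hleT : H ≤ Geo.tensorProductSubgroup d d e (P * T) :=
    (le_sup_left.trans hle).trans (tensorProductSubgroup_mul_le e P T A B hT hTi)
  by_cases hex : Fintype.card F = 3 ∧ d = 3
  · obtain ⟨h3, rfl⟩ := hex
    refine orth_decomp h2 hH hirr (fdecomp_of_monomial (by rw [card_odd_index]; omega) (P * T)
      (mul_ne_zero ha hb) hgram' fun g hg x => ?_)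
    obtain ⟨u, v, huv⟩ := (mem_tensorProductSubgroup_iff e (P * T) g).mp (hleT hg)
    set P' := P * T with hP'
    set M := tens e (u : Matrix (Fin 3) (Fin 3) F) (v : Matrix (Fin 3) (Fin 3) F) with hM
    have hcjM : cj P'⁻¹ (g : Matrix N N F) = M := by rw [huv, cj_inv_cj]
    have hgP : (g : Matrix N N F) * (P' : Matrix N N F) = (P' : Matrix N N F) * M := by
      rw [huv, cj_apply, mul_assoc, Units.inv_mul, mul_one]
    have h4 : (a * b) • (Mᵀ * M) = (a * b) • (1 : Matrix N N F) := by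
      calc (a * b) • (Mᵀ * M) = Mᵀ * ((a * b) • 1) * M := by simp
        _ = ((P' : Matrix N N F) * M)ᵀ * Φo * ((P' : Matrix N N F) * M) := by
          rw [← hgram', Matrix.transpose_mul]; simp [mul_assoc]
        _ = (P' : Matrix N N F)ᵀ * ((g : Matrix N N F)ᵀ * Φo * (g : Matrix N N F)) * (P' : Matrix N N F) := by
          rw [← hgP, Matrix.transpose_mul]; simp [mul_assoc]
        _ = _ := by rw [gram_of_isometry (hH hg), hgram']
    have h5 : tens e ((u : Matrix (Fin 3) (Fin 3) F)ᵀ * (u : Matrix (Fin 3) (Fin 3) F))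
        ((v : Matrix (Fin 3) (Fin 3) F)ᵀ * (v : Matrix (Fin 3) (Fin 3) F)) = tens e 1 1 := by
      rw [← tens_mul, ← tens_transpose, tens_one]
      exact smul_right_injective _ (mul_ne_zero ha hb) h4
    have hu0 : ((u : Matrix (Fin 3) (Fin 3) F)ᵀ * (u : Matrix (Fin 3) (Fin 3) F)) ≠ 0 := fun h0 => by
      have h6 := congrArg Matrix.det h0
      rw [Matrix.det_mul, Matrix.det_transpose, Matrix.det_zero] at h6
      exact ((Matrix.isUnit_iff_isUnit_det _).mp u.isUnit).ne_zero (mul_self_eq_zero.mp h6)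
    have hv0 : ((v : Matrix (Fin 3) (Fin 3) F)ᵀ * (v : Matrix (Fin 3) (Fin 3) F)) ≠ 0 := fun h0 => by
      have h6 := congrArg Matrix.det h0
      rw [Matrix.det_mul, Matrix.det_transpose, Matrix.det_zero] at h6
      exact ((Matrix.isUnit_iff_isUnit_det _).mp v.isUnit).ne_zero (mul_self_eq_zero.mp h6)
    obtain ⟨κ, hκ, hκu, hκv⟩ := tens_cancel e h5 hu0 hv0
    have hκ1 : κ = 1 := kappa_eq_one h3 hκ hκv
    rw [hκ1, one_smul] at hκu hκv
    obtain ⟨p, hp⟩ := orth_three_monomial h3 hκu.symm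
    obtain ⟨p', hp'⟩ := orth_three_monomial h3 hκv
    refine ⟨e.symm (p (e x).1, p' (e x).2),
      (u : Matrix (Fin 3) (Fin 3) F) (p (e x).1) (e x).1 * (v : Matrix (Fin 3) (Fin 3) F) (p' (e x).2) (e x).2, ?_⟩
    ext y
    rw [hcjM, Matrix.mulVec_single_one, Matrix.col_apply, Pi.smul_apply, smul_eq_mul, hM, tens_apply]
    by_cases hy : y = e.symm (p (e x).1, p' (e x).2)
    · subst hy; simp
    · rw [Pi.single_eq_of_ne hy, mul_zero]
      by_cases hy1 : (e y).1 = p (e x).1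
      · rw [(hp' _).2 (e y).2 (fun h => hy (by rw [← hy1, ← h]; simp)), mul_zero]
      · rw [(hp _).2 (e y).1 hy1, zero_mul]
  refine ⟨Geo.tensorWreathSubgroup d 2 e' (P * T) ⊓ Io, Or.inr (Or.inr (Or.inr (Or.inr (Or.inr (Or.inr (Or.inr
    ⟨d, 2, e', P * T, Geo.formOfGram (RingHom.id F) (1 : Matrix (Fin d) (Fin d) F), ?_, le_rfl, hex,
      symmetricForm_of_gram (by simp) Matrix.transpose_one, ?_, rfl⟩)))))),
    le_inf (hleT.trans (tensor_le_wreath e' (P * T))) hH⟩
  · rcases hdo with ⟨k, hk⟩; omega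
  · refine tensorPowerFormStructure_of_gram (Φ := Φo) (RingHom.id F) id (fun _ => rfl) (polar_eq_gram Qo)
      e' (P * T) (c := a * b) (mul_ne_zero ha hb) _ ?_
    rw [RingHom.coe_id, Matrix.map_id, hgram',
      show (fun _ : Fin 2 => (1 : Matrix (Fin d) (Fin d) F)) = 1 from rfl, pureMat_one, map_one]

/-- Tensor induction. -/
theorem orth_tensorInduced (h2 : (2 : F) ≠ 0) {H : Subgroup (GL N F)} (hH : H ≤ Io) {d k : ℕ} (hd : 2 ≤ d)
    (hk : 2 ≤ k) (hT : TIData (H ⊔ Geo.scalars N F) d k) : ∃ M, Geo.InOrthogonalOddClass m F M ∧ H ≤ M := by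
  classical
  obtain ⟨hcard, hgr⟩ := tensor_power_gram (herm_gramQ (Orth.quadOdd_nondeg m h2)) (sim_gramQ hH)
    (by omega) (by omega) hT
  let e : N ≃ (Fin k → Fin d) := Fintype.equivOfCardEq (by simp only [Fintype.card_pi, Fintype.card_fin,
    Finset.prod_const, Finset.card_univ, hcard])
  obtain ⟨P, J₁, c, μ, D₁, hc, hJ, hle, hgram, hJm, -, hperf, ⟨x, hx, hxs⟩, hsim, -⟩ := hgr e
  rw [RingHom.coe_id, Matrix.map_id] at hJm
  have hdo : Odd d := by
    have h1 : Odd (d ^ k) := ⟨m, hcard.trans (card_odd_index m)⟩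
    exact (Nat.odd_pow_iff (by omega)).mp h1
  have hμ := eq_one_of_transpose_eq_smul (by simpa using hdo) hJ hJm
  rw [hμ, one_smul] at hJm
  have hex : ¬ (Fintype.card F = 3 ∧ d = 3) := by
    rintro ⟨h3, rfl⟩
    rw [no_perfect_orth_three h3 hJ hJm hperf hsim, Subgroup.mem_bot] at hx
    exact hxs (by rw [hx]; exact one_mem _)
  refine ⟨Geo.tensorWreathSubgroup d k e P ⊓ Io, Or.inr (Or.inr (Or.inr (Or.inr (Or.inr (Or.inr (Or.inr
    ⟨d, k, e, P, Geo.formOfGram (RingHom.id F) J₁, ?_, hk, hex, symmetricForm_of_gram hJ hJm, ?_, rfl⟩)))))),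
    le_inf (le_sup_left.trans hle) hH⟩
  · rcases hdo with ⟨j, hj⟩; omega
  · exact tensorPowerFormStructure_of_gram (Φ := Φo) (RingHom.id F) id (fun _ => rfl) (polar_eq_gram Qo)
      e P hc J₁ hgram

/-- Every subgroup of Ω_(2m+1)(q), q odd, is in a geometric class or residual. -/
theorem orth_odd_structure (hodd : Odd (Fintype.card F)) (hm : 1 ≤ m) {H : Subgroup (GL N F)}
    (hH : H ≤ Geo.omegaGL (Cfsg.quadFormOdd m F)) :
    (∃ M, Geo.InOrthogonalOddClass m F M ∧ H ≤ M) ∨ Geo.InOrthogonalResidualClass H := by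
  classical
  have : Finite (Matrix N N F) := inferInstanceAs (Finite (N → N → F))
  have : Finite (GL N F) := Finite.of_injective Units.val Units.val_injective
  have h2 : (2 : F) ≠ 0 := two_ne_zero_of_odd_card hodd
  have hQ := Orth.quadOdd_nondeg (F := F) m h2
  have hι : 3 ≤ Fintype.card N := by rw [card_odd_index]; omega
  have hI : H ≤ Io := fun g hg => by
    obtain ⟨h, -, rfl⟩ := hH hg
    exact h.2
  have hS : H ≤ Geo.specialLinear N F := hH.trans (omega_le_sl (Q := Qo))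
  have hherm := herm_gramQ hQ
  have hsim : Sim (RingHom.id F) Φo (H ⊔ Geo.scalars N F) := sim_gramQ hI
  set G := H ⊔ Geo.scalars N F with hGdef
  have hHG : H ≤ G := le_sup_left
  have hs : Geo.scalars N F ≤ G := le_sup_right
  by_cases hirr : Geo.ActsIrreducibly (Geo.matrixSet H)
  swap
  · left
    have hirrG : ¬ Geo.ActsIrreducibly (Geo.matrixSet G) := fun hG => hirr fun W hW => by
      refine hG W ?_
      rintro _ ⟨g, hg, rfl⟩
      obtain ⟨a, ha, z, hz, rfl⟩ := Subgroup.mem_sup_of_normal_right.mp hg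
      obtain ⟨c, hc⟩ := (Geo.mem_scalars_iff z).mp hz
      refine (mapsTo_iff_mulVec _ W).mpr fun w hw => ?_
      show ((a * z : GL N F) : Matrix N N F) *ᵥ w ∈ W
      rw [Units.val_mul, hc, Matrix.mul_smul, mul_one, Matrix.smul_mulVec]
      exact W.smul_mem _ ((mapsTo_iff_mulVec _ W).mp (hW _ (mem_matrixSet ha)) w hw)
    rcases reducible_split hherm hsim hirrG with
      ⟨W, hb, hts, hle⟩ | ⟨W, hb, ht, hnd, -, hle⟩ | ⟨k, D, hk, -, -⟩
    · refine ⟨_, Or.inl ⟨W, hb, fun w hw => ?_, rfl⟩, le_inf (hHG.trans hle) hI⟩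
      have h1 := hts w hw w hw
      rw [← polar_eq_gram, Orth.pl_self] at h1
      exact (mul_eq_zero.mp h1).resolve_left h2
    · rw [← polar_eq_gram] at hnd
      exact ⟨_, Or.inr (Or.inl ⟨W, hb, ht, hnd, rfl⟩), le_inf (hHG.trans hle) hI⟩
    · rw [card_odd_index] at hk
      omega
  have hirrG : Geo.ActsIrreducibly (Geo.matrixSet G) := irred_sup_scalars hirr
  rcases form_clifford hherm hsim hs hirrG with h | h | ⟨d, t, hd, ht, h⟩ | hgood
  · exact Or.inl (orth_decomp h2 hI hirr h)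
  · obtain ⟨r, K, hr, hne, hK, hsa, hle⟩ :=
      orth_field hQ h2 (odd_card_odd_index m) (by omega) hI hS hirr h
    rw [card_odd_index] at hne
    exact Or.inl ⟨_, Or.inr (Or.inr (Or.inr (Or.inr (Or.inl ⟨r, K, hr, hne, hK, hsa, rfl⟩)))), le_inf hle hI⟩
  · left
    rcases Nat.lt_trichotomy d t with hdt | rfl | hdt
    · exact orth_tensor_lt hI hd hdt h
    · exact orth_tensor_eq h2 hI hirr hd h
    · exact orth_tensor_lt hI ht hdt h.swap
  obtain ⟨x₀, hx₀, hx₀s⟩ := not_all_scalar (by omega) hirrG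
  have hex : ∃ k, ∃ M : Subgroup (GL N F),
      (M ≤ G ∧ NormBy G M ∧ Geo.scalars N F ≤ M ∧ ∃ x ∈ M, x ∉ Geo.scalars N F) ∧ Nat.card M = k :=
    ⟨_, G, ⟨le_rfl, normBy_self G, hs, x₀, hx₀, hx₀s⟩, rfl⟩
  obtain ⟨M₀, ⟨hle, hn, hSc, hns⟩, hk⟩ := Nat.find_spec hex
  have hmin : ∀ M ≤ M₀, NormBy G M → Geo.scalars N F ≤ M → (∃ x ∈ M, x ∉ Geo.scalars N F) → M = M₀ :=
    fun M h1 h3 h4 h5 =>
      Subgroup.eq_of_le_of_card_ge h1 (hk ▸ Nat.find_min' hex ⟨M, ⟨h1.trans hle, h3, h4, h5⟩, rfl⟩)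
  by_cases hc : ∀ x ∈ M₀, ∀ y ∈ M₀, ⁅x, y⁆ ∈ Geo.scalars N F
  · obtain ⟨r, μ, z, p, f, R, hD⟩ :=
      ClassTwo.sympData hι (⟨hgood, hle, hn, hSc, hns, hmin, hc⟩ : ClassTwo G M₀)
    exact (orth_sympData_false hQ h2 (odd_card_odd_index m) (by omega) hI hS hgood hD).elim
  simp only [not_forall, exists_prop] at hc
  rcases perfect_outcome_data (by omega) hgood hle hn hSc hmin hc with ⟨d, k, hd, hk, -, hT⟩ | ⟨P, hP⟩
  · exact Or.inl (orth_tensorInduced h2 hI hd hk hT)
  · exact (orth_core hQ h2 (gramQ_quadOdd_mem m) (odd_card_odd_index m) hI (core_mono hP)).imp_left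
      (orth_subfield_class hI)

end Cfsg.Agent.Aschbacher
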