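/-
A centralising swapper in a point class, two-point stabilisers of any order (piece A of the
core-free criterion; owner: helper2).

`K ≤ L ≤ N(K)`, `v` a member in `K` at `x`, `y` the point of another member in `K`, `c` the number
of swappers of `x, y` in `K`.  An `r`-group `X` in `L_xy ∩ C(v)` centralises one of them: clear if
`r ∤ c`; otherwise let `R` be a Sylow subgroup of `C(v) ∩ L_xy` over `X`; `N = N(R)` in `L_{y,vy}`
has its `r`-part outside `C(v)`, so moves `x` (no member acts on an `r`-group fixing its point), so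
some member at a point `z ≠ x` centralises `R` and a midpoint exchanges `x, z`; an element of `L`
fixing `x`, centralising `v` and mapping `y` to `z` carries it back by Sylow's theorem.

Main results (namespace `Cfsg.Agent.Aschbacher.PointClass`):
* `exists_swap_centralizing_in` : the lemma above
* `exists_commuting_in` : if `r ∣ c`, two members at `x` in `K` commute
* `exists_swap_centralizing_odd` : a subgroup of odd order fixing `x, y` centralised by a member at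
  `x` is centralised by a swapper
-/
import Cfsg.Agent.Lib.Aschbacher.PairOdd
import Cfsg.Agent.Lib.Aschbacher.InvertedCore
import Cfsg.Agent.Lib.Aschbacher.PointImage
import Cfsg.Agent.Lib.Bender.SwapCentral

set_option autoImplicit false
set_option linter.style.haveILetI false
set_option linter.unusedSectionVars false

namespace Cfsg.Agent.Aschbacher

open Cfsg Involution Bender
open scoped Pointwise

universe u

variable {G : Type u} {Ω : Type u} [Group G] [MulAction G Ω] [Finite G] [Finite Ω]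
  [FaithfulSMul G Ω] {D : Set G} {pt : G → Ω}

namespace PointClass

variable (P : PointClass G Ω D pt)
include P

/-- A member normalising a subgroup without members inverts an `r`-element of it, unless it
centralises a Sylow `r`-subgroup. -/
theorem exists_inverted_of_lt {a b : Ω} (hab : a ≠ b) {r : ℕ} [Fact r.Prime] {C : Subgroup G}
    {u : G} (hu : u ∈ D) (huC : u ∈ Subgroup.normalizer (C : Set G)) (hC : ∀ z ∈ D, z ∉ C)
    {T : Subgroup G} (hT : IsPGroup r T) (hTC : T ≤ C)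
    (hlt : pPart r (Nat.card ↥(C ⊓ Subgroup.centralizer ({u} : Set G))) < Nat.card T) :
    ∃ g ∈ C, g ≠ 1 ∧ IsPGroup r (Subgroup.zpowers g) ∧ Odd (orderOf g) ∧ u * g * u⁻¹ = g⁻¹ := by
  set O := core 2 C with hO
  have hOodd : Odd (Nat.card O) := odd_card_core_two C
  have huO : u ∈ Subgroup.normalizer (O : Set G) := normalizer_le_core 2 C huC
  obtain ⟨Q, -, hQO, huQ, hQp, hQcard⟩ := exists_sylow_invariant (p := r) (P.inv u hu) huO hOodd
    (R := ⊥) bot_le IsPGroup.of_bot (by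
      rw [Subgroup.normalizer_eq_top_iff.2 inferInstance]; exact Subgroup.mem_top u)
  by_cases hQu : Q ≤ Subgroup.centralizer ({u} : Set G)
  · exfalso
    let S : Set G := {s | ∃ o ∈ O, o * u * o⁻¹ = s}
    have hu0 : u ∈ S := ⟨1, O.one_mem, by group⟩
    have hOS : ∀ k ∈ O, ∀ s ∈ S, k * s * k⁻¹ ∈ S := by
      rintro k hk _ ⟨o, ho, rfl⟩
      exact ⟨k * o, O.mul_mem hk ho, by group⟩
    have hCS : ∀ k ∈ C, ∀ s ∈ S, k * s * k⁻¹ ∈ S := by
      rintro k hk _ ⟨o, ho, rfl⟩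
      obtain ⟨a, ha, hc⟩ := P.exists_core_mul_centralizing hab hu huC hC hk
      set t := a⁻¹ * k with ht
      have htC : t ∈ C := C.mul_mem (C.inv_mem (core_le 2 C ha)) hk
      refine ⟨a * (t * o * t⁻¹), O.mul_mem ha (conj_mem_core_two (Subgroup.le_normalizer htC) ho), ?_⟩
      have e : k = a * t := by rw [ht, mul_inv_cancel_left]
      calc a * (t * o * t⁻¹) * u * (a * (t * o * t⁻¹))⁻¹
          = a * t * o * (t⁻¹ * (u * t)) * o⁻¹ * t⁻¹ * a⁻¹ := by group
        _ = a * t * o * u * o⁻¹ * (a * t)⁻¹ := by rw [← hc.eq, inv_mul_cancel_left]; group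
        _ = k * (o * u * o⁻¹) * k⁻¹ := by rw [← e]; group
    have e1 := card_eq_mul_centralizer O S hOS hu0 fun s hs => hs
    have e2 := card_eq_mul_centralizer C S hCS hu0 fun s ⟨o, ho, e⟩ => ⟨o, core_le 2 C ho, e⟩
    haveI : Nonempty S := ⟨⟨u, hu0⟩⟩
    have hS0 : Nat.card S ≠ 0 := Nat.card_pos.ne'
    have h1 := Coprime.card_le_of_isPGroup hQp (le_inf hQO hQu)
    rw [hQcard, e1] at h1
    have h1' : pPart r (Nat.card S) * pPart r (Nat.card ↥(O ⊓ Subgroup.centralizer ({u} : Set G))) ≤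
        pPart r (Nat.card ↥(O ⊓ Subgroup.centralizer ({u} : Set G))) := by
      rw [← pPart_mul hS0 Nat.card_pos.ne']
      exact h1
    have h2 : pPart r (Nat.card T) ≤ pPart r (Nat.card C) := pPart_le hTC
    have h3 : Nat.card T ≤ pPart r (Nat.card C) := by
      obtain ⟨k, hk⟩ := hT.exists_card_eq
      rwa [hk, pPart, (Fact.out : r.Prime).factorization_pow, Finsupp.single_eq_same, ← hk] at h2
    rw [e2, pPart_mul hS0 Nat.card_pos.ne'] at h3
    have h4 : 0 < pPart r (Nat.card ↥(O ⊓ Subgroup.centralizer ({u} : Set G))) :=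
      pow_pos (Fact.out : r.Prime).pos _
    have h5 : 0 < pPart r (Nat.card S) := pow_pos (Fact.out : r.Prime).pos _
    have h6 : pPart r (Nat.card S) = 1 := by nlinarith
    rw [h6, one_mul] at h3
    omega
  obtain ⟨h, hh, hhu⟩ := SetLike.not_le_iff_exists.1 hQu
  set g := u * h * u⁻¹ * h⁻¹ with hg
  have hgQ : g ∈ Q := Q.mul_mem ((Subgroup.mem_normalizer_iff.1 huQ h).1 hh) (Q.inv_mem hh)
  refine ⟨g, core_le 2 C (hQO hgQ), fun e => hhu (mem_centralizer.2
    (mul_inv_eq_iff_eq_mul.1 (mul_inv_eq_one.1 e)).symm),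
    hQp.to_le (Subgroup.zpowers_le.2 hgQ),
    hOodd.of_dvd_nat (Subgroup.orderOf_dvd_natCard O (hQO hgQ)), ?_⟩
  rw [hg, mul_inv_rev, mul_inv_rev, mul_inv_rev, inv_inv, inv_inv, inv_eq (P.inv u hu)]
  calc u * (u * h * u * h⁻¹) * u = (u * u) * h * u * h⁻¹ * u := by group
    _ = h * (u * (h⁻¹ * u)) := by rw [mul_self (P.inv u hu)]; group

/-- An inverted element fixing the point is trivial, if no member acts on such a group. -/
theorem eq_one_of_inverted_fixed {r : ℕ} [Fact r.Prime]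
    (hNC : ∀ t ∈ D, ∀ X : Subgroup G, IsPGroup r X → t ∈ Subgroup.normalizer (X : Set G) →
      X ≤ MulAction.stabilizer G (pt t) → X ≤ Subgroup.centralizer ({t} : Set G))
    {u g : G} (hu : u ∈ D) (hg : IsPGroup r (Subgroup.zpowers g)) (hodd : Odd (orderOf g))
    (hinv : u * g * u⁻¹ = g⁻¹) (hfix : g • pt u = pt u) : g = 1 := by
  have h := mem_centralizer.1 (hNC u hu (Subgroup.zpowers g) hg
    (Coprime.mem_normalizer_of_forall fun a ha => by
      obtain ⟨i, rfl⟩ := Subgroup.mem_zpowers_iff.1 ha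
      rw [inverts_zpow hinv]
      exact inv_mem (zpow_mem (Subgroup.mem_zpowers g) i))
    (Subgroup.zpowers_le.2 (MulAction.mem_stabilizer_iff.2 hfix)) (Subgroup.mem_zpowers g))
  rw [← h.eq, mul_inv_cancel_right] at hinv
  exact ZStar.eq_one_of_odd_of_sq hodd (by rw [sq]; nth_rw 1 [hinv]; rw [inv_mul_cancel])

variable {K L : Subgroup G} (hKL : K ≤ L) (hLK : L ≤ Subgroup.normalizer (K : Set G))
  {x y : Ω} (hxy : x ≠ y)
include hKL hLK hxy

/-- The subgroup fixing the pair in `L` is transitive on the swappers in `K`. -/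
theorem exists_conj_swap_in {q t : G} (hq : q ∈ D) (hqK : q ∈ K) (hqx : q • x = y) (ht : t ∈ D)
    (htK : t ∈ K) (htx : t • x = y) :
    ∃ k ∈ K ⊓ twoPt G x y, k * q * k⁻¹ = t := by
  obtain ⟨o, ho, e⟩ := P.exists_core_conj_swap hxy hq hqx ht htx
  have hu := P.inv q hq
  have hqo : q * t = (q * o * q⁻¹) * o⁻¹ := by rw [← e, inv_eq hu]; group
  have hmem : q * t ∈ core 2 (twoPt G x y) := hqo ▸ mul_mem
    ((Subgroup.mem_normalizer_iff.1 (P.swap_mem_normalizer_core hq hqx) o).1 ho) (inv_mem ho)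
  obtain ⟨k, hk⟩ := Odd.of_dvd_nat (odd_card_core_two _) (Subgroup.orderOf_dvd_natCard _ hmem)
  refine ⟨((q * t) ^ (k + 1))⁻¹, Subgroup.inv_mem _ (Subgroup.pow_mem _
    (Subgroup.mem_inf.2 ⟨K.mul_mem hqK htK, core_le 2 _ hmem⟩) _), ?_⟩
  have hi := inverts_pow (inverts_mul_left hu (P.inv t ht)) (k + 1)
  calc ((q * t) ^ (k + 1))⁻¹ * q * ((q * t) ^ (k + 1))⁻¹⁻¹
      = q * (q * ((q * t) ^ (k + 1))⁻¹ * q⁻¹) * (q * t) ^ (k + 1) := by
        rw [inv_eq hu, ← mul_assoc q, ← mul_assoc q, mul_self hu, one_mul, inv_inv]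
    _ = q * ((q * t) ^ (k + 1) * (q * t) ^ (k + 1)) := by
        rw [← conj_inv, hi, inv_inv, mul_assoc]
    _ = t := by
        rw [← pow_add, show k + 1 + (k + 1) = (2 * k + 1) + 1 by omega, ← hk, pow_succ,
          pow_orderOf_eq_one, one_mul, ← mul_assoc, mul_self hu, one_mul]

/-- It is transitive on the members in `K` at `x`. -/
theorem exists_conj_point_in {f : G} (hf : f ∈ D) (hfK : f ∈ K) (hfy : pt f = y) {d d' : G}
    (hd : d ∈ D) (hdK : d ∈ K) (hdx : pt d = x) (hd' : d' ∈ D) (hd'K : d' ∈ K) (hd'x : pt d' = x) :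
    ∃ k ∈ K ⊓ twoPt G x y, k * d * k⁻¹ = d' := by
  obtain ⟨w, hw, hwK, hwe, hwp⟩ := exists_mid_in P hd hf hdK hfK (by rw [hdx, hfy]; exact hxy)
  obtain ⟨w', hw', hw'K, hwe', hwp'⟩ := exists_mid_in P hd' hf hd'K hfK
    (by rw [hd'x, hfy]; exact hxy)
  rw [hdx, hfy] at hwp
  rw [hd'x, hfy] at hwp'
  obtain ⟨a, ha, rfl⟩ := P.exists_conj_swap_in hKL hLK hxy hw hwK hwp hw' hw'K hwp'
  refine ⟨(a * w * a⁻¹)⁻¹ * w, ?_, ?_⟩
  · have hwn := swap_mem_normalizer_twoPt P hw hwp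
    rw [show (a * w * a⁻¹)⁻¹ * w = a * (w⁻¹ * a⁻¹ * w) by group]
    refine mul_mem ha (Subgroup.mem_inf.2 ⟨K.mul_mem (K.mul_mem (K.inv_mem hwK)
      (K.inv_mem ha.1)) hwK, ?_⟩)
    exact (Subgroup.mem_normalizer_iff''.1 hwn _).1 (inv_mem ha.2)
  · calc (a * w * a⁻¹)⁻¹ * w * d * ((a * w * a⁻¹)⁻¹ * w)⁻¹
        = (a * w * a⁻¹)⁻¹ * (w * d * w⁻¹) * (a * w * a⁻¹) := by group
      _ = d' := by rw [hwe, ← hwe']; group

variable {v q : G} (hv : v ∈ D) (hvK : v ∈ K) (hvx : pt v = x) (hq : q ∈ D) (hqK : q ∈ K)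
  (hqx : q • x = y)
include hv hvK hvx hq hqK hqx

/-- As many members in `K` at `x` as swappers. -/
theorem card_pts_eq_swap : Nat.card {g : G // g ∈ D ∧ g ∈ K ∧ pt g = x} =
    Nat.card {t : G // t ∈ D ∧ t ∈ K ∧ t • x = y} := by
  rw [card_swap_in P hxy hv hvK hvx]
  exact card_pts_in P hq hqK hqx

theorem card_inf_point : Nat.card ↥(L ⊓ twoPt G x y) =
    Nat.card {t : G // t ∈ D ∧ t ∈ K ∧ t • x = y} *
      Nat.card ↥(L ⊓ twoPt G x y ⊓ Subgroup.centralizer ({v} : Set G)) := by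
  rw [← P.card_pts_eq_swap hKL hLK hxy hv hvK hvx hq hqK hqx]
  refine card_eq_mul_centralizer _ {g | g ∈ D ∧ g ∈ K ∧ pt g = x} ?_ ⟨hv, hvK, hvx⟩ ?_
  · rintro k hk s ⟨hs, hsK, hsx⟩
    exact ⟨P.conj_mem k s hs, (Subgroup.mem_normalizer_iff.1 (hLK hk.1) s).1 hsK,
      by rw [P.pt_conj k hs, hsx]; exact MulAction.mem_stabilizer_iff.1 hk.2.1⟩
  · rintro s ⟨hs, hsK, hsx⟩
    obtain ⟨k, hk, e⟩ := P.exists_conj_point_in hKL hLK hxy (P.conj_mem q v hv)
      (K.mul_mem (K.mul_mem hqK hvK) (K.inv_mem hqK)) (by rw [P.pt_conj q hv, hvx, hqx])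
      hv hvK hvx hs hsK hsx
    exact ⟨k, Subgroup.mem_inf.2 ⟨hKL hk.1, hk.2⟩, e⟩

omit hvx hv hvK in
theorem card_inf_swap : Nat.card ↥(L ⊓ twoPt G x y) =
    Nat.card {t : G // t ∈ D ∧ t ∈ K ∧ t • x = y} *
      Nat.card ↥(L ⊓ twoPt G x y ⊓ Subgroup.centralizer ({q} : Set G)) := by
  refine card_eq_mul_centralizer _ {t | t ∈ D ∧ t ∈ K ∧ t • x = y} ?_ ⟨hq, hqK, hqx⟩ ?_
  · rintro k hk s ⟨hs, hsK, hsx⟩
    exact ⟨P.conj_mem k s hs, (Subgroup.mem_normalizer_iff.1 (hLK hk.1) s).1 hsK,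
      smul_swap_conj P hsx (MulAction.mem_stabilizer_iff.1 hk.2.1)
        (MulAction.mem_stabilizer_iff.1 hk.2.2)⟩
  · rintro s ⟨hs, hsK, hsx⟩
    obtain ⟨k, hk, e⟩ := P.exists_conj_swap_in hKL hLK hxy hq hqK hqx hs hsK hsx
    exact ⟨k, Subgroup.mem_inf.2 ⟨hKL hk.1, hk.2⟩, e⟩

omit hv hvK hvx in
/-- A prime dividing the number of swappers in `K` divides the number of members at a point. -/
theorem dvd_card_point_of_dvd {r : ℕ} [Fact r.Prime]
    (hdvd : r ∣ Nat.card {t : G // t ∈ D ∧ t ∈ K ∧ t • x = y}) (z : Ω) :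
    r ∣ Nat.card {f : G // f ∈ D ∧ pt f = z} := by
  set E := L ⊓ twoPt G x y with hE
  have hqE : q ∈ Subgroup.normalizer (E : Set G) := Coprime.mem_normalizer_of_forall fun g hg =>
    Subgroup.mem_inf.2 ⟨L.mul_mem (L.mul_mem (hKL hqK) hg.1) (L.inv_mem (hKL hqK)),
      (Subgroup.mem_normalizer_iff.1 (swap_mem_normalizer_twoPt P hq hqx) g).1 hg.2⟩
  have hmem : ∀ d ∈ D, d ∉ E := fun d hd h => hxy
    (((P.fixed_iff d hd x).1 (MulAction.mem_stabilizer_iff.1 h.2.1)).trans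
      ((P.fixed_iff d hd y).1 (MulAction.mem_stabilizer_iff.1 h.2.2)).symm)
  obtain ⟨T, hT, hTE, hTcard⟩ := exists_pPart (p := r) E
  have hn : Nat.card {t : G // t ∈ D ∧ t ∈ K ∧ t • x = y} ≠ 0 := by
    haveI : Nonempty {t : G // t ∈ D ∧ t ∈ K ∧ t • x = y} := ⟨⟨q, hq, hqK, hqx⟩⟩
    exact Nat.card_pos.ne'
  have hlt : pPart r (Nat.card ↥(E ⊓ Subgroup.centralizer ({q} : Set G))) < Nat.card T := by
    rw [hTcard, P.card_inf_swap hKL hLK hxy hq hqK hqx, pPart_mul hn Nat.card_pos.ne']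
    refine lt_mul_of_one_lt_left (pow_pos (Fact.out : r.Prime).pos _) ?_
    exact Nat.one_lt_pow ((Fact.out : r.Prime).factorization_pos_of_dvd hn hdvd).ne'
      (Fact.out : r.Prime).one_lt
  obtain ⟨g, hgE, hg1, hgp, hgodd, hginv⟩ := P.exists_inverted_of_lt hxy hq hqE hmem hT hTE hlt
  rw [card_point_eq P z x]
  refine dvd_card_of_conj_free (R := Subgroup.zpowers g) hgp (s := {f | f ∈ D ∧ pt f = x}) ?_ ?_
  · intro a ha f hf
    refine ⟨P.conj_mem a f hf.1, ?_⟩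
    rw [P.pt_conj a hf.1, hf.2]
    exact MulAction.mem_stabilizer_iff.1 ((Subgroup.zpowers_le.2 hgE.2.1) ha)
  · intro f hf hle
    refine hg1 (P.eq_one_of_inverted_centralized hq hgodd hginv hf.1 ?_
      (mem_centralizer.1 (hle (Subgroup.mem_zpowers g))))
    rw [hf.2]
    exact fun e => hxy (by rw [← hqx, e, P.smul_pt hq])

/-- If `r ∣ c` two members at `x` in `K` commute. -/
theorem exists_commuting_in {r : ℕ} [Fact r.Prime]
    (hNC : ∀ t ∈ D, ∀ X : Subgroup G, IsPGroup r X → t ∈ Subgroup.normalizer (X : Set G) →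
      X ≤ MulAction.stabilizer G (pt t) → X ≤ Subgroup.centralizer ({t} : Set G))
    (hdvd : r ∣ Nat.card {t : G // t ∈ D ∧ t ∈ K ∧ t • x = y}) :
    ∃ d ∈ D, ∃ e ∈ D, d ∈ K ∧ e ∈ K ∧ pt d = x ∧ Commute d e ∧ d ≠ e := by
  by_contra! hno
  set M := L ⊓ MulAction.stabilizer G x with hM
  have hvM : v ∈ M := Subgroup.mem_inf.2 ⟨hKL hvK, MulAction.mem_stabilizer_iff.2 (hvx ▸ P.smul_pt hv)⟩
  have hmemconj : ∀ g ∈ M, g * v * g⁻¹ ∈ D ∧ g * v * g⁻¹ ∈ K ∧ pt (g * v * g⁻¹) = x := fun g hg =>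
    ⟨P.conj_mem g v hv, (Subgroup.mem_normalizer_iff.1 (hLK hg.1) v).1 hvK,
      by rw [P.pt_conj g hv, hvx]; exact MulAction.mem_stabilizer_iff.1 hg.2⟩
  have hiso : IsIsolatedInvolution (⟨v, hvM⟩ : M) := by
    refine ⟨by rw [← Subgroup.orderOf_coe]; exact P.inv v hv, fun g hg => Subtype.ext ?_⟩
    obtain ⟨h1, h2, -⟩ := hmemconj g g.2
    exact (hno v hv _ h1 hvK h2 hvx (congrArg Subtype.val hg)).symm
  set O := core 2 M with hO
  have hOodd : Odd (Nat.card O) := odd_card_core_two M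
  have hvO : v ∈ Subgroup.normalizer (O : Set G) := le_normalizer_core 2 M hvM
  obtain ⟨Q, -, hQO, hvQ, hQp, hQcard⟩ := exists_sylow_invariant (p := r) (P.inv v hv) hvO hOodd
    (R := ⊥) bot_le IsPGroup.of_bot (by
      rw [Subgroup.normalizer_eq_top_iff.2 inferInstance]; exact Subgroup.mem_top v)
  have hQc : Q ≤ O ⊓ Subgroup.centralizer ({v} : Set G) :=
    le_inf hQO (hNC v hv Q hQp hvQ (fun g hg => hvx.symm ▸ (core_le 2 M (hQO hg)).2))
  have e1 := card_eq_mul_centralizer O {g | g ∈ D ∧ g ∈ K ∧ pt g = x}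
    (fun k hk s hs => ⟨P.conj_mem k s hs.1,
      (Subgroup.mem_normalizer_iff.1 (hLK (core_le 2 M hk).1) s).1 hs.2.1,
      by rw [P.pt_conj k hs.1, hs.2.2]; exact MulAction.mem_stabilizer_iff.1 (core_le 2 M hk).2⟩)
    ⟨hv, hvK, hvx⟩ ?_
  · have h1 := Coprime.card_le_of_isPGroup hQp hQc
    rw [hQcard, e1] at h1
    have hn : Nat.card {g : G // g ∈ D ∧ g ∈ K ∧ pt g = x} ≠ 0 := by
      haveI : Nonempty {g : G // g ∈ D ∧ g ∈ K ∧ pt g = x} := ⟨⟨v, hv, hvK, hvx⟩⟩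
      exact Nat.card_pos.ne'
    have h2 : 1 < pPart r (Nat.card {g : G // g ∈ D ∧ g ∈ K ∧ pt g = x}) := by
      rw [P.card_pts_eq_swap hKL hLK hxy hv hvK hvx hq hqK hqx]
      exact Nat.one_lt_pow ((Fact.out : r.Prime).factorization_pos_of_dvd
        (by rwa [← P.card_pts_eq_swap hKL hLK hxy hv hvK hvx hq hqK hqx]) hdvd).ne'
        (Fact.out : r.Prime).one_lt
    have h4 : 0 < pPart r (Nat.card ↥(O ⊓ Subgroup.centralizer ({v} : Set G))) :=
      pow_pos (Fact.out : r.Prime).pos _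
    have h3 : pPart r (Nat.card {g : G // g ∈ D ∧ g ∈ K ∧ pt g = x}) *
        pPart r (Nat.card ↥(O ⊓ Subgroup.centralizer ({v} : Set G))) ≤
        pPart r (Nat.card ↥(O ⊓ Subgroup.centralizer ({v} : Set G))) := by
      rw [← pPart_mul hn Nat.card_pos.ne']
      exact h1
    nlinarith
  · rintro s ⟨hs, hsK, hsx⟩
    obtain ⟨k, hk, e⟩ := P.exists_conj_point_in hKL hLK hxy (P.conj_mem q v hv)
      (K.mul_mem (K.mul_mem hqK hvK) (K.inv_mem hqK)) (by rw [P.pt_conj q hv, hvx, hqx])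
      hv hvK hvx hs hsK hsx
    have hkM : k ∈ M := Subgroup.mem_inf.2 ⟨hKL hk.1, hk.2.1⟩
    have hcomm : v * s ∈ O := by
      refine ⟨_, ZStar.zStar_of_brauerSuzuki ZStar.uniqueInvolution hiso ⟨k, hkM⟩, ?_⟩
      show v * k * v⁻¹ * k⁻¹ = v * s
      rw [← e, inv_eq (P.inv v hv)]
      group
    obtain ⟨l, hl⟩ := Odd.of_dvd_nat hOodd (Subgroup.orderOf_dvd_natCard O hcomm)
    refine ⟨(v * s) ^ l, O.pow_mem hcomm l, ?_⟩
    rw [conj_half_pow (P.inv v hv) (inverts_mul_left (P.inv v hv) (P.inv s hs)) hl, ← mul_assoc,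
      mul_self (P.inv v hv), one_mul]

/-- **An `r`-group in `L_xy ∩ C(v)` centralises a swapper in `K`.** -/
theorem exists_swap_centralizing_in {r : ℕ} [Fact r.Prime] {X : Subgroup G} (hX : IsPGroup r X)
    (hXE : X ≤ L ⊓ twoPt G x y ⊓ Subgroup.centralizer ({v} : Set G))
    (hNC : r ∣ Nat.card {t : G // t ∈ D ∧ t ∈ K ∧ t • x = y} →
      ∀ t ∈ D, ∀ X : Subgroup G, IsPGroup r X → t ∈ Subgroup.normalizer (X : Set G) →
      X ≤ MulAction.stabilizer G (pt t) → X ≤ Subgroup.centralizer ({t} : Set G))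
    (htrans : r ∣ Nat.card {t : G // t ∈ D ∧ t ∈ K ∧ t • x = y} →
      ∀ z, z ≠ x → (∃ d ∈ D, d ∈ K ∧ pt d = z) → ∃ h ∈ L, h • x = x ∧ h • y = z) :
    ∃ t ∈ D, t ∈ K ∧ t • x = y ∧ X ≤ Subgroup.centralizer ({t} : Set G) := by
  set c := Nat.card {t : G // t ∈ D ∧ t ∈ K ∧ t • x = y} with hc
  by_cases hdvd : r ∣ c
  swap
  · by_contra! hcon
    exact hdvd (dvd_card_of_conj_free hX (s := {t | t ∈ D ∧ t ∈ K ∧ t • x = y})
      (fun a ha t ⟨ht, htK, htx⟩ => ⟨P.conj_mem a t ht,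
        (Subgroup.mem_normalizer_iff.1 (hLK (hXE ha).1.1) t).1 htK,
        smul_swap_conj P htx (MulAction.mem_stabilizer_iff.1 (hXE ha).1.2.1)
          (MulAction.mem_stabilizer_iff.1 (hXE ha).1.2.2)⟩)
      fun t ⟨ht, htK, htx⟩ => hcon t ht htK htx)
  set C := L ⊓ twoPt G x y ⊓ Subgroup.centralizer ({v} : Set G) with hC
  obtain ⟨R₀, hR₀⟩ := (hX.comap_subtype : IsPGroup r (X.subgroupOf C)).exists_le_sylow
  set R := (R₀ : Subgroup C).map C.subtype with hRdef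
  have hXR : X ≤ R := fun g hg => ⟨⟨g, hXE hg⟩, hR₀ hg, rfl⟩
  have hRC : R ≤ C := Subgroup.map_subtype_le _
  have hRp : IsPGroup r R := R₀.2.map _
  have hRcard : Nat.card R = pPart r (Nat.card C) := by
    rw [hRdef, Cores.card_map_subtype, R₀.card_eq_multiplicity]
  -- the pair exchanged by `v`
  have hvyne : y ≠ v • y := fun e => hxy (((P.fixed_iff v hv y).1 e.symm).trans hvx).symm
  set E' := L ⊓ twoPt G y (v • y) with hE'
  have hC' : E' ⊓ Subgroup.centralizer ({v} : Set G) = C := by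
    ext g
    simp only [hE', hC, Subgroup.mem_inf, MulAction.mem_stabilizer_iff]
    constructor
    · rintro ⟨⟨h1, h2, -⟩, h3⟩
      exact ⟨⟨h1, hvx ▸ P.commute_fix hv (mem_centralizer.1 h3), h2⟩, h3⟩
    · rintro ⟨⟨h1, -, h2⟩, h3⟩
      refine ⟨⟨h1, h2, ?_⟩, h3⟩
      rw [← mul_smul, (mem_centralizer.1 h3).eq, mul_smul, h2]
  have hv2 : v • v • y = y := P.smul_smul_self hv y
  have hfy : q * v * q⁻¹ ∈ D ∧ q * v * q⁻¹ ∈ K ∧ pt (q * v * q⁻¹) = y :=
    ⟨P.conj_mem q v hv, K.mul_mem (K.mul_mem hqK hvK) (K.inv_mem hqK),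
      by rw [P.pt_conj q hv, hvx, hqx]⟩
  have hcount : Nat.card {t : G // t ∈ D ∧ t ∈ K ∧ t • y = v • y} = c := by
    rw [card_swap_in P hvyne hfy.1 hfy.2.1 hfy.2.2, ← card_pts_in P hv hvK rfl, hc,
      card_swap_in P hxy hv hvK hvx]
  have hE'card : Nat.card E' = c * Nat.card C := by
    rw [hE', P.card_inf_swap hKL hLK hvyne hv hvK rfl, hcount, ← hC', hE']
  have hc0 : c ≠ 0 := by
    haveI : Nonempty {t : G // t ∈ D ∧ t ∈ K ∧ t • x = y} := ⟨⟨q, hq, hqK, hqx⟩⟩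
    exact Nat.card_pos.ne'
  obtain ⟨Q₀, hQ₀⟩ := (hRp.comap_subtype : IsPGroup r (R.subgroupOf E')).exists_le_sylow
  have hRE : R ≤ E' := fun g hg => (hC'.ge (hRC hg)).1
  set Q := (Q₀ : Subgroup E').map E'.subtype with hQdef
  have hRQ : R < Q := by
    refine lt_of_le_of_ne (fun g hg => ⟨⟨g, hRE hg⟩, hQ₀ hg, rfl⟩) fun e => ?_
    have h1 : Nat.card Q = pPart r c * Nat.card R := by
      rw [hQdef, Cores.card_map_subtype, Q₀.card_eq_multiplicity, hRcard, ← pPart_mul hc0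
        Nat.card_pos.ne', hE'card]
    rw [← e] at h1
    have h2 : 1 < pPart r c := Nat.one_lt_pow
      ((Fact.out : r.Prime).factorization_pos_of_dvd hc0 hdvd).ne' (Fact.out : r.Prime).one_lt
    have h3 : 0 < Nat.card R := Nat.card_pos
    nlinarith
  obtain ⟨T, hRT, hTQ, hTn⟩ := exists_normalizing (Q₀.2.map _ : IsPGroup r Q) hRQ
  set N := E' ⊓ Subgroup.normalizer (R : Set G) with hN
  have hTN : T ≤ N := le_inf (hTQ.trans (Subgroup.map_subtype_le _)) hTn
  -- some element of `N` moves `x`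
  obtain ⟨n, hn, hnx⟩ : ∃ n ∈ N, n • x ≠ x := by
    by_contra! hfix
    have hvR : v ∈ Subgroup.normalizer (R : Set G) := Coprime.mem_normalizer_of_forall fun g hg => by
      rwa [(mem_centralizer.1 (hRC hg).2).symm.eq, mul_inv_cancel_right]
    have hvN : v ∈ Subgroup.normalizer (N : Set G) := Coprime.mem_normalizer_of_forall fun g hg =>
      Subgroup.mem_inf.2 ⟨Subgroup.mem_inf.2
        ⟨L.mul_mem (L.mul_mem (hKL hvK) hg.1.1) (L.inv_mem (hKL hvK)),
          (Subgroup.mem_normalizer_iff.1 (swap_mem_normalizer_twoPt P hv rfl) g).1 hg.1.2⟩,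
        mul_mem (mul_mem hvR hg.2) (inv_mem hvR)⟩
    have hlt : pPart r (Nat.card ↥(N ⊓ Subgroup.centralizer ({v} : Set G))) < Nat.card T := by
      refine lt_of_le_of_lt ?_ (card_lt_of_lt hRT)
      rw [hRcard]
      refine pPart_le fun g hg => hC'.le (Subgroup.mem_inf.2 ⟨hg.1.1, hg.2⟩)
    obtain ⟨g, hgN, hg1, hgp, hgodd, hginv⟩ := P.exists_inverted_of_lt hvyne hv hvN
      (fun d hd h => hvyne (((P.fixed_iff d hd y).1 (MulAction.mem_stabilizer_iff.1 h.1.2.1)).trans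
        ((P.fixed_iff d hd _).1 (MulAction.mem_stabilizer_iff.1 h.1.2.2)).symm))
      ((Q₀.2.map _ : IsPGroup r Q).to_le hTQ) hTN hlt
    exact hg1 (P.eq_one_of_inverted_fixed (hNC hdvd) hv hgp hgodd hginv (hvx.symm ▸ hfix g hgN))
  set z := n • x with hz
  set v' := n * v * n⁻¹ with hv'
  have hv'D : v' ∈ D := P.conj_mem n v hv
  have hv'K : v' ∈ K := (Subgroup.mem_normalizer_iff.1 (hLK hn.1.1) v).1 hvK
  have hv'z : pt v' = z := by rw [hv', P.pt_conj n hv, hvx]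
  have hRv' : ∀ a ∈ R, Commute a v' := by
    intro a ha
    have h1 := mem_centralizer.1 (hRC ((Subgroup.mem_normalizer_iff''.1 hn.2 a).1 ha)).2
    have h2 := h1.map (MulAut.conj n).toMonoidHom
    simpa [hv', mul_assoc] using h2
  obtain ⟨w, hw, hwKR, -, hwz⟩ := exists_mid_in P (K := K ⊓ Subgroup.centralizer (R : Set G)) hv hv'D
    (Subgroup.mem_inf.2 ⟨hvK, Subgroup.mem_centralizer_iff.2 fun a ha =>
      (mem_centralizer.1 (hRC ha).2).eq⟩)
    (Subgroup.mem_inf.2 ⟨hv'K, Subgroup.mem_centralizer_iff.2 fun a ha => (hRv' a ha).eq⟩)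
    (by rw [hvx, hv'z]; exact hnx.symm)
  rw [hvx, hv'z] at hwz
  -- carry the pair `x, y` to `x, z`
  obtain ⟨h, hhL, hhx, hhy⟩ := htrans hdvd z hnx ⟨v', hv'D, hv'K, hv'z⟩
  obtain ⟨a, ha, hav⟩ := P.exists_conj_point_in hKL hLK hnx.symm hv'D hv'K hv'z
    (P.conj_mem h v hv) ((Subgroup.mem_normalizer_iff.1 (hLK hhL) v).1 hvK)
    (by rw [P.pt_conj h hv, hvx, hhx]) hv hvK hvx
  set g := a * h with hg
  have hgv : Commute g v := mul_inv_eq_iff_eq_mul.1 (show g * v * g⁻¹ = v by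
    calc g * v * g⁻¹ = a * (h * v * h⁻¹) * a⁻¹ := by rw [hg]; group
      _ = v := hav)
  have hgL : g ∈ L := L.mul_mem (hKL ha.1) hhL
  have hgx : g • x = x := by rw [hg, mul_smul, hhx]; exact MulAction.mem_stabilizer_iff.1 ha.2.1
  have hgy : g • y = z := by rw [hg, mul_smul, hhy]; exact MulAction.mem_stabilizer_iff.1 ha.2.2
  set C₂ := L ⊓ twoPt G x z ⊓ Subgroup.centralizer ({v} : Set G) with hC₂
  have hmap : C.map (MulAut.conj g).toMonoidHom = C₂ := by
    ext k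
    rw [Subgroup.mem_map_equiv, MulAut.conj_symm_apply]
    simp only [hC, hC₂, Subgroup.mem_inf, MulAction.mem_stabilizer_iff]
    have e1 : (g⁻¹ * k * g) • x = x ↔ k • x = x := by
      rw [mul_smul, mul_smul, hgx, inv_smul_eq_iff, hgx]
    have e2 : (g⁻¹ * k * g) • y = y ↔ k • z = z := by
      rw [mul_smul, mul_smul, hgy, inv_smul_eq_iff, hgy]
    have e3 : g⁻¹ * k * g ∈ L ↔ k ∈ L :=
      ⟨fun h => by simpa [mul_assoc] using L.mul_mem (L.mul_mem hgL h) (L.inv_mem hgL),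
        fun h => L.mul_mem (L.mul_mem (L.inv_mem hgL) h) hgL⟩
    have e4 : g⁻¹ * k * g ∈ Subgroup.centralizer ({v} : Set G) ↔
        k ∈ Subgroup.centralizer ({v} : Set G) :=
      have hg' : g ∈ Subgroup.centralizer ({v} : Set G) := mem_centralizer.2 hgv
      ⟨fun h => by simpa [mul_assoc] using mul_mem (mul_mem hg' h) (inv_mem hg'),
        fun h => mul_mem (mul_mem (inv_mem hg') h) hg'⟩
    rw [e1, e2, e3, e4]
  have hRg : MulAut.conj g • R ≤ C₂ := by
    rw [← hmap]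
    exact Subgroup.map_mono hRC
  have hC₂card : pPart r (Nat.card C₂) = Nat.card R := by
    rw [← hmap, Subgroup.card_map_of_injective (MulAut.conj g).injective, hRcard]
  have hRC₂ : R ≤ C₂ := fun b hb => Subgroup.mem_inf.2 ⟨Subgroup.mem_inf.2 ⟨(hRC hb).1.1,
    Subgroup.mem_inf.2 ⟨(hRC hb).1.2.1, MulAction.mem_stabilizer_iff.2 (hv'z ▸
      P.commute_fix hv'D (hRv' b hb))⟩⟩, (hRC hb).2⟩
  obtain ⟨S₁, hS₁⟩ := Coprime.exists_sylow_map_eq (K := C₂) hRC₂ hC₂card.symm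
  obtain ⟨S₂, hS₂⟩ := Coprime.exists_sylow_map_eq (K := C₂) hRg
    (by rw [Coprime.card_conj]; exact hC₂card.symm)
  obtain ⟨s, hs⟩ := MulAction.exists_smul_eq ↥C₂ S₁ S₂
  have hconj : MulAut.conj (s : G) • R = MulAut.conj g • R := by
    rw [← hS₂, ← hs, ← hS₁]
    exact (Coprime.map_subtype_smul s S₁).symm
  set t := g⁻¹ * ((s : G) * w * (s : G)⁻¹) * g⁻¹⁻¹ with ht
  refine ⟨t, P.conj_mem g⁻¹ _ (P.conj_mem (s : G) w hw), ?_, ?_, fun b hb => ?_⟩
  · exact (Subgroup.mem_normalizer_iff.1 (inv_mem (hLK hgL)) _).1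
      ((Subgroup.mem_normalizer_iff.1 (hLK s.2.1.1) w).1 hwKR.1)
  · rw [ht, inv_inv, mul_smul, mul_smul, hgx, mul_smul, mul_smul,
      inv_smul_eq_iff.2 (MulAction.mem_stabilizer_iff.1 s.2.1.2.1).symm, hwz,
      MulAction.mem_stabilizer_iff.1 s.2.1.2.2, ← hgy, inv_smul_smul]
  · have hbR : g * b * g⁻¹ ∈ MulAut.conj g • R := by
      rw [Coprime.mem_conj]; simpa [mul_assoc] using hXR hb
    rw [← hconj, Coprime.mem_conj] at hbR
    have h1 : Commute ((s : G)⁻¹ * (g * b * g⁻¹) * (s : G)) w :=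
      Subgroup.mem_centralizer_iff.1 hwKR.2 _ hbR
    have h2 := (h1.map (MulAut.conj (s : G)).toMonoidHom).map (MulAut.conj g⁻¹).toMonoidHom
    exact mem_centralizer.2 (by simpa [ht, mul_assoc] using h2)

end PointClass

namespace PointClass

variable (P : PointClass G Ω D pt)
include P

/-- **A subgroup of odd order fixing `x, y`, centralised by a member at `x`, is centralised by a
swapper of `x, y`**, if the point stabilisers are transitive on the other points and no member acts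
on an `r`-group fixing its point, `r` dividing the number of members at a point. -/
theorem exists_swap_centralizing_odd (hIH : PointCriterionBelow.{u} (Nat.card G))
    (htrans : ∀ x z z' : Ω, z ≠ x → z' ≠ x → ∃ h : G, h • x = x ∧ h • z = z')
    (hNC : ∀ (r : ℕ) [Fact r.Prime], (∀ z : Ω, r ∣ Nat.card {f : G // f ∈ D ∧ pt f = z}) →
      ∀ t ∈ D, ∀ X : Subgroup G, IsPGroup r X → t ∈ Subgroup.normalizer (X : Set G) →
      X ≤ MulAction.stabilizer G (pt t) → X ≤ Subgroup.centralizer ({t} : Set G))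
    (V : Subgroup G) (hV : Odd (Nat.card V)) (x y : Ω) (hxy : x ≠ y) (hVxy : V ≤ twoPt G x y)
    {v : G} (hv : v ∈ D) (hvx : pt v = x) (hVv : V ≤ Subgroup.centralizer ({v} : Set G)) :
    ∃ t ∈ D, t • x = y ∧ V ≤ Subgroup.centralizer ({t} : Set G) := by
  induction hn : Nat.card V using Nat.strong_induction_on generalizing V with
  | _ n ih =>
  by_cases hbot : V = ⊥
  · obtain ⟨f, hf, hfy⟩ := P.exists_at y
    obtain ⟨w, hw, -, hwp⟩ := P.exists_mid hv hf (by rw [hvx, hfy]; exact hxy)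
    exact ⟨w, hw, by rwa [hvx, hfy] at hwp, hbot ▸ bot_le⟩
  haveI : Nontrivial V := (Subgroup.nontrivial_iff_ne_bot V).2 hbot
  haveI : Group.IsSolvable V := OddOrderTheorem.solvable hV
  obtain ⟨M₀, hM₀, hr⟩ := exists_normal_prime_index_of_solvable V
  set r := M₀.index with hrdef
  haveI : Fact r.Prime := ⟨hr⟩
  set Y := M₀.map V.subtype with hYdef
  have hYV : Y ≤ V := Subgroup.map_subtype_le _
  have hlt : Nat.card Y < n := by
    rw [← hn, hYdef, Cores.card_map_subtype, ← M₀.card_mul_index]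
    exact lt_mul_of_one_lt_right Nat.card_pos hr.one_lt
  -- an `r`-element outside `Y`
  obtain ⟨g₀, -, hg₀⟩ := SetLike.exists_of_lt (lt_top_iff_ne_top.2 fun e : M₀ = ⊤ =>
    hr.ne_one (by rw [hrdef, e, Subgroup.index_top]))
  set e := (orderOf g₀).factorization r with he
  set n' := orderOf g₀ / r ^ e with hn'
  set g := g₀ ^ n' with hg
  have hcop : n'.Coprime r :=
    (hr.coprime_iff_not_dvd.2 (Nat.not_dvd_ordCompl hr (orderOf_pos g₀).ne')).symm
  have hgM : g ∉ M₀ := by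
    intro h
    refine hg₀ ?_
    have h1 : g₀ ^ r ∈ M₀ := M₀.pow_index_mem g₀
    have h2 := M₀.mul_mem (M₀.zpow_mem h (n'.gcdA r)) (M₀.zpow_mem h1 (n'.gcdB r))
    rwa [hg, ← zpow_natCast g₀ n', ← zpow_natCast g₀ r, ← zpow_mul, ← zpow_mul, ← zpow_add,
      ← Nat.gcd_eq_gcd_ab, hcop, Nat.cast_one, zpow_one] at h2
  set R := Subgroup.zpowers (g : G) with hR
  have hRV : R ≤ V := Subgroup.zpowers_le.2 g.2
  have hRp : IsPGroup r R := by
    refine IsPGroup.of_card (n := e) ?_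
    have hdvd : n' ∣ orderOf g₀ := Nat.div_dvd_of_dvd (Nat.ordProj_dvd _ _)
    have hpos : 0 < n' := Nat.ordCompl_pos r (orderOf_pos g₀).ne'
    rw [hR, Nat.card_zpowers, Subgroup.orderOf_coe, hg, orderOf_pow' g₀ hpos.ne',
      Nat.gcd_eq_right hdvd, hn', Nat.div_div_self (Nat.ordProj_dvd _ _) (orderOf_pos g₀).ne']
  have hVYR : V ≤ Y ⊔ R := by
    have htop : M₀ ⊔ Subgroup.zpowers g = ⊤ := by
      have h1 : M₀ < M₀ ⊔ Subgroup.zpowers g := lt_of_le_of_ne le_sup_left fun e =>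
        hgM (e ▸ Subgroup.mem_sup_right (Subgroup.mem_zpowers g))
      have h2 := Subgroup.index_dvd_of_le h1.le
      rcases (Nat.dvd_prime hr).1 h2 with e | e
      · exact Subgroup.index_eq_one.1 e
      · exact absurd (Subgroup.index_strictAnti h1) (by omega)
    intro a ha
    have : (⟨a, ha⟩ : V) ∈ M₀ ⊔ Subgroup.zpowers g := htop ▸ Subgroup.mem_top _
    have h' := Subgroup.mem_map_of_mem V.subtype this
    rwa [Subgroup.map_sup, MonoidHom.map_zpowers] at h'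
  -- the local setting
  set K := Subgroup.centralizer (Y : Set G) with hK
  set L := Subgroup.normalizer (Y : Set G) with hL
  have hKL : K ≤ L := fun t ht => Coprime.mem_normalizer_of_forall fun a ha => by
    rwa [← Subgroup.mem_centralizer_iff.1 ht a ha, mul_inv_cancel_right]
  have hLK : L ≤ Subgroup.normalizer (K : Set G) := by
    intro a ha
    refine Coprime.mem_normalizer_of_forall fun c hc => ?_
    rw [hK, Subgroup.mem_centralizer_iff] at hc ⊢
    intro z hz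
    have hz' : a⁻¹ * z * a ∈ Y := (Subgroup.mem_normalizer_iff''.1 ha z).1 hz
    calc z * (a * c * a⁻¹) = a * ((a⁻¹ * z * a) * c) * a⁻¹ := by group
      _ = a * (c * (a⁻¹ * z * a)) * a⁻¹ := by rw [hc _ hz']
      _ = a * c * a⁻¹ * z := by group
  have hmemK : ∀ {t : G}, Y ≤ Subgroup.centralizer ({t} : Set G) → t ∈ K := fun {t} h =>
    Subgroup.mem_centralizer_iff.2 fun a ha => (mem_centralizer.1 (h ha)).eq
  have hvK : v ∈ K := hmemK (hYV.trans hVv)
  obtain ⟨q, hq, hqx, hqY⟩ := ih _ hlt Y (hV.of_dvd_nat (Subgroup.card_dvd_of_le hYV))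
    (hYV.trans hVxy) (hYV.trans hVv) rfl
  have hqK : q ∈ K := hmemK hqY
  have hRL : R ≤ L := by
    refine Subgroup.zpowers_le.2 (Coprime.mem_normalizer_of_forall ?_)
    rintro _ ⟨a, ha, rfl⟩
    exact ⟨g * a * g⁻¹, hM₀.conj_mem a ha g, rfl⟩
  have hm : r ∣ Nat.card {t : G // t ∈ D ∧ t ∈ K ∧ t • x = y} →
      ∀ z : Ω, r ∣ Nat.card {f : G // f ∈ D ∧ pt f = z} := fun h =>
    P.dvd_card_point_of_dvd hKL hLK hxy hq hqK hqx h
  obtain ⟨t, ht, htK, htx, htR⟩ := P.exists_swap_centralizing_in hKL hLK hxy hv hvK hvx hq hqK hqx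
    (X := R) hRp (le_inf (le_inf hRL (hRV.trans hVxy)) (hRV.trans hVv))
    (fun h => hNC r (hm h)) fun h z hzx hz => by
      by_cases hKtop : K = ⊤
      · obtain ⟨k, hk1, hk2⟩ := htrans x y z hxy.symm hzx
        exact ⟨k, hKL (hKtop ▸ Subgroup.mem_top k), hk1, hk2⟩
      obtain ⟨d, hd, e', he', hdK, heK, hdx, hde, hne⟩ :=
        P.exists_commuting_in hKL hLK hxy hv hvK hvx hq hqK hqx (hNC r (hm h)) h
      obtain ⟨k, hk, hk1, hk2⟩ := P.exists_smul_points hIH hKtop hd hdK hdx he' heK hde hne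
        (z₁ := y) (z₂ := z) hxy.symm hzx
        ⟨q * v * q⁻¹, P.conj_mem q v hv, K.mul_mem (K.mul_mem hqK hvK) (K.inv_mem hqK),
          by rw [P.pt_conj q hv, hvx, hqx]⟩ hz
      exact ⟨k, hKL (memSub_le D K hk), hk1, hk2⟩
  refine ⟨t, ht, htx, hVYR.trans (sup_le (fun a ha => ?_) htR)⟩
  exact mem_centralizer.2 (Subgroup.mem_centralizer_iff.1 htK a ha)

end PointClass

end Cfsg.Agent.Aschbacher
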