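import Cfsg.Agent.Lib.Aschbacher.SU3NotLe

/-!
# The case list for maximal subgroups of `SU₃(q)`

The argument of `Cfsg.Agent.PrimeDim.unitary_cases`, with the three-dimensional not-containment lemmas.
-/

set_option autoImplicit false

namespace Cfsg.Agent.Aschbacher.SU3

open Matrix
open Cfsg.Agent.PrimeDim

theorem prime_class6 {p b : ℕ} (hp : p.Prime) (hb0 : b ≠ 0) (h : 2 * b = orderOf (p : ZMod 3)) : b = 1 ∧ p % 3 = 2 := by
  rw [← ZMod.natCast_mod p 3] at h
  have h3 : p % 3 < 3 := Nat.mod_lt _ (by norm_num)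
  interval_cases hm : p % 3
  · rw [Nat.cast_zero, orderOf_eq_zero] at h
    · omega
    · rw [isOfFinOrder_iff_pow_eq_one]
      rintro ⟨n, hn, hn'⟩
      simp [hn.ne'] at hn'
  · rw [Nat.cast_one, orderOf_one] at h; omega
  · rw [show orderOf ((2 : ℕ) : ZMod 3) = 2 from orderOf_eq_prime (by decide) (by decide)] at h
    omega

variable {F : Type*} [Field F] [Fintype F] {q : ℕ}

local notation "hq" => Cfsg.hermForm 3 F q
local notation "Γ" => Cfsg.GU 3 F q ⊓ Geo.specialLinear (Fin 3) F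

/-- The case list for maximal subgroups of `SU₃(q)`, before the small exceptions are removed. -/
theorem su3_cases (hF : Fintype.card F = q ^ 2) (hq3 : 3 ≤ q) {H : Subgroup (GL (Fin 3) F)}
    (hH : Geo.IsMaximalIn Γ H) :
    (∃ W : Submodule F (Fin 3 → F), W ≠ ⊥ ∧ Geo.IsTotallySingularFor hq W ∧
      H = Geo.subspaceStabilizer W ⊓ Γ) ∨
    (∃ W : Submodule F (Fin 3 → F), W ≠ ⊥ ∧ Geo.IsNondegenerateOn hq W ∧ 2 * Module.finrank F W < 3 ∧
      H = Geo.subspaceStabilizer W ⊓ Γ) ∨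
    (∃ D : Fin 3 → Submodule F (Fin 3 → F), Geo.IsNondegenerateMDecomposition hq 1 D ∧
      H = Geo.decompositionStabilizer D ⊓ Γ) ∨
    (∃ K : Subalgebra F (Matrix (Fin 3) (Fin 3) F), Geo.IsFieldSubalgebra 3 K ∧
      Geo.IsAdjointClosedFor hq K ∧ H = Geo.subalgebraNormalizer K ⊓ Γ) ∨
    (∃ (F₀ : Subfield F) (r : ℕ) (P : GL (Fin 3) F), r.Prime ∧ Odd r ∧ Fintype.card F = Nat.card F₀ ^ r ∧
      Geo.IsFormRationalStructure hq F₀ 1 P ∧ H = Geo.subfieldSubgroup F₀ P ⊓ Γ) ∨
    (Odd q ∧ ∃ (F₀ : Subfield F) (P : GL (Fin 3) F), Fintype.card F = Nat.card F₀ ^ 2 ∧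
      Geo.IsFormRationalStructure hq F₀ 1 P ∧ H = Geo.subfieldSubgroup F₀ P ⊓ Γ) ∨
    (∃ (p : ℕ) (R : Subgroup (GL (Fin 3) F)), p.Prime ∧ CharP F p ∧ q = p ∧ p % 3 = 2 ∧
      IsExtraspecialData H R ∧ Geo.IsSymplecticTypeGroup 3 R ∧
      Geo.ActsAbsolutelyIrreducibly (Geo.matrixSet R) ∧ R ≤ Cfsg.GU 3 F q ∧
      R ≤ Geo.similarityGroup hq ∧ Nat.card R = 27 ∧ Nat.card (Subgroup.center R) = 3 ∧
      H = Geo.subgroupNormalizer R ⊓ Γ) ∨
    Geo.InUnitaryResidualClass H := by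
  classical
  have hn : Nat.Prime 3 := Nat.prime_three
  have hodd : Odd 3 := by decide
  have hn3 : 3 ≤ 3 := le_rfl
  have hcard : Fintype.card (Fin 3) = 3 := Fintype.card_fin 3
  have : Nonempty (Fin 3) := ⟨⟨0, by omega⟩⟩
  have HH := Unitary.hermForm_isHerm hF 3
  have key : ∀ M : Subgroup (GL (Fin 3) F), H ≤ M → ¬ Γ ≤ M → H = M ⊓ Γ := by
    intro M h1 h2
    rcases hH.2 (M ⊓ Γ) (le_inf h1 hH.1.le) inf_le_right with h | h
    · exact h.symm
    · exact absurd (h ▸ inf_le_left) h2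
  have hHU : H ≤ Cfsg.GU 3 F q := hH.1.le.trans inf_le_left
  have hHS : H ≤ Geo.specialLinear (Fin 3) F := hH.1.le.trans inf_le_right
  by_cases hirr : Geo.ActsIrreducibly (Geo.matrixSet H)
  swap
  · simp only [Geo.ActsIrreducibly, not_forall, not_or] at hirr
    obtain ⟨W, hW, hb, ht⟩ := hirr
    have hWm : ∀ g ∈ H, ∀ w ∈ W, (g : Matrix (Fin 3) (Fin 3) F) *ᵥ w ∈ W :=
      fun g hg => (mapsTo_iff_mulVec _ W).mp (hW _ (mem_matrixSet hg))
    set k := Module.finrank F W with hk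
    let bW := Module.finBasis F W
    let Φ : (Fin 3 → F) →ₗ[F] (Fin k → F) :=
      LinearMap.pi fun i => Transvect.ufl (hermForm_unitary hF) (bW i : Fin 3 → F)
    set W' := LinearMap.ker Φ with hW'
    have hmem : ∀ x, x ∈ W' ↔ ∀ w ∈ W, hq x w = 0 := by
      intro x
      rw [hW', LinearMap.mem_ker]
      constructor
      · intro h w hw
        have h1 := congrArg Subtype.val (bW.sum_repr ⟨w, hw⟩)
        simp only [Submodule.coe_sum, Submodule.coe_smul] at h1
        rw [← h1, HH.sum_right hF]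
        refine Finset.sum_eq_zero fun i _ => ?_
        rw [HH.smul_right]
        have h2 : hq x (bW i : Fin 3 → F) = 0 := congrFun h i
        rw [h2, mul_zero]
      · intro h
        funext i
        exact h _ (bW i).2
    have hstab : H ≤ Geo.subspaceStabilizer W' := by
      intro g hg
      refine Transvect.mem_stab_of_le fun x hx => ?_
      rw [hmem] at hx ⊢
      intro w hw
      rw [Transvect.app_apply]
      have h1 := hWm g⁻¹ (inv_mem hg) w hw
      have h2 := hHU hg x (((g⁻¹ : GL (Fin 3) F) : Matrix (Fin 3) (Fin 3) F) *ᵥ w)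
      simp only [Units.coeHom_apply, Matrix.mulVec_mulVec w, Units.mul_inv, Matrix.one_mulVec] at h2
      rw [h2]
      exact hx _ h1
    have hstabW : H ≤ Geo.subspaceStabilizer W := fun g hg =>
      Transvect.mem_stab_of_le fun w hw => by rw [Transvect.app_apply]; exact hWm g hg w hw
    have hkn : k < 3 := by
      have := Submodule.finrank_lt ht
      simpa using this
    have hdim : 3 ≤ k + Module.finrank F W' := by
      have h1 := LinearMap.finrank_range_add_finrank_ker Φ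
      have h2 := Submodule.finrank_le (LinearMap.range Φ)
      simp at h1 h2
      rw [← hW'] at h1
      omega
    have hW'b : W' ≠ ⊥ := fun h => by rw [h, finrank_bot] at hdim; omega
    by_cases hts : W ⊓ W' = ⊥
    swap
    · refine Or.inl ⟨W ⊓ W', hts, fun u hu v hv => (hmem u).mp hu.2 v hv.1, key _ ?_ ?_⟩
      · exact fun g hg => Transvect.mem_stab_of_le fun w hw =>
          ⟨(Transvect.mem_stab_iff.mp (hstabW hg)) w hw.1, (Transvect.mem_stab_iff.mp (hstab hg)) w hw.2⟩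
      · exact not_su_le_subspaceStabilizer hF (by omega) hts fun h => ht (eq_top_iff.mpr (h ▸ inf_le_left))
    have hdim2 : k + Module.finrank F W' ≤ 3 := by
      have h1 := Submodule.finrank_sup_add_finrank_inf_eq W W'
      have h2 := Submodule.finrank_le (W ⊔ W')
      rw [hts, finrank_bot] at h1
      simp at h2
      omega
    have htop : W ⊔ W' = ⊤ := by
      refine Submodule.eq_top_of_finrank_eq ?_
      have h1 := Submodule.finrank_sup_add_finrank_inf_eq W W'
      rw [hts, finrank_bot] at h1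
      simp
      omega
    have hndW : Geo.IsNondegenerateOn hq W := by
      intro w hw hw0
      obtain ⟨x, hx⟩ : ∃ x ∈ W, hq w x ≠ 0 := by
        by_contra hc
        simp only [not_exists, not_and, not_not] at hc
        have : w ∈ W ⊓ W' := ⟨hw, (hmem w).mpr hc⟩
        rw [hts] at this
        exact hw0 this
      exact ⟨⟨x, hx.1, fun h => hx.2 ((HH.eq_zero_symm hF).mp h)⟩, x, hx⟩
    have hndW' : Geo.IsNondegenerateOn hq W' := by
      intro w hw hw0
      obtain ⟨y, hy⟩ := ((hermForm_unitary hF).nondegenerate w hw0).2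
      obtain ⟨a, ha, c, hc, rfl⟩ := Submodule.mem_sup.mp (htop ▸ Submodule.mem_top : y ∈ W ⊔ W')
      rw [HH.add_right hF, (hmem w).mp hw a ha, zero_add] at hy
      exact ⟨⟨c, hc, fun h => hy ((HH.eq_zero_symm hF).mp h)⟩, c, hc, hy⟩
    right; left
    by_cases h2k : 2 * k < 3
    · exact ⟨W, hb, hndW, h2k, key _ hstabW (not_su_le_subspaceStabilizer hF (by omega) hb ht)⟩
    · have hpar := Nat.odd_iff.mp hodd
      refine ⟨W', hW'b, hndW', by omega, key _ hstab (not_su_le_subspaceStabilizer (n := 3) (q := q) hF hn3 hW'b fun h => ?_)⟩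
      rw [h, inf_top_eq] at hts
      exact hb hts
  have hsub : ∀ P : Subgroup (GL (Fin 3) F), P ≤ H → NormBy H P → Submodule.span F (Geo.matrixSet P) = ⊤ →
      Geo.ActsAbsolutelyIrreducibly (Geo.matrixSet P) →
      ∀ F₀ : Subfield F, F₀ ≠ ⊤ → Geo.RealisableOver F₀ (Geo.matrixSet P) →
      (∃ (F₀ : Subfield F) (r : ℕ) (P : GL (Fin 3) F), r.Prime ∧ Odd r ∧ Fintype.card F = Nat.card F₀ ^ r ∧
        Geo.IsFormRationalStructure hq F₀ 1 P ∧ H = Geo.subfieldSubgroup F₀ P ⊓ Γ) ∨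
      (Odd q ∧ ∃ (F₀ : Subfield F) (P : GL (Fin 3) F), Fintype.card F = Nat.card F₀ ^ 2 ∧
        Geo.IsFormRationalStructure hq F₀ 1 P ∧ H = Geo.subfieldSubgroup F₀ P ⊓ Γ) := by
    intro P hP hnorm hspan habs F₀ hF₀ hreal
    obtain ⟨F₁, r, B, hr, hc, hne, hcase, hform, hle⟩ :=
      exists_form_rational hF (by omega) hodd hnorm (hP.trans hHU) hspan habs hF₀ hreal
    have heq := key _ hle (not_su3_le_subfieldSubgroup hF hq3 hne B)
    rcases hcase with h | ⟨rfl, hq'⟩
    · exact Or.inl ⟨F₁, r, B, hr, h, hc, hform, heq⟩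
    · exact Or.inr ⟨hq', F₁, B, hc, hform, heq⟩
  rcases trichotomy (hcard.symm ▸ hn) (hcard.symm ▸ hodd) hHS hirr with
    ⟨N, e, hN, he⟩ | ⟨N, hN, -, hK, hle⟩ | ⟨R, hR⟩ | ⟨P, hP⟩
  · obtain ⟨D, hD, hle⟩ := frame_orthogonal hF (by omega) hodd hHU hN he
    exact Or.inr (Or.inr (Or.inl ⟨D, hD, key _ hle (not_su3_le_decomposition hF hq3 hD)⟩))
  · refine Or.inr (Or.inr (Or.inr (Or.inl ⟨alg N, ⟨hK.comm, hK.inv, hK.finrank_eq.trans hcard⟩, ?_,
      key _ hle (not_su_le_subalgebraNormalizer hF (by omega) (by omega : 2 ≤ 3)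
        ⟨hK.comm, hK.inv, hK.finrank_eq.trans hcard⟩)⟩)))
    exact fun k hk => ⟨adjU hF k, alg_adjU_mem hF (hN.trans hHU) hk, herm_adjU hF k⟩
  · rcases hR.field_cases with ⟨F₀, hF₀, hreal⟩ | ⟨p, e, hne, hmin, hord⟩
    · exact Or.inr (Or.inr (Or.inr (Or.inr ((hsub R hR.le hR.norm hR.span_eq hR.absIrred F₀ hF₀ hreal).elim
        Or.inl (fun h => Or.inr (Or.inl h))))))
    obtain ⟨hp, hchar, hqe, -, -⟩ := hmin
    rw [hF] at hqe
    obtain ⟨b, -, hb⟩ := (Nat.dvd_prime_pow hp).mp (hqe ▸ dvd_pow_self q two_ne_zero : q ∣ p ^ e)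
    have heb : e = 2 * b := by
      refine (Nat.pow_right_injective hp.two_le ?_).symm
      show p ^ (2 * b) = p ^ e
      rw [← hqe, hb, ← pow_mul, mul_comm]
    obtain ⟨hb1, hp3⟩ := prime_class6 (b := b) hp (fun h0 => by rw [hb, h0, pow_zero] at hq3; omega) (by rw [← heb, hord, hcard])
    refine Or.inr (Or.inr (Or.inr (Or.inr (Or.inr (Or.inr (Or.inl ⟨p, R, hp, hchar, by rw [hb, hb1, pow_one], hp3,
      hR, ?_, hR.absIrred, hR.le.trans hHU, ?_, ?_, ?_,
      key _ ?_ (not_su3_le_normalizer hF hq3 hR (hR.le.trans hHU))⟩))))))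
    · have := hR.sympType; rwa [hcard] at this
    · exact fun g hg => ⟨1, fun u v => by rw [Units.val_one, one_mul]; exact hHU (hR.le hg) u v⟩
    · rw [hR.card_eq, hcard]; norm_num
    · rw [hR.card_center, hcard]
    · intro g hg
      refine Subgroup.mem_normalizer_iff.mpr fun x => ⟨hR.norm g hg x, fun hx => ?_⟩
      have := hR.norm g⁻¹ (inv_mem hg) _ hx
      simpa [mul_assoc] using this
  · by_cases hreal : ∃ F₀ : Subfield F, F₀ ≠ ⊤ ∧ Geo.RealisableOver F₀ (Geo.matrixSet P)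
    · obtain ⟨F₀, hF₀, hr⟩ := hreal
      exact Or.inr (Or.inr (Or.inr (Or.inr ((hsub P hP.le hP.normal hP.span_eq hP.absIrred F₀ hF₀ hr).elim
        Or.inl (fun h => Or.inr (Or.inl h))))))
    refine Or.inr (Or.inr (Or.inr (Or.inr (Or.inr (Or.inr (Or.inr
      ⟨P, hP.residualCore fun F₀ h hr => hreal ⟨F₀, h, hr⟩, ?_,
        fun ⟨f, hf, _⟩ => not_isSymplecticForm (hcard.symm ▸ hodd) hf⟩))))))
    rintro ⟨Q, hQ, hfix⟩
    refine hreal ⟨Unitary.fixedField hF, fun htop => Unitary.conjHom_ne_id hF (RingHom.ext fun x => ?_), ?_⟩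
    · exact (Unitary.mem_fixedField hF).mp (htop ▸ Subfield.mem_top x)
    refine realisableOver_of_trace hP.span_eq hP.absIrred.2 _ fun x hx => ?_
    rw [Unitary.mem_fixedField]
    set G := Geo.gramMatrix (QuadraticMap.polar Q) with hG
    have he := bilinForm_eq_sesq hQ.polar_bilinear
    have hGdet : G.det ≠ 0 := det_ne_zero_of_nondegenerate _ (he ▸ hQ.nondegenerate)
    have h1 : (x : Matrix (Fin 3) (Fin 3) F)ᵀ * G * (x : Matrix (Fin 3) (Fin 3) F) = G := by
      have h0 := (sesq_invariant_iff (RingHom.id F) G (x : Matrix (Fin 3) (Fin 3) F) 1).mp fun u v => by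
        rw [hG, ← he, one_mul, QuadraticMap.polar, QuadraticMap.polar, ← Matrix.mulVec_add,
          hfix _ (mem_matrixSet hx), hfix _ (mem_matrixSet hx), hfix _ (mem_matrixSet hx)]
      simpa using h0
    set X := (x : Matrix (Fin 3) (Fin 3) F) with hX
    have h2 := gram_of_mem_GU hF (hHU (hP.le hx))
    rw [mul_one, ← hX, mul_eq_one_comm] at h2
    have h3 : X.map (Unitary.conjHom hF) * G = G * X := by
      conv_lhs => rw [← h1]
      rw [← mul_assoc, ← mul_assoc, h2, one_mul]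
    have h4 : (X.map (Unitary.conjHom hF)).trace = X.trace := by
      have h5 : X.map (Unitary.conjHom hF) = G * X * G⁻¹ := by
        rw [← h3, Matrix.mul_nonsing_inv_cancel_right _ _ (isUnit_iff_ne_zero.mpr hGdet)]
      rw [h5, Matrix.trace_mul_cycle, Matrix.nonsing_inv_mul _ (isUnit_iff_ne_zero.mpr hGdet), one_mul]
    rw [← conjHom_apply' hF]
    conv_rhs => rw [← h4]
    simp [Matrix.trace, map_sum]


end Cfsg.Agent.Aschbacher.SU3
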