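/-
The special unitary group of dimension three lies in none of the geometric classes.
Main results: `card_su3`, `not_su3_le_decomposition`, `not_su3_le_subfieldSubgroup`, `heis_normal_form`,
`not_su3_le_normalizer`.
-/
import Cfsg.Agent.Lib.PrimeDim.UnitaryCases
import Cfsg.Agent.Lib.Unitary.Count
import Cfsg.Agent.Lib.Aschbacher.UnitaryReduce

set_option autoImplicit false

namespace Cfsg.Agent.Aschbacher.SU3

open Matrix
open scoped commutatorElement
open Cfsg.Agent.PrimeDim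

variable {F : Type*} [Field F] [Fintype F] {q : ℕ}

local notation "hq" => Cfsg.hermForm 3 F q
local notation "Γ" => Cfsg.GU 3 F q ⊓ Geo.specialLinear (Fin 3) F

/-- Every isotropic vector of a subfield group containing SU₃(q) would be rational; there are too many. -/
theorem not_su3_le_subfieldSubgroup (hF : Fintype.card F = q ^ 2) (hq3 : 3 ≤ q) {F₁ : Subfield F} (hF₁ : F₁ ≠ ⊤)
    (B : GL (Fin 3) F) : ¬ Γ ≤ Geo.subfieldSubgroup F₁ B := by
  classical
  intro hle
  have H := Unitary.hermForm_isHerm hF 3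
  have hq2 := Unitary.two_le_q hF
  -- the subfield has at most `q` elements
  obtain ⟨g, -, hg⟩ := SetLike.exists_of_lt (lt_top_iff_ne_top.mpr hF₁)
  have hcard : Nat.card F₁ ≤ q := by
    have hinj : Function.Injective (fun p : F₁ × F₁ => (p.1 : F) + g * p.2) := by
      rintro ⟨a, b⟩ ⟨a', b'⟩ h
      by_cases hb : b = b'
      · subst hb
        exact Prod.ext (Subtype.ext (add_right_cancel h)) rfl
      · refine absurd ?_ hg
        have hb' : (b : F) - b' ≠ 0 := sub_ne_zero.mpr fun h => hb (Subtype.ext h)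
        have : g = ((a' : F) - a) / ((b : F) - b') := by
          rw [eq_div_iff hb']
          simp only at h
          linear_combination h
        rw [this]
        exact div_mem (sub_mem a'.2 a.2) (sub_mem b.2 b'.2)
    have h1 := Nat.card_le_card_of_injective _ hinj
    rw [Nat.card_prod, Nat.card_eq_fintype_card (α := F), hF, sq] at h1
    exact Nat.mul_self_le_mul_self_iff.mp h1
  -- characteristic
  obtain ⟨p, hp⟩ := CharP.exists F
  obtain ⟨e, hpp, -⟩ := FiniteField.card F p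
  have : Fact p.Prime := ⟨hpp⟩
  have : ExpChar F p := ExpChar.prime hpp
  have : CharP F₁ p := RingHom.charP F₁.subtype F₁.subtype.injective p
  have : ExpChar F₁ p := ExpChar.prime hpp
  obtain ⟨a, ha0, ha⟩ := Unitary.exists_skew hF
  -- every isotropic vector is a multiple of an F₁-rational one
  have key : ∀ v, hq v v = 0 → ∃ (c : F) (w : Fin 3 → F₁), v = c • ((B : Matrix (Fin 3) (Fin 3) F) *ᵥ
      fun i => (w i : F)) := by
    intro v hv
    by_cases hv0 : v = 0
    · exact ⟨0, 0, by simp [hv0]⟩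
    obtain ⟨c, hc0, hc⟩ := exists_smul_entries (hle (utq_mem hF hv ha))
    set M := cj B⁻¹ (utq hF v a : Matrix (Fin 3) (Fin 3) F) with hM
    set N : Matrix (Fin 3) (Fin 3) F := (utq hF v a : Matrix (Fin 3) (Fin 3) F) - 1 with hN
    have hNN : N * N = 0 := by
      apply Matrix.ext_of_mulVec_single
      intro i
      have hNx : ∀ x, N *ᵥ x = (a * hq x v) • v := fun x => by
        rw [hN, Matrix.sub_mulVec, utq_mulVec hF hv, Matrix.one_mulVec, add_sub_cancel_left]
      rw [← Matrix.mulVec_mulVec, hNx, Matrix.zero_mulVec, hNx, H.smul_left, hv, mul_zero, mul_zero, zero_smul]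
    have hMp : M ^ p = 1 := by
      rw [hM, ← map_pow]
      have : (utq hF v a : Matrix (Fin 3) (Fin 3) F) = N + 1 := by rw [hN, sub_add_cancel]
      have : Nonempty (Fin 3) := ⟨⟨0, by omega⟩⟩
      have : CharP (Matrix (Fin 3) (Fin 3) F) p := inferInstance
      have : ExpChar (Matrix (Fin 3) (Fin 3) F) p := ExpChar.prime hpp
      have hN2 : N ^ p = 0 := by
        obtain ⟨k, hk⟩ := Nat.exists_eq_add_of_le hpp.two_le
        rw [hk, pow_add, pow_two, hNN, zero_mul]
      rw [‹(utq hF v a : Matrix (Fin 3) (Fin 3) F) = N + 1›, add_pow_expChar_of_commute p (Commute.one_right N),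
        hN2, zero_add, one_pow, map_one]
    have hcF : c ∈ F₁ := by
      let M₀ : Matrix (Fin 3) (Fin 3) F₁ := fun i j => ⟨c * M i j, hc i j⟩
      have h1 : (M₀ ^ p).map F₁.subtype = c ^ p • (1 : Matrix (Fin 3) (Fin 3) F) := by
        rw [← RingHom.mapMatrix_apply, map_pow, RingHom.mapMatrix_apply,
          show M₀.map F₁.subtype = c • M by ext i j; rfl, smul_pow, hMp]
      have h2 := congrFun (congrFun h1 ⟨0, by omega⟩) ⟨0, by omega⟩
      simp at h2
      obtain ⟨y, hy⟩ := (Finite.injective_iff_surjective.mp (frobenius F₁ p).injective)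
        ((M₀ ^ p) 0 0)
      have h3 : (y : F) ^ p = c ^ p := by
        rw [← h2, ← hy, frobenius_def]; rfl
      rw [← (frobenius F p).injective h3]
      exact y.2
    set u := ((B⁻¹ : GL (Fin 3) F) : Matrix (Fin 3) (Fin 3) F) *ᵥ v with hu
    have hent : ∀ i j, a * hq ((B : Matrix (Fin 3) (Fin 3) F) *ᵥ Pi.single j 1) v * u i ∈ F₁ := by
      intro i j
      have h1 : M i j ∈ F₁ := by
        have := mul_mem (inv_mem hcF) (hc i j)
        rwa [← mul_assoc, inv_mul_cancel₀ hc0, one_mul] at this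
      have h2 : M i j = (M *ᵥ Pi.single j 1) i := by simp [Matrix.mulVec_single_one]
      rw [h2, hM, cj_apply, inv_inv, ← Matrix.mulVec_mulVec, ← Matrix.mulVec_mulVec, utq_mulVec hF hv,
        Matrix.mulVec_add, Matrix.mulVec_smul, Matrix.mulVec_mulVec, Units.inv_mul, Matrix.one_mulVec,
        ← hu, Pi.add_apply, Pi.smul_apply, smul_eq_mul] at h1
      have h3 : (Pi.single j (1 : F) : Fin 3 → F) i ∈ F₁ := by
        by_cases h : i = j
        · subst h; simp [one_mem]
        · simp [h, zero_mem]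
      simpa using sub_mem h1 h3
    obtain ⟨j, hj⟩ : ∃ j, hq ((B : Matrix (Fin 3) (Fin 3) F) *ᵥ Pi.single j 1) v ≠ 0 := by
      by_contra hcon
      simp only [not_exists, not_not] at hcon
      obtain ⟨x, hx⟩ := ((hermForm_unitary hF).nondegenerate v hv0).1
      refine hx ?_
      have h1 : x = (B : Matrix (Fin 3) (Fin 3) F) *ᵥ (((B⁻¹ : GL (Fin 3) F) : Matrix (Fin 3) (Fin 3) F) *ᵥ x) := by
        rw [Matrix.mulVec_mulVec, Units.mul_inv, Matrix.one_mulVec]
      rw [h1, pi_eq_sum_univ' (((B⁻¹ : GL (Fin 3) F) : Matrix (Fin 3) (Fin 3) F) *ᵥ x), Matrix.mulVec_sum,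
        H.sum_left]
      exact Finset.sum_eq_zero fun k _ => by rw [Matrix.mulVec_smul, H.smul_left, hcon, mul_zero]
    set k := a * hq ((B : Matrix (Fin 3) (Fin 3) F) *ᵥ Pi.single j 1) v
    refine ⟨k⁻¹, fun i => ⟨k * u i, hent i j⟩, ?_⟩
    rw [show (fun i => k * u i) = k • u from rfl, Matrix.mulVec_smul, smul_smul,
      inv_mul_cancel₀ (mul_ne_zero ha0 hj), one_smul, hu, Matrix.mulVec_mulVec, Units.mul_inv, Matrix.one_mulVec]
  -- counting
  choose c w hcw using key
  let N : Type _ := (F₁ × F₁) ⊕ F₁ ⊕ Unit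
  let ρ : N → Fin 3 → F := Sum.elim (fun p => ![1, (p.1 : F), (p.2 : F)]) (Sum.elim (fun b => ![0, 1, (b : F)]) fun _ => ![0, 0, 1])
  have hnormal : ∀ v : {v : Fin 3 → F // hq v v = 0}, ∃ p : F × N,
      v.1 = p.1 • ((B : Matrix (Fin 3) (Fin 3) F) *ᵥ ρ p.2) := by
    rintro ⟨v, hv⟩
    set ww := w v hv
    by_cases h0 : ww 0 = 0
    · by_cases h1 : ww 1 = 0
      · refine ⟨(c v hv * ww 2, Sum.inr (Sum.inr ())), ?_⟩
        refine (hcw v hv).trans ?_
        rw [mul_smul]
        congr 1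
        rw [← Matrix.mulVec_smul]
        congr 1
        funext i; fin_cases i <;> simp [ρ, ww, h0, h1]
      · refine ⟨(c v hv * ww 1, Sum.inr (Sum.inl (ww 2 / ww 1))), ?_⟩
        refine (hcw v hv).trans ?_
        rw [mul_smul]
        congr 1
        rw [← Matrix.mulVec_smul]
        congr 1
        have : ((ww 1 : F₁) : F) ≠ 0 := by simpa using h1
        funext i; fin_cases i <;> simp [ρ, ww, h0] <;> field_simp <;> exact (mul_div_cancel_right₀ _ this).symm
    · refine ⟨(c v hv * ww 0, Sum.inl (ww 1 / ww 0, ww 2 / ww 0)), ?_⟩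
      refine (hcw v hv).trans ?_
      rw [mul_smul]
      congr 1
      rw [← Matrix.mulVec_smul]
      congr 1
      have : ((ww 0 : F₁) : F) ≠ 0 := by simpa using h0
      funext i; fin_cases i <;> simp [ρ, ww] <;> field_simp <;> exact (mul_div_cancel_right₀ _ this).symm
  choose p hp using hnormal
  have hle' : Unitary.normCount 3 q (0 : F) ≤ Nat.card (F × N) :=
    Nat.card_le_card_of_injective p fun v v' h => Subtype.ext (by rw [hp v, hp v', h])
  rw [Unitary.isotropic_count hF, if_neg (by decide : ¬ Even 3), Nat.card_prod, Nat.card_sum, Nat.card_sum,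
    Nat.card_prod, Nat.card_unique (α := Unit), Nat.card_eq_fintype_card (α := F), hF] at hle'
  have e1 : q ^ 2 * (Nat.card F₁ * Nat.card F₁ + (Nat.card F₁ + 1)) ≤ q ^ 2 * (q * q + (q + 1)) :=
    Nat.mul_le_mul_left _ (Nat.add_le_add (Nat.mul_le_mul hcard hcard) (Nat.add_le_add_right hcard 1))
  obtain ⟨j, hj⟩ : ∃ j, q ^ (3 - 1) = j + 1 := ⟨q ^ 2 - 1, by
    have : 1 ≤ q ^ 2 := Nat.one_le_pow _ _ (by omega)
    show q ^ 2 = _
    omega⟩
  rw [hj, Nat.add_sub_cancel] at hle'
  have hj' : q ^ 2 = j + 1 := hj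
  rw [← hj'] at hle'
  have h5 : (q ^ 3 + 1) * q ^ 2 = (q ^ 3 + 1) * j + (q ^ 3 + 1) := by rw [hj']; ring
  have h6 : q ^ 3 * (q + 3) ≤ q ^ 3 * (q * q) := Nat.mul_le_mul_left _ (by nlinarith)
  have h7 : 0 < q ^ 3 := pow_pos (by omega) 3
  nlinarith

/-- A frame stabiliser does not contain SU₃(q). -/
theorem not_su3_le_decomposition (hF : Fintype.card F = q ^ 2) (hq3 : 3 ≤ q) {D : Fin 3 → Submodule F (Fin 3 → F)}
    (hD : Geo.IsNondegenerateMDecomposition hq 1 D) : ¬ Γ ≤ Geo.decompositionStabilizer D := by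
  intro hle
  have H := Unitary.hermForm_isHerm hF 3
  choose d' hd' using fun i => finrank_eq_one_iff'.mp (hD.decomp.finrank_eq i)
  let d : Fin 3 → Fin 3 → F := fun i => (d' i : Fin 3 → F)
  have hdD : ∀ i, d i ∈ D i := fun i => (d' i).2
  have hspan : ∀ i, ∀ x ∈ D i, ∃ c : F, x = c • d i := fun i x hx => by
    obtain ⟨c, hc⟩ := (hd' i).2 ⟨x, hx⟩
    exact ⟨c, (congrArg Subtype.val hc).symm⟩
  have horth : ∀ i j, i ≠ j → hq (d i) (d j) = 0 := fun i j h => hD.orthogonal i j h _ (hdD i) _ (hdD j)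
  have hnd : ∀ i, hq (d i) (d i) ≠ 0 := by
    intro i h0
    obtain ⟨x, hx, hne⟩ := (hD.nondegenerate i (d i) (hdD i) (fun h => (hd' i).1 (Subtype.ext h))).1
    obtain ⟨c, rfl⟩ := hspan i x hx
    rw [H.smul_left, h0, mul_zero] at hne
    exact hne rfl
  obtain ⟨t, ht0, ht1⟩ : ∃ t : Unitary.fixedField hF, t ≠ 0 ∧ t ≠ -1 := by
    by_contra hc
    simp only [not_exists, not_and, not_not] at hc
    have hsub : (Set.univ : Set (Unitary.fixedField hF)) ⊆ {0, -1} := fun t _ => by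
      by_cases h : t = 0
      · exact Or.inl h
      · exact Or.inr (hc t h)
    have h1 := Set.ncard_le_ncard hsub
    rw [Set.ncard_univ, Unitary.card_fixedField] at h1
    have h2 : ({0, -1} : Set (Unitary.fixedField hF)).ncard ≤ 2 :=
      (Set.ncard_insert_le _ _).trans (by simp)
    omega
  let nu : Fin 3 → Unitary.fixedField hF := ![1, t, -(1 + t)]
  have hnu : ∀ k, nu k ≠ 0 := fun k => by
    fin_cases k
    · exact one_ne_zero
    · exact ht0
    · show -(1 + t) ≠ 0
      exact neg_ne_zero.mpr fun h => ht1 (eq_neg_of_add_eq_zero_right h)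
  have hx : ∀ k : Fin 3, ∃ x : F, x ^ (q + 1) = (nu k : F) / hq (d k) (d k) := fun k =>
    Unitary.exists_norm_eq hF (by rw [div_pow, (Unitary.mem_fixedField hF).mp (nu k).2, H.self_fixed])
  choose x hx using hx
  have hx0 : ∀ k, x k ≠ 0 := fun k h => by
    have := hx k
    rw [h, zero_pow (Nat.succ_ne_zero q)] at this
    exact div_ne_zero (fun h' => hnu k (Subtype.ext h')) (hnd _) this.symm
  let v : Fin 3 → F := ∑ k, x k • d k
  have hvd : ∀ k, hq v (d k) = x k * hq (d k) (d k) := by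
    intro k
    rw [H.sum_left, Finset.sum_eq_single k]
    · rw [H.smul_left]
    · intro m _ hm
      rw [H.smul_left, horth _ _ hm, mul_zero]
    · simp
  have hv : hq v v = 0 := by
    have h1 : hq v v = ∑ k, x k ^ q * hq v (d k) := by
      show hq v (∑ k, x k • d k) = _
      rw [H.sum_right hF]
      exact Finset.sum_congr rfl fun k _ => by rw [H.smul_right]
    rw [h1]
    have h2 : ∀ k, x k ^ q * hq v (d k) = (nu k : F) := fun k => by
      rw [hvd, ← mul_assoc, ← pow_succ, hx, div_mul_cancel₀ _ (hnd _)]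
    simp [h2, Fin.sum_univ_three, nu]
  obtain ⟨a, ha0, ha⟩ := Unitary.exists_skew hF
  obtain ⟨π, hπ⟩ := hle (utq_mem hF hv ha)
  obtain ⟨c, hc⟩ : ∃ c : F, (utq hF v a : Matrix (Fin 3) (Fin 3) F) *ᵥ d 0 = c • d (π 0) :=
    hspan _ _ (by rw [← hπ 0]; exact ⟨_, hdD _, rfl⟩)
  rw [utq_mulVec hF hv] at hc
  have key : ∀ k : Fin 3, k ≠ 0 → π 0 = k := by
    intro k hk
    by_contra hne
    have h1 := congrArg (fun w => hq w (d k)) hc
    simp only [H.add_left, H.smul_left, horth _ _ hne, horth _ _ (Ne.symm hk), hvd, mul_zero, zero_add] at h1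
    rcases mul_eq_zero.mp h1 with h2 | h2
    · rcases mul_eq_zero.mp h2 with h3 | h3
      · exact ha0 h3
      · rw [(H.eq_zero_symm hF)] at h3
        rw [hvd] at h3
        exact mul_ne_zero (hx0 0) (hnd _) h3
    · exact mul_ne_zero (hx0 k) (hnd _) h2
  exact absurd ((key 1 (by decide)).symm.trans (key 2 (by decide))) (by decide)

omit [Fintype F] in
theorem su_toGL_range : (Cfsg.SU 3 F q).map Matrix.SpecialLinearGroup.toGL = Γ := by
  ext g
  constructor
  · rintro ⟨a, ha, rfl⟩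
    exact ⟨fun u v => ha u v, MonoidHom.mem_ker.mpr (Units.ext a.2)⟩
  · rintro ⟨hg, hd⟩
    refine ⟨⟨(g : Matrix (Fin 3) (Fin 3) F), congrArg Units.val (MonoidHom.mem_ker.mp hd)⟩, fun u v => hg u v,
      Units.ext rfl⟩

/-- The order of SU₃(q). -/
theorem card_su3 (hF : Fintype.card F = q ^ 2) : Nat.card ↥Γ = q ^ 3 * (q ^ 2 - 1) * (q ^ 3 + 1) := by
  rw [← su_toGL_range, Subgroup.card_map_of_injective Matrix.SpecialLinearGroup.toGL_injective]
  have h := Unitary.card_SU hF 3 (by norm_num)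
  simp only [Finset.prod_range_succ, Finset.prod_range_zero, one_mul] at h
  rw [if_pos (by decide : Even 0), if_neg (by decide : ¬ Even 1), if_pos (by decide : Even 2)] at h
  refine Nat.eq_of_mul_eq_mul_left (show 0 < q + 1 by omega) (h.trans ?_)
  norm_num
  ring

/-- `diag(1, c, c²)`. -/
def dd (c : F) : Matrix (Fin 3) (Fin 3) F := Matrix.diagonal ![1, c, c ^ 2]

/-- The cyclic permutation matrix. -/
def cc : Matrix (Fin 3) (Fin 3) F := Matrix.of fun i j => if i = j + 1 then 1 else 0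

omit [Fintype F] in
theorem eq_scalar_of_comm_heis {c : F} (h3 : c ^ 3 = 1) (h1 : c ≠ 1) {M : Matrix (Fin 3) (Fin 3) F}
    (hd : M * dd c = dd c * M) (hc : M * cc = cc * M) : M = M 0 0 • (1 : Matrix (Fin 3) (Fin 3) F) := by
  have hcs : c ≠ c ^ 2 := fun h => h1 (by
    have h0 : c ≠ 0 := fun h0 => by simp [h0] at h3
    exact mul_left_cancel₀ h0 (by rw [mul_one, ← sq]; exact h.symm))
  have h2 : c ^ 2 ≠ 1 := fun h => h1 (by rw [pow_succ, h, one_mul] at h3; exact h3)
  have hinj : ∀ i j : Fin 3, ![1, c, c ^ 2] i = ![1, c, c ^ 2] j → i = j := by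
    intro i j
    fin_cases i <;> fin_cases j <;> simp [h1, h1.symm, h2, h2.symm, hcs, hcs.symm]
  have hoff : ∀ i j, i ≠ j → M i j = 0 := by
    intro i j hij
    have h := congrFun (congrFun hd i) j
    rw [dd, Matrix.mul_diagonal, Matrix.diagonal_mul] at h
    by_contra h0
    exact hij (hinj i j (mul_right_cancel₀ h0 (by linear_combination -h)))
  have hdiag : ∀ j, M (j + 1) (j + 1) = M j j := by
    intro j
    have h := congrFun (congrFun hc (j + 1)) j
    simp only [cc, Matrix.mul_apply, Matrix.of_apply, mul_ite, mul_one, mul_zero, ite_mul, one_mul, zero_mul,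
      add_left_inj, Finset.sum_ite_eq, Finset.sum_ite_eq', Finset.mem_univ, if_true] at h
    exact h
  ext i j
  by_cases hij : i = j
  · subst hij
    fin_cases i
    · simp
    · simpa using hdiag 0
    · simpa using (hdiag 1).trans (hdiag 0)
  · simp [hoff i j hij, hij]

omit [Fintype F] in
theorem comm_scalar {H R : Subgroup (GL (Fin 3) F)} (hR : IsExtraspecialData H R) :
    ∀ y ∈ R, ∀ z ∈ R, z * y * z⁻¹ * y⁻¹ ∈ Geo.scalars (Fin 3) F := by
  intro y hy z hz
  have : Fact (Nat.Prime 3) := ⟨Nat.prime_three⟩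
  have hquot : Nat.card (R ⧸ Subgroup.center R) = 3 ^ 2 := by
    have h1 := Subgroup.card_eq_card_quotient_mul_card_subgroup (Subgroup.center R)
    rw [hR.card_eq, hR.card_center, Fintype.card_fin, pow_succ] at h1
    omega
  let yR : R := ⟨y, hy⟩
  let zR : R := ⟨z, hz⟩
  have h2 : (QuotientGroup.mk (zR * yR) : R ⧸ Subgroup.center R) = QuotientGroup.mk (yR * zR) := by
    rw [QuotientGroup.mk_mul, QuotientGroup.mk_mul]
    exact IsPGroup.commutative_of_card_eq_prime_sq hquot _ _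
  have h3 : (zR * yR * zR⁻¹ * yR⁻¹) ∈ Subgroup.center R := by
    have h4 := QuotientGroup.eq.mp h2
    have h5 : zR * yR * zR⁻¹ * yR⁻¹ = (zR * yR) * ((zR * yR)⁻¹ * (yR * zR))⁻¹ * (zR * yR)⁻¹ := by group
    rw [h5]
    exact (Subgroup.Normal.conj_mem inferInstance _ (inv_mem h4) _)
  obtain ⟨c, hc⟩ := hR.absIrred.2 ((z * y * z⁻¹ * y⁻¹ : GL (Fin 3) F) : Matrix (Fin 3) (Fin 3) F) (by
    rintro _ ⟨s, hs, rfl⟩
    have := congrArg (Subtype.val : R → GL (Fin 3) F) ((Subgroup.mem_center_iff.mp h3) ⟨s, hs⟩)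
    exact (congrArg Units.val this).symm)
  exact smul_one_mem_scalars hc

set_option maxHeartbeats 800000 in
/-- An orthonormal basis in which an extraspecial group of order 27 is the standard one. -/
theorem heis_normal_form (hF : Fintype.card F = q ^ 2) {H R : Subgroup (GL (Fin 3) F)}
    (hR : IsExtraspecialData H R) (hRU : R ≤ Cfsg.GU 3 F q) :
    ∃ (u : GL (Fin 3) F) (c : F) (x y : GL (Fin 3) F), u ∈ Cfsg.GU 3 F q ∧ c ^ 3 = 1 ∧ c ≠ 1 ∧ x ∈ R ∧ y ∈ R ∧
      cj u (x : Matrix (Fin 3) (Fin 3) F) = dd c ∧ cj u (y : Matrix (Fin 3) (Fin 3) F) = cc ∧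
      ∀ r ∈ R, ∃ (a : F) (i j : ℕ), cj u (r : Matrix (Fin 3) (Fin 3) F) = a • (dd c ^ i * cc ^ j) := by
  classical
  have HH := Unitary.hermForm_isHerm hF 3
  have hcube : ∀ r ∈ R, r ^ 3 = 1 := fun r hr => by
    have h1 := Monoid.pow_exponent_eq_one (⟨r, hr⟩ : R)
    rw [hR.sympType.exponent_eq, Fintype.card_fin] at h1
    exact congrArg Subtype.val h1
  obtain ⟨x, hx, y, hy, hxy⟩ : ∃ x ∈ R, ∃ y ∈ R, x * y ≠ y * x := by
    by_contra hcon
    simp only [not_exists, not_and, not_not] at hcon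
    have htop : Subgroup.center R = ⊤ := eq_top_iff.mpr fun r _ =>
      Subgroup.mem_center_iff.mpr fun s => Subtype.ext (hcon _ s.2 _ r.2)
    have h1 := hR.card_center
    rw [htop, Subgroup.card_top, hR.card_eq] at h1
    simp at h1
  obtain ⟨c', hc'⟩ := (Geo.mem_scalars_iff _).mp (comm_scalar hR y hy x hx)
  set c : F := (c' : F) with hcdef
  set X := (x : Matrix (Fin 3) (Fin 3) F) with hX
  set Y := (y : Matrix (Fin 3) (Fin 3) F) with hY
  have hz : x * y * x⁻¹ * y⁻¹ ∈ R := mul_mem (mul_mem (mul_mem hx hy) (inv_mem hx)) (inv_mem hy)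
  have hXY : X * Y = c • (Y * X) := by
    have h1 : x * y = x * y * x⁻¹ * y⁻¹ * (y * x) := by group
    have h2 := congrArg Units.val h1
    rw [Units.val_mul, Units.val_mul (x * y * x⁻¹ * y⁻¹), hc', Units.val_mul, Matrix.smul_mul, one_mul] at h2
    exact h2
  have hX3 : X ^ 3 = 1 := by
    rw [hX, ← Units.val_pow_eq_pow_val, hcube x hx, Units.val_one]
  have hY3 : Y ^ 3 = 1 := by
    rw [hY, ← Units.val_pow_eq_pow_val, hcube y hy, Units.val_one]
  have hc3 : c ^ 3 = 1 := by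
    have h1 := congrArg Units.val (hcube _ hz)
    rw [Units.val_pow_eq_pow_val, hc', smul_pow, one_pow, Units.val_one] at h1
    simpa using congrFun (congrFun h1 0) 0
  have hc1 : c ≠ 1 := fun h => hxy (by
    refine Units.ext ?_
    rw [Units.val_mul, Units.val_mul, ← hX, ← hY, hXY, h, one_smul])
  have hc0 : c ≠ 0 := c'.ne_zero
  have hcsum : 1 + c + c ^ 2 = 0 :=
    (mul_eq_zero.mp (show (c - 1) * (1 + c + c ^ 2) = 0 by linear_combination hc3)).resolve_left (sub_ne_zero.mpr hc1)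
  have h30 : (3 : F) ≠ 0 := fun h => hc1 (by
    have : (c - 1) ^ 3 = 0 := by linear_combination hc3 - c * (c - 1) * h
    exact sub_eq_zero.mp (pow_eq_zero_iff (by norm_num) |>.mp this))
  have hcq : c * c ^ q = 1 := by
    have h1 := gram_of_mem_GU hF (hRU hz)
    rw [mul_one, hc', Matrix.transpose_smul, Matrix.transpose_one, Matrix.map_smul' _ _ _ (map_mul _),
      Matrix.map_one _ (map_zero _) (map_one _), Matrix.smul_mul, one_mul, smul_smul, conjHom_apply'] at h1
    simpa using congrFun (congrFun h1 0) 0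
  -- an eigenvector for 1
  have hYmove : ∀ (e : Fin 3 → F) (μ : F), X *ᵥ e = μ • e → X *ᵥ (Y *ᵥ e) = (c * μ) • (Y *ᵥ e) := fun e μ he => by
    rw [Matrix.mulVec_mulVec, hXY, Matrix.smul_mulVec, ← Matrix.mulVec_mulVec, he, Matrix.mulVec_smul, smul_smul]
  have hYne : ∀ e : Fin 3 → F, e ≠ 0 → Y *ᵥ e ≠ 0 := fun e he h =>
    he (Matrix.mulVec_injective_iff_isUnit.2 y.isUnit (h.trans (Matrix.mulVec_zero _).symm))
  obtain ⟨e, he0, hXe⟩ : ∃ e : Fin 3 → F, e ≠ 0 ∧ X *ᵥ e = e := by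
    let v : Fin 3 → F := Pi.single 0 1
    let E : Fin 3 → Fin 3 → F := fun k => v + c ^ (k : ℕ) • (X *ᵥ v) + (c ^ (k : ℕ)) ^ 2 • (X *ᵥ (X *ᵥ v))
    have hE : ∀ k, X *ᵥ E k = (c ^ (k : ℕ)) ^ 2 • E k := fun k => by
      have hk : (c ^ (k : ℕ)) ^ 3 = 1 := by rw [← pow_mul, mul_comm, pow_mul, hc3, one_pow]
      have h3 : X *ᵥ (X *ᵥ (X *ᵥ v)) = v := by
        rw [Matrix.mulVec_mulVec, Matrix.mulVec_mulVec, mul_assoc, ← pow_three, hX3, Matrix.one_mulVec]
      simp only [E, Matrix.mulVec_add, Matrix.mulVec_smul, h3, smul_add, smul_smul]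
      have e1 : (c ^ (k : ℕ)) ^ 2 * c ^ (k : ℕ) = 1 := by rw [← pow_succ]; exact hk
      have e2 : (c ^ (k : ℕ)) ^ 2 * (c ^ (k : ℕ)) ^ 2 = c ^ (k : ℕ) := by
        rw [← pow_add]; linear_combination (c ^ (k : ℕ)) * hk
      rw [e1, e2, one_smul]
      abel
    obtain ⟨k, hk⟩ : ∃ k, E k ≠ 0 := by
      by_contra hcon
      simp only [not_exists, not_not] at hcon
      have h0 := congrFun (hcon 0) 0
      have h1 := congrFun (hcon 1) 0
      have h2 := congrFun (hcon 2) 0
      simp [E, v] at h0 h1 h2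
      refine h30 ?_
      linear_combination h0 + h1 + h2 - (X 0 0 + (X *ᵥ X.col 0) 0) * hcsum - c * (X *ᵥ X.col 0) 0 * hc3
    fin_cases k
    · exact ⟨E 0, hk, by rw [hE]; simp⟩
    · refine ⟨Y *ᵥ E 1, hYne _ hk, ?_⟩
      rw [hYmove _ _ (hE 1)]
      simp [← pow_succ', hc3]
    · refine ⟨Y *ᵥ (Y *ᵥ E 2), hYne _ (hYne _ hk), ?_⟩
      rw [hYmove _ _ (hYmove _ _ (hE 2))]
      have : c * (c * (c ^ ((2 : Fin 3) : ℕ)) ^ 2) = 1 := by
        rw [show ((2 : Fin 3) : ℕ) = 2 from rfl]; linear_combination (c ^ 3 + 1) * hc3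
      rw [this, one_smul]
  -- normalise
  let ev : Fin 3 → Fin 3 → F := fun j => (Y ^ (j : ℕ)) *ᵥ e
  have hev : ∀ j, X *ᵥ ev j = c ^ (j : ℕ) • ev j := by
    intro j
    have : ∀ n : ℕ, X *ᵥ ((Y ^ n) *ᵥ e) = c ^ n • ((Y ^ n) *ᵥ e) := by
      intro n
      induction n with
      | zero => simp [hXe]
      | succ n ih => rw [pow_succ', ← Matrix.mulVec_mulVec, hYmove _ _ ih, ← pow_succ']
    exact this j
  have hcyc : ∀ j : Fin 3, Y *ᵥ ev j = ev (j + 1) := by
    intro j
    simp only [ev, Matrix.mulVec_mulVec, ← pow_succ']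
    fin_cases j
    · rfl
    · rfl
    · show Y ^ 3 *ᵥ e = Y ^ 0 *ᵥ e
      rw [hY3, pow_zero]
  have hsh : ∀ i j, i ≠ j → hq (ev i) (ev j) = 0 := by
    intro i j hij
    have h1 := mem_GU_iff.mp (hRU hx) (ev i) (ev j)
    rw [← hX, hev, hev, HH.smul_left, HH.smul_right] at h1
    have hne : c ^ (i : ℕ) * (c ^ (j : ℕ)) ^ q ≠ 1 := by
      intro h
      have h2 : (c ^ (j : ℕ)) ^ q * c ^ (j : ℕ) = 1 := by
        rw [← pow_mul, mul_comm (j : ℕ), pow_mul, ← mul_pow, mul_comm, hcq, one_pow]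
      have h3 : c ^ (i : ℕ) = c ^ (j : ℕ) := by linear_combination (c ^ (j : ℕ)) * h - (c ^ (i : ℕ)) * h2
      have hcs : c ≠ c ^ 2 := fun h => hc1 (mul_left_cancel₀ hc0 (by rw [mul_one, ← sq]; exact h.symm))
      have h21 : c ^ 2 ≠ 1 := fun h => hc1 (by linear_combination hc3 - c * h)
      fin_cases i <;> fin_cases j <;>
        simp_all [eq_comm (a := (1 : F)), eq_comm (a := c ^ 2) (b := c)]
    by_contra h0
    exact hne (mul_right_cancel₀ h0 (by rw [one_mul]; linear_combination h1))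
  have hsame : ∀ j, hq (ev j) (ev j) = hq e e := by
    intro j
    have h1 : y ^ (j : ℕ) ∈ Cfsg.GU 3 F q := pow_mem (hRU hy) _
    have h2 := mem_GU_iff.mp h1 e e
    rwa [Units.val_pow_eq_pow_val, ← hY] at h2
  have hind : ∀ a : Fin 3 → F, ∑ k, a k • ev k = 0 → a = 0 := by
    intro a ha
    have h1 := congrArg (X *ᵥ ·) ha
    have h2 := congrArg (fun w => X *ᵥ (X *ᵥ w)) ha
    simp only [Fin.sum_univ_three, Matrix.mulVec_add, Matrix.mulVec_smul, hev, Matrix.mulVec_zero, smul_smul]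
      at h1 h2
    rw [Fin.sum_univ_three] at ha
    simp only [Fin.val_zero, pow_zero, Fin.val_one, pow_one, Fin.val_two, mul_one] at h1 h2
    funext k
    by_contra hk
    refine (show ev k ≠ 0 from fun h => ?_) ?_
    · exact he0 (Matrix.mulVec_injective_iff_isUnit.2 (y ^ (k : ℕ)).isUnit (by
        rw [Units.val_pow_eq_pow_val, ← hY, Matrix.mulVec_zero]; exact h))
    · refine funext fun l => (mul_eq_zero.mp (?_ : (3 * a k) * ev k l = 0)).resolve_left (mul_ne_zero h30 hk)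
      have e0 := congrFun ha l
      have e1 := congrFun h1 l
      have e2 := congrFun h2 l
      simp only [Pi.add_apply, Pi.smul_apply, smul_eq_mul, Pi.zero_apply] at e0 e1 e2
      fin_cases k
      · simp only [Fin.zero_eta]
        linear_combination e0 + e1 + e2 - (a 1 * ev 1 l + a 2 * ev 2 l) * hcsum - (c * a 2 * ev 2 l) * hc3
      · simp only [Fin.mk_one]
        linear_combination e0 + c ^ 2 * e1 + c * e2 - (a 0 * ev 0 l + a 2 * ev 2 l) * hcsum
          - (2 * a 1 * ev 1 l + (c + c ^ 2) * a 2 * ev 2 l) * hc3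
      · simp only [show (⟨2, by omega⟩ : Fin 3) = 2 from rfl]
        linear_combination e0 + c * e1 + c ^ 2 * e2 - (a 0 * ev 0 l + a 1 * ev 1 l) * hcsum
          - (c * a 1 * ev 1 l + (c ^ 3 + 2) * a 2 * ev 2 l) * hc3
  have hee : hq e e ≠ 0 := by
    intro h0
    let P₀ : Matrix (Fin 3) (Fin 3) F := Matrix.of fun i j => ev j i
    have hP : IsUnit P₀ := Matrix.mulVec_injective_iff_isUnit.1 fun a b hab => by
      refine sub_eq_zero.mp (hind _ ?_)
      have h1 : P₀ *ᵥ (a - b) = 0 := by rw [Matrix.mulVec_sub]; exact sub_eq_zero.mpr hab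
      rw [← h1]
      ext l
      simp [P₀, Matrix.mulVec, dotProduct, Finset.sum_apply, mul_comm]
    obtain ⟨w, hw⟩ := ((hermForm_unitary hF).nondegenerate (ev 0) (by simpa [ev] using he0)).2
    obtain ⟨a, rfl⟩ := (Matrix.mulVec_surjective_iff_isUnit.2 hP) w
    refine hw ?_
    have h1 : P₀ *ᵥ a = ∑ k, a k • ev k := by
      ext l
      simp [P₀, Matrix.mulVec, dotProduct, Finset.sum_apply, mul_comm]
    rw [h1, HH.sum_right hF]
    refine Finset.sum_eq_zero fun k _ => ?_
    rw [HH.smul_right]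
    by_cases hk : (0 : Fin 3) = k
    · subst hk; rw [hsame, h0, mul_zero]
    · rw [hsh _ _ hk, mul_zero]
  obtain ⟨t, ht⟩ := Unitary.exists_norm_eq hF (c := (hq e e)⁻¹) (by rw [inv_pow, HH.self_fixed])
  let P₀ : Matrix (Fin 3) (Fin 3) F := Matrix.of fun i j => t * ev j i
  have hcol : ∀ j, P₀ *ᵥ Pi.single j 1 = t • ev j := fun j => by
    rw [Matrix.mulVec_single_one]; rfl
  have hPg : P₀ᵀ * 1 * P₀.map (Unitary.conjHom hF) = 1 := by
    ext i j
    rw [← formOfGram_single (Unitary.conjHom hF) (P₀ᵀ * 1 * _) i j, ← formOfGram_mulVec, hcol, hcol,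
      ← hermForm_eq_gram hF, HH.smul_left, HH.smul_right, Matrix.one_apply]
    split
    · next h => subst h; rw [hsame, ← mul_assoc, ← pow_succ', ht, inv_mul_cancel₀ hee]
    · next h => rw [hsh i j h, mul_zero, mul_zero]
  have hPu : IsUnit P₀ := by
    rw [Matrix.isUnit_iff_isUnit_det]
    have h1 := congrArg Matrix.det hPg
    rw [Matrix.det_mul, Matrix.det_mul, Matrix.det_transpose, Matrix.det_one, mul_one] at h1
    exact isUnit_of_mul_isUnit_left (h1 ▸ isUnit_one)
  set P : GL (Fin 3) F := hPu.unit with hPdef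
  have hPU : P ∈ Cfsg.GU 3 F q := by
    rw [mem_GU_iff]
    intro u v
    rw [hermForm_eq_gram hF, formOfGram_mulVec, hPdef, IsUnit.unit_spec, hPg]
  have hPX : X * P₀ = P₀ * dd c := by
    refine Matrix.ext_of_mulVec_single fun j => ?_
    rw [← Matrix.mulVec_mulVec, hcol, Matrix.mulVec_smul, hev, ← Matrix.mulVec_mulVec, dd,
      Matrix.diagonal_mulVec_single, mul_one, show (Pi.single j (![1, c, c ^ 2] j) : Fin 3 → F) =
        ![1, c, c ^ 2] j • Pi.single j 1 by rw [← Pi.single_smul, smul_eq_mul, mul_one], Matrix.mulVec_smul,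
      hcol, smul_comm]
    fin_cases j <;> simp
  have hPY : Y * P₀ = P₀ * cc := by
    refine Matrix.ext_of_mulVec_single fun j => ?_
    rw [← Matrix.mulVec_mulVec, hcol, Matrix.mulVec_smul, hcyc, ← Matrix.mulVec_mulVec,
      show (cc : Matrix (Fin 3) (Fin 3) F) *ᵥ Pi.single j 1 = Pi.single (j + 1) 1 by
        rw [Matrix.mulVec_single_one]; ext i; simp [cc, Pi.single_apply], hcol]
  have hcjX : cj P⁻¹ X = dd c := by
    rw [cj_apply, inv_inv, mul_assoc, hPdef, IsUnit.unit_spec, hPX, ← mul_assoc]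
    conv_lhs => arg 1; arg 2; rw [← IsUnit.unit_spec hPu]
    rw [Units.inv_mul, one_mul]
  have hcjY : cj P⁻¹ Y = cc := by
    rw [cj_apply, inv_inv, mul_assoc, hPdef, IsUnit.unit_spec, hPY, ← mul_assoc]
    conv_lhs => arg 1; arg 2; rw [← IsUnit.unit_spec hPu]
    rw [Units.inv_mul, one_mul]
  refine ⟨P⁻¹, c, x, y, inv_mem hPU, hc3, hc1, hx, hy, hcjX, hcjY, fun r hr => ?_⟩
  -- match the action on `x` and `y`
  have hroot : ∀ a : F, a ^ 3 = 1 → ∃ k : ℕ, a = c ^ k := by
    intro a ha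
    have : (a - 1) * ((a - c) * (a - c ^ 2)) = 0 := by
      linear_combination ha + (a - a ^ 2) * hcsum + (a - 1) * hc3
    rcases mul_eq_zero.mp this with h | h
    · exact ⟨0, by rw [pow_zero]; exact sub_eq_zero.mp h⟩
    · rcases mul_eq_zero.mp h with h | h
      · exact ⟨1, by rw [pow_one]; exact sub_eq_zero.mp h⟩
      · exact ⟨2, sub_eq_zero.mp h⟩
  set M := cj P⁻¹ (r : Matrix (Fin 3) (Fin 3) F) with hM
  have hcommM : ∀ s ∈ R, ∃ k : ℕ, M * cj P⁻¹ (s : Matrix (Fin 3) (Fin 3) F) =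
      c ^ k • (cj P⁻¹ (s : Matrix (Fin 3) (Fin 3) F) * M) := by
    intro s hs
    obtain ⟨a, ha⟩ := (Geo.mem_scalars_iff _).mp (comm_scalar hR s hs r hr)
    have ha3 : (a : F) ^ 3 = 1 := by
      have h1 := congrArg Units.val
        (hcube _ (mul_mem (mul_mem (mul_mem hr hs) (inv_mem hr)) (inv_mem hs)))
      rw [Units.val_pow_eq_pow_val, ha, smul_pow, one_pow, Units.val_one] at h1
      simpa using congrFun (congrFun h1 0) 0
    obtain ⟨k, hk⟩ := hroot _ ha3
    refine ⟨k, ?_⟩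
    have h1 : r * s = r * s * r⁻¹ * s⁻¹ * (s * r) := by group
    have h2 := congrArg Units.val h1
    rw [Units.val_mul, Units.val_mul (r * s * r⁻¹ * s⁻¹), ha, Units.val_mul, Matrix.smul_mul, one_mul, hk] at h2
    rw [hM, ← map_mul, h2, map_smul, map_mul]
  obtain ⟨b, hb⟩ := hcommM x hx
  obtain ⟨d, hd⟩ := hcommM y hy
  rw [hcjX] at hb
  rw [hcjY] at hd
  -- commutation of the standard generators
  have hdc : dd c * cc = c • (cc * dd c) := by
    ext i j
    fin_cases i <;> fin_cases j <;> simp [dd, cc, Matrix.mul_apply, Fin.sum_univ_three] <;>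
      first | rfl | (linear_combination (1 : F) * hc3) | (linear_combination (-1 : F) * hc3) | ring
  have hd3 : dd c ^ 3 = 1 := by
    rw [dd, Matrix.diagonal_pow, ← Matrix.diagonal_one]
    congr 1
    funext i
    fin_cases i <;> simp [hc3]
    linear_combination (c ^ 3 + 1) * hc3
  have hc33 : (cc : Matrix (Fin 3) (Fin 3) F) ^ 3 = 1 := by
    rw [← hcjY, ← map_pow, hY3, map_one]
  have hdcn : ∀ n : ℕ, dd c * cc ^ n = c ^ n • (cc ^ n * dd c) := by
    intro n
    induction n with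
    | zero => simp
    | succ n ih => rw [pow_succ, ← mul_assoc, ih, Matrix.smul_mul, mul_assoc, hdc, Matrix.mul_smul, smul_smul,
        ← mul_assoc, ← pow_succ]
  have hdnc : ∀ n : ℕ, dd c ^ n * cc = c ^ n • (cc * dd c ^ n) := by
    intro n
    induction n with
    | zero => simp
    | succ n ih => rw [pow_succ, mul_assoc, hdc, Matrix.mul_smul, ← mul_assoc, ih, Matrix.smul_mul, smul_smul,
        mul_assoc, ← pow_succ, ← pow_succ']
  set S := dd c ^ (2 * d) * cc ^ b with hS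
  have hSx : (M * S) * dd c = dd c * (M * S) := by
    rw [hS, ← mul_assoc, mul_assoc _ (cc ^ b) (dd c)]
    have h1 : cc ^ b * dd c = (c ^ b)⁻¹ • (dd c * cc ^ b) := by
      rw [hdcn, smul_smul, inv_mul_cancel₀ (pow_ne_zero _ hc0), one_smul]
    rw [h1, Matrix.mul_smul, ← mul_assoc, mul_assoc M, ← pow_succ, pow_succ', ← mul_assoc M, hb,
      Matrix.smul_mul, Matrix.smul_mul, smul_smul, inv_mul_cancel₀ (pow_ne_zero _ hc0), one_smul]
    simp only [mul_assoc]
  have hSy : (M * S) * cc = cc * (M * S) := by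
    rw [hS, mul_assoc, mul_assoc, ← pow_succ, pow_succ', ← mul_assoc (dd c ^ (2 * d)), hdnc, Matrix.smul_mul,
      Matrix.mul_smul, ← mul_assoc, ← mul_assoc, hd, Matrix.smul_mul, Matrix.smul_mul, smul_smul, ← pow_add,
      show 2 * d + d = 3 * d by ring, pow_mul, hc3, one_pow, one_smul]
    simp only [mul_assoc]
  have hMS := eq_scalar_of_comm_heis hc3 hc1 hSx hSy
  refine ⟨c ^ (4 * b * d) * (M * S) 0 0, d, 2 * b, ?_⟩
  have hinv : S * (cc ^ (2 * b) * dd c ^ d) = 1 := by
    rw [hS, mul_assoc, ← mul_assoc (cc ^ b), ← pow_add, show b + 2 * b = 3 * b by ring, pow_mul (cc : Matrix (Fin 3) (Fin 3) F) 3 b, hc33, one_pow,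
      one_mul, ← pow_add, show 2 * d + d = 3 * d by ring, pow_mul (dd c) 3 d, hd3, one_pow]
  have hgen : ∀ n k : ℕ, dd c ^ k * cc ^ n = c ^ (n * k) • (cc ^ n * dd c ^ k) := by
    intro n k
    induction k with
    | zero => simp
    | succ k ih =>
      rw [pow_succ, mul_assoc, hdcn, Matrix.mul_smul, ← mul_assoc, ih, Matrix.smul_mul, smul_smul, mul_assoc,
        ← pow_add, show n + n * k = n * (k + 1) by ring]
  have hcd : cc ^ (2 * b) * dd c ^ d = c ^ (4 * b * d) • (dd c ^ d * cc ^ (2 * b)) := by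
    rw [hgen, smul_smul, ← pow_add, show 4 * b * d + 2 * b * d = 3 * (2 * b * d) by ring, pow_mul c 3, hc3, one_pow,
      one_smul]
  calc cj P⁻¹ (r : Matrix (Fin 3) (Fin 3) F) = (M * S) * (cc ^ (2 * b) * dd c ^ d) := by
        rw [mul_assoc, hinv, mul_one]
    _ = _ := by
        rw [hMS, Matrix.smul_mul, one_mul, hcd, smul_smul, mul_comm]
        simp

/-- SU₃(q) does not normalise an extraspecial group of order 27. -/
theorem not_su3_le_normalizer (hF : Fintype.card F = q ^ 2) (hq3 : 3 ≤ q) {H R : Subgroup (GL (Fin 3) F)}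
    (hR : IsExtraspecialData H R) (hRU : R ≤ Cfsg.GU 3 F q) : ¬ Γ ≤ Geo.subgroupNormalizer R := by
  classical
  intro hle
  obtain ⟨u, c, x, y, -, hc3, hc1, hx, hy, hX, hY, -⟩ := heis_normal_form hF hR hRU
  have : Finite (Matrix (Fin 3) (Fin 3) F) := inferInstanceAs (Finite (Fin 3 → Fin 3 → F))
  have : Finite (GL (Fin 3) F) := Finite.of_injective Units.val Units.val_injective
  have hmem : ∀ g : ↥Γ, (g : GL (Fin 3) F) * x * (g : GL (Fin 3) F)⁻¹ ∈ R ∧
      (g : GL (Fin 3) F) * y * (g : GL (Fin 3) F)⁻¹ ∈ R := fun g =>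
    ⟨((Subgroup.mem_normalizer_iff.mp (hle g.2)) x).mp hx, ((Subgroup.mem_normalizer_iff.mp (hle g.2)) y).mp hy⟩
  let f : ↥Γ → R × R := fun g => (⟨_, (hmem g).1⟩, ⟨_, (hmem g).2⟩)
  have hfib : ∀ g g' : ↥Γ, f g = f g' → ∃ a : F, a ^ 3 = 1 ∧
      ((g' : GL (Fin 3) F) : Matrix (Fin 3) (Fin 3) F) = a • ((g : GL (Fin 3) F) : Matrix (Fin 3) (Fin 3) F) := by
    intro g g' h
    set w : GL (Fin 3) F := (g : GL (Fin 3) F)⁻¹ * g' with hw
    have h1 : w * x = x * w := by
      have := congrArg (fun p : R × R => (p.1 : GL (Fin 3) F)) h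
      simp only [f] at this
      calc w * x = (g : GL (Fin 3) F)⁻¹ * ((g' : GL (Fin 3) F) * x * (g' : GL (Fin 3) F)⁻¹) * g' := by
            simp [hw, mul_assoc]
        _ = x * w := by rw [← this]; simp [hw, mul_assoc]
    have h2 : w * y = y * w := by
      have := congrArg (fun p : R × R => (p.2 : GL (Fin 3) F)) h
      simp only [f] at this
      calc w * y = (g : GL (Fin 3) F)⁻¹ * ((g' : GL (Fin 3) F) * y * (g' : GL (Fin 3) F)⁻¹) * g' := by
            simp [hw, mul_assoc]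
        _ = y * w := by rw [← this]; simp [hw, mul_assoc]
    have h1' := congrArg (fun z : GL (Fin 3) F => cj u (z : Matrix (Fin 3) (Fin 3) F)) h1
    have h2' := congrArg (fun z : GL (Fin 3) F => cj u (z : Matrix (Fin 3) (Fin 3) F)) h2
    simp only [Units.val_mul, map_mul, hX, hY] at h1' h2'
    have h3 := eq_scalar_of_comm_heis hc3 hc1 h1' h2'
    set a := cj u (w : Matrix (Fin 3) (Fin 3) F) 0 0
    have hwa : (w : Matrix (Fin 3) (Fin 3) F) = a • 1 := by
      have := congrArg (cj u⁻¹) h3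
      rwa [cj_inv_cj, map_smul, map_one] at this
    refine ⟨a, ?_, ?_⟩
    · have hd : (w : Matrix (Fin 3) (Fin 3) F).det = 1 := congrArg Units.val (MonoidHom.mem_ker.mp
        (mul_mem (inv_mem g.2.2) g'.2.2))
      rwa [hwa, Matrix.det_smul, Matrix.det_one, mul_one, Fintype.card_fin] at hd
    · rw [show (g' : GL (Fin 3) F) = (g : GL (Fin 3) F) * w by simp [hw], Units.val_mul, hwa, Matrix.mul_smul,
        mul_one]
  have hbound : Nat.card ↥Γ ≤ 3 * (27 * 27) := by
    have : Fintype ↥Γ := Fintype.ofFinite _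
    have : Fintype (R × R) := Fintype.ofFinite _
    have hR27 : Fintype.card (R × R) = 27 * 27 := by
      rw [← Nat.card_eq_fintype_card, Nat.card_prod, hR.card_eq]; simp
    rw [Nat.card_eq_fintype_card, ← hR27]
    refine Finset.card_le_mul_card_image_of_maps_to (f := f) (fun a _ => Finset.mem_univ _) 3 fun p _ => ?_
    rcases Finset.eq_empty_or_nonempty ({g ∈ (Finset.univ : Finset ↥Γ) | f g = p}) with h | ⟨g₀, hg₀⟩
    · simp [h]
    simp only [Finset.mem_filter] at hg₀
    have hroots : (Polynomial.nthRootsFinset 3 (1 : F)).card ≤ 3 := by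
      rw [Polynomial.nthRootsFinset_def]
      exact (Multiset.toFinset_card_le _).trans (Polynomial.card_nthRoots 3 (1 : F))
    refine le_trans (Finset.card_le_card_of_injOn
      (fun g : ↥Γ => if h : f g₀ = f g then (hfib g₀ g h).choose else 1) ?_ ?_) hroots
    · intro g hg
      simp only [Finset.coe_filter, Set.mem_setOf_eq] at hg
      simp only [dif_pos (hg₀.2.trans hg.2.symm), Finset.mem_coe,
        Polynomial.mem_nthRootsFinset (by norm_num : 0 < 3)]
      exact (hfib g₀ g (hg₀.2.trans hg.2.symm)).choose_spec.1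
    · intro g hg g' hg' hgg
      simp only [Finset.coe_filter, Set.mem_setOf_eq] at hg hg'
      simp only [dif_pos (hg₀.2.trans hg.2.symm), dif_pos (hg₀.2.trans hg'.2.symm)] at hgg
      refine Subtype.ext (Units.ext ?_)
      rw [(hfib g₀ g (hg₀.2.trans hg.2.symm)).choose_spec.2, (hfib g₀ g' (hg₀.2.trans hg'.2.symm)).choose_spec.2,
        hgg]
  rw [card_su3 hF] at hbound
  have h2 : 3 * 3 ≤ q ^ 2 := by rw [sq]; exact Nat.mul_le_mul hq3 hq3
  have h3 : 27 ≤ q ^ 3 := by
    calc 27 = 3 * (3 * 3) := by norm_num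
      _ ≤ q * q ^ 2 := Nat.mul_le_mul hq3 h2
      _ = q ^ 3 := by ring
  have h4 : 27 * 8 * 28 ≤ q ^ 3 * (q ^ 2 - 1) * (q ^ 3 + 1) :=
    Nat.mul_le_mul (Nat.mul_le_mul h3 (by omega)) (by omega)
  omega

end Cfsg.Agent.Aschbacher.SU3
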