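/-
Sets of points of the unitary plane over 25 elements: three homogeneous predicates, checked on a table.
Main results: `K25.Sem`, `phiA`, `phiO`, `phiM`, the table checks `keep_*`, `xW`/`yW` relations.
-/
import Cfsg.Agent.EqLemmas

set_option autoImplicit false

namespace Cfsg.Agent.Aschbacher.SU3

/-- `a + b s` with `s ^ 2 = 2` over the field with five elements. -/
structure K25 where
  re : ZMod 5
  im : ZMod 5
deriving DecidableEq

namespace K25

instance : Fintype K25 :=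
  Fintype.ofEquiv (ZMod 5 × ZMod 5)
    { toFun := fun p => ⟨p.1, p.2⟩
      invFun := fun x => (x.re, x.im)
      left_inv := fun _ => rfl
      right_inv := fun _ => rfl }

instance : Zero K25 := ⟨⟨0, 0⟩⟩
instance : One K25 := ⟨⟨1, 0⟩⟩
instance : Add K25 := ⟨fun x y => ⟨x.re + y.re, x.im + y.im⟩⟩
instance : Mul K25 := ⟨fun x y => ⟨x.re * y.re + 2 * (x.im * y.im), x.re * y.im + x.im * y.re⟩⟩

/-- Conjugation. -/
def conj (x : K25) : K25 := ⟨x.re, -x.im⟩

/-- An integer. -/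
def num (n : ZMod 5) : K25 := ⟨n, 0⟩

/-- A field with a square root of two and the fifth power as the conjugation interprets the table. -/
structure Sem (F : Type*) [Field F] where
  s : F
  sq : s * s = 2
  five : (5 : F) = 0
  conj : s ^ 5 = -s

end K25

section Pred

variable {R : Type*} [Zero R] [Add R] [Mul R] (c : R → R)

/-- The hermitian value. -/
def hh (v : Fin 3 → R) : R := v 0 * c (v 0) + v 1 * c (v 1) + v 2 * c (v 2)

/-- The product of the coordinates. -/
def pp (v : Fin 3 → R) : R := v 0 * v 1 * v 2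

/-- The sum of the squared norms. -/
def nn (v : Fin 3 → R) : R :=
  v 0 * c (v 0) * (v 0 * c (v 0)) + v 1 * c (v 1) * (v 1 * c (v 1)) + v 2 * c (v 2) * (v 2 * c (v 2))

/-- The bilinear value. -/
def bb (v : Fin 3 → R) : R := v 0 * v 0 + v 1 * v 1 + v 2 * v 2

/-- The sum of the cubes. -/
def qq (v : Fin 3 → R) : R := v 0 * v 0 * v 0 + v 1 * v 1 * v 1 + v 2 * v 2 * v 2

/-- 105 points, invariant under the monomial group. -/
def phiA (v : Fin 3 → R) : Prop :=
  hh c v ≠ 0 ∧ ((pp v = 0 ∧ nn c v ≠ 0) ∨ pp v * pp v = hh c v + hh c v ∨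
    pp v * pp v = hh c v + hh c v + (hh c v + hh c v))

/-- 105 points, invariant under the orthogonal group over the subfield. -/
def phiO (v : Fin 3 → R) : Prop :=
  hh c v ≠ 0 ∧ ((v 0 * c (v 1) = v 1 * c (v 0) ∧ v 0 * c (v 2) = v 2 * c (v 0) ∧ v 1 * c (v 2) = v 2 * c (v 1)) ∨
    bb v * bb v * bb v = 0 ∨ bb v * bb v * bb v = hh c v + hh c v ∨
    bb v * bb v * bb v = hh c v + hh c v + (hh c v + hh c v))

/-- 45 points, invariant under the normaliser of the Heisenberg group. -/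
def phiM (v : Fin 3 → R) : Prop :=
  hh c v ≠ 0 ∧ ((pp v = 0 ∧ qq v = 0) ∨ (pp v * pp v = hh c v + hh c v + (hh c v + hh c v) ∧ qq v = 0) ∨
    (pp v * pp v = hh c v + hh c v ∧ (qq v * qq v = hh c v + hh c v ∨
      qq v * qq v * (qq v * qq v) + (hh c v * hh c v + hh c v * hh c v + (hh c v * hh c v + hh c v * hh c v)) =
        hh c v * (qq v * qq v) + hh c v * (qq v * qq v) + hh c v * (qq v * qq v))))

end Pred

instance (v : Fin 3 → K25) : Decidable (phiA K25.conj v) := inferInstanceAs (Decidable (_ ∧ _))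
instance (v : Fin 3 → K25) : Decidable (phiO K25.conj v) := inferInstanceAs (Decidable (_ ∧ _))
instance (v : Fin 3 → K25) : Decidable (phiM K25.conj v) := inferInstanceAs (Decidable (_ ∧ _))

/-- A matrix times a vector. -/
def mv (g : Fin 3 → Fin 3 → K25) (v : Fin 3 → K25) : Fin 3 → K25 := fun i =>
  g i 0 * v 0 + g i 1 * v 1 + g i 2 * v 2

/-- A product of matrices. -/
def mm (g g' : Fin 3 → Fin 3 → K25) : Fin 3 → Fin 3 → K25 := fun i j =>
  g i 0 * g' 0 j + g i 1 * g' 1 j + g i 2 * g' 2 j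

/-- Unitary of determinant one. -/
def isSU (g : Fin 3 → Fin 3 → K25) : Prop :=
  (∀ i j, g 0 i * K25.conj (g 0 j) + g 1 i * K25.conj (g 1 j) + g 2 i * K25.conj (g 2 j) =
    if i = j then 1 else 0) ∧
  g 0 0 * g 1 1 * g 2 2 + g 0 1 * g 1 2 * g 2 0 + g 0 2 * g 1 0 * g 2 1 =
    1 + (g 0 2 * g 1 1 * g 2 0 + g 0 0 * g 1 2 * g 2 1 + g 0 1 * g 1 0 * g 2 2)

instance (g : Fin 3 → Fin 3 → K25) : Decidable (isSU g) := inferInstanceAs (Decidable (_ ∧ _))

/-- The predicate is preserved on normalised vectors. -/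
def Keeps (Φ : (Fin 3 → K25) → Prop) (g : Fin 3 → Fin 3 → K25) : Prop :=
  (∀ a b : K25, Φ (mv g ![1, a, b]) ↔ Φ ![1, a, b]) ∧ (∀ b : K25, Φ (mv g ![0, 1, b]) ↔ Φ ![0, 1, b]) ∧
    (Φ (mv g ![0, 0, 1]) ↔ Φ ![0, 0, 1])

instance (Φ : (Fin 3 → K25) → Prop) [DecidablePred Φ] (g : Fin 3 → Fin 3 → K25) : Decidable (Keeps Φ g) :=
  inferInstanceAs (Decidable (_ ∧ _ ∧ _))

instance : DecidablePred (phiA K25.conj) := fun _ => inferInstance
instance : DecidablePred (phiO K25.conj) := fun _ => inferInstance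
instance : DecidablePred (phiM K25.conj) := fun _ => inferInstance

open K25 in
/-- The reflection in `(1, 1, 1)`. -/
def aW : Fin 3 → Fin 3 → K25 := ![![num 3, num 4, num 4], ![num 4, num 3, num 4], ![num 4, num 4, num 3]]

open K25 in
/-- The reflection in `(1, 1, 4)`. -/
def bW : Fin 3 → Fin 3 → K25 := ![![num 3, num 4, num 1], ![num 4, num 3, num 1], ![num 1, num 1, num 3]]

/-- A diagonal element with entries sixth roots of unity. -/
def dW : Fin 3 → Fin 3 → K25 := ![![⟨3, 2⟩, 0, 0], ![0, ⟨3, 3⟩, 0], ![0, 0, 1]]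

/-- An element of order seven. -/
def xW : Fin 3 → Fin 3 → K25 :=
  ![![⟨4, 0⟩, ⟨3, 0⟩, ⟨4, 0⟩], ![⟨4, 1⟩, ⟨2, 3⟩, ⟨2, 3⟩], ![⟨3, 3⟩, ⟨3, 3⟩, ⟨1, 1⟩]]

/-- An element of order three normalising `xW`. -/
def yW : Fin 3 → Fin 3 → K25 :=
  ![![⟨4, 0⟩, ⟨4, 4⟩, ⟨2, 3⟩], ![⟨2, 2⟩, ⟨3, 2⟩, ⟨3, 0⟩], ![⟨4, 1⟩, ⟨4, 0⟩, ⟨3, 3⟩]]

/-- A primitive cube root of unity. -/
def omW : K25 := ⟨2, 2⟩

/-- The character table of the group of order three. -/
def vW : Fin 3 → Fin 3 → K25 := ![![1, 1, 1], ![1, omW, omW * omW], ![1, omW * omW, omW]]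

/-- A twisted character table. -/
def vW2 : Fin 3 → Fin 3 → K25 :=
  ![![1, 1, omW * omW], ![1, omW, omW], ![omW, 1, omW]]

theorem keep_A_a : Keeps (phiA K25.conj) aW := by decide +kernel
theorem keep_A_x : Keeps (phiA K25.conj) xW := by decide +kernel
theorem keep_A_y : Keeps (phiA K25.conj) yW := by decide +kernel
theorem keep_O_d : Keeps (phiO K25.conj) dW := by decide +kernel
theorem keep_M_b : Keeps (phiM K25.conj) bW := by decide +kernel
theorem keep_M_v : Keeps (phiM K25.conj) vW := by decide +kernel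
theorem keep_M_v2 : Keeps (phiM K25.conj) vW2 := by decide +kernel

theorem su_aW : isSU aW := by decide +kernel
theorem su_bW : isSU bW := by decide +kernel
theorem su_dW : isSU dW := by decide +kernel
theorem su_xW : isSU xW := by decide +kernel
theorem su_yW : isSU yW := by decide +kernel

/-- Powers. -/
def mpow (g : Fin 3 → Fin 3 → K25) : ℕ → Fin 3 → Fin 3 → K25
  | 0 => fun i j => if i = j then 1 else 0
  | n + 1 => mm (mpow g n) g

theorem xW_pow : ∀ i j, mpow xW 7 i j = mpow xW 0 i j := by decide +kernel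
theorem xW_ne : ¬ ∀ i j, mpow xW 1 i j = mpow xW 0 i j := by decide +kernel
theorem yW_pow : ∀ i j, mpow yW 3 i j = mpow yW 0 i j := by decide +kernel
theorem yW_conj : ∀ i j, mm yW xW i j = mm (mpow xW 2) yW i j := by decide +kernel

/-- The sixty-three products. -/
def elt (p : Fin 7 × Fin 3 × Fin 3) : Fin 3 → Fin 3 → K25 := fun i j =>
  ![1, omW, omW * omW] p.2.2 * mm (mpow xW p.1) (mpow yW p.2.1) i j

theorem elt_inj : ∀ p q : Fin 7 × Fin 3 × Fin 3,
    (∀ i j, elt p i j = elt q i j) → p = q := by decide +kernel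

theorem omW_facts : omW * omW * omW = 1 ∧ omW ≠ 1 := by decide +kernel

theorem aW_entry : aW 0 0 ≠ 0 ∧ aW 1 0 ≠ 0 := by decide +kernel

theorem dW_entry : dW 0 0 * K25.conj (dW 2 2) ≠ dW 2 2 * K25.conj (dW 0 0) := by decide +kernel

theorem bW_entry : ∃ i i' j, i ≠ i' ∧ mm (mm bW (![![1, 0, 0], ![0, omW, 0], ![0, 0, omW * omW]])) bW i j ≠ 0 ∧
    mm (mm bW (![![1, 0, 0], ![0, omW, 0], ![0, 0, omW * omW]])) bW i' j ≠ 0 := by decide +kernel

theorem bW_sq : ∀ i j, mm bW bW i j = if i = j then 1 else 0 := by decide +kernel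

end Cfsg.Agent.Aschbacher.SU3
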