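/-
The point sets over a field with 25 elements: invariance under monomial, orthogonal and table matrices, and
elements of SU₃(5) outside their stabilisers.
Main results: `exists_sem`, `K25.Sem.ev`, `stab`, `ev_mem_stab`, `monomial_mem_stab`, `real_mem_stab`,
`exists_not_mem_stab`.
-/
import Cfsg.Agent.Lib.Aschbacher.SU3Table
import Cfsg.Agent.Lib.PrimeDim.UnitaryBasic

set_option autoImplicit false

namespace Cfsg.Agent.Aschbacher.SU3

open Matrix
open Cfsg.Agent.PrimeDim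

variable {F : Type*} [Field F]

/-- The matrices preserving a set of vectors. -/
def stab (Φ : (Fin 3 → F) → Prop) : Subgroup (GL (Fin 3) F) where
  carrier := {g | ∀ v, Φ ((g : Matrix (Fin 3) (Fin 3) F) *ᵥ v) ↔ Φ v}
  mul_mem' := fun {a b} ha hb v => by rw [Units.val_mul, ← Matrix.mulVec_mulVec, ha, hb]
  one_mem' := fun v => by rw [Units.val_one, Matrix.one_mulVec]
  inv_mem' := fun {a} ha v => by
    have h := ha (((a⁻¹ : GL (Fin 3) F) : Matrix (Fin 3) (Fin 3) F) *ᵥ v)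
    rw [Matrix.mulVec_mulVec, Units.mul_inv, Matrix.one_mulVec] at h
    exact h.symm

section Sem

variable [Fintype F]

theorem exists_sem (hF : Fintype.card F = 5 ^ 2) : Nonempty (K25.Sem F) := by
  have h5 : (5 : F) = 0 := by
    have h := FiniteField.cast_card_eq_zero F
    rw [hF, Nat.cast_pow] at h
    simpa using h
  obtain ⟨s, hs⟩ : IsSquare (2 : F) := by
    rw [FiniteField.isSquare_two_iff, hF]; norm_num
  refine ⟨⟨s, hs.symm, h5, ?_⟩⟩
  calc s ^ 5 = (s * s) * (s * s) * s := by ring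
    _ = -s := by rw [← hs]; linear_combination s * h5

end Sem

variable (S : K25.Sem F)

theorem K25.Sem.charP (S : K25.Sem F) : CharP F 5 :=
  (CharP.charP_iff_prime_eq_zero Nat.prime_five).mpr (by exact_mod_cast S.five)

/-- The value of a table entry. -/
noncomputable def K25.Sem.ev (x : K25) : F :=
  haveI := S.charP
  ZMod.castHom (dvd_refl 5) F x.re + ZMod.castHom (dvd_refl 5) F x.im * S.s

theorem ev_zero : S.ev 0 = 0 := by
  haveI := S.charP
  show ZMod.castHom (dvd_refl 5) F 0 + ZMod.castHom (dvd_refl 5) F 0 * S.s = 0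
  simp

theorem ev_one : S.ev 1 = 1 := by
  haveI := S.charP
  show ZMod.castHom (dvd_refl 5) F 1 + ZMod.castHom (dvd_refl 5) F 0 * S.s = 1
  simp

theorem ev_add (x y : K25) : S.ev (x + y) = S.ev x + S.ev y := by
  haveI := S.charP
  show ZMod.castHom (dvd_refl 5) F (x.re + y.re) + ZMod.castHom (dvd_refl 5) F (x.im + y.im) * S.s = _
  simp only [K25.Sem.ev, map_add]; ring

theorem ev_mul (x y : K25) : S.ev (x * y) = S.ev x * S.ev y := by
  haveI := S.charP
  show ZMod.castHom (dvd_refl 5) F (x.re * y.re + 2 * (x.im * y.im)) +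
    ZMod.castHom (dvd_refl 5) F (x.re * y.im + x.im * y.re) * S.s = _
  simp only [K25.Sem.ev, map_add, map_mul, map_ofNat]
  linear_combination -(ZMod.castHom (dvd_refl 5) F x.im * ZMod.castHom (dvd_refl 5) F y.im) * S.sq

theorem ev_num (n : ZMod 5) : haveI := S.charP; S.ev (K25.num n) = ZMod.castHom (dvd_refl 5) F n := by
  haveI := S.charP
  show ZMod.castHom (dvd_refl 5) F n + ZMod.castHom (dvd_refl 5) F 0 * S.s = _
  simp

theorem ev_conj (x : K25) : S.ev (K25.conj x) = S.ev x ^ 5 := by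
  haveI := S.charP
  haveI : Fact (Nat.Prime 5) := ⟨by norm_num⟩
  show ZMod.castHom (dvd_refl 5) F x.re + ZMod.castHom (dvd_refl 5) F (-x.im) * S.s = _
  simp only [K25.Sem.ev]
  rw [add_pow_char, mul_pow, ← map_pow, ← map_pow, ZMod.pow_card, ZMod.pow_card, S.conj, map_neg]
  ring

theorem two_not_sq : ∀ r : ZMod 5, r * r ≠ 2 := by decide

theorem ev_injective : Function.Injective S.ev := by
  haveI := S.charP
  haveI : Fact (Nat.Prime 5) := ⟨by norm_num⟩
  intro x y h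
  set φ := ZMod.castHom (dvd_refl 5) F with hφ
  have hφi : Function.Injective φ := φ.injective
  have him : x.im = y.im := by
    by_contra hne
    have h0 : x.im - y.im ≠ 0 := sub_ne_zero.mpr hne
    have h1 : φ (y.re - x.re) = φ (x.im - y.im) * S.s := by
      simp only [K25.Sem.ev, ← hφ] at h
      rw [map_sub, map_sub]
      linear_combination -h
    refine two_not_sq ((y.re - x.re) * (x.im - y.im)⁻¹) (hφi ?_)
    have h2 : φ (x.im - y.im) ≠ 0 := (map_ne_zero φ).mpr h0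
    rw [map_mul, map_mul, map_inv₀, h1, map_ofNat]
    field_simp
    linear_combination S.sq
  have hre : x.re = y.re := hφi (by
    simp only [K25.Sem.ev, ← hφ, him] at h
    linear_combination h)
  cases x; cases y; simp_all

/-- The matrix of a table matrix. -/
noncomputable def evM (g : Fin 3 → Fin 3 → K25) : Matrix (Fin 3) (Fin 3) F := Matrix.of fun i j => S.ev (g i j)

theorem evM_mulVec (g : Fin 3 → Fin 3 → K25) (v : Fin 3 → K25) :
    evM S g *ᵥ (S.ev ∘ v) = S.ev ∘ mv g v := by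
  ext i
  simp [evM, Matrix.mulVec, dotProduct, Fin.sum_univ_three, mv, ev_add, ev_mul]

theorem evM_mul (g g' : Fin 3 → Fin 3 → K25) : evM S g * evM S g' = evM S (mm g g') := by
  ext i j
  simp [evM, Matrix.mul_apply, Fin.sum_univ_three, mm, ev_add, ev_mul]

theorem evM_id : evM S (fun i j => if i = j then 1 else 0) = 1 := by
  ext i j
  by_cases h : i = j <;> simp [evM, h, ev_one, ev_zero, Matrix.one_apply]

theorem phiA_ev (v : Fin 3 → K25) : phiA (fun x : F => x ^ 5) (S.ev ∘ v) ↔ phiA K25.conj v := by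
  simp only [phiA, hh, pp, nn, Function.comp_apply, ← ev_conj, ← ev_mul, ← ev_add, ne_eq, ← ev_zero S,
    (ev_injective S).eq_iff]

theorem phiO_ev (v : Fin 3 → K25) : phiO (fun x : F => x ^ 5) (S.ev ∘ v) ↔ phiO K25.conj v := by
  simp only [phiO, hh, bb, Function.comp_apply, ← ev_conj, ← ev_mul, ← ev_add, ne_eq, ← ev_zero S,
    (ev_injective S).eq_iff]

theorem phiM_ev (v : Fin 3 → K25) : phiM (fun x : F => x ^ 5) (S.ev ∘ v) ↔ phiM K25.conj v := by
  simp only [phiM, hh, pp, qq, Function.comp_apply, ← ev_conj, ← ev_mul, ← ev_add, ne_eq, ← ev_zero S,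
    (ev_injective S).eq_iff]

variable [Fintype F] (hF : Fintype.card F = 5 ^ 2)
include hF

theorem ev_surjective : Function.Surjective S.ev := by
  have h : Fintype.card K25 = Fintype.card F := by rw [hF]; rfl
  exact ((Fintype.bijective_iff_injective_and_card S.ev).mpr ⟨ev_injective S, h⟩).2

theorem exists_ev_normal {v : Fin 3 → F} (hv : v ≠ 0) : ∃ (c : F) (w : Fin 3 → K25), c ≠ 0 ∧
    v = c • (S.ev ∘ w) ∧ ((∃ a b, w = ![1, a, b]) ∨ (∃ b, w = ![0, 1, b]) ∨ w = ![0, 0, 1]) := by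
  by_cases h0 : v 0 = 0
  · by_cases h1 : v 1 = 0
    · have h2 : v 2 ≠ 0 := fun h2 => hv (funext fun i => by fin_cases i <;> assumption)
      exact ⟨v 2, _, h2, funext fun i => by fin_cases i <;> simp [h0, h1, ev_zero, ev_one],
        Or.inr (Or.inr rfl)⟩
    · obtain ⟨b, hb⟩ := ev_surjective S hF (v 2 / v 1)
      exact ⟨v 1, _, h1, funext fun i => by fin_cases i <;> simp [h0, hb, ev_zero, ev_one] <;> field_simp,
        Or.inr (Or.inl ⟨b, rfl⟩)⟩
  · obtain ⟨a, ha⟩ := ev_surjective S hF (v 1 / v 0)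
    obtain ⟨b, hb⟩ := ev_surjective S hF (v 2 / v 0)
    exact ⟨v 0, _, h0, funext fun i => by fin_cases i <;> simp [ha, hb, ev_one] <;> field_simp,
      Or.inl ⟨a, b, rfl⟩⟩

omit hF in
theorem norm_factor (hF : Fintype.card F = 5 ^ 2) (c : F) : (c * c ^ 5) ^ 5 = c * c ^ 5 := by
  have h : c ^ 25 = c := by
    have := FiniteField.pow_card c
    rwa [hF] at this
  calc (c * c ^ 5) ^ 5 = c ^ 5 * c ^ 25 := by ring
    _ = c * c ^ 5 := by rw [h, mul_comm]

theorem phiA_smul (c : F) (hc : c ≠ 0) (v : Fin 3 → F) :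
    phiA (fun x : F => x ^ 5) (c • v) ↔ phiA (fun x : F => x ^ 5) v := by
  have h1 : hh (fun x : F => x ^ 5) (c • v) = c ^ 6 * hh (fun x : F => x ^ 5) v := by
    simp [hh, mul_pow]; ring
  have h2 : pp (c • v) * pp (c • v) = c ^ 6 * (pp v * pp v) := by simp [pp]; ring
  have h3 : nn (fun x : F => x ^ 5) (c • v) = c ^ 12 * nn (fun x : F => x ^ 5) v := by
    simp [nn, mul_pow]; ring
  have h4 : pp (c • v) = c ^ 3 * pp v := by simp [pp]; ring
  simp only [phiA, h1, h3, ne_eq]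
  rw [h2, h4, ← mul_add, ← mul_add, mul_right_inj' (pow_ne_zero 6 hc), mul_right_inj' (pow_ne_zero 6 hc)]
  simp [hc]

theorem phiO_smul (c : F) (hc : c ≠ 0) (v : Fin 3 → F) :
    phiO (fun x : F => x ^ 5) (c • v) ↔ phiO (fun x : F => x ^ 5) v := by
  have h1 : hh (fun x : F => x ^ 5) (c • v) = c ^ 6 * hh (fun x : F => x ^ 5) v := by
    simp [hh, mul_pow]; ring
  have h2 : bb (c • v) * bb (c • v) * bb (c • v) = c ^ 6 * (bb v * bb v * bb v) := by simp [bb]; ring
  have h3 : ∀ i j, (c • v) i * (c • v) j ^ 5 = c ^ 6 * (v i * v j ^ 5) := fun i j => by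
    simp [mul_pow]; ring
  simp only [phiO, h1, h3, ne_eq]
  rw [h2, ← mul_add, ← mul_add, mul_right_inj' (pow_ne_zero 6 hc), mul_right_inj' (pow_ne_zero 6 hc)]
  simp [hc]

theorem phiM_smul (c : F) (hc : c ≠ 0) (v : Fin 3 → F) :
    phiM (fun x : F => x ^ 5) (c • v) ↔ phiM (fun x : F => x ^ 5) v := by
  have h1 : hh (fun x : F => x ^ 5) (c • v) = c ^ 6 * hh (fun x : F => x ^ 5) v := by
    simp [hh, mul_pow]; ring
  have h2 : pp (c • v) * pp (c • v) = c ^ 6 * (pp v * pp v) := by simp [pp]; ring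
  have h4 : pp (c • v) = c ^ 3 * pp v := by simp [pp]; ring
  have h5 : qq (c • v) * qq (c • v) = c ^ 6 * (qq v * qq v) := by simp [qq]; ring
  have h6 : qq (c • v) = c ^ 3 * qq v := by simp [qq]; ring
  simp only [phiM, h1, ne_eq]
  rw [h2, h5, h4, h6]
  generalize hh (fun x : F => x ^ 5) v = H, pp v = P, qq v = Q
  have e : c ^ 6 * (Q * Q) * (c ^ 6 * (Q * Q)) + (c ^ 6 * H * (c ^ 6 * H) + c ^ 6 * H * (c ^ 6 * H) +
      (c ^ 6 * H * (c ^ 6 * H) + c ^ 6 * H * (c ^ 6 * H))) =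
      c ^ 12 * (Q * Q * (Q * Q) + (H * H + H * H + (H * H + H * H))) := by ring
  have e' : c ^ 6 * H * (c ^ 6 * (Q * Q)) + c ^ 6 * H * (c ^ 6 * (Q * Q)) + c ^ 6 * H * (c ^ 6 * (Q * Q)) =
      c ^ 12 * (H * (Q * Q) + H * (Q * Q) + H * (Q * Q)) := by ring
  rw [e, e', ← mul_add, ← mul_add, mul_right_inj' (pow_ne_zero 6 hc), mul_right_inj' (pow_ne_zero 6 hc),
    mul_right_inj' (pow_ne_zero 12 hc)]
  simp [hc]

/-- A table matrix keeping a predicate lies in its stabiliser. -/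
theorem ev_mem_stab {Φc : (Fin 3 → K25) → Prop} {Φ : (Fin 3 → F) → Prop}
    (hev : ∀ w, Φ (S.ev ∘ w) ↔ Φc w) (hsmul : ∀ (c : F), c ≠ 0 → ∀ v, Φ (c • v) ↔ Φ v)
    {g : Fin 3 → Fin 3 → K25} (hg : Keeps Φc g) {G : GL (Fin 3) F}
    (hG : (G : Matrix (Fin 3) (Fin 3) F) = evM S g) : G ∈ stab Φ := by
  intro v
  rw [hG]
  by_cases hv : v = 0
  · rw [hv, Matrix.mulVec_zero]
  obtain ⟨c, w, hc, rfl, hw⟩ := exists_ev_normal S hF hv
  rw [Matrix.mulVec_smul, evM_mulVec, hsmul c hc, hsmul c hc, hev, hev]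
  rcases hw with ⟨a, b, rfl⟩ | ⟨b, rfl⟩ | rfl
  · exact hg.1 a b
  · exact hg.2.1 b
  · exact hg.2.2

omit hF in
theorem mem_gu_of_gram (hF : Fintype.card F = 5 ^ 2) {G : GL (Fin 3) F}
    (h : ∀ i j, ∑ k, (G : Matrix (Fin 3) (Fin 3) F) k i * (G : Matrix (Fin 3) (Fin 3) F) k j ^ 5 =
      if i = j then 1 else 0) : G ∈ Cfsg.GU 3 F 5 := by
  intro u v
  have hg : (G : Matrix (Fin 3) (Fin 3) F)ᵀ *
      (G : Matrix (Fin 3) (Fin 3) F).map (Unitary.conjHom hF) = 1 := by
    ext i j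
    rw [Matrix.mul_apply, Matrix.one_apply, ← h i j]
    simp [conjHom_apply' hF]
  show Cfsg.hermForm 3 F 5 ((G : Matrix (Fin 3) (Fin 3) F) *ᵥ u) ((G : Matrix (Fin 3) (Fin 3) F) *ᵥ v) = _
  rw [hermForm_eq_sesq hF, sesq_mulVec, mul_one, hg]

/-- A special unitary table matrix as an element of SU₃(5). -/
theorem exists_su {g : Fin 3 → Fin 3 → K25} (hg : isSU g) : ∃ G : GL (Fin 3) F,
    (G : Matrix (Fin 3) (Fin 3) F) = evM S g ∧ G ∈ Cfsg.GU 3 F 5 ⊓ Geo.specialLinear (Fin 3) F := by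
  have hd : (evM S g).det = 1 := by
    rw [Matrix.det_fin_three]
    have h := congrArg S.ev hg.2
    simp only [ev_add, ev_mul, ev_one] at h
    simp only [evM, Matrix.of_apply]
    linear_combination h
  refine ⟨Matrix.GeneralLinearGroup.mkOfDetNeZero (evM S g) (by rw [hd]; exact one_ne_zero), rfl,
    mem_gu_of_gram hF fun i j => ?_, MonoidHom.mem_ker.mpr (Units.ext hd)⟩
  have h := congrArg S.ev (hg.1 i j)
  simp only [ev_add, ev_mul, ev_conj] at h
  show ∑ k, evM S g k i * evM S g k j ^ 5 = _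
  rw [Fin.sum_univ_three]
  simp only [evM, Matrix.of_apply]
  rw [h]
  split <;> simp [ev_one, ev_zero]

omit hF in
/-- A monomial special unitary matrix keeps the first set. -/
theorem monomial_mem_stab (hF : Fintype.card F = 5 ^ 2) {G : GL (Fin 3) F}
    (hG : G ∈ Cfsg.GU 3 F 5 ⊓ Geo.specialLinear (Fin 3) F)
    (hmono : ∀ j, ∃ i, ∀ l, l ≠ i → (G : Matrix (Fin 3) (Fin 3) F) l j = 0) :
    G ∈ stab (phiA fun x : F => x ^ 5) := by
  set M := (G : Matrix (Fin 3) (Fin 3) F) with hM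
  choose π hπ using hmono
  have hgram : ∀ i j, ∑ k, M k i * M k j ^ 5 = if i = j then 1 else 0 := by
    intro i j
    have h := congrFun (congrFun (gram_of_mem_GU hF hG.1) i) j
    rw [mul_one, Matrix.mul_apply, Matrix.one_apply] at h
    rw [← h]
    simp [hM, conjHom_apply' hF]
  have hnorm : ∀ j, M (π j) j * M (π j) j ^ 5 = 1 := fun j => by
    have h := hgram j j
    rw [if_pos rfl, Finset.sum_eq_single (π j)] at h
    · exact h
    · intro k _ hk; rw [hπ j k hk, zero_mul]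
    · simp
  have hne : ∀ j, M (π j) j ≠ 0 := fun j h => by simpa [h] using hnorm j
  have hinj : Function.Injective π := by
    intro i j hij
    by_contra hne'
    have h := hgram i j
    rw [if_neg hne', Finset.sum_eq_single (π j)] at h
    · rw [← hij] at h
      exact mul_ne_zero (hne i) (pow_ne_zero _ (hij ▸ hne j)) h
    · intro k _ hk; rw [hπ j k hk]; simp
    · simp
  let σ : Equiv.Perm (Fin 3) := Equiv.ofBijective π hinj.bijective_of_finite
  have hsplit : M = (Equiv.Perm.permMatrix F σ⁻¹) * Matrix.diagonal fun j => M (π j) j := by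
    ext i j
    simp only [Matrix.mul_diagonal, Equiv.Perm.permMatrix, PEquiv.toMatrix_apply, Equiv.toPEquiv_apply,
      Option.mem_some_iff]
    by_cases h : i = π j
    · subst h
      have : σ⁻¹ (π j) = j := σ.symm_apply_apply j
      simp [this, Matrix.one_apply]
    · have : σ⁻¹ i ≠ j := fun h' => h (by rw [← h']; exact (σ.apply_symm_apply i).symm)
      simp [Matrix.one_apply, this, hπ j i h]
      exact fun h' => absurd h' this
  have hprod : (∏ j, M (π j) j) * ∏ j, M (π j) j = 1 := by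
    have hd : M.det = 1 := congrArg Units.val (MonoidHom.mem_ker.mp hG.2)
    rw [hsplit, Matrix.det_mul, Matrix.det_diagonal, Matrix.det_permutation] at hd
    rcases Int.units_eq_one_or (Equiv.Perm.sign σ⁻¹) with h | h
    · rw [h, Units.val_one, Int.cast_one, one_mul] at hd
      rw [hd, one_mul]
    · rw [h, Units.val_neg, Units.val_one, Int.cast_neg, Int.cast_one, neg_one_mul, neg_eq_iff_eq_neg] at hd
      rw [hd]; simp
  intro v
  have hw : ∀ j, (M *ᵥ v) (π j) = M (π j) j * v j := fun j => by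
    rw [Matrix.mulVec, dotProduct, Finset.sum_eq_single j]
    · intro k _ hk; rw [hπ k (π j) (fun h => hk (hinj h.symm)), zero_mul]
    · simp
  have hN : ∀ j, (M *ᵥ v) (π j) * (M *ᵥ v) (π j) ^ 5 = v j * v j ^ 5 := fun j => by
    rw [hw, mul_pow]
    linear_combination (v j * v j ^ 5) * hnorm j
  have e1 : hh (fun x : F => x ^ 5) (M *ᵥ v) = hh (fun x : F => x ^ 5) v := by
    have : ∀ w : Fin 3 → F, hh (fun x : F => x ^ 5) w = ∑ i, w i * w i ^ 5 := fun w => by
      simp [hh, Fin.sum_univ_three]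
    rw [this, this, ← Equiv.sum_comp σ]
    exact Finset.sum_congr rfl fun j _ => hN j
  have e3 : nn (fun x : F => x ^ 5) (M *ᵥ v) = nn (fun x : F => x ^ 5) v := by
    have : ∀ w : Fin 3 → F, nn (fun x : F => x ^ 5) w = ∑ i, w i * w i ^ 5 * (w i * w i ^ 5) := fun w => by
      simp [nn, Fin.sum_univ_three]
    rw [this, this, ← Equiv.sum_comp σ]
    exact Finset.sum_congr rfl fun j _ => by
      show (M *ᵥ v) (π j) * (M *ᵥ v) (π j) ^ 5 * ((M *ᵥ v) (π j) * (M *ᵥ v) (π j) ^ 5) = _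
      rw [hN]
  have e2 : pp (M *ᵥ v) = (∏ j, M (π j) j) * pp v := by
    have : ∀ w : Fin 3 → F, pp w = ∏ i, w i := fun w => by simp [pp, Fin.prod_univ_three]
    rw [this, this, ← Equiv.prod_comp σ, ← Finset.prod_mul_distrib]
    exact Finset.prod_congr rfl fun j _ => hw j
  have e22 : pp (M *ᵥ v) * pp (M *ᵥ v) = pp v * pp v := by
    rw [e2]; linear_combination (pp v * pp v) * hprod
  simp only [phiA, ne_eq, ← hM, e1, e3, e22]
  simp only [e2, mul_eq_zero,
    (left_ne_zero_of_mul_eq_one hprod), false_or]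

omit hF in
/-- A real multiple matrix in SU₃(5) keeps the second set. -/
theorem real_mem_stab (hF : Fintype.card F = 5 ^ 2) {G : GL (Fin 3) F}
    (hG : G ∈ Cfsg.GU 3 F 5) {c : F} {A : Matrix (Fin 3) (Fin 3) F} (hA : ∀ i j, A i j ^ 5 = A i j)
    (hGA : (G : Matrix (Fin 3) (Fin 3) F) = c • A) : G ∈ stab (phiO fun x : F => x ^ 5) := by
  set σ := Unitary.conjHom hF
  have hAσ : A.map σ = A := by ext i j; simp [σ, conjHom_apply' hF, hA]
  have hg := gram_of_mem_GU hF hG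
  have h25 : c ^ 25 = c := by
    have := FiniteField.pow_card c
    rwa [hF] at this
  rw [mul_one, hGA, Matrix.transpose_smul, Matrix.map_smul' _ _ _ (map_mul σ), hAσ, Matrix.smul_mul,
    Matrix.mul_smul, smul_smul] at hg
  set κ : F := c * σ c with hκ
  have hκ0 : κ ≠ 0 := fun h => by
    rw [h, zero_smul] at hg; exact zero_ne_one hg
  have hcσ : σ c = c ^ 5 := conjHom_apply' hF c
  have hdet : κ ^ 3 * (A.det * A.det) = 1 := by
    have h := congrArg Matrix.det hg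
    rwa [Matrix.det_smul, Matrix.det_mul, Matrix.det_transpose, Matrix.det_one, Fintype.card_fin] at h
  have hd5 : A.det ^ 5 = A.det := by
    rw [← conjHom_apply' hF, RingHom.map_det, RingHom.mapMatrix_apply, hAσ]
  have hd0 : A.det ≠ 0 := fun h => by simp [h] at hdet
  have hd4 : A.det ^ 4 = 1 := mul_right_cancel₀ hd0 (by rw [← pow_succ, hd5, one_mul])
  have hκ5 : κ ^ 5 = κ := by
    rw [hκ, hcσ]; calc (c * c ^ 5) ^ 5 = c ^ 5 * c ^ 25 := by ring
      _ = c * c ^ 5 := by rw [h25, mul_comm]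
  have hκ4 : κ ^ 4 = 1 := mul_right_cancel₀ hκ0 (by rw [← pow_succ, hκ5, one_mul])
  have hκ2 : κ * κ = 1 := by
    have : κ * κ = (κ ^ 3 * (A.det * A.det)) ^ 2 := by
      calc κ * κ = κ ^ 2 * (κ ^ 4 * A.det ^ 4) := by rw [hκ4, hd4]; ring
        _ = _ := by ring
    rw [this, hdet, one_pow]
  intro v
  set w := (G : Matrix (Fin 3) (Fin 3) F) *ᵥ v with hw
  have hwv : w = c • (A *ᵥ v) := by rw [hw, hGA, Matrix.smul_mulVec]
  have e1 : hh (fun x : F => x ^ 5) w = hh (fun x : F => x ^ 5) v := by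
    have h := hG v v
    simp only [Cfsg.hermForm, Fin.sum_univ_three] at h
    exact h
  have hB : ∀ u : Fin 3 → F, bb u = u ⬝ᵥ u := fun u => by simp [bb, dotProduct, Fin.sum_univ_three]
  have e2 : bb w * bb w * bb w = bb v * bb v * bb v := by
    have h : bb w = c * c * κ⁻¹ * bb v := by
      have hAA : Aᵀ * A = κ⁻¹ • (1 : Matrix (Fin 3) (Fin 3) F) := by
        conv_rhs => rw [← hg, smul_smul, inv_mul_cancel₀ hκ0, one_smul]
      rw [hB, hB, hwv, smul_dotProduct, dotProduct_smul, Matrix.dotProduct_mulVec, ← Matrix.mulVec_transpose,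
        Matrix.mulVec_mulVec, hAA, Matrix.smul_mulVec, Matrix.one_mulVec, smul_dotProduct]
      simp only [smul_eq_mul]; ring
    rw [h]
    have h6 : c ^ 6 = κ := by rw [hκ, hcσ]; ring
    have hi : κ⁻¹ = κ := inv_eq_of_mul_eq_one_left hκ2
    rw [hi]
    linear_combination (κ ^ 3 * (bb v * bb v * bb v)) * h6 + (bb v * bb v * bb v) * hκ4
  have hpar : ∀ u : Fin 3 → F, (u 0 * u 1 ^ 5 = u 1 * u 0 ^ 5 ∧ u 0 * u 2 ^ 5 = u 2 * u 0 ^ 5 ∧
      u 1 * u 2 ^ 5 = u 2 * u 1 ^ 5) ↔ (∀ i j, u i * u j ^ 5 = u j * u i ^ 5) := by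
    refine fun u => ⟨fun ⟨a, b, d⟩ i j => ?_, fun h => ⟨h 0 1, h 0 2, h 1 2⟩⟩
    fin_cases i <;> fin_cases j <;> first | rfl | exact a | exact b | exact d | exact a.symm | exact b.symm |
      exact d.symm
  have hσsum : ∀ (B : Matrix (Fin 3) (Fin 3) F), (∀ i j, B i j ^ 5 = B i j) → ∀ (u : Fin 3 → F) i,
      ((B *ᵥ u) i) ^ 5 = (B *ᵥ fun k => u k ^ 5) i := by
    intro B hB' u i
    rw [← conjHom_apply' hF, Matrix.mulVec, dotProduct, map_sum, Matrix.mulVec, dotProduct]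
    exact Finset.sum_congr rfl fun k _ => by rw [map_mul, conjHom_apply' hF, conjHom_apply' hF, hB']
  have hmove : ∀ (B : Matrix (Fin 3) (Fin 3) F), (∀ i j, B i j ^ 5 = B i j) → ∀ (u : Fin 3 → F),
      (∀ i j, u i * u j ^ 5 = u j * u i ^ 5) → ∀ i j, (B *ᵥ u) i * (B *ᵥ u) j ^ 5 = (B *ᵥ u) j * (B *ᵥ u) i ^ 5 := by
    intro B hB' u hu i j
    rw [hσsum B hB', hσsum B hB']
    simp only [Matrix.mulVec, dotProduct, Finset.sum_mul_sum]
    rw [Finset.sum_comm]
    exact Finset.sum_congr rfl fun k _ => Finset.sum_congr rfl fun l _ => by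
      linear_combination (B i l * B j k) * hu l k
  have hsc : ∀ (a : F), a ≠ 0 → ∀ (u : Fin 3 → F), (∀ i j, (a • u) i * (a • u) j ^ 5 = (a • u) j * (a • u) i ^ 5) ↔
      (∀ i j, u i * u j ^ 5 = u j * u i ^ 5) := by
    intro a ha u
    refine forall_congr' fun i => forall_congr' fun j => ?_
    simp only [Pi.smul_apply, smul_eq_mul, mul_pow]
    constructor
    · intro h; exact mul_left_cancel₀ (mul_ne_zero ha (pow_ne_zero 5 ha)) (by linear_combination h)
    · intro h; linear_combination (a * a ^ 5) * h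
  have hc0 : c ≠ 0 := fun h => hκ0 (by rw [hκ, h, zero_mul])
  have hAi : ∀ i j, Aᵀ i j ^ 5 = Aᵀ i j := fun i j => hA j i
  have e3 : (∀ i j, w i * w j ^ 5 = w j * w i ^ 5) ↔ (∀ i j, v i * v j ^ 5 = v j * v i ^ 5) := by
    rw [hwv, hsc c hc0]
    refine ⟨fun h => ?_, hmove A hA v⟩
    have h2 := hmove Aᵀ hAi _ h
    have hAA : Aᵀ * A = κ⁻¹ • (1 : Matrix (Fin 3) (Fin 3) F) := by
      conv_rhs => rw [← hg, smul_smul, inv_mul_cancel₀ hκ0, one_smul]
    rw [Matrix.mulVec_mulVec, hAA, Matrix.smul_mulVec, Matrix.one_mulVec] at h2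
    exact (hsc _ (inv_ne_zero hκ0) v).mp h2
  simp only [phiO, hpar, e1, e2, e3]

omit hF in
/-- The three sets are not invariant under SU₃(5). -/
theorem exists_not_mem_stab (hF : Fintype.card F = 5 ^ 2) :
    ∃ G ∈ Cfsg.GU 3 F 5 ⊓ Geo.specialLinear (Fin 3) F, G ∉ stab (phiA fun x : F => x ^ 5) ∧
      G ∉ stab (phiO fun x : F => x ^ 5) ∧ G ∉ stab (phiM fun x : F => x ^ 5) := by
  obtain ⟨S⟩ := exists_sem hF
  obtain ⟨G, hG, hGm⟩ := exists_su S hF (g := ![![⟨0, 2⟩, ⟨4, 1⟩, 0], ![⟨1, 1⟩, ⟨0, 3⟩, 0], ![0, 0, 1]])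
    (by decide +kernel)
  have key : ∀ {Φc : (Fin 3 → K25) → Prop} {Φ : (Fin 3 → F) → Prop}, (∀ w, Φ (S.ev ∘ w) ↔ Φc w) →
      (∃ w, ¬ (Φc (mv ![![⟨0, 2⟩, ⟨4, 1⟩, 0], ![⟨1, 1⟩, ⟨0, 3⟩, 0], ![0, 0, 1]] w) ↔ Φc w)) → G ∉ stab Φ := by
    intro Φc Φ hev ⟨w, hw⟩ h
    exact hw (by rw [← hev, ← hev, ← evM_mulVec, ← hG]; exact h _)
  exact ⟨G, hGm, key (phiA_ev S) ⟨![1, 0, 0], by decide +kernel⟩, key (phiO_ev S) ⟨![1, 0, 0], by decide +kernel⟩,
    key (phiM_ev S) ⟨![0, 1, K25.num 4], by decide +kernel⟩⟩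

end Cfsg.Agent.Aschbacher.SU3
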