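/-
Frame stabilisers and index-two subfield groups in SU₃(q) for q = 3, 5.
Main results: `false_of_conj`, `frame_basis`, `frame_five_false`, `real_normal_form`, `subfield_five_false`,
`subfield_three_frame`.
-/
import Cfsg.Agent.Lib.Aschbacher.SU3Points
import Cfsg.Agent.Lib.Aschbacher.UnitaryReduce
import Cfsg.Agent.Lib.Aschbacher.FormOrthOdd
import Cfsg.Agent.Lib.Aschbacher.OrthThree

set_option autoImplicit false

namespace Cfsg.Agent.Aschbacher.SU3

open Matrix
open Cfsg.Agent.PrimeDim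

variable {F : Type*} [Field F] [Fintype F] {q : ℕ}

local notation "hq" => Cfsg.hermForm 3 F q
local notation "Γ" => Cfsg.GU 3 F q ⊓ Geo.specialLinear (Fin 3) F

omit [Fintype F] in
theorem conj_gamma {u g : GL (Fin 3) F} (hu : u ∈ Cfsg.GU 3 F q) (hg : g ∈ Γ) : u * g * u⁻¹ ∈ Γ := by
  have h1 : u * g * u⁻¹ ∈ Cfsg.GU 3 F q := mul_mem (mul_mem hu hg.1) (inv_mem hu)
  refine ⟨h1, MonoidHom.mem_ker.mpr ?_⟩
  rw [map_mul, map_mul, MonoidHom.mem_ker.mp hg.2, mul_one, map_inv, mul_inv_cancel]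

omit [Fintype F] in
/-- A maximal subgroup conjugate into a proper invariant subgroup exhausts it. -/
theorem false_of_conj {H : Subgroup (GL (Fin 3) F)} (hH : Geo.IsMaximalIn Γ H) {u : GL (Fin 3) F}
    (hu : u ∈ Cfsg.GU 3 F q) (T : Subgroup (GL (Fin 3) F)) (hHT : ∀ g ∈ H, u * g * u⁻¹ ∈ T)
    {a : GL (Fin 3) F} (ha : a ∈ Γ) (haT : a ∈ T) (han : u⁻¹ * a * u ∉ H)
    {w : GL (Fin 3) F} (hw : w ∈ Γ) (hwT : w ∉ T) : False := by
  set M : Subgroup (GL (Fin 3) F) := T.comap (MulAut.conj u).toMonoidHom ⊓ Γ with hM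
  have hmem : ∀ g, g ∈ M ↔ u * g * u⁻¹ ∈ T ∧ g ∈ Γ := fun g => Iff.rfl
  have hback : ∀ {g}, g ∈ Γ → u⁻¹ * g * u ∈ Γ := fun hg => by
    simpa using conj_gamma (inv_mem hu) hg
  rcases hH.2 M (fun g hg => (hmem g).mpr ⟨hHT g hg, hH.1.le hg⟩) inf_le_right with h | h
  · exact han (h ▸ (hmem _).mpr ⟨by simpa [mul_assoc] using haT, hback ha⟩)
  · have h1 : u⁻¹ * w * u ∈ M := h.symm ▸ hback hw
    exact hwT (by simpa [mul_assoc] using ((hmem _).mp h1).1)

theorem mem_gu_of_gram_one (hF : Fintype.card F = q ^ 2) {P : GL (Fin 3) F}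
    (h : (P : Matrix (Fin 3) (Fin 3) F)ᵀ * (P : Matrix (Fin 3) (Fin 3) F).map (Unitary.conjHom hF) = 1) :
    P ∈ Cfsg.GU 3 F q := by
  rw [mem_GU_iff]
  intro u v
  rw [hermForm_eq_gram hF, formOfGram_mulVec, mul_one, h]

theorem gu_of_orthonormal (hF : Fintype.card F = q ^ 2) (b : Fin 3 → Fin 3 → F)
    (h : ∀ i j, hq (b i) (b j) = if i = j then 1 else 0) :
    ∃ P ∈ Cfsg.GU 3 F q, ∀ j, ((P : GL (Fin 3) F) : Matrix (Fin 3) (Fin 3) F) *ᵥ Pi.single j 1 = b j := by
  let P₀ : Matrix (Fin 3) (Fin 3) F := Matrix.of fun i j => b j i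
  have hcol : ∀ j, P₀ *ᵥ Pi.single j 1 = b j := fun j => by rw [Matrix.mulVec_single_one]; rfl
  have hPg : P₀ᵀ * P₀.map (Unitary.conjHom hF) = 1 := by
    ext i j
    have h1 := h i j
    rw [← hcol, ← hcol, hermForm_eq_gram hF, formOfGram_mulVec, formOfGram_single, mul_one] at h1
    rw [h1, Matrix.one_apply]
  have hPd : P₀.det ≠ 0 := by
    intro h0
    have h1 := congrArg Matrix.det hPg
    rw [Matrix.det_mul, Matrix.det_transpose, h0, zero_mul, Matrix.det_one] at h1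
    exact zero_ne_one h1
  exact ⟨Matrix.GeneralLinearGroup.mkOfDetNeZero P₀ hPd, mem_gu_of_gram_one hF hPg, hcol⟩

/-- In an orthonormal frame the frame stabiliser is monomial. -/
theorem frame_basis (hF : Fintype.card F = q ^ 2) {D : Fin 3 → Submodule F (Fin 3 → F)}
    (hD : Geo.IsNondegenerateMDecomposition hq 1 D) :
    ∃ u ∈ Cfsg.GU 3 F q, ∀ g ∈ Geo.decompositionStabilizer D, ∀ j, ∃ i, ∀ l, l ≠ i →
      ((u * g * u⁻¹ : GL (Fin 3) F) : Matrix (Fin 3) (Fin 3) F) l j = 0 := by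
  have H := Unitary.hermForm_isHerm hF 3
  choose d' hd' using fun i => finrank_eq_one_iff'.mp (hD.decomp.finrank_eq i)
  let d : Fin 3 → Fin 3 → F := fun i => (d' i : Fin 3 → F)
  have hdD : ∀ i, d i ∈ D i := fun i => (d' i).2
  have hspan : ∀ i, ∀ x ∈ D i, ∃ c : F, x = c • d i := fun i x hx => by
    obtain ⟨c, hc⟩ := (hd' i).2 ⟨x, hx⟩
    exact ⟨c, (congrArg Subtype.val hc).symm⟩
  have hnd : ∀ i, hq (d i) (d i) ≠ 0 := by
    intro i h0
    obtain ⟨x, hx, hne⟩ := (hD.nondegenerate i (d i) (hdD i) (fun h => (hd' i).1 (Subtype.ext h))).1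
    obtain ⟨c, rfl⟩ := hspan i x hx
    rw [H.smul_left, h0, mul_zero] at hne
    exact hne rfl
  have ht : ∀ i, ∃ t : F, t ^ (q + 1) = (hq (d i) (d i))⁻¹ := fun i =>
    Unitary.exists_norm_eq hF (by rw [inv_pow, H.self_fixed])
  choose t ht using ht
  have ht0 : ∀ i, t i ≠ 0 := fun i h => by
    have h1 := ht i
    rw [h, zero_pow (Nat.succ_ne_zero q)] at h1
    exact inv_ne_zero (hnd i) h1.symm
  obtain ⟨P, hP, hcol⟩ := gu_of_orthonormal hF (fun i => t i • d i) (fun i j => by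
    rw [H.smul_left, H.smul_right]
    by_cases h : i = j
    · subst h
      rw [if_pos rfl, ← mul_assoc, ← pow_succ', ht, inv_mul_cancel₀ (hnd i)]
    · rw [if_neg h, hD.orthogonal i j h _ (hdD i) _ (hdD j), mul_zero, mul_zero])
  refine ⟨P⁻¹, inv_mem hP, fun g hg j => ?_⟩
  obtain ⟨π, hπ⟩ := hg
  refine ⟨π j, fun l hl => ?_⟩
  obtain ⟨c, hc⟩ : ∃ c : F, (g : Matrix (Fin 3) (Fin 3) F) *ᵥ (t j • d j) = c • (t (π j) • d (π j)) := by
    obtain ⟨c, hc⟩ := hspan (π j) _ (by rw [← hπ j]; exact ⟨_, (D j).smul_mem (t j) (hdD j), rfl⟩)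
    refine ⟨c / t (π j), hc.trans ?_⟩
    rw [smul_smul, div_mul_cancel₀ _ (ht0 _)]
  have h1 : ((P⁻¹ * g * P : GL (Fin 3) F) : Matrix (Fin 3) (Fin 3) F) *ᵥ Pi.single j 1 = c • Pi.single (π j) 1 := by
    rw [Units.val_mul, Units.val_mul, ← Matrix.mulVec_mulVec, hcol, ← Matrix.mulVec_mulVec, hc, ← hcol,
      Matrix.mulVec_smul, Matrix.mulVec_mulVec, Units.inv_mul, Matrix.one_mulVec]
  rw [inv_inv]
  have h2 := congrFun h1 l
  rw [Matrix.mulVec_single_one] at h2
  simpa [Pi.single_apply, hl] using h2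

/-- Frame stabilisers are not maximal in SU₃(5). -/
theorem frame_five_false (hF : Fintype.card F = q ^ 2) (h5 : q = 5) {H : Subgroup (GL (Fin 3) F)}
    (hH : Geo.IsMaximalIn Γ H) {D : Fin 3 → Submodule F (Fin 3 → F)}
    (hD : Geo.IsNondegenerateMDecomposition hq 1 D) (hle : H ≤ Geo.decompositionStabilizer D) : False := by
  subst h5
  obtain ⟨u, hu, hmono⟩ := frame_basis hF hD
  obtain ⟨S⟩ := exists_sem hF
  obtain ⟨a, hav, ha⟩ := exists_su S hF su_aW
  obtain ⟨w, hw, hwA, -, -⟩ := exists_not_mem_stab hF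
  refine false_of_conj hH hu (stab (phiA fun x : F => x ^ 5))
    (fun g hg => monomial_mem_stab hF (conj_gamma hu (hH.1.le hg)) (hmono g (hle hg))) ha
    (ev_mem_stab S hF (phiA_ev S) (phiA_smul hF) keep_A_a hav) (fun hmem => ?_) hw hwA
  obtain ⟨i, hi⟩ := hmono _ (hle hmem) 0
  have h2 : u * (u⁻¹ * a * u) * u⁻¹ = a := by simp [mul_assoc]
  rw [h2, hav] at hi
  have hne : ∀ k, aW k 0 ≠ 0 → evM S aW k 0 ≠ 0 := fun k hk h0 =>
    hk (ev_injective S (h0.trans (ev_zero S).symm))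
  by_cases h0 : (0 : Fin 3) = i
  · exact hne 1 aW_entry.2 (hi 1 (by rw [← h0]; decide))
  · exact hne 0 aW_entry.1 (hi 0 h0)

/-- An index-two rational structure becomes the standard real one. -/
theorem real_normal_form (hF : Fintype.card F = q ^ 2) (h2 : (2 : F) ≠ 0) {F₀ : Subfield F}
    (hF₀ : Fintype.card F = Nat.card F₀ ^ 2) {P : GL (Fin 3) F}
    (hP : Geo.IsFormRationalStructure hq F₀ 1 P) :
    ∃ u ∈ Cfsg.GU 3 F q, ∀ g ∈ Geo.subfieldSubgroup F₀ P, ∃ (c : F) (A : Matrix (Fin 3) (Fin 3) F₀),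
      ((u * g * u⁻¹ : GL (Fin 3) F) : Matrix (Fin 3) (Fin 3) F) = c • A.map F₀.subtype := by
  classical
  have hq0 : Nat.card F₀ = q := (Nat.pow_left_injective two_ne_zero (hF.symm.trans hF₀)).symm
  haveI : Fintype F₀ := Fintype.ofFinite F₀
  set σ := Unitary.conjHom hF with hσ
  have hfix : ∀ x ∈ F₀, σ x = x := fun x hx => by
    rw [hσ, conjHom_apply']
    have h := FiniteField.pow_card (⟨x, hx⟩ : F₀)
    rw [← Nat.card_eq_fintype_card, hq0] at h
    exact congrArg Subtype.val h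
  set G : Matrix (Fin 3) (Fin 3) F := (P : Matrix (Fin 3) (Fin 3) F)ᵀ * (P : Matrix (Fin 3) (Fin 3) F).map σ
    with hG
  have hGent : ∀ i j, G i j ∈ F₀ := by
    intro i j
    have h1 := hP (Pi.single i 1) (Pi.single j 1)
      (fun k => by by_cases h : k = i <;> simp [Pi.single_apply, h, one_mem, zero_mem])
      (fun k => by by_cases h : k = j <;> simp [Pi.single_apply, h, one_mem, zero_mem])
    rwa [one_mul, hermForm_eq_gram hF, formOfGram_mulVec, formOfGram_single, mul_one] at h1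
  have hσσ : ∀ a, σ (σ a) = a := fun a => Unitary.pow_q_pow_q hF a
  have hsym : ∀ i j, G j i = G i j := by
    intro i j
    rw [← hfix _ (hGent i j), hG]
    simp only [Matrix.mul_apply, Matrix.transpose_apply, Matrix.map_apply, map_sum, map_mul, hσσ]
    exact Finset.sum_congr rfl fun k _ => mul_comm _ _
  let G₀ : Matrix (Fin 3) (Fin 3) F₀ := Matrix.of fun i j => ⟨G i j, hGent i j⟩
  have hG₀ : G₀.map F₀.subtype = G := by ext i j; rfl
  have hdet : IsUnit G₀.det := by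
    refine isUnit_iff_ne_zero.mpr fun h => ?_
    have h1 := congrArg F₀.subtype h
    rw [RingHom.map_det, RingHom.mapMatrix_apply, hG₀, map_zero, hG, Matrix.det_mul, Matrix.det_transpose] at h1
    exact mul_ne_zero (Matrix.GeneralLinearGroup.det P).ne_zero (isUnit_det_map σ P).ne_zero h1
  have h20 : (2 : F₀) ≠ 0 := fun h =>
    h2 ((map_ofNat F₀.subtype 2).symm.trans ((congrArg F₀.subtype h).trans (map_zero _)))
  obtain ⟨a, A, ha, hA⟩ := symm_congr h20 (by decide : Odd 3) hdet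
    (Matrix.ext fun i j => Subtype.ext (hsym i j))
  obtain ⟨t, ht⟩ := Unitary.exists_norm_eq hF (c := (a : F)) (by
    rw [← conjHom_apply' hF]; exact hfix _ a.2)
  have ha0 : (a : F) ≠ 0 := fun h => ha (Subtype.ext h)
  have ht0 : t ≠ 0 := fun h => by
    rw [h, zero_pow (Nat.succ_ne_zero q)] at ht
    exact ha0 ht.symm
  let A' : GL (Fin 3) F := Matrix.GeneralLinearGroup.map (F₀.subtype : F₀ →+* F) A
  let Z : GL (Fin 3) F := Units.map (algebraMap F (Matrix (Fin 3) (Fin 3) F)).toMonoidHom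
    (Units.mk0 t⁻¹ (inv_ne_zero ht0))
  have hA' : (A' : Matrix (Fin 3) (Fin 3) F) = (A : Matrix (Fin 3) (Fin 3) F₀).map F₀.subtype := rfl
  have hZ : (Z : Matrix (Fin 3) (Fin 3) F) = t⁻¹ • 1 := Algebra.algebraMap_eq_smul_one _
  have hA'σ : (A' : Matrix (Fin 3) (Fin 3) F).map σ = (A' : Matrix (Fin 3) (Fin 3) F) := by
    ext i j; exact hfix _ ((A : Matrix (Fin 3) (Fin 3) F₀) i j).2
  have hQ : P * A' * Z ∈ Cfsg.GU 3 F q := by
    refine mem_gu_of_gram_one hF ?_
    have h1 : (A' : Matrix (Fin 3) (Fin 3) F)ᵀ * G * (A' : Matrix (Fin 3) (Fin 3) F) = (a : F) • 1 := by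
      have h := congrArg (fun M : Matrix (Fin 3) (Fin 3) F₀ => M.map F₀.subtype) hA
      simp only [Matrix.map_mul, hG₀] at h
      rw [Matrix.transpose_map, ← hA'] at h
      rw [h]
      ext i j
      by_cases hij : i = j <;> simp [hij]
    rw [Units.val_mul, Units.val_mul, hZ, Matrix.mul_smul, mul_one, Matrix.transpose_smul, Matrix.transpose_mul,
      Matrix.map_smul' _ _ _ (map_mul σ), Matrix.map_mul, hA'σ, Matrix.smul_mul, Matrix.mul_smul, smul_smul]
    rw [show (A' : Matrix (Fin 3) (Fin 3) F)ᵀ * (P : Matrix (Fin 3) (Fin 3) F)ᵀ *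
        ((P : Matrix (Fin 3) (Fin 3) F).map σ * (A' : Matrix (Fin 3) (Fin 3) F)) = (a : F) • 1 from by
      rw [← h1, hG]; simp only [mul_assoc], smul_smul, conjHom_apply', inv_pow, ← _root_.mul_inv_rev,
      show t ^ q * t = a from by rw [← pow_succ, ht], inv_mul_cancel₀ ha0, one_smul]
  refine ⟨(P * A' * Z)⁻¹, inv_mem hQ, fun g hg => ?_⟩
  obtain ⟨k, hk0, hk⟩ := exists_smul_entries hg
  let B : Matrix (Fin 3) (Fin 3) F₀ := Matrix.of fun i j => ⟨k * cj P⁻¹ (g : Matrix (Fin 3) (Fin 3) F) i j, hk i j⟩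
  refine ⟨k⁻¹, ((A⁻¹ : GL (Fin 3) F₀) : Matrix (Fin 3) (Fin 3) F₀) * B * (A : Matrix (Fin 3) (Fin 3) F₀), ?_⟩
  have hB : B.map F₀.subtype = k • cj P⁻¹ (g : Matrix (Fin 3) (Fin 3) F) := by ext i j; rfl
  have hA'i : ((A⁻¹ : GL (Fin 3) F₀) : Matrix (Fin 3) (Fin 3) F₀).map F₀.subtype =
      ((A'⁻¹ : GL (Fin 3) F) : Matrix (Fin 3) (Fin 3) F) := by
    rw [← map_inv]; rfl
  have hZc : ∀ h : GL (Fin 3) F, Z⁻¹ * h * Z = h := fun h => by
    rw [mul_assoc, inv_mul_eq_iff_eq_mul]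
    exact Units.ext (by rw [Units.val_mul, Units.val_mul, hZ]; simp)
  rw [inv_inv, show (P * A' * Z)⁻¹ * g * (P * A' * Z) = Z⁻¹ * (A'⁻¹ * (P⁻¹ * g * P) * A') * Z by
    simp [mul_assoc], hZc, Matrix.map_mul, Matrix.map_mul, hB, hA'i, ← hA', Matrix.mul_smul, Matrix.smul_mul,
    smul_smul, inv_mul_cancel₀ hk0, one_smul, Units.val_mul, Units.val_mul, Units.val_mul, Units.val_mul,
    cj_apply, inv_inv]

/-- Index-two subfield groups are not maximal in SU₃(5). -/
theorem subfield_five_false (hF : Fintype.card F = q ^ 2) (h5 : q = 5) {H : Subgroup (GL (Fin 3) F)}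
    (hH : Geo.IsMaximalIn Γ H) {F₀ : Subfield F} (hF₀ : Fintype.card F = Nat.card F₀ ^ 2) {P : GL (Fin 3) F}
    (hP : Geo.IsFormRationalStructure hq F₀ 1 P) (hle : H ≤ Geo.subfieldSubgroup F₀ P) : False := by
  subst h5
  obtain ⟨S⟩ := exists_sem hF
  have h2 : (2 : F) ≠ 0 := fun h => one_ne_zero (α := F) (by linear_combination S.five - 2 * h)
  obtain ⟨u, hu, hform⟩ := real_normal_form hF h2 hF₀ hP
  have hq0 : Nat.card F₀ = 5 := (Nat.pow_left_injective two_ne_zero (hF.symm.trans hF₀)).symm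
  haveI : Fintype F₀ := Fintype.ofFinite F₀
  have hfix : ∀ x : F₀, (x : F) ^ 5 = x := fun x => by
    have h := FiniteField.pow_card x
    rw [← Nat.card_eq_fintype_card, hq0] at h
    exact congrArg Subtype.val h
  obtain ⟨a, hav, ha⟩ := exists_su S hF su_dW
  obtain ⟨w, hw, -, hwO, -⟩ := exists_not_mem_stab hF
  refine false_of_conj hH hu (stab (phiO fun x : F => x ^ 5)) (fun g hg => ?_) ha
    (ev_mem_stab S hF (phiO_ev S) (phiO_smul hF) keep_O_d hav) (fun hmem => ?_) hw hwO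
  · obtain ⟨c, A, hA⟩ := hform g (hle hg)
    exact real_mem_stab hF (conj_gamma hu (hH.1.le hg)).1 (A := A.map F₀.subtype) (fun i j => hfix (A i j)) hA
  · obtain ⟨c, A, hA⟩ := hform _ (hle hmem)
    rw [show u * (u⁻¹ * a * u) * u⁻¹ = a by simp [mul_assoc], hav] at hA
    refine dW_entry (ev_injective S ?_)
    have e : ∀ i j, S.ev (dW i j) = c * (A i j : F) := fun i j => congrFun (congrFun hA i) j
    rw [ev_mul, ev_mul, ev_conj, ev_conj, e, e, mul_pow, mul_pow, hfix, hfix]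
    ring

/-- For q = 3 an index-two subfield group preserves an orthogonal frame. -/
theorem subfield_three_frame (hF : Fintype.card F = q ^ 2) (h3 : q = 3) {H : Subgroup (GL (Fin 3) F)}
    (hHU : H ≤ Cfsg.GU 3 F q) {F₀ : Subfield F} (hF₀ : Fintype.card F = Nat.card F₀ ^ 2) {P : GL (Fin 3) F}
    (hP : Geo.IsFormRationalStructure hq F₀ 1 P) (hle : H ≤ Geo.subfieldSubgroup F₀ P) :
    ∃ D : Fin 3 → Submodule F (Fin 3 → F), Geo.IsNondegenerateMDecomposition hq 1 D ∧
      H ≤ Geo.decompositionStabilizer D := by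
  classical
  have HH := Unitary.hermForm_isHerm hF 3
  have h2 : (2 : F) ≠ 0 := by
    intro h
    have h9 : ((Fintype.card F : ℕ) : F) = 0 := FiniteField.cast_card_eq_zero F
    rw [hF, h3] at h9
    norm_num at h9
    exact one_ne_zero (α := F) (by linear_combination h9 - 4 * h)
  obtain ⟨u, hu, hform⟩ := real_normal_form hF h2 hF₀ hP
  have hq0 : Nat.card F₀ = 3 := by rw [← h3]; exact (Nat.pow_left_injective two_ne_zero (hF.symm.trans hF₀)).symm
  haveI : Fintype F₀ := Fintype.ofFinite F₀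
  have hc3 : Fintype.card F₀ = 3 := by rw [← Nat.card_eq_fintype_card, hq0]
  set e : Fin 3 → Fin 3 → F := fun i => ((u⁻¹ : GL (Fin 3) F) : Matrix (Fin 3) (Fin 3) F) *ᵥ Pi.single i 1
  have hee : ∀ i j, hq (e i) (e j) = if i = j then 1 else 0 := fun i j => by
    rw [mem_GU_iff.mp (inv_mem hu), hermForm_eq_gram hF, formOfGram_single, Matrix.one_apply]
  have hne : ∀ i, e i ≠ 0 := fun i h => by
    have := hee i i
    rw [h, if_pos rfl, HH.zero_left] at this
    exact zero_ne_one this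
  let D : Fin 3 → Submodule F (Fin 3 → F) := fun i => F ∙ e i
  have hind : LinearIndependent F e := by
    refine Fintype.linearIndependent_iff.mpr fun a ha j => ?_
    have h1 : hq (∑ i, a i • e i) (e j) = a j := by
      rw [HH.sum_left, Finset.sum_eq_single j]
      · rw [HH.smul_left, hee, if_pos rfl, mul_one]
      · intro i _ hi; rw [HH.smul_left, hee, if_neg hi, mul_zero]
      · simp
    rw [ha, HH.zero_left] at h1
    exact h1.symm
  refine ⟨D, ⟨⟨by norm_num, one_pos, fun i => finrank_span_singleton (hne i),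
    hind.iSupIndep_span_singleton, ?_⟩, fun i w hw hw0 => ?_, fun i j hij x hx y hy => ?_⟩, fun g hg => ?_⟩
  · rw [← Submodule.span_range_eq_iSup]
    exact hind.span_eq_top_of_card_eq_finrank (by simp)
  · obtain ⟨c, rfl⟩ := Submodule.mem_span_singleton.mp hw
    have hc : c ≠ 0 := fun h => hw0 (by simp [h])
    have h1 : hq (c • e i) (c • e i) ≠ 0 := by
      rw [HH.smul_left, HH.smul_right, hee, if_pos rfl, mul_one]
      exact mul_ne_zero hc (pow_ne_zero _ hc)
    exact ⟨⟨_, hw, h1⟩, _, hw, h1⟩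
  · obtain ⟨c, rfl⟩ := Submodule.mem_span_singleton.mp hx
    obtain ⟨d, rfl⟩ := Submodule.mem_span_singleton.mp hy
    rw [HH.smul_left, HH.smul_right, hee, if_neg hij, mul_zero, mul_zero]
  obtain ⟨c, A, hA⟩ := hform g (hle hg)
  set M : GL (Fin 3) F := u * g * u⁻¹ with hM
  have hMU : M ∈ Cfsg.GU 3 F q := mul_mem (mul_mem hu (hHU hg)) (inv_mem hu)
  have hAm : (A.map F₀.subtype).map (Unitary.conjHom hF) = A.map F₀.subtype := by
    ext i j
    show Unitary.conjHom hF (A i j : F) = A i j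
    rw [conjHom_apply', h3]
    have h := FiniteField.pow_card (A i j)
    rw [hc3] at h
    exact congrArg Subtype.val h
  have hgram := gram_of_mem_GU hF hMU
  rw [mul_one, hA, Matrix.transpose_smul, Matrix.map_smul' _ _ _ (map_mul _), hAm, Matrix.smul_mul,
    Matrix.mul_smul, smul_smul] at hgram
  set κ : F := c * Unitary.conjHom hF c
  have hκ : κ ≠ 0 := fun h => by rw [h, zero_smul] at hgram; exact zero_ne_one hgram
  have hAA : ∀ i j, ((Aᵀ * A) i j : F) = κ⁻¹ * if i = j then 1 else 0 := by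
    intro i j
    have h1 := congrFun (congrFun hgram i) j
    rw [Matrix.smul_apply, smul_eq_mul, Matrix.one_apply] at h1
    rw [← h1, ← mul_assoc, inv_mul_cancel₀ hκ, one_mul]
    simp [Matrix.mul_apply]
  have hAA0 : Aᵀ * A = ((Aᵀ * A) 0 0) • 1 := by
    ext i j
    rw [Matrix.smul_apply, smul_eq_mul, Matrix.one_apply]
    push_cast
    rw [hAA, hAA]
    by_cases hij : i = j <;> simp [hij]
  have horth : Aᵀ * A = 1 := by
    have hk : ((Aᵀ * A) 0 0) ≠ 0 := fun h => by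
      have := hAA 0 0
      rw [h] at this
      simp at this
      exact hκ this.symm
    rw [hAA0, kappa_eq_one hc3 hk hAA0, one_smul]
  obtain ⟨π, hπ⟩ := orth_three_monomial hc3 horth
  have hinj : Function.Injective π := by
    intro i j hij
    by_contra hne'
    have h1 := congrFun (congrFun horth i) j
    rw [Matrix.mul_apply, Matrix.one_apply_ne hne', Finset.sum_eq_single (π i)] at h1
    · rcases mul_eq_zero.mp h1 with h | h
      · exact (hπ i).1 h
      · exact (hπ j).1 (hij ▸ h)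
    · intro k _ hk; rw [Matrix.transpose_apply, (hπ i).2 k hk, zero_mul]
    · simp
  have hc0 : c ≠ 0 := fun h => hκ (by simp [κ, h])
  have hge : ∀ i, (g : Matrix (Fin 3) (Fin 3) F) *ᵥ e i = (c * (A (π i) i : F)) • e (π i) := by
    intro i
    have h1 : (M : Matrix (Fin 3) (Fin 3) F) *ᵥ Pi.single i 1 = (c * (A (π i) i : F)) • Pi.single (π i) 1 := by
      funext l
      rw [hA, Matrix.mulVec_single_one]
      by_cases hl : l = π i
      · subst hl; simp
      · simp [hl, (hπ i).2 l hl]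
    have h2 : (g : Matrix (Fin 3) (Fin 3) F) * ((u⁻¹ : GL (Fin 3) F) : Matrix (Fin 3) (Fin 3) F) =
        ((u⁻¹ : GL (Fin 3) F) : Matrix (Fin 3) (Fin 3) F) * (M : Matrix (Fin 3) (Fin 3) F) := by
      rw [← Units.val_mul, ← Units.val_mul, hM]
      simp [mul_assoc]
    show (g : Matrix (Fin 3) (Fin 3) F) *ᵥ (_ *ᵥ Pi.single i 1) = _
    rw [Matrix.mulVec_mulVec, h2, ← Matrix.mulVec_mulVec, h1, Matrix.mulVec_smul]
  refine ⟨Equiv.ofBijective π hinj.bijective_of_finite, fun i => ?_⟩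
  show Submodule.map _ (F ∙ e i) = F ∙ e (π i)
  rw [Submodule.map_span, Set.image_singleton, Matrix.toLin'_apply, hge]
  exact Submodule.span_singleton_smul_eq (isUnit_iff_ne_zero.mpr
    (mul_ne_zero hc0 fun h => (hπ i).1 (Subtype.ext h))) _

end Cfsg.Agent.Aschbacher.SU3
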