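/-
Normalisers of cubic field subalgebras are not maximal in SU₃(3) and SU₃(5).
Main results: `field_core`, `field_false`, `field_five_false`, `field_three_false`.
-/
import Cfsg.Agent.Lib.Aschbacher.SU3Subfield
import Cfsg.Agent.Lib.Aschbacher.SU3NotLe
import Cfsg.Agent.Lib.U33L27.Table

set_option autoImplicit false

namespace Cfsg.Agent.Aschbacher.SU3

open Matrix
open Cfsg.Agent.PrimeDim

variable {F : Type*} [Field F] [Fintype F] {q : ℕ}

local notation "hq" => Cfsg.hermForm 3 F q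
local notation "Γ" => Cfsg.GU 3 F q ⊓ Geo.specialLinear (Fin 3) F

/-- In the small cases the elements of a cubic field normaliser lie over a group of order seven. -/
theorem field_core (hF : Fintype.card F = q ^ 2) (h35 : q = 3 ∨ q = 5) {H : Subgroup (GL (Fin 3) F)}
    (hHΓ : H ≤ Γ) {K : Subalgebra F (Matrix (Fin 3) (Fin 3) F)} (hK : Geo.IsFieldSubalgebra 3 K)
    (hadj : Geo.IsAdjointClosedFor hq K) (hle : H ≤ Geo.subalgebraNormalizer K) :
    Nat.card H ≤ 3 * (q ^ 2 - q + 1) ∧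
      ∃ x ∈ Γ, orderOf x = 7 ∧ ∀ g ∈ H, ∃ k : ℕ, g * x * g⁻¹ = x ^ k := by
  classical
  have HH := Unitary.hermForm_isHerm hF 3
  haveI hp : Fact q.Prime := ⟨by rcases h35 with rfl | rfl <;> norm_num⟩
  have : Finite (Matrix (Fin 3) (Fin 3) F) := inferInstanceAs (Finite (Fin 3 → Fin 3 → F))
  haveI : Finite (GL (Fin 3) F) := Finite.of_injective Units.val Units.val_injective
  haveI hcharF : CharP F q := by
    obtain ⟨p, m, hp', hchar, hqp, hm1⟩ := Unitary.exists_prime_pow hF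
    have hpq : p = q := by
      have h1 : p ∣ q := hqp ▸ dvd_pow_self p (by omega)
      exact (Nat.prime_dvd_prime_iff_eq hp' hp.out).mp h1
    exact hpq ▸ hchar
  have hfield : IsField K := ⟨exists_pair_ne _, fun x y => Subtype.ext (hK.comm _ x.2 _ y.2), fun {x} hx => by
    obtain ⟨y, hy, hxy⟩ := hK.inv _ x.2 (fun h0 => hx (Subtype.ext h0))
    exact ⟨⟨y, hy⟩, Subtype.ext hxy⟩⟩
  letI : Field K := hfield.toField
  have : FiniteDimensional F K := Module.Finite.of_finite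
  have : CharP K q := (Algebra.charP_iff F K q).mp hcharF
  have hcardK : Nat.card K = q ^ 6 := by
    rw [Module.natCard_eq_pow_finrank (K := F) (V := K), hK.finrank_eq, Nat.card_eq_fintype_card, hF, ← pow_mul]
  -- the adjoint
  have hadjU : ∀ k ∈ K, adjU hF k ∈ K := by
    intro k hk
    obtain ⟨k', hk', hkk⟩ := hadj k hk
    have : k' = adjU hF k := by
      refine Matrix.ext_of_mulVec_single fun j => ?_
      by_contra hne
      obtain ⟨u, hu⟩ := ((hermForm_unitary hF).nondegenerate _ (sub_ne_zero.mpr hne)).1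
      refine hu ?_
      have h1 := (hkk u (Pi.single j 1)).symm.trans (herm_adjU hF k u (Pi.single j 1))
      have h2 := HH.add_right hF u (k' *ᵥ Pi.single j 1 - adjU hF k *ᵥ Pi.single j 1) (adjU hF k *ᵥ Pi.single j 1)
      rw [sub_add_cancel, h1] at h2
      linear_combination -h2
    exact this ▸ hk'
  let τ : K →+* K :=
    { toFun := fun k => ⟨adjU hF k, hadjU _ k.2⟩
      map_one' := Subtype.ext (adjU_one hF)
      map_mul' := fun a b => Subtype.ext (by
        show adjU hF ((a : Matrix (Fin 3) (Fin 3) F) * (b : Matrix (Fin 3) (Fin 3) F)) = _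
        rw [adjU_mul]; exact hK.comm _ (hadjU _ b.2) _ (hadjU _ a.2))
      map_zero' := Subtype.ext (by
        show adjU hF (0 : Matrix (Fin 3) (Fin 3) F) = 0
        ext i j; simp [adjU, hp.out.ne_zero])
      map_add' := fun a b => Subtype.ext (adjU_add hF _ _) }
  have hττ : ∀ k, τ (τ k) = k := fun k => Subtype.ext (adjU_adjU hF _)
  have hτF : ∀ c : F, τ (algebraMap F K c) = algebraMap F K (c ^ q) := fun c => Subtype.ext (by
    show adjU hF (algebraMap F (Matrix (Fin 3) (Fin 3) F) c) = algebraMap F (Matrix (Fin 3) (Fin 3) F) (c ^ q)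
    rw [Algebra.algebraMap_eq_smul_one, Algebra.algebraMap_eq_smul_one, adjU_smul, adjU_one])
  obtain ⟨g₀, hg₀⟩ : ∃ g : Kˣ, orderOf g = q ^ 6 - 1 := by
    obtain ⟨g, hg⟩ := IsCyclic.exists_ofOrder_eq_natCard (α := Kˣ)
    exact ⟨g, by rw [hg, Nat.card_units, hcardK]⟩
  have hτpow : ∀ k : K, τ k = k ^ q ^ 3 := by
    letI : Algebra (ZMod q) K := ZMod.algebra K q
    have hcomm : τ.comp (algebraMap (ZMod q) K) = algebraMap (ZMod q) K := Subsingleton.elim _ _
    let τ' : K →ₐ[ZMod q] K :=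
      { τ with commutes' := fun r => RingHom.congr_fun hcomm r }
    obtain ⟨j, hj⟩ := (FiniteField.bijective_frobeniusAlgHom_pow (ZMod q) K).2 τ'
    have hfin : Module.finrank (ZMod q) K = 6 := by
      have h := Module.natCard_eq_pow_finrank (K := ZMod q) (V := K)
      rw [hcardK, Nat.card_zmod] at h
      exact (Nat.pow_right_injective hp.out.two_le h).symm
    have hfr : ∀ (n : ℕ) (k : K), (FiniteField.frobeniusAlgHom (ZMod q) K ^ n) k = k ^ q ^ n := by
      intro n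
      induction n with
      | zero => simp
      | succ n ih =>
        intro k
        rw [pow_succ', AlgHom.mul_apply, ih, FiniteField.frobeniusAlgHom_apply, ZMod.card, ← pow_mul, pow_succ]
    have hτk : ∀ k, τ k = k ^ q ^ (j : ℕ) := fun k => by
      rw [← hfr, show τ k = τ' k from rfl, ← hj]
    have hsq : ((g₀ : K) ^ q ^ (j : ℕ)) ^ q ^ (j : ℕ) = g₀ := by rw [← hτk, ← hτk, hττ]
    have hord : (q ^ 6 - 1) ∣ q ^ (j : ℕ) * q ^ (j : ℕ) - 1 := by
      rw [← hg₀]
      refine orderOf_dvd_of_pow_eq_one (Units.ext ?_)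
      rw [← pow_mul] at hsq
      have hpos : 1 ≤ q ^ (j : ℕ) * q ^ (j : ℕ) :=
        Nat.one_le_iff_ne_zero.mpr (mul_ne_zero (pow_ne_zero _ hp.out.ne_zero) (pow_ne_zero _ hp.out.ne_zero))
      rw [show q ^ (j : ℕ) * q ^ (j : ℕ) = q ^ (j : ℕ) * q ^ (j : ℕ) - 1 + 1 by omega, pow_succ] at hsq
      rw [Units.val_pow_eq_pow_val, Units.val_one]
      exact mul_right_cancel₀ g₀.ne_zero (hsq.trans (one_mul _).symm)
    have hjlt : (j : ℕ) < 6 := lt_of_lt_of_eq j.2 hfin
    have hj3 : (j : ℕ) = 3 := by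
      rcases Nat.eq_zero_or_pos (j : ℕ) with h0 | h0
      · exfalso
        refine Unitary.conjHom_ne_id hF (RingHom.ext fun c => ?_)
        have h1 := hτF c
        rw [hτk, h0, pow_zero, pow_one] at h1
        show Unitary.conjHom hF c = c
        rw [conjHom_apply']
        exact ((algebraMap F K).injective h1).symm
      · rcases h35 with rfl | rfl <;> interval_cases (j : ℕ) <;> first | rfl | norm_num at hord
    intro k
    rw [hτk, hj3]
  -- evaluation at a vector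
  obtain ⟨v, hv⟩ := exists_ne (0 : Fin 3 → F)
  let evl : K →ₗ[F] (Fin 3 → F) :=
    { toFun := fun k => (k : Matrix (Fin 3) (Fin 3) F) *ᵥ v
      map_add' := fun a b => Matrix.add_mulVec _ _ _
      map_smul' := fun c a => Matrix.smul_mulVec c _ _ }
  have hinj : Function.Injective evl := by
    rw [injective_iff_map_eq_zero]
    intro k hk
    by_contra hk0
    obtain ⟨y, -, hy⟩ := hK.inv _ k.2 (fun h0 => hk0 (Subtype.ext h0))
    refine hv ?_
    calc v = (y * (k : Matrix (Fin 3) (Fin 3) F)) *ᵥ v := by rw [mul_eq_one_comm.mp hy, Matrix.one_mulVec]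
      _ = y *ᵥ ((k : Matrix (Fin 3) (Fin 3) F) *ᵥ v) := (Matrix.mulVec_mulVec _ _ _).symm
      _ = 0 := by rw [show (k : Matrix (Fin 3) (Fin 3) F) *ᵥ v = 0 from hk, Matrix.mulVec_zero]
  let e : K ≃ₗ[F] (Fin 3 → F) := LinearEquiv.ofBijective evl ⟨hinj,
    (LinearMap.injective_iff_surjective_of_finrank_eq_finrank (by rw [hK.finrank_eq]; simp)).mp hinj⟩
  have hev : ∀ a b : K, e (a * b) = (a : Matrix (Fin 3) (Fin 3) F) *ᵥ e b := fun a b =>
    (Matrix.mulVec_mulVec v (a : Matrix (Fin 3) (Fin 3) F) (b : Matrix (Fin 3) (Fin 3) F)).symm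
  have hdet : ∀ k : K, algebraMap F K ((k : Matrix (Fin 3) (Fin 3) F).det) =
      k ^ ((q ^ 6 - 1) / (q ^ 2 - 1)) := by
    intro k
    have h1 : (k : Matrix (Fin 3) (Fin 3) F).det = Algebra.norm F k := by
      rw [Algebra.norm_apply, ← LinearMap.det_conj _ e, ← LinearMap.det_toLin']
      congr 1
      refine LinearMap.ext fun w => ?_
      rw [Matrix.toLin'_apply]
      show _ = e (k * e.symm w)
      rw [hev, e.apply_symm_apply]
    rw [h1, FiniteField.algebraMap_norm_eq_pow, hcardK, Nat.card_eq_fintype_card, hF]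
  have hcent : ∀ M : Matrix (Fin 3) (Fin 3) F, (∀ k ∈ K, M * k = k * M) → M ∈ K := by
    intro M hM
    set k := e.symm (M *ᵥ v) with hk
    have hk' : (k : Matrix (Fin 3) (Fin 3) F) *ᵥ v = M *ᵥ v := e.apply_symm_apply _
    have hMk : M = (k : Matrix (Fin 3) (Fin 3) F) := by
      refine Matrix.toLin'.injective (LinearMap.ext fun w => ?_)
      obtain ⟨l, hl⟩ := e.surjective w
      rw [Matrix.toLin'_apply, Matrix.toLin'_apply, ← hl]
      show M *ᵥ ((l : Matrix (Fin 3) (Fin 3) F) *ᵥ v) = (k : Matrix (Fin 3) (Fin 3) F) *ᵥ (_ *ᵥ v)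
      rw [Matrix.mulVec_mulVec, hM _ l.2, ← Matrix.mulVec_mulVec, ← hk', Matrix.mulVec_mulVec,
        Matrix.mulVec_mulVec, hK.comm _ l.2 _ k.2]
    exact hMk ▸ k.2
  -- an element of order seven
  obtain ⟨ξ, hξ⟩ := exists_prime_orderOf_dvd_card' (G := Kˣ) 7 (hp := ⟨by norm_num⟩) (by
    rw [Nat.card_units, hcardK]; rcases h35 with rfl | rfl <;> norm_num)
  have hξ7 : (ξ : K) ^ 7 = 1 := by rw [← Units.val_pow_eq_pow_val, ← hξ, pow_orderOf_eq_one, Units.val_one]
  have hξn : ∀ n : ℕ, 7 ∣ n → (ξ : K) ^ n = 1 := fun n ⟨m, hm⟩ => by rw [hm, pow_mul, hξ7, one_pow]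
  let x : GL (Fin 3) F := Units.map K.val.toMonoidHom ξ
  have hxv : (x : Matrix (Fin 3) (Fin 3) F) = ((ξ : K) : Matrix (Fin 3) (Fin 3) F) := rfl
  have hx7 : orderOf x = 7 := by
    rw [← hξ]
    exact orderOf_injective _ (Units.map_injective Subtype.val_injective) ξ
  have hxΓ : x ∈ Γ := by
    refine ⟨?_, MonoidHom.mem_ker.mpr (Units.ext ?_)⟩
    · refine mem_GU_iff.mpr fun a b => ?_
      have h1 : τ (ξ : K) * (ξ : K) = 1 := by
        rw [hτpow, ← pow_succ]
        exact hξn _ (by rcases h35 with rfl | rfl <;> norm_num)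
      have h2 : adjU hF (x : Matrix (Fin 3) (Fin 3) F) * (x : Matrix (Fin 3) (Fin 3) F) = 1 :=
        congrArg Subtype.val h1
      rw [herm_adjU hF, Matrix.mulVec_mulVec, h2, Matrix.one_mulVec]
    · refine (algebraMap F K).injective ?_
      show algebraMap F K ((x : Matrix (Fin 3) (Fin 3) F).det) = algebraMap F K ((1 : Fˣ) : F)
      rw [Units.val_one, map_one, hxv, hdet]
      exact hξn _ (by rcases h35 with rfl | rfl <;> norm_num)
  refine ⟨?_, x, hxΓ, hx7, fun g hg => ?_⟩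
  · -- the kernel has at most `q² - q + 1` elements
    set m := q ^ 2 - q + 1 with hm
    let φ : H → (K →ₐ[F] K) := fun g => AlgHom.codRestrict ((cj (g : GL (Fin 3) F)).comp K.val) K fun k => by
      show cj (g : GL (Fin 3) F) (k : Matrix (Fin 3) (Fin 3) F) ∈ K
      rw [cj_apply]
      exact (hle g.2 _).mp k.2
    have hφ : ∀ (g : H) (k : K), ((φ g k : K) : Matrix (Fin 3) (Fin 3) F) = cj (g : GL (Fin 3) F) k := fun _ _ => rfl
    let Ker := {g : H // ((g : GL (Fin 3) F) : Matrix (Fin 3) (Fin 3) F) ∈ K}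
    have hkermem : ∀ g g' : H, φ g = φ g' → (((g⁻¹ * g' : H) : GL (Fin 3) F) : Matrix (Fin 3) (Fin 3) F) ∈ K := by
      intro g g' h
      refine hcent _ fun k hk => (cj_eq_self_iff _ _).mp ?_
      have h1 := congrArg Subtype.val (AlgHom.congr_fun h ⟨k, hk⟩)
      rw [hφ, hφ] at h1
      rw [Subgroup.coe_mul, Subgroup.coe_inv, ← cj_cj, ← h1, cj_inv_cj]
    have hKer : Nat.card Ker ≤ m := by
      have hroot : ∀ g : Ker, (⟨_, g.2⟩ : K) ^ m = 1 := by
        intro g
        set κ : K := ⟨_, g.2⟩ with hκ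
        have hgΓ := hHΓ g.1.2
        have h1 : κ ^ (q ^ 3 + 1) = 1 := by
          rw [pow_succ, ← hτpow]
          refine Subtype.ext ?_
          show adjU hF ((g.1 : GL (Fin 3) F) : Matrix (Fin 3) (Fin 3) F) * _ = 1
          rw [adjU_of_mem_GU hF hgΓ.1]
          exact Units.inv_mul _
        have h2 : κ ^ ((q ^ 6 - 1) / (q ^ 2 - 1)) = 1 := by
          rw [← hdet]
          have hd : ((g.1 : GL (Fin 3) F) : Matrix (Fin 3) (Fin 3) F).det = 1 :=
            congrArg Units.val (MonoidHom.mem_ker.mp hgΓ.2)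
          show algebraMap F K _ = 1
          rw [hd, map_one]
        have hg : Nat.gcd (q ^ 3 + 1) ((q ^ 6 - 1) / (q ^ 2 - 1)) = m := by
          rcases h35 with rfl | rfl <;> norm_num [hm]
        rw [← hg]
        exact pow_gcd_eq_one.mpr ⟨h1, h2⟩
      have hm0 : 0 < m := by omega
      let f : Ker → (Polynomial.nthRootsFinset m (1 : K)) := fun g =>
        ⟨⟨_, g.2⟩, (Polynomial.mem_nthRootsFinset hm0 1).mpr (hroot g)⟩
      refine le_trans (Nat.card_le_card_of_injective f fun g g' h => ?_) ?_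
      · exact Subtype.ext (Subtype.ext (Units.ext (congrArg (fun z => ((z.1 : K) : Matrix (Fin 3) (Fin 3) F)) h)))
      · rw [Nat.card_eq_fintype_card, Fintype.card_coe, Polynomial.nthRootsFinset_def]
        exact (Multiset.toFinset_card_le _).trans (Polynomial.card_nthRoots _ _)
    have hrep : ∀ g : H, ∃ r : H, φ r = φ g := fun g => ⟨g, rfl⟩
    let rep : (K →ₐ[F] K) → H := fun a => if h : ∃ r : H, φ r = a then h.choose else 1
    have hrepφ : ∀ g : H, φ (rep (φ g)) = φ g := fun g => by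
      simp only [rep, dif_pos (hrep g)]
      exact (hrep g).choose_spec
    let f : H → (K →ₐ[F] K) × Ker := fun g => (φ g, ⟨(rep (φ g))⁻¹ * g, hkermem _ _ (hrepφ g)⟩)
    have hA : Nat.card (K →ₐ[F] K) = 3 := by
      rw [← Nat.card_eq_of_bijective _ (FiniteField.bijective_frobeniusAlgHom_pow F K), Nat.card_fin, hK.finrank_eq]
    haveI : Finite (K →ₐ[F] K) := Nat.finite_of_card_ne_zero (by rw [hA]; norm_num)
    have hfin : Nat.card ((K →ₐ[F] K) × Ker) ≤ 3 * m := by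
      rw [Nat.card_prod, hA]; exact Nat.mul_le_mul_left 3 hKer
    refine le_trans (Nat.card_le_card_of_injective f fun g g' h => ?_) hfin
    have h1 : φ g = φ g' := congrArg Prod.fst h
    have h2 : (rep (φ g))⁻¹ * g = (rep (φ g'))⁻¹ * g' := congrArg (fun z => z.2.1) h
    rw [h1] at h2
    exact mul_left_cancel h2
  · have hmem : cj g (x : Matrix (Fin 3) (Fin 3) F) ∈ K := by rw [cj_apply]; exact (hle hg _).mp (ξ : K).2
    have hprim : IsPrimitiveRoot (ξ : K) 7 := by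
      rw [← hξ, ← orderOf_units]; exact IsPrimitiveRoot.orderOf _
    obtain ⟨k, -, hk⟩ := hprim.eq_pow_of_pow_eq_one (ξ := (⟨_, hmem⟩ : K)) (Subtype.ext (by
      show cj g (x : Matrix (Fin 3) (Fin 3) F) ^ 7 = 1
      rw [← map_pow, ← Units.val_pow_eq_pow_val, ← hx7, pow_orderOf_eq_one, Units.val_one, map_one]))
    refine ⟨k, Units.ext ?_⟩
    rw [← cj_coe, Units.val_pow_eq_pow_val, hxv]
    exact (congrArg Subtype.val hk).symm

omit [Fintype F] in
theorem mem_normalizer_zpowers [Finite (GL (Fin 3) F)] {y g : GL (Fin 3) F}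
    (h : g * y * g⁻¹ ∈ Subgroup.zpowers y) : g ∈ Subgroup.normalizer (Subgroup.zpowers y : Set (GL (Fin 3) F)) := by
  have hfwd : ∀ (g : GL (Fin 3) F), g * y * g⁻¹ ∈ Subgroup.zpowers y →
      ∀ z ∈ Subgroup.zpowers y, g * z * g⁻¹ ∈ Subgroup.zpowers y := by
    intro g hg z hz
    obtain ⟨n, rfl⟩ := Subgroup.mem_zpowers_iff.mp hz
    rw [← conj_zpow]
    exact zpow_mem hg n
  have hpow : ∀ n : ℕ, ∀ z ∈ Subgroup.zpowers y, g ^ n * z * (g ^ n)⁻¹ ∈ Subgroup.zpowers y := by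
    intro n
    induction n with
    | zero => intro z hz; simpa using hz
    | succ n ih =>
      intro z hz
      have := hfwd g h _ (ih z hz)
      simpa [pow_succ', mul_assoc] using this
  refine Subgroup.mem_normalizer_iff.mpr fun z => ⟨hfwd g h z, fun hz => ?_⟩
  have hpos := orderOf_pos g
  have e : g ^ (orderOf g - 1) = g⁻¹ := by
    refine eq_inv_of_mul_eq_one_left ?_
    rw [← pow_succ, Nat.sub_add_cancel hpos, pow_orderOf_eq_one]
  have := hpow (orderOf g - 1) _ hz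
  rw [e] at this
  simpa [mul_assoc] using this

/-- The criterion against cubic field normalisers. -/
theorem field_false (hF : Fintype.card F = q ^ 2) (h35 : q = 3 ∨ q = 5) {H : Subgroup (GL (Fin 3) F)}
    (hH : Geo.IsMaximalIn Γ H) {K : Subalgebra F (Matrix (Fin 3) (Fin 3) F)} (hK : Geo.IsFieldSubalgebra 3 K)
    (hadj : Geo.IsAdjointClosedFor hq K) (hle : H ≤ Geo.subalgebraNormalizer K)
    {y : GL (Fin 3) F} (hy : y ∈ Γ) (hy7 : orderOf y = 7) (L : Subgroup (GL (Fin 3) F))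
    (T : Set (GL (Fin 3) F)) (hT : 3 * (q ^ 2 - q + 1) ≤ T.ncard)
    (hTmem : ∀ t ∈ T, t ∈ Γ ∧ t ∈ L ∧ t * y * t⁻¹ ∈ Subgroup.zpowers y)
    {a : GL (Fin 3) F} (ha : a ∈ Γ) (haL : a ∈ L) (hay : a * y * a⁻¹ ∉ Subgroup.zpowers y)
    {w : GL (Fin 3) F} (hw : w ∈ Γ) (hwL : w ∉ L) : False := by
  classical
  have : Finite (Matrix (Fin 3) (Fin 3) F) := inferInstanceAs (Finite (Fin 3 → Fin 3 → F))
  haveI : Finite (GL (Fin 3) F) := Finite.of_injective Units.val Units.val_injective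
  obtain ⟨hcard, x, hx, hx7, hxH⟩ := field_core hF h35 hH.1.le hK hadj hle
  -- Sylow conjugacy
  haveI : Fact (Nat.Prime 7) := ⟨by norm_num⟩
  have hfac : (Nat.card ↥Γ).factorization 7 = 1 := by
    obtain ⟨r, hr, hr7⟩ : ∃ r, Nat.card ↥Γ = 7 * r ∧ ¬ 7 ∣ r := by
      rcases h35 with rfl | rfl
      · exact ⟨864, by rw [card_su3 hF]; norm_num, by norm_num⟩
      · exact ⟨54000, by rw [card_su3 hF]; norm_num, by norm_num⟩
    rw [hr, Nat.factorization_mul (by norm_num) (fun h => hr7 (by simp [h])), Finsupp.add_apply,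
      Nat.Prime.factorization_self (by norm_num), Nat.factorization_eq_zero_of_not_dvd hr7]
  have hsyl : ∀ (z : GL (Fin 3) F) (hz : z ∈ Γ), orderOf z = 7 →
      Nat.card (Subgroup.zpowers (⟨z, hz⟩ : ↥Γ)) = 7 ^ (Nat.card ↥Γ).factorization 7 := fun z hz h7 => by
    rw [Nat.card_zpowers, hfac, pow_one, ← Subgroup.orderOf_coe]; exact h7
  obtain ⟨g', hg'⟩ := MulAction.exists_smul_eq ↥Γ (Sylow.ofCard _ (hsyl x hx hx7)) (Sylow.ofCard _ (hsyl y hy hy7))
  set g : GL (Fin 3) F := (g' : GL (Fin 3) F) with hgdef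
  have hgx : g * x * g⁻¹ ∈ Subgroup.zpowers y := by
    have h1 : g' * (⟨x, hx⟩ : ↥Γ) * g'⁻¹ ∈ Subgroup.zpowers (⟨y, hy⟩ : ↥Γ) := by
      have h2 := congrArg (fun P : Sylow 7 ↥Γ => (P : Subgroup ↥Γ)) hg'
      simp only [Sylow.coe_subgroup_smul] at h2
      show _ ∈ ((Sylow.ofCard _ (hsyl y hy hy7) : Sylow 7 ↥Γ) : Subgroup ↥Γ)
      rw [← h2]
      exact Subgroup.smul_mem_pointwise_smul _ _ _ (Subgroup.mem_zpowers _)
    obtain ⟨n, hn⟩ := Subgroup.mem_zpowers_iff.mp h1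
    exact Subgroup.mem_zpowers_iff.mpr ⟨n, by simpa using congrArg Subtype.val hn⟩
  have hzeq : Subgroup.zpowers (g * x * g⁻¹) = Subgroup.zpowers y := by
    refine Subgroup.eq_of_le_of_card_ge (Subgroup.zpowers_le.mpr hgx) ?_
    rw [Nat.card_zpowers, Nat.card_zpowers, hy7,
      show orderOf (g * x * g⁻¹) = 7 from (orderOf_injective (MulAut.conj g).toMonoidHom (MulAut.conj g).injective x).trans hx7]
  have hgU : g ∈ Cfsg.GU 3 F q := g'.2.1
  set N : Subgroup (GL (Fin 3) F) := Subgroup.normalizer (Subgroup.zpowers y : Set (GL (Fin 3) F)) ⊓ Γ with hN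
  have hHN : ∀ h ∈ H, g * h * g⁻¹ ∈ N := by
    intro h hh
    refine ⟨mem_normalizer_zpowers ?_, conj_gamma hgU (hH.1.le hh)⟩
    have hy' : y ∈ Subgroup.zpowers (g * x * g⁻¹) := hzeq ▸ Subgroup.mem_zpowers y
    obtain ⟨n, hn⟩ := Subgroup.mem_zpowers_iff.mp hy'
    obtain ⟨k, hk⟩ := hxH h hh
    suffices hs : g * h * g⁻¹ * (g * x * g⁻¹) * (g * h * g⁻¹)⁻¹ ∈ Subgroup.zpowers (g * x * g⁻¹) by
      have h2 := zpow_mem hs n
      rwa [conj_zpow, hn, hzeq] at h2
    have e : g * h * g⁻¹ * (g * x * g⁻¹) * (g * h * g⁻¹)⁻¹ = g * (h * x * h⁻¹) * g⁻¹ := by group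
    rw [e, hk, ← conj_pow]
    exact pow_mem (Subgroup.mem_zpowers _) k
  have haN : a ∉ N := fun h => hay ((Subgroup.mem_normalizer_iff.mp h.1 y).mp (Subgroup.mem_zpowers y))
  -- the normaliser is exhausted by the conjugate of `H`
  have hNH : ∀ n ∈ N, g⁻¹ * n * g ∈ H := by
    intro n hn
    rcases hH.2 (N.comap (MulAut.conj g).toMonoidHom ⊓ Γ) (fun h hh => ⟨hHN h hh, hH.1.le hh⟩) inf_le_right with
      h | h
    · refine h ▸ ⟨?_, by simpa using conj_gamma (inv_mem hgU) hn.2⟩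
      show g * (g⁻¹ * n * g) * g⁻¹ ∈ N
      simpa [mul_assoc] using hn
    · exfalso
      have h1 : g⁻¹ * a * g ∈ N.comap (MulAut.conj g).toMonoidHom := by
        have h2 : g⁻¹ * a * g ∈ Γ := by simpa using conj_gamma (inv_mem hgU) ha
        exact (h.symm ▸ h2 : g⁻¹ * a * g ∈ N.comap (MulAut.conj g).toMonoidHom ⊓ Γ).1
      exact haN (by simpa [mul_assoc] using (h1 : g * (g⁻¹ * a * g) * g⁻¹ ∈ N))
  have hNcard : Nat.card N ≤ 3 * (q ^ 2 - q + 1) := by
    refine le_trans (Nat.card_le_card_of_injective (fun n : N => (⟨_, hNH n n.2⟩ : H)) fun n n' h => ?_) hcard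
    exact Subtype.ext (mul_left_cancel (mul_right_cancel (congrArg Subtype.val h)))
  have hTN : T = (N : Set (GL (Fin 3) F)) := by
    refine Set.eq_of_subset_of_ncard_le (fun t ht => ⟨mem_normalizer_zpowers (hTmem t ht).2.2, (hTmem t ht).1⟩) ?_
    rw [← Nat.card_coe_set_eq]
    exact hNcard.trans hT
  refine false_of_conj hH hgU L (fun h hh => (hTmem _ (hTN ▸ hHN h hh)).2.1) ha haL (fun h => haN ?_) hw hwL
  simpa [mul_assoc] using hHN _ h

theorem xW_not_normal : ∀ k : Fin 7, ∃ i j, mm aW xW i j ≠ mm (mpow xW k) aW i j := by decide +kernel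

/-- Cubic field normalisers are not maximal in SU₃(5). -/
theorem field_five_false (hF : Fintype.card F = q ^ 2) (h5 : q = 5) {H : Subgroup (GL (Fin 3) F)}
    (hH : Geo.IsMaximalIn Γ H) {K : Subalgebra F (Matrix (Fin 3) (Fin 3) F)} (hK : Geo.IsFieldSubalgebra 3 K)
    (hadj : Geo.IsAdjointClosedFor hq K) (hle : H ≤ Geo.subalgebraNormalizer K) : False := by
  classical
  subst h5
  obtain ⟨S⟩ := exists_sem hF
  obtain ⟨a, hav, ha⟩ := exists_su S hF su_aW
  obtain ⟨x, hxv, hx⟩ := exists_su S hF su_xW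
  obtain ⟨y, hyv, hy⟩ := exists_su S hF su_yW
  obtain ⟨w, hw, hwA, -, -⟩ := exists_not_mem_stab hF
  have hmp : ∀ (g : Fin 3 → Fin 3 → K25) (n : ℕ), evM S (mpow g n) = evM S g ^ n := by
    intro g n
    induction n with
    | zero => rw [pow_zero]; exact evM_id S
    | succ n ih => rw [pow_succ, ← ih, evM_mul]; rfl
  set P := stab (phiA fun x : F => x ^ 5) with hP
  have hxP : x ∈ P := ev_mem_stab S hF (phiA_ev S) (phiA_smul hF) keep_A_x hxv
  have hyP : y ∈ P := ev_mem_stab S hF (phiA_ev S) (phiA_smul hF) keep_A_y hyv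
  have hx7 : orderOf x = 7 := by
    haveI : Fact (Nat.Prime 7) := ⟨by norm_num⟩
    refine orderOf_eq_prime (Units.ext ?_) (fun h => ?_)
    · rw [Units.val_pow_eq_pow_val, hxv, ← hmp, show mpow xW 7 = mpow xW 0 from funext fun i => funext (xW_pow i),
        hmp, pow_zero, Units.val_one]
    · refine xW_ne fun i j => ev_injective S ?_
      have h1 : evM S (mpow xW 1) = evM S (mpow xW 0) := by
        rw [hmp, hmp, pow_one, pow_zero, ← hxv, h, Units.val_one]
      exact congrFun (congrFun h1 i) j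
  have hyx : y * x * y⁻¹ = x ^ 2 := by
    rw [mul_inv_eq_iff_eq_mul]
    refine Units.ext ?_
    rw [Units.val_mul, Units.val_mul, Units.val_pow_eq_pow_val, hyv, hxv, ← hmp, evM_mul, evM_mul,
      show mm yW xW = mm (mpow xW 2) yW from funext fun i => funext (yW_conj i)]
  have hom3 : S.ev omW ^ 3 = 1 := by rw [pow_succ, sq, ← ev_mul, ← ev_mul, omW_facts.1, ev_one]
  have hom0 : ∀ k : Fin 3, S.ev (![1, omW, omW * omW] k) ≠ 0 := by
    have h0 : ∀ k : Fin 3, ![1, omW, omW * omW] k ≠ 0 := by decide +kernel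
    exact fun k h => h0 k (ev_injective S (h.trans (ev_zero S).symm))
  let Z : Fin 3 → GL (Fin 3) F := fun k =>
    Units.map (algebraMap F (Matrix (Fin 3) (Fin 3) F)).toMonoidHom (Units.mk0 _ (hom0 k))
  have hZv : ∀ k, (Z k : Matrix (Fin 3) (Fin 3) F) = S.ev (![1, omW, omW * omW] k) • 1 :=
    fun k => Algebra.algebraMap_eq_smul_one _
  have hZΓ : ∀ k, Z k ∈ Cfsg.GU 3 F 5 ⊓ Geo.specialLinear (Fin 3) F := by
    intro k
    have h2 : ∀ k : Fin 3, ![1, omW, omW * omW] k * K25.conj (![1, omW, omW * omW] k) = 1 ∧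
        ![1, omW, omW * omW] k * ![1, omW, omW * omW] k * ![1, omW, omW * omW] k = 1 := by decide +kernel
    refine ⟨mem_GU_iff.mpr fun u v => ?_, MonoidHom.mem_ker.mpr (Units.ext ?_)⟩
    · rw [hZv, Matrix.smul_mulVec, Matrix.smul_mulVec, Matrix.one_mulVec, Matrix.one_mulVec,
        (Unitary.hermForm_isHerm hF 3).smul_left, (Unitary.hermForm_isHerm hF 3).smul_right, ← mul_assoc,
        ← ev_conj, ← ev_mul, (h2 k).1, ev_one, one_mul]
    · show (Z k : Matrix (Fin 3) (Fin 3) F).det = 1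
      rw [hZv, Matrix.det_smul, Matrix.det_one, mul_one, Fintype.card_fin, pow_succ, sq, ← ev_mul, ← ev_mul,
        (h2 k).2, ev_one]
  have hZP : ∀ k, Z k ∈ P := fun k v => by
    rw [hZv, Matrix.smul_mulVec, Matrix.one_mulVec, phiA_smul hF _ (hom0 k)]
  have hZc : ∀ (k) (h : GL (Fin 3) F), Z k * h * (Z k)⁻¹ = h := fun k h => by
    rw [mul_inv_eq_iff_eq_mul]
    exact Units.ext (by rw [Units.val_mul, Units.val_mul, hZv]; simp)
  let f : Fin 7 × Fin 3 × Fin 3 → GL (Fin 3) F := fun p => Z p.2.2 * (x ^ (p.1 : ℕ) * y ^ (p.2.1 : ℕ))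
  have hf : Function.Injective f := fun p p' h => elt_inj p p' fun i j => ev_injective S (by
    have e : ∀ p, (f p : Matrix (Fin 3) (Fin 3) F) = evM S (elt p) := by
      intro p
      simp only [f, Units.val_mul, Units.val_pow_eq_pow_val, hxv, hyv, hZv, ← hmp, evM_mul, Matrix.smul_mul, one_mul]
      ext i j
      simp [evM, elt, ev_mul]
    exact congrFun (congrFun ((e p).symm.trans ((congrArg Units.val h).trans (e p'))) i) j)
  refine field_false hF (Or.inr rfl) hH hK hadj hle hx hx7 P (Set.range f) ?_ ?_ ha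
    (ev_mem_stab S hF (phiA_ev S) (phiA_smul hF) keep_A_a hav) ?_ hw hwA
  · rw [Set.ncard_range_of_injective hf]; simp
  · rintro _ ⟨p, rfl⟩
    refine ⟨mul_mem (hZΓ _) (mul_mem (pow_mem hx _) (pow_mem hy _)),
      mul_mem (hZP _) (mul_mem (pow_mem hxP _) (pow_mem hyP _)), ?_⟩
    have hyn : ∀ n : ℕ, y ^ n * x * (y ^ n)⁻¹ ∈ Subgroup.zpowers x := by
      intro n
      induction n with
      | zero => simp
      | succ n ih =>
        obtain ⟨m, hm⟩ := Subgroup.mem_zpowers_iff.mp ih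
        have e : y ^ (n + 1) * x * (y ^ (n + 1))⁻¹ = y * (y ^ n * x * (y ^ n)⁻¹) * y⁻¹ := by
          rw [pow_succ']; group
        rw [e, ← hm, ← conj_zpow, hyx]
        exact zpow_mem (pow_mem (Subgroup.mem_zpowers x) 2) m
    obtain ⟨m, hm⟩ := Subgroup.mem_zpowers_iff.mp (hyn p.2.1)
    have e : f p * x * (f p)⁻¹ = Z p.2.2 * (x ^ (p.1 : ℕ) * (y ^ (p.2.1 : ℕ) * x * (y ^ (p.2.1 : ℕ))⁻¹) *
        (x ^ (p.1 : ℕ))⁻¹) * (Z p.2.2)⁻¹ := by simp only [f]; group
    rw [e, hZc, ← hm]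
    exact mul_mem (mul_mem (pow_mem (Subgroup.mem_zpowers x) _) (zpow_mem (Subgroup.mem_zpowers x) m))
      (inv_mem (pow_mem (Subgroup.mem_zpowers x) _))
  · intro hmem
    have hfo : IsOfFinOrder x := orderOf_pos_iff.mp (by rw [hx7]; norm_num)
    obtain ⟨n, hn⟩ := hfo.mem_powers_iff_mem_zpowers.mpr hmem
    simp only at hn
    rw [← pow_mod_orderOf, hx7, eq_mul_inv_iff_mul_eq] at hn
    obtain ⟨i, j, hij⟩ := xW_not_normal ⟨n % 7, Nat.mod_lt _ (by norm_num)⟩
    refine hij (ev_injective S ?_)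
    have h1 : evM S (mm aW xW) = evM S (mm (mpow xW (n % 7)) aW) := by
      rw [← evM_mul, ← evM_mul, hmp, ← hav, ← hxv, ← Units.val_pow_eq_pow_val, ← Units.val_mul, ← Units.val_mul, hn]
    exact congrFun (congrFun h1 i) j

theorem a7_facts : (Schur.cD 2 * Schur.cT 1 * (Schur.cD 2)⁻¹ = Schur.cT 1 ^ 4) ∧ Schur.cT 1 ^ 7 = 1 ∧
    Schur.cD 2 ^ 3 = 1 ∧
    Schur.cW = Schur.cT 6 * (Schur.cW * Schur.cT 1 * Schur.cW⁻¹) ^ 6 * Schur.cT 6 ∧ Schur.cT 1 ^ 6 = Schur.cT 6 := by
  decide +kernel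

/-- Cubic field normalisers are not maximal in SU₃(3). -/
theorem field_three_false (hF : Fintype.card F = q ^ 2) (h3 : q = 3) {H : Subgroup (GL (Fin 3) F)}
    (hH : Geo.IsMaximalIn Γ H) {K : Subalgebra F (Matrix (Fin 3) (Fin 3) F)} (hK : Geo.IsFieldSubalgebra 3 K)
    (hadj : Geo.IsAdjointClosedFor hq K) (hle : H ≤ Geo.subalgebraNormalizer K) : False := by
  classical
  subst h3
  have : Finite (Matrix (Fin 3) (Fin 3) F) := inferInstanceAs (Finite (Fin 3 → Fin 3 → F))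
  haveI : Finite (GL (Fin 3) F) := Finite.of_injective Units.val Units.val_injective
  haveI : Fact (Nat.Prime 3) := ⟨Nat.prime_three⟩
  haveI : CharP F 3 := charP_of_card_eq_prime_pow hF
  obtain ⟨f₀, -, hnc⟩ := Agent.U33L27.exists_hom (F := F) hF
  let φ : Schur.A7 →* GL (Fin 3) F :=
    (Matrix.SpecialLinearGroup.toGL.comp (Cfsg.SU 3 F 3).subtype).comp f₀
  have hφΓ : ∀ g, φ g ∈ Cfsg.GU 3 F 3 ⊓ Geo.specialLinear (Fin 3) F := fun g => by
    rw [← su_toGL_range]
    exact ⟨_, (f₀ g).2, rfl⟩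
  have hnc' : φ (Schur.cT 1) * φ Schur.cW ≠ φ Schur.cW * φ (Schur.cT 1) := fun h => hnc
    (Subtype.ext (Matrix.SpecialLinearGroup.toGL_injective (by
      rw [← map_mul, ← map_mul] at h
      rw [← map_mul, ← map_mul]
      exact h)))
  obtain ⟨hDT, hT7, hD3, hW, hT6⟩ := a7_facts
  set t := φ (Schur.cT 1) with ht
  set d := φ (Schur.cD 2) with hd
  have ht1 : t ≠ 1 := fun h => hnc' (by rw [h, one_mul, mul_one])
  have ht7 : orderOf t = 7 := by
    haveI : Fact (Nat.Prime 7) := ⟨by norm_num⟩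
    exact orderOf_eq_prime (by rw [ht, ← map_pow, hT7, map_one]) ht1
  have hdt : d * t * d⁻¹ = t ^ 4 := by
    rw [hd, ht, ← map_mul, ← map_inv, ← map_mul, hDT, map_pow]
  have hd1 : d ≠ 1 := fun h => by
    rw [h, one_mul, inv_one, mul_one] at hdt
    have h2 : t ^ 3 = 1 := by
      rw [pow_succ' t 3] at hdt
      exact (mul_eq_left.mp hdt.symm)
    have := orderOf_dvd_of_pow_eq_one h2
    rw [ht7] at this
    norm_num at this
  have hd3 : d ^ 3 = 1 := by rw [hd, ← map_pow, hD3, map_one]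
  let f : Fin 7 × Fin 3 → GL (Fin 3) F := fun p => t ^ (p.1 : ℕ) * d ^ (p.2 : ℕ)
  have hf : Function.Injective f := by
    have hcop : Disjoint (Subgroup.zpowers t) (Subgroup.zpowers d) := by
      refine Subgroup.disjoint_of_coprime_natCard ?_
      rw [Nat.card_zpowers, Nat.card_zpowers, ht7,
        show orderOf d = 3 from orderOf_eq_prime hd3 hd1]
      norm_num
    rintro ⟨a, b⟩ ⟨a', b'⟩ h
    simp only [f] at h
    have h1 : (t ^ (a' : ℕ))⁻¹ * t ^ (a : ℕ) = d ^ (b' : ℕ) * (d ^ (b : ℕ))⁻¹ := by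
      rw [eq_mul_inv_iff_mul_eq, mul_assoc, h, ← mul_assoc, inv_mul_cancel, one_mul]
    have h2 : (t ^ (a' : ℕ))⁻¹ * t ^ (a : ℕ) = 1 := Subgroup.disjoint_def.mp hcop
      (mul_mem (inv_mem (pow_mem (Subgroup.mem_zpowers t) _)) (pow_mem (Subgroup.mem_zpowers t) _))
      (h1 ▸ mul_mem (pow_mem (Subgroup.mem_zpowers d) _) (inv_mem (pow_mem (Subgroup.mem_zpowers d) _)))
    have ea : (a : ℕ) = (a' : ℕ) := pow_injOn_Iio_orderOf (by simp [ht7]) (by simp [ht7])
      (inv_mul_eq_one.mp h2).symm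
    have eb : (b : ℕ) = (b' : ℕ) := pow_injOn_Iio_orderOf
      (by simp [show orderOf d = 3 from orderOf_eq_prime hd3 hd1])
      (by simp [show orderOf d = 3 from orderOf_eq_prime hd3 hd1])
      (mul_inv_eq_one.mp (h1.symm.trans h2)).symm
    exact Prod.ext (Fin.ext ea) (Fin.ext eb)
  obtain ⟨w, hw, hwL⟩ : ∃ w ∈ Cfsg.GU 3 F 3 ⊓ Geo.specialLinear (Fin 3) F, w ∉ φ.range := by
    by_contra hc
    simp only [not_exists, not_and, not_not] at hc
    have h1 : Nat.card ↥(Cfsg.GU 3 F 3 ⊓ Geo.specialLinear (Fin 3) F) ≤ Nat.card φ.range :=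
      Subgroup.card_le_of_le hc
    have h2 : Nat.card φ.range ≤ Nat.card Schur.A7 :=
      Nat.card_le_card_of_surjective φ.rangeRestrict φ.rangeRestrict_surjective
    have h3 : Nat.card Schur.A7 ≤ 7 ^ 4 := by
      refine le_trans (Nat.card_le_card_of_injective (β := Fin 2 → Fin 2 → ZMod 7)
        (fun g : Schur.A7 => fun i j => g.1 i j) (fun g g' h => Subtype.ext h)) ?_
      simp [Nat.card_eq_fintype_card]
    have h4 := h1.trans (h2.trans h3)
    rw [card_su3 hF] at h4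
    norm_num at h4
  refine field_false hF (Or.inl rfl) hH hK hadj hle (hφΓ (Schur.cT 1)) ht7 φ.range (Set.range f) ?_ ?_
    (hφΓ Schur.cW) ⟨_, rfl⟩ ?_ hw hwL
  · rw [Set.ncard_range_of_injective hf]; simp
  · rintro _ ⟨⟨a, b⟩, rfl⟩
    refine ⟨mul_mem (pow_mem (hφΓ _) _) (pow_mem (hφΓ _) _),
      mul_mem (pow_mem (MonoidHom.mem_range.mpr ⟨_, rfl⟩) _) (pow_mem (MonoidHom.mem_range.mpr ⟨_, rfl⟩) _), ?_⟩
    have hdn : ∀ n : ℕ, d ^ n * t * (d ^ n)⁻¹ ∈ Subgroup.zpowers t := by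
      intro n
      induction n with
      | zero => simp
      | succ n ih =>
        obtain ⟨m, hm⟩ := Subgroup.mem_zpowers_iff.mp ih
        have e : d ^ (n + 1) * t * (d ^ (n + 1))⁻¹ = d * (d ^ n * t * (d ^ n)⁻¹) * d⁻¹ := by
          rw [pow_succ']; group
        rw [e, ← hm, ← conj_zpow, hdt]
        exact zpow_mem (pow_mem (Subgroup.mem_zpowers t) 4) m
    obtain ⟨m, hm⟩ := Subgroup.mem_zpowers_iff.mp (hdn b)
    have e : f (a, b) * t * (f (a, b))⁻¹ =
        t ^ (a : ℕ) * (d ^ (b : ℕ) * t * (d ^ (b : ℕ))⁻¹) * (t ^ (a : ℕ))⁻¹ := by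
      simp only [f]; group
    rw [e, ← hm]
    exact mul_mem (mul_mem (pow_mem (Subgroup.mem_zpowers t) _) (zpow_mem (Subgroup.mem_zpowers t) m))
      (inv_mem (pow_mem (Subgroup.mem_zpowers t) _))
  · intro hmem
    refine hnc' ?_
    obtain ⟨m, hm⟩ := Subgroup.mem_zpowers_iff.mp hmem
    have hm' : φ Schur.cW * t * (φ Schur.cW)⁻¹ = t ^ m := hm.symm
    have hWeq : φ Schur.cW = t ^ 6 * (t ^ m) ^ 6 * t ^ 6 := by
      conv_lhs => rw [hW]
      simp only [map_mul, map_inv, ← ht, hm', ← hT6, map_pow]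
    rw [hWeq]
    have hc : Commute t (t ^ 6 * (t ^ m) ^ 6 * t ^ 6) :=
      ((Commute.pow_right (Commute.refl t) 6).mul_right
        (Commute.pow_right (Commute.zpow_right (Commute.refl t) m) 6)).mul_right
        (Commute.pow_right (Commute.refl t) 6)
    exact hc

end Cfsg.Agent.Aschbacher.SU3
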