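/-
The normaliser of the Heisenberg group is not maximal in SU₃(5).
Main results: `heis_five_false`.
-/
import Cfsg.Agent.Lib.Aschbacher.SU3Subfield
import Cfsg.Agent.Lib.Aschbacher.SU3NotLe

set_option autoImplicit false

namespace Cfsg.Agent.Aschbacher.SU3

open Matrix
open Cfsg.Agent.PrimeDim

/-- The table identity. -/
def idT : Fin 3 → Fin 3 → K25 := fun i j => if i = j then 1 else 0

/-- The table diagonal generator. -/
def dT : Fin 3 → Fin 3 → K25 := ![![1, 0, 0], ![0, omW, 0], ![0, 0, omW * omW]]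

/-- The table permutation generator. -/
def cT3 : Fin 3 → Fin 3 → K25 := ![![0, 0, 1], ![1, 0, 0], ![0, 1, 0]]

/-- Powers of the cube root. -/
def omT : Fin 3 → K25 := ![1, omW, omW * omW]

/-- The product `D^i C^j`. -/
def ecT (i j : Fin 3) : Fin 3 → Fin 3 → K25 := mm (mpow dT i) (mpow cT3 j)

/-- The character tables scaled to determinant one. -/
def genT : Bool → Fin 3 → Fin 3 → K25
  | false => fun i j => ⟨0, 2⟩ * vW i j
  | true => fun i j => ⟨0, 2⟩ * vW2 i j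

/-- A product of generators. -/
def wordT : List Bool → Fin 3 → Fin 3 → K25
  | [] => idT
  | t :: l => mm (genT t) (wordT l)

/-- Words carrying `D^i C^j` to a multiple of `D`. -/
def words : Fin 3 → Fin 3 → List Bool :=
  ![![[], [false], [false, false, false]], ![[], [true], [false, true]],
    ![[false, false], [true, false], [false, false, true]]]

theorem su_gen : ∀ t, isSU (genT t) := by decide +kernel
theorem keep_M_gen : ∀ t, Keeps (phiM K25.conj) (genT t) := by decide +kernel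
theorem su_dT : isSU dT := by decide +kernel
theorem keep_M_dT : Keeps (phiM K25.conj) dT := by decide +kernel
theorem su_cT3 : isSU cT3 := by decide +kernel
theorem keep_M_cT3 : Keeps (phiM K25.conj) cT3 := by decide +kernel

theorem word_conj : ∀ i j : Fin 3, (i ≠ 0 ∨ j ≠ 0) → ∃ k : Fin 3, ∀ a b,
    mm (wordT (words i j)) (ecT i j) a b = omT k * mm dT (wordT (words i j)) a b := by decide +kernel

theorem gen_dT : ∀ t, ∃ i j k : Fin 3, ∀ a b, mm (genT t) dT a b = omT k * mm (ecT i j) (genT t) a b := by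
  decide +kernel

theorem gen_cT3 : ∀ t, ∃ i j k : Fin 3, ∀ a b, mm (genT t) cT3 a b = omT k * mm (ecT i j) (genT t) a b := by
  decide +kernel

variable {F : Type*} [Field F]

section Heis

variable {c : F} (hc3 : c ^ 3 = 1)

include hc3

theorem dd_cc : dd c * cc = c • (cc * dd c) := by
  ext i j
  fin_cases i <;> fin_cases j <;> simp [dd, cc, Matrix.mul_apply, Fin.sum_univ_three] <;>
    first | rfl | (linear_combination (1 : F) * hc3) | (linear_combination (-1 : F) * hc3) | ring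

theorem dd_pow_three : dd c ^ 3 = 1 := by
  rw [dd, Matrix.diagonal_pow, ← Matrix.diagonal_one]
  congr 1
  funext i
  fin_cases i <;> simp [hc3]
  linear_combination (c ^ 3 + 1) * hc3

theorem dd_pow_cc_pow (n k : ℕ) : dd c ^ k * cc ^ n = c ^ (n * k) • (cc ^ n * dd c ^ k) := by
  have hn : ∀ n : ℕ, dd c * cc ^ n = c ^ n • (cc ^ n * dd c) := by
    intro n
    induction n with
    | zero => simp
    | succ n ih => rw [pow_succ, ← mul_assoc, ih, Matrix.smul_mul, mul_assoc, dd_cc hc3, Matrix.mul_smul, smul_smul,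
        ← mul_assoc, ← pow_succ]
  induction k with
  | zero => simp
  | succ k ih =>
    rw [pow_succ, mul_assoc, hn, Matrix.mul_smul, ← mul_assoc, ih, Matrix.smul_mul, smul_smul, mul_assoc,
      ← pow_add, show n + n * k = n * (k + 1) by ring]

theorem cc_pow_dd_pow (n k : ℕ) : cc ^ n * dd c ^ k = c ^ (2 * (n * k)) • (dd c ^ k * cc ^ n) := by
  rw [dd_pow_cc_pow hc3, smul_smul, ← pow_add, show 2 * (n * k) + n * k = 3 * (n * k) by ring, pow_mul, hc3,
    one_pow, one_smul]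

end Heis

/-- A scalar multiple of `D^i C^j`. -/
def InHeis (c : F) (M : Matrix (Fin 3) (Fin 3) F) : Prop := ∃ (a : F) (i j : ℕ), M = a • (dd c ^ i * cc ^ j)

theorem InHeis.mul {c : F} (hc3 : c ^ 3 = 1) {M M' : Matrix (Fin 3) (Fin 3) F} (h : InHeis c M)
    (h' : InHeis c M') : InHeis c (M * M') := by
  obtain ⟨a, i, j, rfl⟩ := h
  obtain ⟨b, k, l, rfl⟩ := h'
  refine ⟨a * b * c ^ (2 * (j * k)), i + k, j + l, ?_⟩
  rw [Matrix.smul_mul, Matrix.mul_smul, smul_smul, ← mul_assoc, mul_assoc _ (cc ^ j) (dd c ^ k),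
    cc_pow_dd_pow hc3, Matrix.mul_smul, Matrix.smul_mul, smul_smul, pow_add, pow_add]
  simp only [mul_assoc]

/-- The matrix normalises the Heisenberg set. -/
def Nrm (c : F) (g : Matrix (Fin 3) (Fin 3) F) : Prop :=
  ∀ G, InHeis c G → ∃ G', InHeis c G' ∧ g * G = G' * g

theorem Nrm.mul {c : F} {g g' : Matrix (Fin 3) (Fin 3) F} (h : Nrm c g) (h' : Nrm c g') : Nrm c (g * g') := by
  intro G hG
  obtain ⟨G₁, hG₁, e₁⟩ := h' G hG
  obtain ⟨G₂, hG₂, e₂⟩ := h G₁ hG₁
  exact ⟨G₂, hG₂, by rw [mul_assoc, e₁, ← mul_assoc, e₂, mul_assoc]⟩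

theorem nrm_of_gens {c : F} (hc3 : c ^ 3 = 1) {g : Matrix (Fin 3) (Fin 3) F}
    (hd : ∃ G, InHeis c G ∧ g * dd c = G * g) (hc : ∃ G, InHeis c G ∧ g * cc = G * g) : Nrm c g := by
  have hone : InHeis c 1 := ⟨1, 0, 0, by simp⟩
  have hpow : ∀ {A : Matrix (Fin 3) (Fin 3) F}, (∃ G, InHeis c G ∧ g * A = G * g) →
      ∀ n : ℕ, ∃ G, InHeis c G ∧ g * A ^ n = G * g := by
    rintro A ⟨G, hG, e⟩ n
    induction n with
    | zero => exact ⟨1, hone, by simp⟩
    | succ n ih =>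
      obtain ⟨G', hG', e'⟩ := ih
      exact ⟨G' * G, hG'.mul hc3 hG, by rw [pow_succ, ← mul_assoc, e', mul_assoc, e, mul_assoc]⟩
  rintro _ ⟨a, i, j, rfl⟩
  obtain ⟨G₁, hG₁, e₁⟩ := hpow hd i
  obtain ⟨G₂, hG₂, e₂⟩ := hpow hc j
  obtain ⟨b, k, l, hb⟩ := hG₁.mul hc3 hG₂
  refine ⟨a • (G₁ * G₂), ⟨a * b, k, l, by rw [hb, smul_smul]⟩, ?_⟩
  rw [Matrix.mul_smul, ← mul_assoc, e₁, mul_assoc, e₂, ← mul_assoc, Matrix.smul_mul]

variable [Fintype F]

section Five

variable (hF : Fintype.card F = 5 ^ 2) (S : K25.Sem F)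

local notation "ω" => K25.Sem.ev S omW
local notation "Γ5" => Cfsg.GU 3 F 5 ⊓ Geo.specialLinear (Fin 3) F

omit [Fintype F] in
theorem om_facts : ω ^ 3 = 1 ∧ ω ≠ 1 := by
  refine ⟨?_, fun h => omW_facts.2 (ev_injective S (h.trans (ev_one S).symm))⟩
  rw [pow_succ, sq, ← ev_mul, ← ev_mul, omW_facts.1, ev_one]

omit [Fintype F] in
theorem evM_dT : evM S dT = dd ω := by
  ext i j
  fin_cases i <;> fin_cases j <;> simp [evM, dT, dd, ev_one, ev_zero, ev_mul, sq]

omit [Fintype F] in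
theorem evM_cT3 : evM S cT3 = cc := by
  ext i j
  fin_cases i <;> fin_cases j <;> simp [evM, cT3, cc, ev_one, ev_zero]

omit [Fintype F] in
theorem evM_mpow (g : Fin 3 → Fin 3 → K25) (n : ℕ) : evM S (mpow g n) = evM S g ^ n := by
  induction n with
  | zero => rw [pow_zero]; exact evM_id S
  | succ n ih => rw [pow_succ, ← ih, evM_mul]; rfl

omit [Fintype F] in
theorem evM_ecT (i j : Fin 3) : evM S (ecT i j) = dd ω ^ (i : ℕ) * cc ^ (j : ℕ) := by
  rw [ecT, ← evM_mul, evM_mpow, evM_mpow, evM_dT, evM_cT3]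

omit [Fintype F] in
theorem evM_rel {k : K25} {M N : Fin 3 → Fin 3 → K25} (h : ∀ a b, M a b = k * N a b) :
    evM S M = S.ev k • evM S N := by
  ext a b
  simp [evM, h, ev_mul]

omit [Fintype F] in
theorem gen_nrm (t : Bool) : Nrm ω (evM S (genT t)) := by
  refine nrm_of_gens (om_facts S).1 ?_ ?_
  · obtain ⟨i, j, k, h⟩ := gen_dT t
    refine ⟨S.ev (omT k) • (dd ω ^ (i : ℕ) * cc ^ (j : ℕ)), ⟨_, _, _, rfl⟩, ?_⟩
    rw [← evM_dT, evM_mul, evM_rel S h, ← evM_mul, evM_ecT, evM_dT, Matrix.smul_mul]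
  · obtain ⟨i, j, k, h⟩ := gen_cT3 t
    refine ⟨S.ev (omT k) • (dd ω ^ (i : ℕ) * cc ^ (j : ℕ)), ⟨_, _, _, rfl⟩, ?_⟩
    rw [← evM_cT3, evM_mul, evM_rel S h, ← evM_mul, evM_ecT, evM_cT3, Matrix.smul_mul]

include hF

theorem word_elem : ∀ l : List Bool, ∃ Y ∈ Γ5, Y ∈ stab (phiM fun x : F => x ^ 5) ∧
    ((Y : GL (Fin 3) F) : Matrix (Fin 3) (Fin 3) F) = evM S (wordT l) ∧ Nrm ω (evM S (wordT l))
  | [] => ⟨1, one_mem _, one_mem _, by rw [Units.val_one]; exact (evM_id S).symm,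
      fun G hG => ⟨G, hG, by rw [show evM S (wordT []) = 1 from evM_id S, one_mul, mul_one]⟩⟩
  | t :: l => by
    obtain ⟨Y, hY, hYs, hYv, hYn⟩ := word_elem l
    obtain ⟨Z, hZv, hZ⟩ := exists_su S hF (su_gen t)
    refine ⟨Z * Y, mul_mem hZ hY, mul_mem (ev_mem_stab S hF (phiM_ev S) (phiM_smul hF) (keep_M_gen t) hZv) hYs,
      by rw [Units.val_mul, hZv, hYv, evM_mul]; rfl, ?_⟩
    rw [wordT, ← evM_mul]
    exact (gen_nrm S t).mul hYn

/-- An element of SU₃(5) normalising the Heisenberg set keeps the third point set. -/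
theorem nrm_mem_stab {M : GL (Fin 3) F} (hM : M ∈ Γ5)
    (hn : Nrm ω (M : Matrix (Fin 3) (Fin 3) F)) : M ∈ stab (phiM fun x : F => x ^ 5) := by
  obtain ⟨hω3, hω1⟩ := om_facts S
  have hω0 : ω ≠ 0 := fun h => by simp [h] at hω3
  obtain ⟨_, ⟨a, i, j, rfl⟩, hMD⟩ := hn (dd ω) ⟨1, 1, 0, by simp⟩
  have hcc3 : (cc : Matrix (Fin 3) (Fin 3) F) ^ 3 = 1 := by
    rw [← evM_cT3 S, ← evM_mpow, ← evM_id S]; congr 1; funext x y; revert x y; decide +kernel
  rw [pow_eq_pow_mod i (dd_pow_three hω3), pow_eq_pow_mod j hcc3] at hMD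
  let i' : Fin 3 := ⟨i % 3, Nat.mod_lt _ (by norm_num)⟩
  let j' : Fin 3 := ⟨j % 3, Nat.mod_lt _ (by norm_num)⟩
  have hne : i' ≠ 0 ∨ j' ≠ 0 := by
    by_contra hc
    simp only [not_or, not_not] at hc
    rw [show i % 3 = 0 from congrArg Fin.val hc.1, show j % 3 = 0 from congrArg Fin.val hc.2, pow_zero, pow_zero,
      one_mul, Matrix.smul_mul, one_mul] at hMD
    have h1 : dd ω = a • (1 : Matrix (Fin 3) (Fin 3) F) := by
      have h2 := congrArg (((M⁻¹ : GL (Fin 3) F) : Matrix (Fin 3) (Fin 3) F) * ·) hMD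
      simpa [← mul_assoc] using h2
    have e0 := congrFun (congrFun h1 0) 0
    have e1 := congrFun (congrFun h1 1) 1
    simp [dd] at e0 e1
    exact hω1 (e1.trans e0.symm)
  obtain ⟨k, hk⟩ := word_conj i' j' hne
  obtain ⟨Y, hY, hYs, hYv, hYn⟩ := word_elem hF S (words i' j')
  have hYrel : (Y : Matrix (Fin 3) (Fin 3) F) * (dd ω ^ (i % 3) * cc ^ (j % 3)) =
      S.ev (omT k) • (dd ω * (Y : Matrix (Fin 3) (Fin 3) F)) := by
    rw [hYv, show dd ω ^ (i % 3) * cc ^ (j % 3) = evM S (ecT i' j') from (evM_ecT S i' j').symm, evM_mul,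
      evM_rel S hk, ← evM_mul, evM_dT]
  set N : GL (Fin 3) F := Y * M with hN
  have hND : ∃ a' : F, (N : Matrix (Fin 3) (Fin 3) F) * dd ω = a' • (dd ω * (N : Matrix (Fin 3) (Fin 3) F)) := by
    refine ⟨a * S.ev (omT k), ?_⟩
    rw [hN, Units.val_mul, mul_assoc, hMD, Matrix.smul_mul, Matrix.mul_smul, ← mul_assoc, hYrel, Matrix.smul_mul,
      smul_smul, mul_assoc]
  obtain ⟨a', hND⟩ := hND
  obtain ⟨k0, hk0⟩ : ∃ k0 : Fin 3, (N : Matrix (Fin 3) (Fin 3) F) k0 0 ≠ 0 := by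
    by_contra hc
    simp only [not_exists, not_not] at hc
    have h1 : (N : Matrix (Fin 3) (Fin 3) F) *ᵥ Pi.single 0 1 = 0 := by
      rw [Matrix.mulVec_single_one]; funext l; exact hc l
    have h2 := congrArg (((N⁻¹ : GL (Fin 3) F) : Matrix (Fin 3) (Fin 3) F) *ᵥ ·) h1
    simp only [Matrix.mulVec_mulVec, Units.inv_mul, Matrix.one_mulVec, Matrix.mulVec_zero] at h2
    simpa using congrFun h2 0
  have ha' : a' * ω ^ (k0 : ℕ) = 1 := by
    have h1 := congrFun (congrFun hND k0) 0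
    rw [Matrix.smul_apply, dd, Matrix.mul_diagonal, Matrix.diagonal_mul, smul_eq_mul] at h1
    have e : ![1, ω, ω ^ 2] k0 = ω ^ (k0 : ℕ) := by fin_cases k0 <;> simp
    rw [e] at h1
    simp at h1
    refine mul_right_cancel₀ hk0 ?_
    linear_combination -h1
  obtain ⟨C, hCv, hC⟩ := exists_su S hF su_cT3
  rw [evM_cT3] at hCv
  have hCs : C ∈ stab (phiM fun x : F => x ^ 5) :=
    ev_mem_stab S hF (phiM_ev S) (phiM_smul hF) keep_M_cT3 (by rw [evM_cT3]; exact hCv)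
  set n : ℕ := 3 - (k0 : ℕ) with hn'
  have hn3 : n + (k0 : ℕ) = 3 := Nat.sub_add_cancel k0.2.le
  set N' : GL (Fin 3) F := C ^ n * N with hN'
  have hN'v : (N' : Matrix (Fin 3) (Fin 3) F) = cc ^ n * (N : Matrix (Fin 3) (Fin 3) F) := by
    rw [hN', Units.val_mul, Units.val_pow_eq_pow_val, hCv]
  have hN'D : (N' : Matrix (Fin 3) (Fin 3) F) * dd ω = dd ω * (N' : Matrix (Fin 3) (Fin 3) F) := by
    have h1 := dd_pow_cc_pow hω3 n 1
    rw [pow_one, mul_one] at h1
    rw [hN'v, mul_assoc, hND, Matrix.mul_smul, ← mul_assoc (dd ω), h1, Matrix.smul_mul, mul_assoc]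
    congr 1
    refine mul_right_cancel₀ (pow_ne_zero (k0 : ℕ) hω0) ?_
    rw [ha', ← pow_add, hn3, hω3]
  have hN'Γ : N' ∈ Γ5 := mul_mem (pow_mem hC n) (mul_mem hY hM)
  have hN'n : Nrm ω (N' : Matrix (Fin 3) (Fin 3) F) := by
    have hCn : Nrm ω (cc : Matrix (Fin 3) (Fin 3) F) := by
      refine nrm_of_gens hω3 ⟨(ω ^ 2) • dd ω, ⟨ω ^ 2, 1, 0, by simp⟩, ?_⟩ ⟨cc, ⟨1, 0, 1, by simp⟩, rfl⟩
      rw [Matrix.smul_mul, ← one_smul F (cc * dd ω), ← hω3, pow_succ, ← smul_smul, ← dd_cc hω3]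
    rw [hN'v, hN, Units.val_mul, hYv]
    have : ∀ m : ℕ, Nrm ω ((cc : Matrix (Fin 3) (Fin 3) F) ^ m) := by
      intro m
      induction m with
      | zero => exact fun G hG => ⟨G, hG, by simp⟩
      | succ m ih => rw [pow_succ]; exact ih.mul hCn
    exact (this n).mul (hYn.mul hn)
  -- `N'` is diagonal
  have hinj : ∀ x y : Fin 3, ![1, ω, ω ^ 2] x = ![1, ω, ω ^ 2] y → x = y := by
    have h2 : ω ^ 2 ≠ 1 := fun h => hω1 (by linear_combination hω3 - ω * h)
    have hcs : ω ≠ ω ^ 2 := fun h => hω1 (mul_left_cancel₀ hω0 (by rw [mul_one, ← sq]; exact h.symm))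
    intro x y
    fin_cases x <;> fin_cases y <;> simp [hω1, hω1.symm, h2, h2.symm, hcs, hcs.symm]
  set d : Fin 3 → F := fun l => (N' : Matrix (Fin 3) (Fin 3) F) l l with hd
  have hdiag : (N' : Matrix (Fin 3) (Fin 3) F) = Matrix.diagonal d := by
    ext x y
    by_cases hxy : x = y
    · subst hxy; simp [hd]
    · rw [Matrix.diagonal_apply_ne _ hxy]
      have h := congrFun (congrFun hN'D x) y
      rw [dd, Matrix.mul_diagonal, Matrix.diagonal_mul] at h
      by_contra h0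
      exact hxy (hinj x y (mul_right_cancel₀ h0 (by linear_combination -h)))
  have hdet : d 0 * d 1 * d 2 = 1 := by
    have h := congrArg Units.val (MonoidHom.mem_ker.mp hN'Γ.2)
    rw [show ((Matrix.GeneralLinearGroup.det N' : Fˣ) : F) = (N' : Matrix (Fin 3) (Fin 3) F).det from rfl, hdiag,
      Matrix.det_diagonal, Fin.prod_univ_three] at h
    exact h
  have hd0 : d 0 ≠ 0 := fun h => by simp [h] at hdet
  have hd1 : d 1 ≠ 0 := fun h => by simp [h] at hdet
  have hnorm : d 0 * d 0 ^ 5 = 1 := by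
    have h := congrFun (congrFun (gram_of_mem_GU hF hN'Γ.1) 0) 0
    rw [mul_one, hdiag, Matrix.diagonal_transpose, Matrix.diagonal_map (map_zero _), Matrix.diagonal_mul_diagonal,
      Matrix.diagonal_apply_eq, Matrix.one_apply_eq, conjHom_apply'] at h
    exact h
  obtain ⟨_, ⟨b, i₂, j₂, rfl⟩, hN'C⟩ := hN'n cc ⟨1, 0, 1, by simp⟩
  rw [pow_eq_pow_mod j₂ hcc3, hdiag] at hN'C
  obtain ⟨i₀, hi₀⟩ : ∃ i₀, i₂ = i₀ := ⟨_, rfl⟩
  have e10 := congrFun (congrFun hN'C 1) 0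
  have e21 := congrFun (congrFun hN'C 2) 1
  have e02 := congrFun (congrFun hN'C 0) 2
  have hlt : j₂ % 3 < 3 := Nat.mod_lt _ (by norm_num)
  interval_cases hm : j₂ % 3
  · exfalso
    simp [dd, Matrix.diagonal_pow, cc] at e10
    exact hd1 e10
  swap
  · exfalso
    simp [dd, Matrix.diagonal_pow, cc, sq, Matrix.mul_apply, Fin.sum_univ_three] at e10
    exact hd1 e10
  simp [dd, Matrix.diagonal_pow, cc, Matrix.mul_apply, Fin.sum_univ_three] at e10 e21 e02
  subst hi₀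
  have hsq : ω ^ (2 * i₂) = (ω ^ i₂) ^ 2 := by rw [← pow_mul, mul_comm]
  rw [← pow_mul] at e21
  rw [hsq] at e21
  set z := ω ^ i₂ with hz
  have hz3 : z ^ 3 = 1 := by rw [hz, ← pow_mul, mul_comm, pow_mul, hω3, one_pow]
  have hb3 : b ^ 3 = 1 := by
    refine mul_right_cancel₀ hd0 ?_
    linear_combination (-1 : F) * e02 - b * e21 - b ^ 2 * z ^ 2 * e10 - b ^ 3 * d 0 * hz3
  have hzd : d 0 ^ 3 * z = 1 := by
    linear_combination hdet - (d 0 * d 2 + d 0 ^ 2 * z ^ 3 * b ^ 2) * e10 - d 0 * (b * z * d 0) * e21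
      - (z ^ 4 * d 0 ^ 3) * hb3 - (z * d 0 ^ 3) * hz3
  have hz1 : z = 1 := by
    have : z ^ 2 = 1 := by linear_combination (d 0 ^ 3 * z + 1) * hzd - z ^ 2 * hnorm
    linear_combination hz3 - z * this
  obtain ⟨m, hm'⟩ : ∃ m : ℕ, b = ω ^ m := by
    have hsum : 1 + ω + ω ^ 2 = 0 := by
      have : (ω - 1) * (1 + ω + ω ^ 2) = 0 := by linear_combination hω3
      exact (mul_eq_zero.mp this).resolve_left (sub_ne_zero.mpr hω1)
    have : (b - 1) * ((b - ω) * (b - ω ^ 2)) = 0 := by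
      linear_combination hb3 + (b - b ^ 2) * hsum + (b - 1) * hω3
    rcases mul_eq_zero.mp this with h | h
    · exact ⟨0, by rw [pow_zero]; exact sub_eq_zero.mp h⟩
    · rcases mul_eq_zero.mp h with h | h
      · exact ⟨1, by rw [pow_one]; exact sub_eq_zero.mp h⟩
      · exact ⟨2, sub_eq_zero.mp h⟩
  obtain ⟨Dg, hDv, -⟩ := exists_su S hF su_dT
  have hDs : Dg ∈ stab (phiM fun x : F => x ^ 5) := ev_mem_stab S hF (phiM_ev S) (phiM_smul hF) keep_M_dT hDv
  rw [evM_dT] at hDv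
  rw [hz1] at e10 e21
  have hN'eq : (N' : Matrix (Fin 3) (Fin 3) F) = d 0 • ((Dg ^ m : GL (Fin 3) F) : Matrix (Fin 3) (Fin 3) F) := by
    rw [Units.val_pow_eq_pow_val, hDv, hdiag, dd, Matrix.diagonal_pow, ← Matrix.diagonal_smul]
    congr 1
    funext l
    fin_cases l
    · simp
    · simp [← hm']
      linear_combination e10
    · simp
      rw [← pow_mul, mul_comm 2 m, pow_mul, ← hm']
      linear_combination e21 + b * e10
  have hN's : N' ∈ stab (phiM fun x : F => x ^ 5) := by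
    intro v
    rw [hN'eq, Matrix.smul_mulVec, phiM_smul hF (d 0) hd0]
    exact (pow_mem hDs m) v
  have : M = Y⁻¹ * ((C ^ n)⁻¹ * N') := by simp [hN', hN, mul_assoc]
  rw [this]
  exact mul_mem (inv_mem hYs) (mul_mem (inv_mem (pow_mem hCs n)) hN's)

end Five

/-- Normalisers of the Heisenberg group are not maximal in SU₃(5). -/
theorem heis_five_false {q : ℕ} (hF : Fintype.card F = q ^ 2) (h5 : q = 5) {H R : Subgroup (GL (Fin 3) F)}
    (hH : Geo.IsMaximalIn (Cfsg.GU 3 F q ⊓ Geo.specialLinear (Fin 3) F) H) (hR : IsExtraspecialData H R) :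
    False := by
  subst h5
  obtain ⟨S⟩ := exists_sem hF
  obtain ⟨hω3, hω1⟩ := om_facts S
  obtain ⟨u, c, x, y, hu, hc3, hc1, hx, hy, hX, hY, hall⟩ :=
    heis_normal_form hF hR (hR.le.trans (hH.1.le.trans inf_le_left))
  -- replace `c` by the table root
  obtain ⟨x', hx', hX', hall'⟩ : ∃ x' ∈ R, cj u (x' : Matrix (Fin 3) (Fin 3) F) = dd (S.ev omW) ∧
      ∀ r ∈ R, InHeis (S.ev omW) (cj u (r : Matrix (Fin 3) (Fin 3) F)) := by
    set w := S.ev omW with hw
    have hcase : c = w ∨ c = w ^ 2 := by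
      have hsum : 1 + w + w ^ 2 = 0 := by
        have : (w - 1) * (1 + w + w ^ 2) = 0 := by linear_combination hω3
        exact (mul_eq_zero.mp this).resolve_left (sub_ne_zero.mpr hω1)
      have : (c - 1) * ((c - w) * (c - w ^ 2)) = 0 := by
        linear_combination hc3 + (c - c ^ 2) * hsum + (c - 1) * hω3
      rcases mul_eq_zero.mp this with h | h
      · exact absurd (sub_eq_zero.mp h) hc1
      · exact (mul_eq_zero.mp h).imp sub_eq_zero.mp sub_eq_zero.mp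
    rcases hcase with rfl | rfl
    · exact ⟨x, hx, hX, fun r hr => hall r hr⟩
    · have e : dd (w ^ 2) = dd w ^ 2 := by
        rw [dd, dd, Matrix.diagonal_pow]
        congr 1
        funext l
        fin_cases l <;> simp
      refine ⟨x ^ 2, pow_mem hx 2, ?_, fun r hr => ?_⟩
      · rw [Units.val_pow_eq_pow_val, map_pow, hX, e, ← pow_mul, show 2 * 2 = 3 + 1 by norm_num, pow_succ,
          dd_pow_three hω3, one_mul]
      · obtain ⟨a, i, j, h⟩ := hall r hr
        exact ⟨a, 2 * i, j, by rw [h, e, ← pow_mul]⟩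
  have hnrm : ∀ g ∈ H, Nrm (S.ev omW) ((u * g * u⁻¹ : GL (Fin 3) F) : Matrix (Fin 3) (Fin 3) F) := by
    intro g hg
    refine nrm_of_gens hω3 ?_ ?_
    · refine ⟨_, hall' _ (hR.norm g hg x' hx'), ?_⟩
      rw [← hX', cj_coe, cj_coe, ← Units.val_mul, ← Units.val_mul]
      simp [mul_assoc]
    · refine ⟨_, hall' _ (hR.norm g hg y hy), ?_⟩
      rw [← hY, cj_coe, cj_coe, ← Units.val_mul, ← Units.val_mul]
      simp [mul_assoc]
  obtain ⟨a, hav, ha⟩ := exists_su S hF su_bW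
  obtain ⟨w, hw, -, -, hwM⟩ := exists_not_mem_stab hF
  refine false_of_conj hH hu (stab (phiM fun x : F => x ^ 5))
    (fun g hg => nrm_mem_stab hF S (conj_gamma hu (hH.1.le hg)) (hnrm g hg)) ha
    (ev_mem_stab S hF (phiM_ev S) (phiM_smul hF) keep_M_b hav) (fun hmem => ?_) hw hwM
  have h1 := hnrm _ hmem
  rw [show u * (u⁻¹ * a * u) * u⁻¹ = a by simp [mul_assoc], hav] at h1
  obtain ⟨G, hG, hGe⟩ := h1 (dd (S.ev omW)) ⟨1, 1, 0, by simp⟩
  have hbb : evM S bW * evM S bW = 1 := by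
    rw [evM_mul, ← evM_id S]
    congr 1
    funext i j
    exact bW_sq i j
  have h2 : evM S (mm (mm bW dT) bW) = G := by
    rw [← evM_mul, ← evM_mul, evM_dT, hGe, mul_assoc, hbb, mul_one]
  obtain ⟨a', i, j, rfl⟩ := hG
  obtain ⟨i₁, i₂, j₁, hne, e₁, e₂⟩ := bW_entry
  have hm : ∀ (j : ℕ) (k : Fin 3), ∃ l, ∀ l', l' ≠ l →
      (a' • (dd (S.ev omW) ^ i * cc ^ j) : Matrix (Fin 3) (Fin 3) F) l' k = 0 := by
    intro j
    induction j with
    | zero => exact fun k => ⟨k, fun l' hl => by simp [dd, Matrix.diagonal_pow, hl]⟩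
    | succ j ih =>
      intro k
      obtain ⟨l, hl⟩ := ih (k + 1)
      refine ⟨l, fun l' hl' => ?_⟩
      rw [pow_succ, ← mul_assoc, ← Matrix.smul_mul, Matrix.mul_apply]
      refine Finset.sum_eq_zero fun m _ => ?_
      by_cases hm : m = k + 1
      · rw [hm, hl l' hl', zero_mul]
      · simp [cc, hm]
  obtain ⟨l, hl⟩ := hm j j₁
  have hz : ∀ l', mm (mm bW dT) bW l' j₁ ≠ 0 → l' = l := by
    intro l' h
    by_contra hne'
    exact h (ev_injective S (((congrFun (congrFun h2 l') j₁).trans (hl l' hne')).trans (ev_zero S).symm))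
  exact hne ((hz i₁ e₁).trans (hz i₂ e₂).symm)

end Cfsg.Agent.Aschbacher.SU3
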