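/-
Sp_4(3): the stabiliser of a pair of totally singular planes is monomial, and the unitary field normaliser is
not maximal. Main results: `Sp4Three.pair`, `Sp4Three.field`.
-/
import Cfsg.Agent.Lib.Aschbacher.SymplecticCases
import Cfsg.Agent.Lib.Aschbacher.UnitaryReduce

set_option autoImplicit false

namespace Cfsg.Agent.Aschbacher.Sp4Three

open Matrix
open Cfsg.Agent.PrimeDim
open Cfsg.Agent.Transvect (app app_apply flin flin_apply mem_spGL_iff)

variable {F : Type*} [Field F]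

local notation "N₂" => Fin 2 ⊕ Fin 2

theorem spGL_iff_gram {m : ℕ} {g : GL (Fin m ⊕ Fin m) F} :
    g ∈ Cfsg.spGL m F ↔ (g : Matrix (Fin m ⊕ Fin m) (Fin m ⊕ Fin m) F)ᵀ * Matrix.J (Fin m) F *
      (g : Matrix (Fin m ⊕ Fin m) (Fin m ⊕ Fin m) F) = Matrix.J (Fin m) F := by
  refine ⟨gram_spGL, fun h => mem_spGL_iff.2 fun u v => ?_⟩
  rw [app_apply, app_apply, sympForm_eq_gram, formOfGram_mulVec, RingHom.coe_id, Matrix.map_id, h]

theorem exists_frame {m : ℕ} (v : Fin m ⊕ Fin m → (Fin m ⊕ Fin m → F))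
    (hv : ∀ s t, Cfsg.sympForm m F (v s) (v t) = Matrix.J (Fin m) F s t) :
    ∃ P ∈ Cfsg.spGL m F, ∀ x : Fin m ⊕ Fin m → F,
      (P : Matrix (Fin m ⊕ Fin m) (Fin m ⊕ Fin m) F) *ᵥ x = ∑ s, x s • v s := by
  classical
  set P₀ : Matrix (Fin m ⊕ Fin m) (Fin m ⊕ Fin m) F := Matrix.of fun i s => v s i with hP₀
  have hgram : P₀ᵀ * Matrix.J (Fin m) F * P₀ = Matrix.J (Fin m) F := by
    refine Matrix.ext fun s t => ?_
    rw [← hv s t, mul_assoc]
    simp only [Matrix.mul_apply, Matrix.transpose_apply, Cfsg.sympForm, dotProduct, Matrix.mulVec, hP₀,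
      Matrix.of_apply]
  have hu : IsUnit P₀ := by
    rw [Matrix.isUnit_iff_isUnit_det]
    have h := congrArg Matrix.det hgram
    rw [Matrix.det_mul, Matrix.det_mul] at h
    exact isUnit_of_mul_isUnit_right (h ▸ Matrix.isUnit_det_J _ _)
  refine ⟨hu.unit, spGL_iff_gram.2 hgram, fun x => ?_⟩
  funext i
  simp [IsUnit.unit_spec, hP₀, Matrix.mulVec, dotProduct, Finset.sum_apply, mul_comm]

variable [Fintype F] (hq : Fintype.card F = 3)
include hq

theorem two_ne : (2 : F) ≠ 0 := FrameThree.two_ne_zero' hq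

theorem pm {x : F} (hx : x ≠ 0) : x = 1 ∨ x = -1 := FrameThree.pm_one hq hx

omit hq in
theorem stab_apply {m : ℕ} {P g : GL (Fin m ⊕ Fin m) F} (x : Fin m ⊕ Fin m → F) :
    (P : Matrix (Fin m ⊕ Fin m) (Fin m ⊕ Fin m) F) *ᵥ
        (((P⁻¹ * g * P : GL (Fin m ⊕ Fin m) F) : Matrix (Fin m ⊕ Fin m) (Fin m ⊕ Fin m) F) *ᵥ x) =
      (g : Matrix (Fin m ⊕ Fin m) (Fin m ⊕ Fin m) F) *ᵥ ((P : Matrix (Fin m ⊕ Fin m) (Fin m ⊕ Fin m) F) *ᵥ x) := by
  rw [Matrix.mulVec_mulVec, ← Units.val_mul, Matrix.mulVec_mulVec, ← Units.val_mul]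
  congr 2
  group

set_option maxHeartbeats 800000 in
/-- Over F₃ the stabiliser of two totally singular planes permutes two orthogonal planes. -/
theorem pair {H : Subgroup (GL N₂ F)} (hH : H ≤ Cfsg.spGL 2 F) {D : Fin 2 → Submodule F (N₂ → F)}
    (hD : Geo.IsMDecomposition 2 D) (hts : ∀ i, Geo.IsTotallySingularFor (Cfsg.sympForm 2 F) (D i))
    (hle : H ≤ Geo.decompositionStabilizer D) :
    ∃ D' : Fin 2 → Submodule F (N₂ → F),
      Geo.IsNondegenerateMDecomposition (Cfsg.sympForm 2 F) 2 D' ∧ H ≤ Geo.decompositionStabilizer D' := by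
  classical
  have hf := Transvect.sympForm_isSymplectic (F := F) 2
  -- a symplectic basis adapted to the pair
  let b := Module.finBasisOfFinrankEq F (D 0) (hD.finrank_eq 0)
  let φ : D 1 →ₗ[F] (Fin 2 → F) := (LinearMap.pi fun i => flin hf.bilinear (b i : N₂ → F)).comp (D 1).subtype
  have hφinj : Function.Injective φ := by
    rw [← LinearMap.ker_eq_bot, LinearMap.ker_eq_bot']
    intro w hw
    by_contra hne
    obtain ⟨-, x, hx⟩ := hf.nondegenerate (w : N₂ → F) (fun h => hne (Subtype.ext h))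
    refine hx ?_
    have hx' : x ∈ ⨆ i, D i := hD.iSup_eq_top ▸ Submodule.mem_top
    rw [hf.skew, neg_eq_zero]
    refine Submodule.iSup_induction D (motive := fun y => Cfsg.sympForm 2 F y (w : N₂ → F) = 0) hx'
      (fun i y hy => ?_) ?_ (fun y z h1 h2 => by rw [hf.bilinear.add_left, h1, h2, add_zero])
    · fin_cases i
      · have h0 : (flin hf.bilinear (w : N₂ → F)).comp (D 0).subtype = 0 := b.ext fun i => by
          have := congrFun hw i
          simp only [φ, LinearMap.comp_apply, Submodule.subtype_apply, LinearMap.pi_apply, flin_apply,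
            Pi.zero_apply] at this
          simp only [LinearMap.comp_apply, Submodule.subtype_apply, flin_apply, LinearMap.zero_apply]
          rw [hf.skew, this, neg_zero]
        exact LinearMap.congr_fun h0 ⟨y, hy⟩
      · exact hts 1 y hy _ w.2
    · simpa using (flin hf.bilinear (w : N₂ → F)).map_zero
  have hφs : Function.Surjective φ := (LinearMap.injective_iff_surjective_of_finrank_eq_finrank
    (by rw [hD.finrank_eq, Module.finrank_fintype_fun_eq_card, Fintype.card_fin])).mp hφinj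
  choose c hc using fun j : Fin 2 => hφs (Pi.single j 1)
  have hcb : ∀ i j, Cfsg.sympForm 2 F (c j : N₂ → F) (b i : N₂ → F) = if i = j then 1 else 0 := fun i j => by
    have := congrFun (hc j) i
    simpa [φ, Pi.single_apply] using this
  obtain ⟨P, hP, hPx⟩ := exists_frame (Sum.elim (fun i => (b i : N₂ → F)) (fun j => (c j : N₂ → F)))
    (by
      rintro (i | i) (j | j)
      · simpa [Matrix.J, Matrix.fromBlocks] using hts 0 _ (b i).2 _ (b j).2
      · simp [Matrix.J, Matrix.fromBlocks, Matrix.one_apply]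
        rw [hf.skew, hcb]
      · simp [Matrix.J, Matrix.fromBlocks, Matrix.one_apply]
        rw [hcb]
        simp only [eq_comm]
      · simpa [Matrix.J, Matrix.fromBlocks] using hts 1 _ (c i).2 _ (c j).2)
  have hPiso : ∀ x y, Cfsg.sympForm 2 F ((P : Matrix N₂ N₂ F) *ᵥ x) ((P : Matrix N₂ N₂ F) *ᵥ y) =
      Cfsg.sympForm 2 F x y := fun x y => mem_spGL_iff.1 hP x y
  have hPs : ∀ s, (P : Matrix N₂ N₂ F) *ᵥ Pi.single s 1 =
      Sum.elim (fun i => (b i : N₂ → F)) (fun j => (c j : N₂ → F)) s := fun s => by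
    rw [hPx]; simp [Pi.single_apply]
  have hD0 : ∀ x, (P : Matrix N₂ N₂ F) *ᵥ x ∈ D 0 → ∀ j, x (Sum.inr j) = 0 := fun x hx j => by
    have h := hts 0 _ hx _ (b j).2
    rw [show ((b j : D 0) : N₂ → F) = (P : Matrix N₂ N₂ F) *ᵥ Pi.single (Sum.inl j) 1 from (hPs (Sum.inl j)).symm, hPiso] at h
    revert h
    fin_cases j <;> simp [Cfsg.sympForm, dotProduct, Fintype.sum_sum_type, Fin.sum_univ_two, Matrix.J,
      Matrix.fromBlocks, Matrix.one_apply]
  have hD1 : ∀ x, (P : Matrix N₂ N₂ F) *ᵥ x ∈ D 1 → ∀ j, x (Sum.inl j) = 0 := fun x hx j => by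
    have h := hts 1 _ hx _ (c j).2
    rw [show ((c j : D 1) : N₂ → F) = (P : Matrix N₂ N₂ F) *ᵥ Pi.single (Sum.inr j) 1 from (hPs (Sum.inr j)).symm, hPiso] at h
    revert h
    fin_cases j <;> simp [Cfsg.sympForm, dotProduct, Fintype.sum_sum_type, Fin.sum_univ_two, Matrix.J,
      Matrix.fromBlocks, Matrix.one_apply]
  let X : Matrix (Fin 2) (Fin 2) F := !![0, 1; -1, 0]
  let Y : Matrix (Fin 2) (Fin 2) F := !![0, -1; 1, 0]
  let L : Matrix N₂ N₂ F := Matrix.fromBlocks 0 X Y 0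
  have hLJ : Lᵀ * Matrix.J (Fin 2) F * L = Matrix.J (Fin 2) F := by
    simp only [L, Matrix.J, Matrix.fromBlocks_transpose, Matrix.fromBlocks_multiply]
    congr 1 <;> ext i j <;> fin_cases i <;> fin_cases j <;> simp [X, Y, Matrix.mul_apply, Fin.sum_univ_two]
  have hLL : L * L = 1 := by
    rw [← Matrix.fromBlocks_one]
    simp only [L, Matrix.fromBlocks_multiply]
    congr 1 <;> ext i j <;> fin_cases i <;> fin_cases j <;> simp [X, Y, Matrix.mul_apply, Fin.sum_univ_two]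
  -- the swap is unique up to sign
  have key : ∀ g ∈ H, ∃ ε : F, (ε = 1 ∨ ε = -1) ∧ L * ((P⁻¹ * g * P : GL N₂ F) : Matrix N₂ N₂ F) =
      ε • (((P⁻¹ * g * P : GL N₂ F) : Matrix N₂ N₂ F) * L) := by
    intro g hg
    obtain ⟨τ, hτ⟩ := hle hg
    set g' : GL N₂ F := P⁻¹ * g * P with hg'd
    have hg'S : g' ∈ Cfsg.spGL 2 F := mul_mem (mul_mem (inv_mem hP) (hH hg)) hP
    have hg'J := spGL_iff_gram.1 hg'S
    have himg : ∀ s k, (P : Matrix N₂ N₂ F) *ᵥ Pi.single s 1 ∈ D k →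
        (P : Matrix N₂ N₂ F) *ᵥ ((g' : Matrix N₂ N₂ F) *ᵥ Pi.single s 1) ∈ D (τ k) := fun s k hk => by
      rw [stab_apply, ← hτ k]
      exact ⟨_, hk, by rw [Matrix.toLin'_apply]⟩
    have hl : ∀ i, (P : Matrix N₂ N₂ F) *ᵥ Pi.single (Sum.inl i) 1 ∈ D 0 := fun i => by rw [hPs]; exact (b i).2
    have hr : ∀ i, (P : Matrix N₂ N₂ F) *ᵥ Pi.single (Sum.inr i) 1 ∈ D 1 := fun i => by rw [hPs]; exact (c i).2
    have hinv : ((g'⁻¹ : GL N₂ F) : Matrix N₂ N₂ F) =
        -(Matrix.J (Fin 2) F * (g' : Matrix N₂ N₂ F)ᵀ * Matrix.J (Fin 2) F) := by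
      refine Units.inv_eq_of_mul_eq_one_left ?_
      rw [Matrix.neg_mul, mul_assoc, mul_assoc, ← mul_assoc ((g' : Matrix N₂ N₂ F)ᵀ), hg'J, Matrix.J_squared,
        neg_neg]
    set M : Matrix N₂ N₂ F := (g' : Matrix N₂ N₂ F) * L * ((g'⁻¹ : GL N₂ F) : Matrix N₂ N₂ F) with hM
    have hblocks : M.toBlocks₁₁ = 0 ∧ M.toBlocks₂₂ = 0 := by
      rcases (show (τ 0 = 0 ∧ τ 1 = 1) ∨ (τ 0 = 1 ∧ τ 1 = 0) by
        have h01 : τ 0 ≠ τ 1 := fun h => by simpa using τ.injective h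
        omega) with ⟨h0, h1⟩ | ⟨h0, h1⟩
      · have z21 : (g' : Matrix N₂ N₂ F).toBlocks₂₁ = 0 := by
          ext j i
          have := hD0 _ (h0 ▸ himg _ 0 (hl i)) j
          simpa [Matrix.toBlocks₂₁] using this
        have z12 : (g' : Matrix N₂ N₂ F).toBlocks₁₂ = 0 := by
          ext j i
          have := hD1 _ (h1 ▸ himg _ 1 (hr i)) j
          simpa [Matrix.toBlocks₁₂] using this
        rw [hM, hinv, ← Matrix.fromBlocks_toBlocks (g' : Matrix N₂ N₂ F), z21, z12]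
        simp [L, Matrix.J, Matrix.fromBlocks_transpose, Matrix.fromBlocks_multiply, Matrix.fromBlocks_neg]
      · have z11 : (g' : Matrix N₂ N₂ F).toBlocks₁₁ = 0 := by
          ext j i
          have := hD1 _ (h0 ▸ himg _ 0 (hl i)) j
          simpa [Matrix.toBlocks₁₁] using this
        have z22 : (g' : Matrix N₂ N₂ F).toBlocks₂₂ = 0 := by
          ext j i
          have := hD0 _ (h1 ▸ himg _ 1 (hr i)) j
          simpa [Matrix.toBlocks₂₂] using this
        rw [hM, hinv, ← Matrix.fromBlocks_toBlocks (g' : Matrix N₂ N₂ F), z11, z22]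
        simp [L, Matrix.J, Matrix.fromBlocks_transpose, Matrix.fromBlocks_multiply, Matrix.fromBlocks_neg]
    have hMM : M * M = 1 := by
      rw [hM, show (g' : Matrix N₂ N₂ F) * L * ((g'⁻¹ : GL N₂ F) : Matrix N₂ N₂ F) *
        ((g' : Matrix N₂ N₂ F) * L * ((g'⁻¹ : GL N₂ F) : Matrix N₂ N₂ F)) =
        (g' : Matrix N₂ N₂ F) * (L * (((g'⁻¹ : GL N₂ F) : Matrix N₂ N₂ F) * (g' : Matrix N₂ N₂ F)) * L) *
          ((g'⁻¹ : GL N₂ F) : Matrix N₂ N₂ F) by simp only [mul_assoc]]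
      rw [Units.inv_mul, mul_one, hLL, mul_one, Units.mul_inv]
    have hMJ : Mᵀ * Matrix.J (Fin 2) F = Matrix.J (Fin 2) F * M := by
      have hiJ := spGL_iff_gram.1 (inv_mem hg'S)
      have h1 : Mᵀ * Matrix.J (Fin 2) F * M = Matrix.J (Fin 2) F := by
        rw [hM, Matrix.transpose_mul, Matrix.transpose_mul]
        calc _ = ((g'⁻¹ : GL N₂ F) : Matrix N₂ N₂ F)ᵀ * (Lᵀ * ((g' : Matrix N₂ N₂ F)ᵀ * Matrix.J (Fin 2) F *
              (g' : Matrix N₂ N₂ F)) * L) * ((g'⁻¹ : GL N₂ F) : Matrix N₂ N₂ F) := by simp only [mul_assoc]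
          _ = _ := by rw [hg'J, hLJ, hiJ]
      calc Mᵀ * Matrix.J (Fin 2) F = Mᵀ * Matrix.J (Fin 2) F * (M * M) := by rw [hMM, mul_one]
        _ = _ := by rw [← mul_assoc, h1]
    obtain ⟨ε, hε, hML⟩ : ∃ ε : F, (ε = 1 ∨ ε = -1) ∧ M = ε • L := by
      rw [← Matrix.fromBlocks_toBlocks M, hblocks.1, hblocks.2] at hMJ hMM ⊢
      set A := M.toBlocks₁₂
      set B := M.toBlocks₂₁
      simp only [Matrix.J, Matrix.fromBlocks_transpose, Matrix.fromBlocks_multiply, Matrix.fromBlocks_inj,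
        Matrix.transpose_zero, zero_mul, mul_zero, zero_add, add_zero, Matrix.neg_mul, Matrix.mul_neg, one_mul,
        mul_one] at hMJ
      rw [← Matrix.fromBlocks_one, Matrix.fromBlocks_multiply, Matrix.fromBlocks_inj] at hMM
      obtain ⟨hB, -, -, hA⟩ := hMJ
      have h2 := two_ne hq
      have hdiag : ∀ (Z : Matrix (Fin 2) (Fin 2) F), Zᵀ = -Z → Z 0 0 = 0 ∧ Z 1 1 = 0 ∧ Z 1 0 = -Z 0 1 := by
        intro Z hZ
        have h00 := congrFun (congrFun hZ 0) 0
        have h11 := congrFun (congrFun hZ 1) 1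
        have h01 := congrFun (congrFun hZ 0) 1
        simp only [Matrix.transpose_apply, Matrix.neg_apply] at h00 h11 h01
        exact ⟨(mul_eq_zero.mp (by linear_combination h00 : (2 : F) * Z 0 0 = 0)).resolve_left h2,
          (mul_eq_zero.mp (by linear_combination h11 : (2 : F) * Z 1 1 = 0)).resolve_left h2, h01⟩
      obtain ⟨a0, a1, a2⟩ := hdiag A (by first | exact neg_eq_iff_eq_neg.mp hA | exact (neg_eq_iff_eq_neg.mp hA.symm) | exact hA)
      obtain ⟨b0, b1, b2⟩ := hdiag B (by first | exact neg_eq_iff_eq_neg.mp hB | exact (neg_eq_iff_eq_neg.mp hB.symm) | exact hB)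
      have h00 := congrFun (congrFun hMM.1 0) 0
      simp [Matrix.mul_apply, Fin.sum_univ_two, a0, b2] at h00
      have hne : A 0 1 ≠ 0 := fun h => by rw [h, zero_mul, neg_zero] at h00; exact zero_ne_one h00
      refine ⟨A 0 1, pm hq hne, ?_⟩
      have hB01 : B 0 1 = -A 0 1 := by
        rcases pm hq hne with h | h <;> rw [h] at h00 ⊢ <;> first | linear_combination h00 | linear_combination -h00
      simp only [L, Matrix.fromBlocks_smul, smul_zero]
      congr 1 <;> ext i j <;> fin_cases i <;> fin_cases j <;> simp [X, Y, a0, a1, a2, b0, b1, b2, hB01]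
    refine ⟨ε, hε, ?_⟩
    have h2 : M * (g' : Matrix N₂ N₂ F) = (g' : Matrix N₂ N₂ F) * L := by
      rw [hM, mul_assoc, Units.inv_mul, mul_one]
    rw [← h2, hML, Matrix.smul_mul, smul_smul]
    rcases hε with rfl | rfl <;> simp
  -- the eigenspaces of the swap
  let em : F → ((Fin 2 → F) →ₗ[F] (N₂ → F)) := fun k =>
    { toFun := fun a => Sum.elim a ![-(k * a 1), k * a 0]
      map_add' := fun a b => by
        funext s; rcases s with i | i <;> fin_cases i <;> simp <;> ring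
      map_smul' := fun r a => by
        funext s; rcases s with i | i <;> fin_cases i <;> simp <;> ring }
  have hem : ∀ k a, em k a = Sum.elim a ![-(k * a 1), k * a 0] := fun k a => rfl
  have hform : ∀ k k' a a', Cfsg.sympForm 2 F (em k a) (em k' a') = (k + k') * (a 0 * a' 1 - a 1 * a' 0) :=
    fun k k' a a' => by
      simp [hem, Cfsg.sympForm, Matrix.mulVec, dotProduct, Fintype.sum_sum_type, Fin.sum_univ_two, Matrix.J,
        Matrix.fromBlocks, Matrix.one_apply]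
      ring
  have heig : ∀ k x, L *ᵥ x = k • x → (k = 1 ∨ k = -1) → x = em k (fun i => x (Sum.inl i)) := by
    intro k x hx hk
    have h0 := congrFun hx (Sum.inl 0)
    have h1 := congrFun hx (Sum.inl 1)
    simp [L, X, Matrix.mulVec, dotProduct, Fintype.sum_sum_type, Fin.sum_univ_two] at h0 h1
    funext s
    rcases s with i | i <;> fin_cases i <;> simp [hem]
    · linear_combination -h1
    · linear_combination h0
  have heig' : ∀ k a, (k = 1 ∨ k = -1) → L *ᵥ em k a = k • em k a := by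
    intro k a hk
    funext s
    rcases hk with rfl | rfl <;> rcases s with i | i <;> fin_cases i <;>
      simp [hem, L, X, Y, Matrix.mulVec, dotProduct, Fintype.sum_sum_type, Fin.sum_univ_two]
  let κ : Fin 2 → F := ![1, -1]
  have hκ : ∀ i, κ i = 1 ∨ κ i = -1 := fun i => by fin_cases i <;> simp [κ]
  let T : Fin 2 → ((Fin 2 → F) →ₗ[F] (N₂ → F)) := fun i => (app P).toLinearMap.comp (em (κ i))
  have hT : ∀ i a, T i a = (P : Matrix N₂ N₂ F) *ᵥ em (κ i) a := fun i a => rfl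
  have hTinj : ∀ i, Function.Injective (T i) := fun i a a' h => by
    have h1 : em (κ i) a = em (κ i) a' := (app P).injective h
    funext j
    simpa [hem] using congrFun h1 (Sum.inl j)
  have hTf : ∀ i j a a', Cfsg.sympForm 2 F (T i a) (T j a') = (κ i + κ j) * (a 0 * a' 1 - a 1 * a' 0) :=
    fun i j a a' => by rw [hT, hT, hPiso, hform]
  let D' : Fin 2 → Submodule F (N₂ → F) := fun i => LinearMap.range (T i)
  have hrk : ∀ i, Module.finrank F (D' i) = 2 := fun i => by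
    rw [LinearMap.finrank_range_of_inj (hTinj i)]; simp
  have hnd : ∀ i, Geo.IsNondegenerateOn (Cfsg.sympForm 2 F) (D' i) := by
    rintro i _ ⟨a, rfl⟩ ha
    have ha0 : a ≠ 0 := fun h => ha (by rw [h, map_zero])
    have hk2 : κ i + κ i ≠ 0 := by
      have := two_ne hq
      rcases hκ i with h | h <;> rw [h]
      · rwa [one_add_one_eq_two]
      · rw [← neg_add, neg_ne_zero, one_add_one_eq_two]; exact this
    obtain ⟨a', ha'⟩ : ∃ a' : Fin 2 → F, a 0 * a' 1 - a 1 * a' 0 ≠ 0 := by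
      by_cases h0 : a 0 = 0
      · refine ⟨![1, 0], ?_⟩
        have : a 1 ≠ 0 := fun h1 => ha0 (by funext j; fin_cases j <;> assumption)
        simpa [h0] using this
      · exact ⟨![0, 1], by simpa using h0⟩
    refine ⟨⟨T i a', ⟨a', rfl⟩, ?_⟩, ⟨T i a', ⟨a', rfl⟩, ?_⟩⟩
    · rw [hTf]; exact mul_ne_zero hk2 fun h => ha' (by linear_combination -h)
    · rw [hTf]; exact mul_ne_zero hk2 ha'
  refine ⟨D', mdecomp_of_orth _ hf.bilinear.add_left hf.bilinear.smul_left le_rfl two_pos (by simp) hrk hnd ?_, ?_⟩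
  · rintro i j hij _ ⟨a, rfl⟩ _ ⟨a', rfl⟩
    rw [hTf]
    have : κ i + κ j = 0 := by
      fin_cases i <;> fin_cases j <;> first | exact absurd rfl hij | simp [κ]
    rw [this, zero_mul]
  intro g hg
  obtain ⟨ε, hε, hεL⟩ := key g hg
  let τ : Equiv.Perm (Fin 2) := if ε = 1 then 1 else Equiv.swap 0 1
  have hτκ : ∀ i, κ (τ i) = ε * κ i := by
    intro i
    rcases hε with rfl | rfl
    · simp [τ]
    · have hne : (-1 : F) ≠ 1 := fun h => two_ne hq (by linear_combination -h)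
      fin_cases i <;> simp [τ, hne, κ]
  refine ⟨τ, fun i => Submodule.eq_of_le_of_finrank_eq ?_ (by rw [finrank_map_gl, hrk, hrk])⟩
  rintro _ ⟨_, ⟨a, rfl⟩, rfl⟩
  set z := ((P⁻¹ * g * P : GL N₂ F) : Matrix N₂ N₂ F) *ᵥ em (κ i) a with hz
  have hzL : L *ᵥ z = κ (τ i) • z := by
    rw [hz, Matrix.mulVec_mulVec, hεL, Matrix.smul_mulVec, ← Matrix.mulVec_mulVec, heig' _ _ (hκ i),
      Matrix.mulVec_smul, smul_smul, hτκ]
  refine ⟨fun j => z (Sum.inl j), ?_⟩
  rw [hT, ← heig _ _ hzL (hκ _), Matrix.toLin'_apply, hz, stab_apply, hT]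

omit hq in
theorem conj_gram {m : ℕ} {x : GL (Fin m ⊕ Fin m) F} (hx : x ∈ Cfsg.spGL m F)
    {s : Matrix (Fin m ⊕ Fin m) (Fin m ⊕ Fin m) F} (hs : s * s = 1)
    (hsJ : sᵀ * Matrix.J (Fin m) F = Matrix.J (Fin m) F * s) :
    cj x s * cj x s = 1 ∧ (cj x s)ᵀ * Matrix.J (Fin m) F = Matrix.J (Fin m) F * cj x s := by
  have h1 : cj x s * cj x s = 1 := by rw [← map_mul, hs, map_one]
  refine ⟨h1, ?_⟩
  have hxJ := spGL_iff_gram.1 hx
  have hiJ := spGL_iff_gram.1 (inv_mem hx)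
  have h2 : (cj x s)ᵀ * Matrix.J (Fin m) F * cj x s = Matrix.J (Fin m) F := by
    rw [cj_apply, Matrix.transpose_mul, Matrix.transpose_mul]
    set X := (x : Matrix (Fin m ⊕ Fin m) (Fin m ⊕ Fin m) F)
    set Xi := ((x⁻¹ : GL (Fin m ⊕ Fin m) F) : Matrix (Fin m ⊕ Fin m) (Fin m ⊕ Fin m) F)
    calc _ = Xiᵀ * (sᵀ * (Xᵀ * Matrix.J (Fin m) F * X) * s) * Xi := by simp only [mul_assoc]
      _ = _ := by rw [hxJ, hsJ, mul_assoc (Matrix.J (Fin m) F), hs, mul_one, hiJ]
  calc (cj x s)ᵀ * Matrix.J (Fin m) F = (cj x s)ᵀ * Matrix.J (Fin m) F * (cj x s * cj x s) := by rw [h1, mul_one]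
    _ = _ := by rw [← mul_assoc, h2]

end Cfsg.Agent.Aschbacher.Sp4Three
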