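/-
In Sp_4(3) the normaliser of a quadratic field with non-trivial adjoint is not maximal: it permutes the five
anticommuting pairs of involutions attached to it, as does a larger proper subgroup.
Main result: `Sp4Three.field`.
-/
import Cfsg.Agent.Lib.Aschbacher.Sp4Three

set_option autoImplicit false

namespace Cfsg.Agent.Aschbacher.Sp4Three

open Matrix
open Cfsg.Agent.PrimeDim
open Cfsg.Agent.Transvect (app app_apply flin flin_apply mem_spGL_iff)

local notation "N₂" => Fin 2 ⊕ Fin 2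
local notation "Z" => ZMod 3

/-- An involution of the frame attached to the complex structure `J`. -/
abbrev Cond (s : Matrix N₂ N₂ Z) : Prop :=
  s * s = 1 ∧ sᵀ * Matrix.J (Fin 2) Z = Matrix.J (Fin 2) Z * s ∧
    ((s * Matrix.J (Fin 2) Z = Matrix.J (Fin 2) Z * s ∧ s ≠ 1 ∧ s ≠ -1) ∨
      s * Matrix.J (Fin 2) Z = -(Matrix.J (Fin 2) Z * s))

instance : DecidablePred Cond := fun _ => inferInstance

/-- Self-adjoint matrices commuting with `J`. -/
def com (a b d e : Z) : Matrix N₂ N₂ Z :=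
  Matrix.fromBlocks !![a, b; b, d] !![0, -e; e, 0] !![0, e; -e, 0] !![a, b; b, d]

/-- Self-adjoint matrices anticommuting with `J`. -/
def anti (a b : Z) : Matrix N₂ N₂ Z :=
  Matrix.fromBlocks !![0, a; -a, 0] !![0, b; -b, 0] !![0, b; -b, 0] !![0, -a; a, 0]

theorem cond_cases {s : Matrix N₂ N₂ Z} (h : Cond s) :
    (∃ a b d e, s = com a b d e) ∨ ∃ a b, s = anti a b := by
  obtain ⟨-, h1, h2⟩ := h
  rw [← Matrix.fromBlocks_toBlocks s] at h1 h2 ⊢
  set A := s.toBlocks₁₁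
  set B := s.toBlocks₁₂
  set C := s.toBlocks₂₁
  set D := s.toBlocks₂₂
  simp only [Matrix.J, Matrix.fromBlocks_transpose, Matrix.fromBlocks_multiply, Matrix.fromBlocks_neg,
    Matrix.fromBlocks_inj, zero_mul, mul_zero, zero_add, add_zero, Matrix.neg_mul, Matrix.mul_neg, one_mul,
    mul_one, neg_neg] at h1 h2
  obtain ⟨hC, hA, -, hB⟩ := h1
  have e := fun i j => congrFun (congrFun hC i) j
  have f := fun i j => congrFun (congrFun hA i) j
  have g := fun i j => congrFun (congrFun hB i) j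
  have two : ∀ x : Z, x = -x → x = 0 := by decide
  rcases h2 with ⟨⟨k1, k2, -, -⟩, -, -⟩ | ⟨k1, k2, -, -⟩
  · left
    refine ⟨A 0 0, A 0 1, A 1 1, C 0 1, ?_⟩
    have p := fun i j => congrFun (congrFun k1 i) j
    have r := fun i j => congrFun (congrFun k2 i) j
    simp only [Matrix.transpose_apply, Matrix.neg_apply] at e f g p r
    have c00 := two _ (e 0 0)
    have c11 := two _ (e 1 1)
    congr 1 <;> ext i j <;> fin_cases i <;> fin_cases j <;>
      simp <;> grind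
  · right
    refine ⟨A 0 1, C 0 1, ?_⟩
    have p := fun i j => congrFun (congrFun k1 i) j
    have r := fun i j => congrFun (congrFun k2 i) j
    simp only [Matrix.transpose_apply, Matrix.neg_apply] at e f g p r
    have c00 := two _ (e 0 0)
    have c11 := two _ (e 1 1)
    have a00 : A 0 0 = 0 := two _ (by grind)
    have a11 : A 1 1 = 0 := two _ (by grind)
    congr 1 <;> ext i j <;> fin_cases i <;> fin_cases j <;>
      simp <;> grind

/-- An element of order three permuting the frame, not normalising `J`. -/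
def xGL : GL N₂ Z where
  val := Matrix.fromBlocks (-1) (-1) 1 0
  inv := Matrix.fromBlocks 0 1 (-1) (-1)
  val_inv := by decide +kernel
  inv_val := by decide +kernel

/-- A transvection. -/
def tGL : GL N₂ Z where
  val := Matrix.fromBlocks 1 0 !![1, 0; 0, 0] 1
  inv := Matrix.fromBlocks 1 0 !![-1, 0; 0, 0] 1
  val_inv := by decide +kernel
  inv_val := by decide +kernel

theorem x_com : ∀ a b d e, Cond (com a b d e) →
    Cond ((xGL : Matrix N₂ N₂ Z) * com a b d e * ((xGL⁻¹ : GL N₂ Z) : Matrix N₂ N₂ Z)) := by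
  decide +kernel

theorem x_anti : ∀ a b, Cond (anti a b) →
    Cond ((xGL : Matrix N₂ N₂ Z) * anti a b * ((xGL⁻¹ : GL N₂ Z) : Matrix N₂ N₂ Z)) := by
  decide +kernel

theorem x_spec : (xGL : Matrix N₂ N₂ Z)ᵀ * Matrix.J (Fin 2) Z * (xGL : Matrix N₂ N₂ Z) = Matrix.J (Fin 2) Z ∧
    (xGL : Matrix N₂ N₂ Z) * Matrix.J (Fin 2) Z * ((xGL⁻¹ : GL N₂ Z) : Matrix N₂ N₂ Z) ≠ Matrix.J (Fin 2) Z ∧
    (xGL : Matrix N₂ N₂ Z) * Matrix.J (Fin 2) Z * ((xGL⁻¹ : GL N₂ Z) : Matrix N₂ N₂ Z) ≠ -Matrix.J (Fin 2) Z := by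
  decide +kernel

theorem t_spec : (tGL : Matrix N₂ N₂ Z)ᵀ * Matrix.J (Fin 2) Z * (tGL : Matrix N₂ N₂ Z) = Matrix.J (Fin 2) Z ∧
    Cond (com 0 1 0 0) ∧
    ¬ Cond ((tGL : Matrix N₂ N₂ Z) * com 0 1 0 0 * ((tGL⁻¹ : GL N₂ Z) : Matrix N₂ N₂ Z)) := by
  decide +kernel

/-- The stabiliser of the frame. -/
def frameStab : Subgroup (GL N₂ Z) where
  carrier := {g | ∀ s, Cond s → Cond (cj g s)}
  one_mem' := fun s hs => by rwa [cj_apply, inv_one, Units.val_one, one_mul, mul_one]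
  mul_mem' := fun {g h} hg hh s hs => by
    have := hg _ (hh s hs)
    rwa [cj_apply g, cj_apply h, show (g : Matrix N₂ N₂ Z) *
      ((h : Matrix N₂ N₂ Z) * s * ((h⁻¹ : GL N₂ Z) : Matrix N₂ N₂ Z)) * ((g⁻¹ : GL N₂ Z) : Matrix N₂ N₂ Z) =
      cj (g * h) s by rw [cj_apply, _root_.mul_inv_rev, Units.val_mul, Units.val_mul]; simp only [mul_assoc]] at this
  inv_mem' := fun {g} hg s hs => by
    have : Finite (GL N₂ Z) := Finite.of_injective Units.val Units.val_injective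
    have hpow : ∀ k : ℕ, ∀ s, Cond s → Cond (cj (g ^ k) s) := by
      intro k
      induction k with
      | zero => intro s hs; rwa [pow_zero, cj_apply, inv_one, Units.val_one, one_mul, mul_one]
      | succ k ih =>
        intro s hs
        have := ih _ (hg s hs)
        rwa [cj_apply (g ^ k), cj_apply g, show ((g ^ k : GL N₂ Z) : Matrix N₂ N₂ Z) *
          ((g : Matrix N₂ N₂ Z) * s * ((g⁻¹ : GL N₂ Z) : Matrix N₂ N₂ Z)) *
          (((g ^ k)⁻¹ : GL N₂ Z) : Matrix N₂ N₂ Z) = cj (g ^ (k + 1)) s by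
            rw [cj_apply, pow_succ, _root_.mul_inv_rev, Units.val_mul, Units.val_mul]; simp only [mul_assoc]] at this
    have hinv : g⁻¹ = g ^ (orderOf g - 1) := by
      refine inv_eq_of_mul_eq_one_right ?_
      rw [← pow_succ', Nat.sub_add_cancel (orderOf_pos g), pow_orderOf_eq_one]
    rw [hinv]
    exact hpow _ s hs

theorem cj_inj {ι : Type} [Fintype ι] [DecidableEq ι] {K : Type*} [Field K] {g : GL ι K} {a b : Matrix ι ι K}
    (h : cj g a = cj g b) : a = b := by rw [← cj_inv_cj g a, h, cj_inv_cj]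

variable {F : Type*} [Field F] [Fintype F]

set_option maxHeartbeats 1000000 in
/-- Over F₃ the normaliser of a quadratic field with non-trivial adjoint is not maximal in Sp_4. -/
theorem field (hq : Fintype.card F = 3) {H : Subgroup (GL N₂ F)} (hH : Geo.IsMaximalIn (Cfsg.spGL 2 F) H)
    {K : Subalgebra F (Matrix N₂ N₂ F)} (hK : Geo.IsFieldSubalgebra 2 K)
    (hadj : Geo.IsAdjointClosedFor (Cfsg.sympForm 2 F) K) (hns : ¬ Geo.IsSelfAdjointFor (Cfsg.sympForm 2 F) K)
    (heq : H = Geo.subalgebraNormalizer K ⊓ Cfsg.spGL 2 F) : False := by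
  classical
  have hf := Transvect.sympForm_isSymplectic (F := F) 2
  set f := Cfsg.sympForm 2 F with hfd
  have h2 := two_ne hq
  have hsub : ∀ a b c : N₂ → F, f (a - b) c = f a c - f b c := fun a b c => by
    simpa using (flin hf.bilinear c).map_sub a b
  have hsubr : ∀ a b c : N₂ → F, f a (b - c) = f a b - f a c := fun a b c => by
    rw [hf.skew, hsub, hf.skew a b, hf.skew a c]; ring
  -- the skew element
  obtain ⟨k, hk, k', hk', hkk, hne⟩ : ∃ k ∈ K, ∃ k' ∈ K, (∀ u v, f (k *ᵥ u) v = f u (k' *ᵥ v)) ∧ k ≠ k' := by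
    by_contra hcon
    refine hns fun k hk u v => ?_
    obtain ⟨k', hk', h⟩ := hadj k hk
    obtain rfl : k = k' := by_contra fun hne => hcon ⟨k, hk, k', hk', h, hne⟩
    exact h u v
  set I₀ := k - k' with hI₀
  have hIK : I₀ ∈ K := sub_mem hk hk'
  have hI0 : I₀ ≠ 0 := sub_ne_zero.mpr hne
  have hkk' : ∀ u v, f (k' *ᵥ u) v = f u (k *ᵥ v) := fun u v => by
    rw [hf.skew, ← hkk, ← hf.skew]
  have hIf : ∀ u v, f (I₀ *ᵥ u) v = -f u (I₀ *ᵥ v) := fun u v => by
    rw [hI₀, Matrix.sub_mulVec, Matrix.sub_mulVec, hsub, hsubr, hkk, hkk']; ring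
  have hext : ∀ A : Matrix N₂ N₂ F, (∀ u v, f (A *ᵥ u) v = 0) → A = 0 := fun A hA =>
    Matrix.ext_of_mulVec_single fun i => by
      rw [Matrix.zero_mulVec]
      by_contra h
      obtain ⟨-, x, hx⟩ := hf.nondegenerate _ h
      exact hx (hA _ _)
  have hspanK : ∀ x ∈ K, ∃ a b : F, x = a • 1 + b • I₀ := by
    have hindep : LinearIndependent F ![(1 : K), ⟨I₀, hIK⟩] := by
      rw [LinearIndependent.pair_iff]
      intro s t hst
      have h1 : s • (1 : Matrix N₂ N₂ F) + t • I₀ = 0 := congrArg Subtype.val hst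
      by_cases ht : t = 0
      · subst ht
        rw [zero_smul, add_zero] at h1
        have h3 := congrFun (congrFun h1 (Sum.inl 0)) (Sum.inl 0)
        simp at h3
        exact ⟨h3, rfl⟩
      · refine absurd (hext I₀ fun u v => ?_) hI0
        have h3 : I₀ = (-s / t) • 1 := by
          have : t • I₀ = (-s) • 1 := by rw [neg_smul]; exact eq_neg_of_add_eq_zero_right h1
          rw [div_eq_inv_mul, mul_smul, ← this, smul_smul, inv_mul_cancel₀ ht, one_smul]
        have h4 := hIf u v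
        simp only [h3, Matrix.smul_mulVec, Matrix.one_mulVec, hf.bilinear.smul_left, hf.bilinear.smul_right] at h4 ⊢
        exact (mul_eq_zero.mp (by linear_combination h4 : (2 : F) * (-s / t * f u v) = 0)).resolve_left h2
    intro x hx
    have htop := hindep.span_eq_top_of_card_eq_finrank' (by rw [Fintype.card_fin, hK.finrank_eq])
    have : (⟨x, hx⟩ : K) ∈ Submodule.span F (Set.range ![(1 : K), ⟨I₀, hIK⟩]) := htop ▸ Submodule.mem_top
    obtain ⟨cf, hcf⟩ := (Submodule.mem_span_range_iff_exists_fun F).mp this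
    refine ⟨cf 0, cf 1, ?_⟩
    have := congrArg Subtype.val hcf
    simpa [Fin.sum_univ_two] using this.symm
  have hII : I₀ * I₀ = -1 := by
    obtain ⟨a, b, hab⟩ := hspanK _ (mul_mem hIK hIK)
    have hb : b = 0 := by
      by_contra hb
      refine hI0 (hext _ fun u v => ?_)
      have h1 : f ((I₀ * I₀) *ᵥ u) v = f u ((I₀ * I₀) *ᵥ v) := by
        rw [← Matrix.mulVec_mulVec, hIf, hIf, neg_neg, Matrix.mulVec_mulVec]
      rw [hab, Matrix.add_mulVec, Matrix.add_mulVec, Matrix.smul_mulVec, Matrix.smul_mulVec, Matrix.smul_mulVec,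
        Matrix.smul_mulVec, Matrix.one_mulVec, Matrix.one_mulVec, hf.bilinear.add_left, hf.bilinear.add_right,
        hf.bilinear.smul_left, hf.bilinear.smul_left, hf.bilinear.smul_right, hf.bilinear.smul_right] at h1
      have h3 : (2 : F) * (b * f (I₀ *ᵥ u) v) = 0 := by linear_combination h1 + b * hIf u v
      exact (mul_eq_zero.mp ((mul_eq_zero.mp h3).resolve_left h2)).resolve_left hb
    rw [hb, zero_smul, add_zero] at hab
    obtain ⟨y, hy, hyy⟩ := hK.inv I₀ hIK hI0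
    have ha : a ≠ 0 := fun ha => hI0 (by
      rw [ha, zero_smul] at hab
      calc I₀ = I₀ * (I₀ * y) := by rw [hyy, mul_one]
        _ = 0 := by rw [← mul_assoc, hab, zero_mul])
    rcases pm hq ha with ha1 | ha1
    · exfalso
      rw [ha1, one_smul] at hab
      have h3 : (I₀ - 1) * (I₀ + 1) = 0 := by
        rw [sub_mul, mul_add, mul_one, one_mul, hab]; abel
      by_cases h4 : I₀ - 1 = 0
      · refine hI0 (hext _ fun u v => ?_)
        have h5 := hIf u v
        simp only [sub_eq_zero.mp h4, Matrix.one_mulVec] at h5 ⊢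
        exact (mul_eq_zero.mp (by linear_combination h5 : (2 : F) * f u v = 0)).resolve_left h2
      · obtain ⟨z, hz, hzz⟩ := hK.inv _ (sub_mem hIK (one_mem K)) h4
        have h5 : I₀ + 1 = 0 := by
          calc I₀ + 1 = z * ((I₀ - 1) * (I₀ + 1)) := by
                rw [← mul_assoc, hK.comm z hz _ (sub_mem hIK (one_mem K)), hzz, one_mul]
            _ = 0 := by rw [h3, mul_zero]
        refine hI0 (hext _ fun u v => ?_)
        have h6 := hIf u v
        simp only [eq_neg_of_add_eq_zero_left h5, Matrix.neg_mulVec, Matrix.one_mulVec] at h6 ⊢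
        have hn : ∀ a b, f (-a) b = -f a b := fun a b => by simpa using (flin hf.bilinear b).map_neg a
        have hn' : ∀ a b, f a (-b) = -f a b := fun a b => (hf.skew a (-b)).trans (by rw [hn, neg_neg]; exact hf.skew b a)
        rw [hn, hn'] at h6
        rw [hn]
        exact (mul_eq_zero.mp (by linear_combination h6 : (2 : F) * -f u v = 0)).resolve_left h2
    · rw [hab, ha1, neg_one_smul]
  have hII' : ∀ u, I₀ *ᵥ (I₀ *ᵥ u) = -u := fun u => by
    rw [Matrix.mulVec_mulVec, hII, Matrix.neg_mulVec, Matrix.one_mulVec]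
  have hIiso : ∀ u v, f (I₀ *ᵥ u) (I₀ *ᵥ v) = f u v := fun u v => by
    have hn' : ∀ a b, f a (-b) = -f a b := fun a b => (hf.skew a (-b)).trans (by
      rw [show f (-b) a = -f b a by simpa using (flin hf.bilinear a).map_neg b, neg_neg]; exact hf.skew b a)
    rw [hIf, hII', hn', neg_neg]
  -- an orthonormal basis for the hermitian form
  set g := fun u v => f (I₀ *ᵥ u) v with hg
  have hgsymm : ∀ u v, g u v = g v u := fun u v => by
    simp only [hg]; rw [hIf v u, ← hf.skew]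
  have hgI : ∀ u v, g (I₀ *ᵥ u) (I₀ *ᵥ v) = g u v := fun u v => hIiso _ _
  have hone : ∀ (W : Submodule F (N₂ → F)), (∀ w ∈ W, I₀ *ᵥ w ∈ W) → (∃ a ∈ W, ∃ b ∈ W, g a b ≠ 0) →
      ∃ v ∈ W, g v v = 1 := by
    intro W hW hab
    obtain ⟨a, ha, b, hb, hab⟩ := hab
    have hadd : ∀ x y, g (x + y) (x + y) = g x x + g y y + 2 * g x y := fun x y => by
      have hs := hgsymm y x
      simp only [hg] at hs ⊢
      rw [Matrix.mulVec_add, hf.bilinear.add_left, hf.bilinear.add_right, hf.bilinear.add_right, hs]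
      ring
    obtain ⟨v, hv, hvv⟩ : ∃ v ∈ W, g v v ≠ 0 := by
      by_contra hcon
      simp only [not_exists, not_and, not_not] at hcon
      have h1 := hadd a b
      rw [hcon a ha, hcon b hb, hcon _ (W.add_mem ha hb), zero_add, zero_add] at h1
      exact mul_ne_zero h2 hab h1.symm
    rcases pm hq hvv with h | h
    · exact ⟨v, hv, h⟩
    · refine ⟨v + I₀ *ᵥ v, W.add_mem hv (hW v hv), ?_⟩
      have hz : g v (I₀ *ᵥ v) = 0 := by rw [hg]; exact hf.alternating _
      rw [hadd, hgI, h, hz]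
      linear_combination -(FrameThree.three_eq_zero hq)
  obtain ⟨v₁, -, hv₁⟩ := hone ⊤ (fun _ _ => Submodule.mem_top) (by
    have hne0 : (Pi.single (Sum.inl 0) 1 : N₂ → F) ≠ 0 := by simp
    obtain ⟨-, x, hx⟩ := hf.nondegenerate _ hne0
    refine ⟨-(I₀ *ᵥ Pi.single (Sum.inl 0) 1), Submodule.mem_top, x, Submodule.mem_top, ?_⟩
    simp only [hg, Matrix.mulVec_neg, hII', neg_neg]
    exact hx)
  let W : Submodule F (N₂ → F) :=
    LinearMap.ker (flin hf.bilinear v₁) ⊓ LinearMap.ker (flin hf.bilinear (I₀ *ᵥ v₁))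
  have hW : ∀ w, w ∈ W ↔ f w v₁ = 0 ∧ f w (I₀ *ᵥ v₁) = 0 := fun w => by simp [W, hfd]
  have hv₁0 : f (I₀ *ᵥ v₁) v₁ = 1 := hv₁
  have hv₁1 : f v₁ (I₀ *ᵥ v₁) = -1 := by rw [hf.skew, hv₁0]
  let π : (N₂ → F) → (N₂ → F) := fun u => u + f u (I₀ *ᵥ v₁) • v₁ + (-f u v₁) • (I₀ *ᵥ v₁)
  have hπ : ∀ u, π u ∈ W := fun u => by
    rw [hW]
    simp only [π, hf.bilinear.add_left, hf.bilinear.smul_left, hf.alternating, hv₁0, hv₁1]
    constructor <;> ring
  obtain ⟨v₂, hv₂W, hv₂⟩ := hone W (fun w hw => by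
      rw [hW] at hw ⊢
      rw [hIf, hIiso]
      exact ⟨by rw [hw.2, neg_zero], hw.1⟩) (by
    obtain ⟨w, hw0, hwW⟩ : ∃ w, w ≠ 0 ∧ w ∈ W := by
      let Θ : (N₂ → F) →ₗ[F] F × F := (flin hf.bilinear v₁).prod (flin hf.bilinear (I₀ *ᵥ v₁))
      have hker : LinearMap.ker Θ ≠ ⊥ := fun h => by
        have h1 := LinearMap.finrank_le_finrank_of_injective (LinearMap.ker_eq_bot.mp h)
        rw [Module.finrank_fintype_fun_eq_card, Module.finrank_prod, Module.finrank_self] at h1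
        simp at h1
      obtain ⟨w, hw, hw0⟩ := (LinearMap.ker Θ).exists_mem_ne_zero_of_ne_bot hker
      rw [LinearMap.ker_prod] at hw
      exact ⟨w, hw0, hw⟩
    obtain ⟨-, u, hu⟩ := hf.nondegenerate (I₀ *ᵥ w) (fun h => hw0 (by
      have h' := congrArg (fun z => I₀ *ᵥ z) h
      simpa [hII'] using h'))
    refine ⟨w, hwW, π u, hπ u, ?_⟩
    obtain ⟨e1, e2⟩ := (hW w).mp hwW
    have e3 : f (I₀ *ᵥ w) v₁ = 0 := by rw [hIf, e2, neg_zero]
    have e4 : f (I₀ *ᵥ w) (I₀ *ᵥ v₁) = 0 := by rw [hIiso, e1]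
    simp only [hg, π, hf.bilinear.add_right, hf.bilinear.smul_right, e3, e4, mul_zero, add_zero]
    exact hu)
  obtain ⟨w1, w2⟩ := (hW v₂).mp hv₂W
  let vs : Fin 2 → N₂ → F := ![v₁, v₂]
  have horth : ∀ i j, f (vs i) (vs j) = 0 := fun i j => by
    fin_cases i <;> fin_cases j <;> simp [vs, hf.alternating, w1, hf.skew v₁ v₂]
  have hvsI : ∀ i j, f (I₀ *ᵥ vs i) (vs j) = if i = j then 1 else 0 := fun i j => by
    fin_cases i <;> fin_cases j <;> simp [vs]
    · exact hv₁0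
    · rw [hf.skew, w2, neg_zero]
    · rw [hIf, w2, neg_zero]
    · exact hv₂
  obtain ⟨P, hP, hPx⟩ := exists_frame (Sum.elim vs (fun j => I₀ *ᵥ vs j)) (by
    rintro (i | i) (j | j)
    · show f (vs i) (vs j) = _
      simp [horth, Matrix.J, Matrix.fromBlocks]
    · show f (vs i) (I₀ *ᵥ vs j) = _
      rw [hf.skew, hvsI]
      simp [Matrix.J, Matrix.fromBlocks, Matrix.one_apply, eq_comm]
    · show f (I₀ *ᵥ vs i) (vs j) = _
      rw [hvsI]
      simp [Matrix.J, Matrix.fromBlocks, Matrix.one_apply]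
    · show f (I₀ *ᵥ vs i) (I₀ *ᵥ vs j) = _
      simp [hIiso, horth, Matrix.J, Matrix.fromBlocks])
  have hPs : ∀ s, (P : Matrix N₂ N₂ F) *ᵥ Pi.single s 1 = Sum.elim vs (fun j => I₀ *ᵥ vs j) s := fun s => by
    rw [hPx]; simp [Pi.single_apply]
  have hPJ : I₀ * (P : Matrix N₂ N₂ F) = (P : Matrix N₂ N₂ F) * Matrix.J (Fin 2) F := by
    refine Matrix.ext_of_mulVec_single fun s => ?_
    rw [← Matrix.mulVec_mulVec, ← Matrix.mulVec_mulVec, hPs]
    rcases s with i | i
    · have : Matrix.J (Fin 2) F *ᵥ Pi.single (Sum.inl i) 1 = Pi.single (Sum.inr i) 1 := by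
        funext t; rcases t with t | t <;> simp [Matrix.J, Matrix.fromBlocks, Matrix.one_apply, Pi.single_apply]
      rw [this, hPs]; rfl
    · have : Matrix.J (Fin 2) F *ᵥ Pi.single (Sum.inr i) 1 = -Pi.single (Sum.inl i) 1 := by
        funext t; rcases t with t | t <;> simp [Matrix.J, Matrix.fromBlocks, Matrix.one_apply, Pi.single_apply]
      rw [this, Matrix.mulVec_neg, hPs]
      exact hII' _
  -- transport to ZMod 3
  let ψ : F ≃+* Z := (ZMod.ringEquivOfPrime F Nat.prime_three hq).symm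
  let G : GL N₂ F →* GL N₂ Z := Matrix.GeneralLinearGroup.map (ψ : F →+* Z)
  let G' : GL N₂ Z →* GL N₂ F := Matrix.GeneralLinearGroup.map (ψ.symm : Z →+* F)
  have hGG : ∀ y, G (G' y) = y := fun y => Units.ext (Matrix.ext fun i j => ψ.apply_symm_apply _)
  have hJψ : (Matrix.J (Fin 2) F).map (ψ : F →+* Z) = Matrix.J (Fin 2) Z := by
    ext s t; rcases s with i | i <;> rcases t with j | j <;> simp [Matrix.J, Matrix.fromBlocks, Matrix.one_apply,
      apply_ite ψ]
  have hJψ' : (Matrix.J (Fin 2) Z).map (ψ.symm : Z →+* F) = Matrix.J (Fin 2) F := by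
    ext s t; rcases s with i | i <;> rcases t with j | j <;> simp [Matrix.J, Matrix.fromBlocks, Matrix.one_apply,
      apply_ite ψ.symm]
  have hsp' : ∀ y : GL N₂ Z, (y : Matrix N₂ N₂ Z)ᵀ * Matrix.J (Fin 2) Z * (y : Matrix N₂ N₂ Z) =
      Matrix.J (Fin 2) Z → G' y ∈ Cfsg.spGL 2 F := fun y hy => spGL_iff_gram.2 (by
    show ((y : Matrix N₂ N₂ Z).map (ψ.symm : Z →+* F))ᵀ * Matrix.J (Fin 2) F *
      (y : Matrix N₂ N₂ Z).map (ψ.symm : Z →+* F) = Matrix.J (Fin 2) F
    rw [← Matrix.transpose_map, ← hJψ', ← Matrix.map_mul, ← Matrix.map_mul, hy])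
  set M : Subgroup (GL N₂ F) :=
    Cfsg.spGL 2 F ⊓ frameStab.comap (G.comp (MulAut.conj P⁻¹).toMonoidHom) with hM
  have hMmem : ∀ y : GL N₂ Z, (y : Matrix N₂ N₂ Z)ᵀ * Matrix.J (Fin 2) Z * (y : Matrix N₂ N₂ Z) =
      Matrix.J (Fin 2) Z → (P * G' y * P⁻¹ ∈ M ↔ y ∈ frameStab) := fun y hy => by
    have h1 : P * G' y * P⁻¹ ∈ Cfsg.spGL 2 F := mul_mem (mul_mem hP (hsp' y hy)) (inv_mem hP)
    have h2 : G (P⁻¹ * (P * G' y * P⁻¹) * P⁻¹⁻¹) = y := by
      rw [inv_inv, show P⁻¹ * (P * G' y * P⁻¹) * P = G' y by group, hGG]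
    constructor
    · intro h
      have h' : G (P⁻¹ * (P * G' y * P⁻¹) * P⁻¹⁻¹) ∈ frameStab := h.2
      rwa [h2] at h'
    · intro h
      refine ⟨h1, ?_⟩
      show G (P⁻¹ * (P * G' y * P⁻¹) * P⁻¹⁻¹) ∈ frameStab
      rwa [h2]
  have hHJ : ∀ a ∈ H, cj (G (P⁻¹ * a * P)) (Matrix.J (Fin 2) Z) = Matrix.J (Fin 2) Z ∨
      cj (G (P⁻¹ * a * P)) (Matrix.J (Fin 2) Z) = -Matrix.J (Fin 2) Z := by
    intro a ha
    rw [heq] at ha
    obtain ⟨haK, haS⟩ := ha
    have hmem : cj a I₀ ∈ K := by rw [cj_apply]; exact (haK I₀).mp hIK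
    obtain ⟨c, d, hcd⟩ := hspanK _ hmem
    have hskew : ∀ u v, f (cj a I₀ *ᵥ u) v = -f u (cj a I₀ *ᵥ v) := fun u v => by
      rw [cj_apply]
      simp only [← Matrix.mulVec_mulVec]
      have hi : ∀ x y, f ((a : Matrix N₂ N₂ F) *ᵥ x) ((a : Matrix N₂ N₂ F) *ᵥ y) = f x y := mem_spGL_iff.1 haS
      set A := (a : Matrix N₂ N₂ F)
      set Ai := ((a⁻¹ : GL N₂ F) : Matrix N₂ N₂ F)
      have hAA : ∀ z, A *ᵥ (Ai *ᵥ z) = z := fun z => by
        rw [Matrix.mulVec_mulVec, Units.mul_inv, Matrix.one_mulVec]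
      calc f (A *ᵥ (I₀ *ᵥ (Ai *ᵥ u))) v = f (A *ᵥ (I₀ *ᵥ (Ai *ᵥ u))) (A *ᵥ (Ai *ᵥ v)) := by rw [hAA]
        _ = -f (Ai *ᵥ u) (I₀ *ᵥ (Ai *ᵥ v)) := by rw [hi, hIf]
        _ = -f (A *ᵥ (Ai *ᵥ u)) (A *ᵥ (I₀ *ᵥ (Ai *ᵥ v))) := by rw [hi]
        _ = _ := by rw [hAA]
    have hc : c = 0 := by
      by_contra hc
      have h0 : c • (1 : Matrix N₂ N₂ F) = 0 := hext _ fun u v => by
        have h1 := hskew u v
        rw [hcd, Matrix.add_mulVec, Matrix.add_mulVec, Matrix.smul_mulVec, Matrix.smul_mulVec, Matrix.smul_mulVec,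
          Matrix.smul_mulVec, Matrix.one_mulVec, Matrix.one_mulVec, hf.bilinear.add_left, hf.bilinear.add_right,
          hf.bilinear.smul_left, hf.bilinear.smul_left, hf.bilinear.smul_right, hf.bilinear.smul_right] at h1
        rw [Matrix.smul_mulVec, Matrix.one_mulVec, hf.bilinear.smul_left]
        refine (mul_eq_zero.mp (?_ : (2 : F) * (c * f u v) = 0)).resolve_left h2
        linear_combination h1 - d * hIf u v
      have h5 := congrFun (congrFun h0 (Sum.inl 0)) (Sum.inl 0)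
      simp at h5
      exact hc h5
    rw [hc, zero_smul, zero_add] at hcd
    have hd : d * d = 1 := by
      have h3 : cj a I₀ * cj a I₀ = -1 := by rw [← map_mul, hII, map_neg, map_one]
      rw [hcd, Matrix.smul_mul, Matrix.mul_smul, smul_smul, hII, smul_neg, neg_inj] at h3
      have := congrFun (congrFun h3 (Sum.inl 0)) (Sum.inl 0)
      simpa using this
    have hPi : ((P⁻¹ : GL N₂ F) : Matrix N₂ N₂ F) * I₀ * (P : Matrix N₂ N₂ F) = Matrix.J (Fin 2) F := by
      rw [mul_assoc, hPJ, ← mul_assoc, Units.inv_mul, one_mul]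
    have hkey : cj (P⁻¹ * a * P) (Matrix.J (Fin 2) F) = d • Matrix.J (Fin 2) F := by
      have e : cj (P⁻¹ * a * P) (Matrix.J (Fin 2) F) = ((P⁻¹ : GL N₂ F) : Matrix N₂ N₂ F) * cj a I₀ *
          (P : Matrix N₂ N₂ F) := by
        have e2 : (P : Matrix N₂ N₂ F) * Matrix.J (Fin 2) F * ((P⁻¹ : GL N₂ F) : Matrix N₂ N₂ F) = I₀ := by
          rw [← hPJ, mul_assoc, Units.mul_inv, mul_one]
        rw [cj_apply, cj_apply, ← e2, _root_.mul_inv_rev, _root_.mul_inv_rev, inv_inv, Units.val_mul, Units.val_mul,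
          Units.val_mul, Units.val_mul]
        simp only [mul_assoc]
      rw [e, hcd, Matrix.mul_smul, Matrix.smul_mul, hPi]
    have himg : cj (G (P⁻¹ * a * P)) (Matrix.J (Fin 2) Z) =
        (cj (P⁻¹ * a * P) (Matrix.J (Fin 2) F)).map (ψ : F →+* Z) := by
      rw [cj_apply, cj_apply, Matrix.map_mul, Matrix.map_mul, hJψ, ← map_inv]
      rfl
    rcases mul_self_eq_one_iff.mp hd with rfl | rfl
    · left
      rw [himg, hkey, one_smul, hJψ]
    · right
      rw [himg, hkey, neg_one_smul, Matrix.map_neg _ (map_neg _), hJψ]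
  have hHM : H ≤ M := by
    intro a ha
    have haS : a ∈ Cfsg.spGL 2 F := hH.1.le ha
    refine ⟨haS, ?_⟩
    show G (P⁻¹ * a * P⁻¹⁻¹) ∈ frameStab
    rw [inv_inv]
    intro s hs
    have hyS : G (P⁻¹ * a * P) ∈ Cfsg.spGL 2 Z := spGL_iff_gram.2 (by
      have h1 := spGL_iff_gram.1 (mul_mem (mul_mem (inv_mem hP) haS) hP)
      have h3 := congrArg (fun A => A.map (ψ : F →+* Z)) h1
      simp only [Matrix.map_mul, hJψ] at h3
      exact h3)
    obtain ⟨h1, h2⟩ := conj_gram hyS hs.1 hs.2.1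
    refine ⟨h1, h2, ?_⟩
    set y := G (P⁻¹ * a * P)
    rcases hHJ a ha with hJ | hJ <;> rcases hs.2.2 with ⟨hc1, hc2, hc3⟩ | hc
    · refine Or.inl ⟨?_, fun h => hc2 (cj_inj (h.trans (map_one _).symm)),
        fun h => hc3 (cj_inj (h.trans (by rw [map_neg, map_one])))⟩
      rw [← hJ, ← map_mul, ← map_mul, hc1]
    · exact Or.inr (by rw [← hJ, ← map_mul, ← map_mul, hc, map_neg])
    · refine Or.inl ⟨?_, fun h => hc2 (cj_inj (h.trans (map_one _).symm)),
        fun h => hc3 (cj_inj (h.trans (by rw [map_neg, map_one])))⟩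
      rw [show Matrix.J (Fin 2) Z = -cj y (Matrix.J (Fin 2) Z) by rw [hJ, neg_neg], mul_neg, neg_mul, ← map_mul,
        ← map_mul, hc1]
    · refine Or.inr ?_
      rw [show Matrix.J (Fin 2) Z = -cj y (Matrix.J (Fin 2) Z) by rw [hJ, neg_neg], mul_neg, neg_mul, ← map_mul,
        ← map_mul, hc, map_neg]
  rcases hH.2 M hHM inf_le_left with hMH | hMS
  · -- the element of order three
    have hx : P * G' xGL * P⁻¹ ∈ H := hMH ▸ (hMmem xGL x_spec.1).2 (fun s hs => by
      rw [cj_apply]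
      rcases cond_cases hs with ⟨a, b, d, e, rfl⟩ | ⟨a, b, rfl⟩
      · exact x_com a b d e hs
      · exact x_anti a b hs)
    have h1 := hHJ _ hx
    rw [show P⁻¹ * (P * G' xGL * P⁻¹) * P = G' xGL by group, hGG, cj_apply] at h1
    exact h1.elim x_spec.2.1 x_spec.2.2
  · have ht : P * G' tGL * P⁻¹ ∈ M := hMS ▸ mul_mem (mul_mem hP (hsp' _ t_spec.1)) (inv_mem hP)
    have h1 := (hMmem tGL t_spec.1).1 ht _ t_spec.2.1
    rw [cj_apply] at h1
    exact t_spec.2.2 h1

end Cfsg.Agent.Aschbacher.Sp4Three
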