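import Cfsg.Agent.Lib.Aschbacher.Criterion
import Cfsg.Agent.Lib.Components.GenFitting
import Cfsg.Agent.Lib.OddOrderTheorem.Basic

/-!
# Tightly embedded subgroups meeting the conjugates' normaliser oddly (owner: helper65)

* `s3121_of_criterion` : the statement of S3121 from `CoreFreeCriterion`
-/

set_option autoImplicit false

namespace Cfsg.Agent.Aschbacher

open Cfsg Involution
open scoped Pointwise commutatorElement

universe u

variable {G : Type u} [Group G] [Finite G]

theorem s3121_of_criterion (hA : CoreFreeCriterion.{u})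
    (hF : IsSimpleGroup ↥(Cfsg.generalizedFittingSubgroup G))
    (hF' : ¬ IsMulCommutative ↥(Cfsg.generalizedFittingSubgroup G))
    (H : Subgroup G) (hH : Cfsg.IsTightlyEmbedded H)
    (hodd : ∀ g : G, g ∉ Subgroup.normalizer (H : Set G) →
      Odd (Nat.card ↥(H.map (MulAut.conj g).toMonoidHom ⊓ Subgroup.normalizer (H : Set G)))) :
    H.Normal ∨ ∃ M : Subgroup ↥(Cfsg.generalizedFittingSubgroup G), Cfsg.IsStronglyEmbedded M := by
  haveI : Fact (Nat.Prime 2) := ⟨Nat.prime_two⟩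
  rw [or_iff_not_imp_left]
  intro hnn
  set X := Cfsg.generalizedFittingSubgroup G with hX
  haveI hXn : X.Normal := by
    haveI : (Cfsg.layer G).Normal := Components.layer_normal
    haveI : (Cfsg.fittingSubgroup G).Normal := inferInstance
    rw [hX]
    exact Subgroup.sup_normal _ _
  set N := Subgroup.normalizer (H : Set G) with hN
  have hHN : H ≤ N := Subgroup.le_normalizer
  have hNtop : N ≠ ⊤ := fun e => hnn (Subgroup.normalizer_eq_top_iff.1 e)
  have hev : ∀ {K : Subgroup G} (x : G), orderOf x = 2 → x ∈ K → ¬ Odd (Nat.card K) := by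
    intro K x hx hxK h
    have h1 := Subgroup.orderOf_dvd_natCard K hxK
    rw [hx, ← even_iff_two_dvd] at h1
    exact Nat.not_even_iff_odd.2 h h1
  have hmem : ∀ {x : G}, orderOf x = 2 → x ∈ H → ∀ g : G, g * x * g⁻¹ ∈ N → g ∈ N := by
    intro x hx hxH g hg
    by_contra hgN
    exact hev (K := H.map (MulAut.conj g).toMonoidHom ⊓ N) (g * x * g⁻¹) (by rw [orderOf_conj, hx])
      ⟨⟨x, hxH, rfl⟩, hg⟩ (hodd g hgN)
  -- a Sylow subgroup of `N` is one of `G`
  obtain ⟨Tn⟩ : Nonempty (Sylow 2 N) := inferInstance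
  set T₀ := (Tn : Subgroup N).map N.subtype with hT₀
  have hT₀N : T₀ ≤ N := Subgroup.map_subtype_le _
  obtain ⟨T, hT⟩ := (Tn.isPGroup'.map N.subtype).exists_le_sylow
  have hHev := hH.1
  rw [even_iff_two_dvd] at hHev
  obtain ⟨w, hw⟩ := exists_prime_orderOf_dvd_card' (G := H) 2 hHev
  have hTN : (T : Subgroup G) ≤ N := by
    by_contra hle
    set S : Subgroup G := (T : Subgroup G) ⊓ N
    have hST : S.subgroupOf T < ⊤ := lt_top_iff_ne_top.2 fun e => hle fun x hx => by
      have := (Subgroup.subgroupOf_eq_top.1 e) hx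
      exact this.2
    haveI := IsPGroup.isNilpotent T.isPGroup'
    obtain ⟨⟨g, hgT⟩, hgn, hgS⟩ := SetLike.exists_of_lt (Group.normalizerCondition_of_isNilpotent _ hST)
    have hgN : g ∉ N := fun h => hgS (Subgroup.mem_subgroupOf.2 ⟨hgT, h⟩)
    obtain ⟨Q, hQ⟩ : ∃ Q : Sylow 2 N, (⟨(w : G), hHN w.2⟩ : N) ∈ (Q : Subgroup N) := by
      obtain ⟨Q, hQ⟩ := (IsPGroup.of_card (p := 2) (G := Subgroup.zpowers (⟨(w : G), hHN w.2⟩ : N))
        (n := 1) (by rw [Nat.card_zpowers, Subgroup.orderOf_mk, Subgroup.orderOf_coe, hw, pow_one])).exists_le_sylow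
      exact ⟨Q, hQ (Subgroup.mem_zpowers _)⟩
    obtain ⟨n, hn⟩ := MulAction.exists_smul_eq N Q Tn
    set w' : G := (n : G) * w * (n : G)⁻¹
    have hw'T₀ : w' ∈ T₀ := by
      refine ⟨n * ⟨(w : G), hHN w.2⟩ * n⁻¹, ?_, rfl⟩
      show _ ∈ (Tn : Subgroup N)
      rw [← hn, Sylow.coe_subgroup_smul, Coprime.mem_conj]
      simpa [mul_assoc] using hQ
    have hw'H : w' ∈ H := (Subgroup.mem_normalizer_iff.1 n.2 _).1 w.2
    have hw'S : (⟨w', hT hw'T₀⟩ : T) ∈ S.subgroupOf T :=
      Subgroup.mem_subgroupOf.2 ⟨hT hw'T₀, hT₀N hw'T₀⟩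
    have h1 := (Subgroup.mem_normalizer_iff.1 hgn _).1 hw'S
    exact hgN (hmem (by rw [orderOf_conj, Subgroup.orderOf_coe, hw]) hw'H g
      (Subgroup.mem_subgroupOf.1 h1).2)
  have hTeq : T₀ = (T : Subgroup G) := by
    refine le_antisymm hT fun x hx => ?_
    have e := Tn.is_maximal' (Q := (T : Subgroup G).subgroupOf N)
      (T.isPGroup'.comap_of_injective N.subtype N.subtype_injective)
      fun y hy => hT ⟨y, hy, rfl⟩
    exact ⟨⟨x, hTN hx⟩, e.le hx, rfl⟩
  -- a central involution of `T` in `H`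
  have hHn : ((H ⊓ (T : Subgroup G)).subgroupOf T).Normal := by
    refine ⟨fun x hx t => Subgroup.mem_subgroupOf.2 ⟨?_, (t * x * t⁻¹).2⟩⟩
    exact (Subgroup.mem_normalizer_iff.1 (hTN t.2) _).1 (Subgroup.mem_subgroupOf.1 hx).1
  haveI := hHn
  have hne : (H ⊓ (T : Subgroup G)).subgroupOf T ≠ ⊥ := by
    obtain ⟨Q, hQ⟩ : ∃ Q : Sylow 2 N, (⟨(w : G), hHN w.2⟩ : N) ∈ (Q : Subgroup N) := by
      obtain ⟨Q, hQ⟩ := (IsPGroup.of_card (p := 2) (G := Subgroup.zpowers (⟨(w : G), hHN w.2⟩ : N))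
        (n := 1) (by rw [Nat.card_zpowers, Subgroup.orderOf_mk, Subgroup.orderOf_coe, hw, pow_one])).exists_le_sylow
      exact ⟨Q, hQ (Subgroup.mem_zpowers _)⟩
    obtain ⟨n, hn⟩ := MulAction.exists_smul_eq N Q Tn
    have hwT₀ : (n : G) * w * (n : G)⁻¹ ∈ T₀ := by
      refine ⟨n * ⟨(w : G), hHN w.2⟩ * n⁻¹, ?_, rfl⟩
      show _ ∈ (Tn : Subgroup N)
      rw [← hn, Sylow.coe_subgroup_smul, Coprime.mem_conj]
      simpa [mul_assoc] using hQ
    intro e
    have h1 : (⟨_, hT hwT₀⟩ : T) ∈ (H ⊓ (T : Subgroup G)).subgroupOf T :=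
      Subgroup.mem_subgroupOf.2 ⟨(Subgroup.mem_normalizer_iff.1 n.2 _).1 w.2, hT hwT₀⟩
    rw [e, Subgroup.mem_bot] at h1
    have h2 : orderOf ((n : G) * w * (n : G)⁻¹) = 2 := by rw [orderOf_conj, Subgroup.orderOf_coe, hw]
    rw [show (n : G) * w * (n : G)⁻¹ = 1 from congrArg Subtype.val h1, orderOf_one] at h2
    omega
  obtain ⟨z, hzH, hzZ, hz2⟩ := PGroup.exists_central_order_p (p := 2) T.isPGroup' hne
  set z' : G := (z : G) with hz'
  have hz : orderOf z' = 2 := by rw [hz', Subgroup.orderOf_coe, hz2]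
  have hzH' : z' ∈ H := (Subgroup.mem_subgroupOf.1 hzH).1
  have hPz : ∀ s ∈ (T : Subgroup G), Commute s z' := fun s hs =>
    congrArg Subtype.val (Subgroup.mem_center_iff.1 hzZ ⟨s, hs⟩)
  -- the core of `N` is trivial
  have hC : Subgroup.centralizer (X : Set G) ≤ X := Components.centralizer_genFitting_le
  have hXne : X ≠ ⊥ := fun e => by
    haveI := hF.1
    exact (Subgroup.nontrivial_iff_ne_bot X).1 inferInstance e
  have hXcap : ∀ K : Subgroup G, X ≤ Subgroup.normalizer (K : Set G) → X ≤ K ∨ K ⊓ X = ⊥ := by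
    intro K hK
    haveI : (K.subgroupOf X).Normal := Subgroup.normal_subgroupOf_of_le_normalizer hK
    rcases (inferInstance : (K.subgroupOf X).Normal).eq_bot_or_eq_top with e | e
    · exact Or.inr (by rw [← Subgroup.subgroupOf_eq_bot.trans disjoint_iff]; exact e)
    · exact Or.inl (Subgroup.subgroupOf_eq_top.1 e)
  have hXN : ¬ X ≤ N := by
    intro hle
    rcases hXcap H hle with h | h
    · refine hNtop (top_unique fun g _ => by_contra fun hg => ?_)
      have hXev : ¬ Odd (Nat.card X) := fun ho =>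
        hF' (by
          haveI := hF
          haveI := OddOrderTheorem.solvable ho
          exact ⟨⟨IsSimpleGroup.comm_iff_isSolvable.2 inferInstance⟩⟩)
      have hsub : X ≤ H.map (MulAut.conj g).toMonoidHom ⊓ N := le_inf (fun x hx =>
        ⟨g⁻¹ * x * g, h (by simpa using hXn.conj_mem x hx g⁻¹), by simp [mul_assoc]⟩) hle
      exact hXev ((hodd g hg).of_dvd_nat (Subgroup.card_dvd_of_le hsub))
    · have hc : H ≤ Subgroup.centralizer (X : Set G) := by
        rw [← Subgroup.commutator_eq_bot_iff_le_centralizer]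
        exact le_bot_iff.1 ((le_inf (Subgroup.le_normalizer_iff_commutator_le_left.1 hle)
          (Subgroup.commutator_le_right H X)).trans h.le)
      have h1 : z' ∈ H ⊓ X := ⟨hzH', hC (hc hzH')⟩
      rw [h, Subgroup.mem_bot] at h1
      rw [h1, orderOf_one] at hz
      omega
  have hcore : N.normalCore = ⊥ := by
    rcases hXcap N.normalCore (fun x _ => (Subgroup.normalizer_eq_top (H := N.normalCore)).ge
      (Subgroup.mem_top x)) with h | h
    · exact absurd (h.trans N.normalCore_le) hXN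
    · have hc : N.normalCore ≤ Subgroup.centralizer (X : Set G) := by
        rw [← Subgroup.commutator_eq_bot_iff_le_centralizer]
        exact le_bot_iff.1 ((Subgroup.commutator_le_inf _ _).trans h.le)
      exact le_bot_iff.1 ((le_inf le_rfl (hc.trans hC)).trans h.le)
  have hzN : z' ∈ N := hHN hzH'
  have hiff : ∀ g : G, g * z' * g⁻¹ ∈ N ↔ g ∈ N := fun g =>
    ⟨hmem hz hzH' g, fun hg => N.mul_mem (N.mul_mem hg hzN) (N.inv_mem hg)⟩
  have h3 : ∀ g : G, Commute z' (g * z' * g⁻¹) → g * z' * g⁻¹ ≠ z' →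
      Subgroup.centralizer ({z' * (g * z' * g⁻¹)} : Set G) ≤ N := by
    intro g hc hne c hc'
    have hgN : g ∈ N := by
      refine (hiff g).1 (hmem hz hzH' _ ?_)
      rw [← hc.eq, mul_inv_cancel_right]
      exact hzN
    have hv : z' * (g * z' * g⁻¹) ∈ H :=
      H.mul_mem hzH' ((Subgroup.mem_normalizer_iff.1 hgN _).1 hzH')
    have hv2 : orderOf (z' * (g * z' * g⁻¹)) = 2 := by
      refine orderOf_of_sq ?_ fun h => hne ?_
      · calc _ = z' * ((g * z' * g⁻¹) * z') * (g * z' * g⁻¹) := by group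
          _ = (z' * z') * (g * (z' * z') * g⁻¹) := by rw [← hc.eq]; group
          _ = 1 := by rw [mul_self hz]; group
      · rw [← mul_right_inj z', h, mul_self hz]
    by_contra hcN
    exact hev (K := H ⊓ H.map (MulAut.conj c).toMonoidHom) _ hv2 ⟨hv, ⟨_, hv, by
      show c * _ * c⁻¹ = _
      rw [mem_centralizer_singleton.1 hc', mul_inv_cancel_right]⟩⟩ (hH.2 c hcN)
  have hK := hA G T z' N hz (by rw [hz']; exact z.2) hPz hNtop hcore hiff h3
  set K := Subgroup.normalClosure ({z'} : Set G)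
  have hXK : X ≤ K := by
    rcases hXcap K (fun x _ => (Subgroup.normalizer_eq_top (H := K)).ge (Subgroup.mem_top x)) with h | h
    · exact h
    · exfalso
      have hc : K ≤ Subgroup.centralizer (X : Set G) := by
        rw [← Subgroup.commutator_eq_bot_iff_le_centralizer]
        exact le_bot_iff.1 ((Subgroup.commutator_le_inf _ _).trans h.le)
      have h1 : z' ∈ K ⊓ X := ⟨Subgroup.subset_normalClosure rfl, hC (hc (Subgroup.subset_normalClosure rfl))⟩
      rw [h, Subgroup.mem_bot] at h1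
      rw [h1, orderOf_one] at hz
      omega
  -- an involution of `X` in `N`
  obtain ⟨y, hy⟩ : ∃ y : X, orderOf y = 2 := by
    refine exists_prime_orderOf_dvd_card' 2 ?_
    by_contra h2
    have ho : Odd (Nat.card X) := by rwa [← Nat.not_even_iff_odd, even_iff_two_dvd]
    haveI := hF
    haveI := OddOrderTheorem.solvable ho
    exact hF' ⟨⟨IsSimpleGroup.comm_iff_isSolvable.2 inferInstance⟩⟩
  obtain ⟨Q, hQ⟩ := (IsPGroup.of_card (p := 2) (G := Subgroup.zpowers (y : G)) (n := 1)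
    (by rw [Nat.card_zpowers, Subgroup.orderOf_coe, hy, pow_one])).exists_le_sylow
  obtain ⟨k, hk⟩ := MulAction.exists_smul_eq G Q T
  set s := k * (y : G) * k⁻¹
  have hsT : s ∈ (T : Subgroup G) := by
    rw [← hk, Sylow.coe_subgroup_smul, Coprime.mem_conj]
    simpa [s, mul_assoc] using hQ (Subgroup.mem_zpowers _)
  refine ⟨N.subgroupOf X, isStronglyEmbedded_iff_forall.2 ⟨?_, ?_, ?_⟩⟩
  · rwa [Ne, Subgroup.subgroupOf_eq_top]
  · rw [even_iff_two_dvd]
    calc 2 = orderOf (⟨s, hXn.conj_mem _ y.2 k⟩ : X) := by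
            rw [Subgroup.orderOf_mk, orderOf_conj, Subgroup.orderOf_coe, hy]
      _ ∣ _ := Subgroup.orderOf_dvd_natCard _ (Subgroup.mem_subgroupOf.2 (hTN hsT))
  · intro g t ht htN hg
    exact mem_of_conj_mem hK (g := ⟨(g : G), hXK g.2⟩) (t := ⟨(t : G), hXK t.2⟩)
      (by rw [Subgroup.orderOf_mk, Subgroup.orderOf_coe, ht]) htN hg

end Cfsg.Agent.Aschbacher
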