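/-
A semilinear involution of a hermitian space, preserving the form up to sign and commuting with a group up to
scalars, puts the group into a subfield group of index two.
Main results: `semilinear_descent`, `subfield_of_semilinear`.
-/
import Cfsg.Agent.Lib.Aschbacher.UnitaryCases
import Cfsg.Agent.Lib.Unitary.SympInU

set_option autoImplicit false

namespace Cfsg.Agent.Aschbacher

open Matrix
open Cfsg.Agent.PrimeDim

variable {F : Type*} [Field F] [Fintype F] {n q : ℕ}

local notation "hq" => Cfsg.hermForm n F q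

/-- A semilinear involution has a basis of fixed vectors. -/
theorem semilinear_descent (hF : Fintype.card F = q ^ 2) (J : (Fin n → F) → (Fin n → F))
    (hadd : ∀ x y, J (x + y) = J x + J y) (hsmul : ∀ (c : F) x, J (c • x) = Unitary.conjHom hF c • J x)
    (hJJ : ∀ x, J (J x) = x) :
    ∃ P : GL (Fin n) F, ∀ u : Fin n → F, J ((P : Matrix (Fin n) (Fin n) F) *ᵥ u) =
      (P : Matrix (Fin n) (Fin n) F) *ᵥ (Unitary.conjHom hF ∘ u) := by
  classical
  set σ := Unitary.conjHom hF
  have hfixspan : Submodule.span F {x | J x = x} = ⊤ := by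
    obtain ⟨ω, hω⟩ : ∃ ω : F, σ ω ≠ ω := by
      by_contra hcon
      simp only [not_exists, not_not] at hcon
      exact Unitary.conjHom_ne_id hF (RingHom.ext hcon)
    rw [eq_top_iff]
    intro x _
    have e1 : J (x + J x) = x + J x := by rw [hadd, hJJ, add_comm]
    have e2 : J (ω • x + J (ω • x)) = ω • x + J (ω • x) := by rw [hadd, hJJ, add_comm]
    have h1 : (σ ω - ω) • x = σ ω • (x + J x) - (ω • x + J (ω • x)) := by
      rw [hsmul, smul_add, sub_smul]; abel
    have h2 : (σ ω - ω) • x ∈ Submodule.span F {x | J x = x} := by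
      rw [h1]
      exact Submodule.sub_mem _ (Submodule.smul_mem _ _ (Submodule.subset_span e1)) (Submodule.subset_span e2)
    exact (Submodule.smul_mem_iff _ (sub_ne_zero.mpr hω)).mp h2
  obtain ⟨s, hs, hsspan, hsli⟩ := exists_linearIndependent F {x : Fin n → F | J x = x}
  have : Fintype s := Fintype.ofFinite s
  let bs : Module.Basis s F (Fin n → F) := Module.Basis.mk hsli (by
    rw [Subtype.range_coe_subtype, Set.setOf_mem_eq, hsspan, hfixspan])
  let e : Fin n ≃ s := (Fintype.equivFinOfCardEq (by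
    rw [← Module.finrank_eq_card_basis bs, Module.finrank_fintype_fun_eq_card, Fintype.card_fin])).symm
  let P₀ : Matrix (Fin n) (Fin n) F := Matrix.of fun i k => (e k : Fin n → F) i
  have hPu : IsUnit P₀ := by
    rw [← Matrix.linearIndependent_cols_iff_isUnit]
    exact hsli.comp e e.injective
  refine ⟨hPu.unit, fun u => ?_⟩
  let Jh : (Fin n → F) →+ (Fin n → F) := AddMonoidHom.mk' J hadd
  have hexp : ∀ u : Fin n → F, (hPu.unit : Matrix (Fin n) (Fin n) F) *ᵥ u = ∑ k, u k • (e k : Fin n → F) :=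
    fun u => by
    funext i
    simp [P₀, IsUnit.unit_spec, Matrix.mulVec, dotProduct, Finset.sum_apply, mul_comm]
  rw [hexp, hexp, show J (∑ k, u k • (e k : Fin n → F)) = Jh (∑ k, u k • (e k : Fin n → F)) from rfl, map_sum]
  refine Finset.sum_congr rfl fun k _ => ?_
  show J (u k • (e k : Fin n → F)) = _
  rw [hsmul, show J (e k : Fin n → F) = e k from hs (e k).2]
  rfl

/-- The subfield group attached to a semilinear involution. -/
theorem subfield_of_semilinear (hF : Fintype.card F = q ^ 2) (J : (Fin n → F) → (Fin n → F))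
    (hadd : ∀ x y, J (x + y) = J x + J y) (hsmul : ∀ (c : F) x, J (c • x) = Unitary.conjHom hF c • J x)
    (hJJ : ∀ x, J (J x) = x) {ε ζ : F} (hε : ε * ε = 1) (hζ : Unitary.conjHom hF ζ = ε * ζ)
    (hform : ∀ x y, hq (J x) (J y) = ε * Unitary.conjHom hF (hq x y)) :
    ∃ (F₀ : Subfield F) (P : GL (Fin n) F), Fintype.card F = Nat.card F₀ ^ 2 ∧ F₀ ≠ ⊤ ∧
      Geo.IsFormRationalStructure hq F₀ ζ P ∧
      (∀ u : Fin n → F, (∀ i, u i ∈ F₀) →
        J ((P : Matrix (Fin n) (Fin n) F) *ᵥ u) = (P : Matrix (Fin n) (Fin n) F) *ᵥ u) ∧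
      ∀ g : GL (Fin n) F, (∃ c : F, ∀ z, J ((g : Matrix (Fin n) (Fin n) F) *ᵥ z) =
        c • ((g : Matrix (Fin n) (Fin n) F) *ᵥ J z)) → g ∈ Geo.subfieldSubgroup F₀ P := by
  classical
  set σ := Unitary.conjHom hF with hσ
  have hσσ : ∀ c : F, σ (σ c) = c := fun c => by
    rw [hσ, conjHom_apply', conjHom_apply']; exact Unitary.pow_q_pow_q hF c
  obtain ⟨P, hJP⟩ := semilinear_descent hF J hadd hsmul hJJ
  let F₀ := Unitary.fixedField hF
  have hmem0 : ∀ x : F, x ∈ F₀ ↔ σ x = x := fun x => by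
    rw [hσ, conjHom_apply']; exact Unitary.mem_fixedField hF
  have hcard0 : Nat.card F₀ = q := by
    have := Unitary.card_fixed hF
    exact (Nat.card_congr (Equiv.subtypeEquivRight fun x => Unitary.mem_fixedField hF)).trans this
  have hfix : ∀ u : Fin n → F, (∀ i, u i ∈ F₀) →
      J ((P : Matrix (Fin n) (Fin n) F) *ᵥ u) = (P : Matrix (Fin n) (Fin n) F) *ᵥ u := fun u hu => by
    rw [hJP, show σ ∘ u = u from funext fun i => (hmem0 _).mp (hu i)]
  have hPinj : ∀ u v : Fin n → F, (P : Matrix (Fin n) (Fin n) F) *ᵥ u = (P : Matrix (Fin n) (Fin n) F) *ᵥ v →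
      u = v := fun u v h => Matrix.mulVec_injective_iff_isUnit.mpr P.isUnit h
  refine ⟨F₀, P, by rw [hcard0, hF], fun h => Unitary.conjHom_ne_id hF (RingHom.ext fun x =>
    (hmem0 x).mp (h ▸ Subfield.mem_top x)), ?_, hfix, ?_⟩
  · intro u v hu hv
    rw [hmem0, map_mul, hζ]
    have h1 := hform ((P : Matrix (Fin n) (Fin n) F) *ᵥ u) ((P : Matrix (Fin n) (Fin n) F) *ᵥ v)
    rw [hfix u hu, hfix v hv] at h1
    conv_rhs => rw [h1]
    ring
  rintro g ⟨c, hc⟩
  have hcc : ∀ z, (σ c * c) • ((g : Matrix (Fin n) (Fin n) F) *ᵥ z) = (g : Matrix (Fin n) (Fin n) F) *ᵥ z := by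
    intro z
    have h1 := congrArg J (hc z)
    rw [hJJ, hsmul, hc, hJJ, smul_smul] at h1
    exact h1.symm
  rcases Nat.eq_zero_or_pos n with rfl | hn
  · refine Unitary.mem_subfieldSubgroup_of_map (one_ne_zero (α := F)) fun u => ⟨fun i => i.elim0, ?_⟩
    funext i; exact i.elim0
  have hc1 : σ c * c = 1 := by
    have h1 := congrFun (hcc (((g⁻¹ : GL (Fin n) F) : Matrix (Fin n) (Fin n) F) *ᵥ Pi.single ⟨0, hn⟩ 1)) ⟨0, hn⟩
    rw [Pi.smul_apply, Matrix.mulVec_mulVec, Units.mul_inv, Matrix.one_mulVec, Pi.single_eq_same, smul_eq_mul,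
      mul_one] at h1
    exact h1
  obtain ⟨t, ht⟩ : ∃ t, t + c * σ t ≠ 0 := by
    by_cases h : c = -1
    · obtain ⟨ω, hω⟩ : ∃ ω : F, σ ω ≠ ω := by
        by_contra hcon
        simp only [not_exists, not_not] at hcon
        exact Unitary.conjHom_ne_id hF (RingHom.ext hcon)
      exact ⟨ω, fun h0 => hω (by rw [h] at h0; linear_combination -h0)⟩
    · exact ⟨1, fun h0 => h (by rw [map_one, mul_one] at h0; linear_combination h0)⟩
  set b := t + c * σ t with hb
  have hbc : σ b * c = b := by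
    rw [hb, map_add, map_mul, hσσ]
    linear_combination t * hc1
  refine Unitary.mem_subfieldSubgroup_of_map (inv_ne_zero ht) fun u => ?_
  set z := b • ((g : Matrix (Fin n) (Fin n) F) *ᵥ ((P : Matrix (Fin n) (Fin n) F) *ᵥ fun i => (u i : F))) with hz
  have hzfix : J z = z := by
    rw [hz, hsmul, hc, hfix _ (fun i => (u i).2), smul_smul, hbc]
  set v := ((P⁻¹ : GL (Fin n) F) : Matrix (Fin n) (Fin n) F) *ᵥ z with hv
  have hzP : (P : Matrix (Fin n) (Fin n) F) *ᵥ v = z := by
    rw [hv, Matrix.mulVec_mulVec, Units.mul_inv, Matrix.one_mulVec]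
  have hvfix : ∀ i, v i ∈ F₀ := fun i => (hmem0 _).mpr
    (congrFun (hPinj (σ ∘ v) v (by rw [← hJP, hzP, hzfix])) i)
  refine ⟨fun i => ⟨v i, hvfix i⟩, ?_⟩
  show (g : Matrix (Fin n) (Fin n) F) *ᵥ ((P : Matrix (Fin n) (Fin n) F) *ᵥ fun i => (u i : F)) =
    b⁻¹ • ((P : Matrix (Fin n) (Fin n) F) *ᵥ v)
  rw [hzP, hz, smul_smul, inv_mul_cancel₀ ht, one_smul]

end Cfsg.Agent.Aschbacher
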