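/-
The monomial subgroup of SU_6(2) is not maximal.
Main results: `su_six_two_lines`.
-/
import Cfsg.Agent.Lib.Aschbacher.UnitaryCases
import Cfsg.Agent.Lib.Transvect.NonMax
import Cfsg.Agent.Lib.Unitary.Small32
import Cfsg.Agent.Lib.FieldAut.Unitary

set_option autoImplicit false
set_option linter.unusedSectionVars false

namespace Cfsg.Agent.Aschbacher

open Matrix
open Cfsg.Agent.PrimeDim

variable {F : Type*} [Field F] [DecidableEq F]

/-- The special isotropic vectors: two non-zero entries, or six with product one. -/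
def SixSet (x : Fin 6 → F) : Prop :=
  ((∀ i, x i ≠ 0) ∧ ∏ i, x i = 1) ∨ (Finset.univ.filter fun i => x i ≠ 0).card = 2

instance (x : Fin 6 → F) : Decidable (SixSet x) := by unfold SixSet; infer_instance

theorem sixSet_shift_gf4 : ∀ a b c d e g : Unitary.GF4, SixSet ![a, b, c, d, e, g] →
    SixSet (fun i => ![a, b, c, d, e, g] i + (a + b + c + d + e + g)) := by decide +kernel

variable [Fintype F]

theorem sixSet_shift (hF : Fintype.card F = 2 ^ 2) {x : Fin 6 → F} (hx : SixSet x) :
    SixSet fun i => x i + ∑ j, x j := by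
  set φ : Unitary.GF4 ≃+* F := FiniteField.ringEquivOfCardEq (Unitary.GF4.card.trans hF.symm) with hφ
  have htr : ∀ y : Fin 6 → Unitary.GF4, SixSet (fun i => φ (y i)) ↔ SixSet y := fun y => by
    simp [SixSet, ← map_prod]
  let y : Fin 6 → Unitary.GF4 := fun i => φ.symm (x i)
  have hxy : x = fun i => φ (y i) := funext fun i => (φ.apply_symm_apply _).symm
  rw [hxy, htr] at hx
  have hy : ![y 0, y 1, y 2, y 3, y 4, y 5] = y := by funext i; fin_cases i <;> rfl
  have h := sixSet_shift_gf4 (y 0) (y 1) (y 2) (y 3) (y 4) (y 5) (by rwa [hy])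
  rw [hy, show y 0 + y 1 + y 2 + y 3 + y 4 + y 5 = ∑ j, y j from (Fin.sum_univ_six y).symm] at h
  rw [hxy]
  simpa [map_sum] using (htr _).mpr h

local notation "hq" => Cfsg.hermForm 6 F 2
local notation "Γ" => Cfsg.GU 6 F 2 ⊓ Geo.specialLinear (Fin 6) F

/-- No maximal subgroup of SU_6(2) is the stabiliser of six orthogonal lines. -/
theorem su_six_two_lines (hF : Fintype.card F = 2 ^ 2) {H : Subgroup (GL (Fin 6) F)}
    (hH : Geo.IsMaximalIn Γ H) {D : Fin 6 → Submodule F (Fin 6 → F)}
    (hD : Geo.IsNondegenerateMDecomposition hq 1 D) : H ≠ Geo.decompositionStabilizer D ⊓ Γ := by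
  classical
  intro hHeq
  have Hh := Unitary.hermForm_isHerm hF 6
  have h20 : (2 : F) = 0 := by
    have h := FiniteField.cast_card_eq_zero F
    rw [hF] at h
    push_cast at h
    have h' : (2 : F) ^ 2 = 0 := by linear_combination h
    exact eq_zero_of_pow_eq_zero h'
  have hone : (-1 : F) = 1 := by linear_combination -h20
  choose d' hd' using fun i => finrank_eq_one_iff'.mp (hD.decomp.finrank_eq i)
  let d : Fin 6 → Fin 6 → F := fun i => (d' i : Fin 6 → F)
  have hdD : ∀ i, d i ∈ D i := fun i => (d' i).2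
  have hspan : ∀ i, ∀ x ∈ D i, ∃ c : F, x = c • d i := fun i x hx => by
    obtain ⟨c, hc⟩ := (hd' i).2 ⟨x, hx⟩
    exact ⟨c, (congrArg Subtype.val hc).symm⟩
  have hunit : ∀ i, hq (d i) (d i) = 1 := by
    intro i
    have hne : hq (d i) (d i) ≠ 0 := by
      intro h0
      obtain ⟨x, hx, hne⟩ := (hD.nondegenerate i (d i) (hdD i) (fun h => (hd' i).1 (Subtype.ext h))).1
      obtain ⟨c, rfl⟩ := hspan i x hx
      rw [Hh.smul_left, h0, mul_zero] at hne
      exact hne rfl
    have h2 := (Hh.self_fixed (d i))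
    rw [sq] at h2
    exact (mul_eq_left₀ hne).mp h2
  let B₀ : Matrix (Fin 6) (Fin 6) F := Matrix.of fun k i => d i k
  have hgram : B₀ᵀ * B₀.map (Unitary.conjHom hF) = 1 := by
    ext i j
    have h1 : (B₀ᵀ * B₀.map (Unitary.conjHom hF)) i j = hq (d i) (d j) := rfl
    rw [h1, Matrix.one_apply]
    rcases eq_or_ne i j with rfl | hij
    · rw [if_pos rfl, hunit]
    · rw [if_neg hij]
      exact hD.orthogonal i j hij _ (hdD i) _ (hdD j)
  have hu : IsUnit B₀.det := by
    have := congrArg Matrix.det hgram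
    rw [Matrix.det_mul, Matrix.det_transpose, Matrix.det_one] at this
    exact IsUnit.of_mul_eq_one _ this
  let B : GL (Fin 6) F := ((Matrix.isUnit_iff_isUnit_det _).mpr hu).unit
  have hBv : (B : Matrix (Fin 6) (Fin 6) F) = B₀ := rfl
  have hBU : B ∈ Cfsg.GU 6 F 2 := (Agent.FieldAut.mem_GU_iff_matrix hF B).mpr hgram
  let co : (Fin 6 → F) → (Fin 6 → F) := fun x => ((B⁻¹ : GL (Fin 6) F) : Matrix (Fin 6) (Fin 6) F) *ᵥ x
  have hco : ∀ x, (B : Matrix (Fin 6) (Fin 6) F) *ᵥ co x = x := fun x => by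
    simp [co, Matrix.mulVec_mulVec]
  have hcoB : ∀ z, co ((B : Matrix (Fin 6) (Fin 6) F) *ᵥ z) = z := fun z => by
    simp [co, Matrix.mulVec_mulVec]
  have hcol : ∀ i, (B : Matrix (Fin 6) (Fin 6) F) *ᵥ Pi.single i 1 = d i := fun i => by
    rw [hBv, Matrix.mulVec_single_one]; rfl
  let K := Transvect.fixer (ι := Fin 6) (F := F) fun x => SixSet (co x)
  -- monomial elements preserve the set
  have hHK : H ≤ K := by
    rw [hHeq]
    rintro g ⟨⟨π, hπ⟩, hgU, hgdet⟩ x
    choose a ha using fun i => hspan (π i) ((g : Matrix (Fin 6) (Fin 6) F) *ᵥ d i)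
      (by rw [← hπ i]; exact ⟨d i, hdD i, rfl⟩)
    set M := ((B⁻¹ : GL (Fin 6) F) : Matrix (Fin 6) (Fin 6) F) * (g : Matrix (Fin 6) (Fin 6) F) *
      (B : Matrix (Fin 6) (Fin 6) F) with hM
    have hMeq : M = (Matrix.diagonal a).submatrix π.symm id := by
      refine Matrix.ext_of_mulVec_single fun i => ?_
      rw [hM, ← Matrix.mulVec_mulVec, hcol, ← Matrix.mulVec_mulVec, ha, Matrix.mulVec_smul, ← hcol]
      have := hcoB (Pi.single (π i) 1)
      simp only [co] at this
      rw [this]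
      ext k
      simp only [Matrix.mulVec_single_one, Matrix.col_apply, Matrix.submatrix_apply, id_eq, Matrix.diagonal_apply,
        Pi.smul_apply, smul_eq_mul, Pi.single_apply]
      by_cases hk : k = π i
      · subst hk; simp
      · have : π.symm k ≠ i := fun h => hk (by rw [← h, Equiv.apply_symm_apply])
        simp [hk, this]
    have hprod : ∏ i, a i = 1 := by
      have h1 : M.det = 1 := by
        rw [hM, Matrix.det_mul, Matrix.det_mul, mul_comm _ (g : Matrix (Fin 6) (Fin 6) F).det, mul_assoc,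
          ← Matrix.det_mul, Units.inv_mul, Matrix.det_one, mul_one]
        rw [← Matrix.GeneralLinearGroup.val_det_apply, MonoidHom.mem_ker.mp hgdet, Units.val_one]
      rw [hMeq, Matrix.det_permute, Matrix.det_diagonal] at h1
      rcases Int.units_eq_one_or (Equiv.Perm.sign π.symm) with h | h <;> rw [h] at h1 <;> simpa [hone] using h1
    have ha0 : ∀ i, a i ≠ 0 := fun i h0 => by
      rw [Finset.prod_eq_zero (Finset.mem_univ i) h0] at hprod
      exact zero_ne_one hprod
    have hval : ∀ i, co (Transvect.app g x) (π i) = a i * co x i := by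
      intro i
      have h1 : co (Transvect.app g x) = M *ᵥ co x := by
        rw [hM, ← Matrix.mulVec_mulVec, hco, ← Matrix.mulVec_mulVec]
        rfl
      rw [h1, hMeq]
      simp [Matrix.mulVec, dotProduct, Matrix.submatrix, Matrix.diagonal_apply]
    show SixSet (co (Transvect.app g x)) = SixSet (co x)
    refine propext (or_congr (and_congr ?_ ?_) ?_)
    · exact ⟨fun h i => fun h0 => h (π i) (by rw [hval, h0, mul_zero]),
        fun h k => by
          rw [← π.apply_symm_apply k, hval]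
          exact mul_ne_zero (ha0 _) (h _)⟩
    · rw [← Equiv.prod_comp π]
      rw [Finset.prod_congr rfl fun i _ => hval i, Finset.prod_mul_distrib, hprod, one_mul]
    · have : (Finset.univ.filter fun i => co (Transvect.app g x) i ≠ 0) =
          (Finset.univ.filter fun i => co x i ≠ 0).map π.toEmbedding := by
        ext k
        simp only [Finset.mem_filter, Finset.mem_univ, true_and, Finset.mem_map, Equiv.coe_toEmbedding]
        refine ⟨fun h => ⟨π.symm k, fun h0 => h ?_, π.apply_symm_apply k⟩, ?_⟩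
        · rw [← π.apply_symm_apply k, hval, h0, mul_zero]
        · rintro ⟨i, hi, rfl⟩
          rw [hval]
          exact mul_ne_zero (ha0 i) hi
      rw [this, Finset.card_map]
  have hskew : (1 : F) ^ 2 = -1 := by rw [one_pow, hone]
  have hherm : ∀ y z, hq ((B : Matrix (Fin 6) (Fin 6) F) *ᵥ y) ((B : Matrix (Fin 6) (Fin 6) F) *ᵥ z) = hq y z :=
    mem_GU_iff.mp hBU
  -- the transvection at the all-one vector
  set v := (B : Matrix (Fin 6) (Fin 6) F) *ᵥ (fun _ => (1 : F)) with hv
  have hv0 : hq v v = 0 := by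
    rw [hv, hherm]
    show ∑ _i : Fin 6, (1 : F) * (1 : F) ^ 2 = 0
    simp
    linear_combination (3 : F) * h20
  have hpair : ∀ x, hq x v = ∑ j, co x j := fun x => by
    conv_lhs => rw [← hco x, hv]
    rw [hherm]
    show ∑ i, co x i * (1 : F) ^ 2 = _
    simp
  have htx : ∀ x, co (Transvect.app (utq hF v 1) x) = fun i => co x i + ∑ j, co x j := fun x => by
    rw [Transvect.app_apply, utq_mulVec hF hv0, one_mul, hpair, hv]
    simp only [co, Matrix.mulVec_add, Matrix.mulVec_smul, Matrix.mulVec_mulVec, Units.inv_mul, Matrix.one_mulVec]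
    funext i
    simp
  have htK : utq hF v 1 ∈ K := fun x => propext ⟨fun h => by
    simp only at h ⊢
    rw [htx] at h
    have := sixSet_shift hF h
    convert this using 1
    funext i
    rw [Finset.sum_add_distrib, Finset.sum_const, Finset.card_univ, Fintype.card_fin, nsmul_eq_mul]
    push_cast
    linear_combination (-4 * ∑ j, co x j) * h20, fun h => by
    simp only at h ⊢
    rw [htx]
    exact sixSet_shift hF h⟩
  have htH : utq hF v 1 ∉ H := by
    rw [hHeq]
    rintro ⟨⟨π, hπ⟩, -⟩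
    obtain ⟨c, hc⟩ := hspan (π 0) ((utq hF v 1 : Matrix (Fin 6) (Fin 6) F) *ᵥ d 0)
      (by rw [← hπ 0]; exact ⟨d 0, hdD 0, rfl⟩)
    have h1 := congrArg co hc
    have h2 := htx (d 0)
    rw [Transvect.app_apply] at h2
    rw [h2, show co (c • d (π 0)) = c • co (d (π 0)) from Matrix.mulVec_smul _ _ _, ← hcol, ← hcol, hcoB,
      hcoB] at h1
    obtain ⟨k, hk0, hkπ⟩ : ∃ k : Fin 6, k ≠ 0 ∧ k ≠ π 0 := by
      rcases eq_or_ne (π 0) 1 with h | h
      · exact ⟨2, by decide, by rw [h]; decide⟩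
      · exact ⟨1, by decide, Ne.symm h⟩
    have := congrFun h1 k
    simp [hk0, hkπ] at this
  obtain ⟨v', hv'0, hv'K⟩ : ∃ v', hq v' v' = 0 ∧ utq hF v' 1 ∉ K := by
    refine ⟨(B : Matrix (Fin 6) (Fin 6) F) *ᵥ ![1, 1, 1, 1, 0, 0], ?_, fun hmem => ?_⟩
    · rw [hherm]
      show ∑ i, (![1, 1, 1, 1, 0, 0] : Fin 6 → F) i * (![1, 1, 1, 1, 0, 0] : Fin 6 → F) i ^ 2 = 0
      simp [Fin.sum_univ_six]
      linear_combination (2 : F) * h20
    · set w := (B : Matrix (Fin 6) (Fin 6) F) *ᵥ ![1, 1, 1, 1, 0, 0] with hw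
      have hw0 : hq w w = 0 := by
        rw [hw, hherm]
        show ∑ i, (![1, 1, 1, 1, 0, 0] : Fin 6 → F) i * (![1, 1, 1, 1, 0, 0] : Fin 6 → F) i ^ 2 = 0
        simp [Fin.sum_univ_six]
        linear_combination (2 : F) * h20
      set z := (B : Matrix (Fin 6) (Fin 6) F) *ᵥ ![0, 0, 0, 1, 1, 0] with hz
      have hzw : hq z w = 1 := by
        rw [hz, hw, hherm]
        show ∑ i, (![0, 0, 0, 1, 1, 0] : Fin 6 → F) i * (![1, 1, 1, 1, 0, 0] : Fin 6 → F) i ^ 2 = 1
        simp [Fin.sum_univ_six]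
      have h := hmem z
      simp only [Transvect.app_apply] at h
      rw [utq_mulVec hF hw0, one_mul, hzw, one_smul, hz, hw, ← Matrix.mulVec_add, hcoB, hcoB] at h
      have hyes : SixSet (![0, 0, 0, 1, 1, 0] : Fin 6 → F) := Or.inr (by
        rw [show (Finset.univ.filter fun i => (![0, 0, 0, 1, 1, 0] : Fin 6 → F) i ≠ 0) = {3, 4} by
          ext i; fin_cases i <;> simp]
        rfl)
      have h11 : (1 : F) + 1 = 0 := by linear_combination h20
      rw [show (![0, 0, 0, 1, 1, 0] : Fin 6 → F) + ![1, 1, 1, 1, 0, 0] = ![1, 1, 1, 0, 1, 0] by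
        funext i; fin_cases i <;> simp [h11]] at h
      rcases h.mpr hyes with ⟨h1, -⟩ | h1
      · exact h1 3 rfl
      · rw [show (Finset.univ.filter fun i => (![1, 1, 1, 0, 1, 0] : Fin 6 → F) i ≠ 0) = {0, 1, 2, 4} by
          ext i; fin_cases i <;> simp] at h1
        exact absurd h1 (by decide)
  rcases hH.2 (K ⊓ Γ) (le_inf hHK hH.1.le) inf_le_right with h | h
  · exact htH (h ▸ ⟨htK, utq_mem hF hv0 hskew⟩)
  · exact hv'K ((h ▸ inf_le_left : Γ ≤ K) (utq_mem hF hv'0 hskew))

end Cfsg.Agent.Aschbacher
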