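/-
Four orthogonal lines over a field with nine elements: the monomial group is not maximal in SU_4(3).
Main result: `su_four_three_lines`.
-/
import Cfsg.Agent.Lib.Aschbacher.FourLines
import Cfsg.Agent.Lib.Aschbacher.UnitaryCases
import Cfsg.Agent.Lib.Aschbacher.UnitarySixTwo

set_option autoImplicit false

namespace Cfsg.Agent.Aschbacher.FourNine

open Matrix
open Cfsg.Agent.PrimeDim
open Cfsg.Agent.Transvect (pg dg app ee app_pg_dg_ee gl_ext_ee IsMono)
open FourLines (IsFour isFour_mul isFour_sq isFour_conj prod_perm pg_dg_mul pg_one_dg_one tr chr had)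

variable {F : Type*} [Field F]

/-- The normalised group: coefficients of equal square, fourth power one and product one. -/
def Mem9 (g : GL (Fin 4) F) : Prop :=
  ∃ (π : Equiv.Perm (Fin 4)) (c : Fin 4 → Fˣ), IsFour π ∧ (∀ i, c i ^ 2 = c 0 ^ 2) ∧ c 0 ^ 4 = 1 ∧
    c 0 * c 1 * c 2 * c 3 = 1 ∧ g = pg π * dg c

theorem four_one {c : Fin 4 → Fˣ} (hc : ∀ i, c i ^ 2 = c 0 ^ 2) (h4 : c 0 ^ 4 = 1) (i : Fin 4) : c i ^ 4 = 1 := by
  rw [show (4 : ℕ) = 2 * 2 from rfl, pow_mul, hc, ← pow_mul]; exact h4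

theorem Mem9.mul {g h : GL (Fin 4) F} (hg : Mem9 g) (hh : Mem9 h) : Mem9 (g * h) := by
  obtain ⟨π, c, hπ, hc, hc4, hcp, rfl⟩ := hg
  obtain ⟨σ, d, hσ, hd, hd4, hdp, rfl⟩ := hh
  refine ⟨π * σ, _, isFour_mul π σ hπ hσ, fun i => ?_, ?_, ?_, pg_dg_mul π σ c d⟩
  · rw [mul_pow, mul_pow, hc, hd, hc (σ 0)]
  · rw [mul_pow, four_one hc hc4, hd4, one_mul]
  · calc c (σ 0) * d 0 * (c (σ 1) * d 1) * (c (σ 2) * d 2) * (c (σ 3) * d 3)
        = (c (σ 0) * c (σ 1) * c (σ 2) * c (σ 3)) * (d 0 * d 1 * d 2 * d 3) := by ac_rfl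
      _ = 1 := by rw [prod_perm hσ, hcp, hdp, one_mul]

theorem Mem9.pow_four {g : GL (Fin 4) F} (hg : Mem9 g) : g ^ 4 = 1 := by
  obtain ⟨π, c, hπ, hc, hc4, -, rfl⟩ := hg
  rw [show (pg π * dg c) ^ 4 = pg π * dg c * (pg π * dg c) * (pg π * dg c * (pg π * dg c)) by
    simp [pow_succ, mul_assoc], pg_dg_mul, isFour_sq hπ, pg_dg_mul]
  refine gl_ext_ee fun s => ?_
  rw [app_pg_dg_ee, one_mul]
  have : c (π s) * c s * (c (π s) * c s) = 1 := by
    calc c (π s) * c s * (c (π s) * c s) = c (π s) ^ 2 * c s ^ 2 := by rw [pow_two, pow_two]; ac_rfl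
      _ = 1 := by rw [hc, hc s, ← pow_add, hc4]
  simp [this]

/-- The group itself. -/
def R9 (F : Type*) [Field F] : Subgroup (GL (Fin 4) F) where
  carrier := {g | Mem9 g}
  mul_mem' := Mem9.mul
  one_mem' := ⟨1, fun _ => 1, Or.inl rfl, fun _ => rfl, one_pow _, by simp, pg_one_dg_one.symm⟩
  inv_mem' := fun {g} hg => by
    rw [show g⁻¹ = g * g * g from inv_eq_of_mul_eq_one_right (by
      rw [← Mem9.pow_four hg, pow_succ, pow_succ, pow_succ, pow_one]; simp only [mul_assoc])]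
    exact Mem9.mul (Mem9.mul hg hg) hg

theorem sq_cases {u : Fˣ} (h4 : u ^ 4 = 1) : u ^ 2 = 1 ∨ u ^ 2 = -1 := by
  have h : (u : F) ^ 2 * (u : F) ^ 2 = 1 := by rw [← pow_add]; simpa using congrArg Units.val h4
  rcases mul_self_eq_one_iff.mp h with h | h
  · exact Or.inl (Units.ext (by simpa using h))
  · exact Or.inr (Units.ext (by simpa using h))

theorem mono_normalizes {σ : Equiv.Perm (Fin 4)} {d : Fin 4 → Fˣ} (hd4 : ∀ i, d i ^ 4 = 1)
    (hdet : ((pg σ * dg d : GL (Fin 4) F) : Matrix (Fin 4) (Fin 4) F).det = 1)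
    {x : GL (Fin 4) F} (hx : x ∈ R9 F) : pg σ * dg d * x * (pg σ * dg d)⁻¹ ∈ R9 F := by
  classical
  obtain ⟨π, c, hπ, hc, hc4, hcp, rfl⟩ := hx
  have hconj : pg σ * dg d * (pg π * dg c) * (pg σ * dg d)⁻¹ =
      pg (σ * π * σ⁻¹) * dg (fun i => c (σ⁻¹ i) * (d (π (σ⁻¹ i)) / d (σ⁻¹ i))) := by
    rw [mul_inv_eq_iff_eq_mul, pg_dg_mul, pg_dg_mul, inv_mul_cancel_right]
    congr 2
    funext i
    simp only [div_eq_mul_inv, Equiv.Perm.coe_inv, Equiv.symm_apply_apply]
    rw [mul_comm (d (π i)) (d i)⁻¹, mul_comm (c i * _) (d i), mul_left_comm (d i) (c i), mul_inv_cancel_left, mul_comm]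
  have he : (d 0 * d 1 * d 2 * d 3) ^ 2 = 1 := by
    refine Units.ext ?_
    rw [Transvect.det_pg_dg] at hdet
    push_cast
    rcases Int.units_eq_one_or (Equiv.Perm.sign σ) with h | h <;>
      simp only [h, Fin.prod_univ_four, Units.val_one, Units.val_neg, Int.cast_one, Int.cast_neg, one_mul,
        neg_mul] at hdet
    · rw [hdet]; ring
    · linear_combination (-((d 0 : F) * d 1 * d 2 * d 3) + 1) * hdet
  have hsq : ∀ i, d i ^ 2 * d i ^ 2 = 1 := fun i => by rw [← pow_add]; exact hd4 i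
  have hinv : ∀ i, (d i ^ 2)⁻¹ = d i ^ 2 := fun i => inv_eq_of_mul_eq_one_right (hsq i)
  have hpairs : d 0 ^ 2 * d 1 ^ 2 = d 2 ^ 2 * d 3 ^ 2 ∧ d 0 ^ 2 * d 2 ^ 2 = d 1 ^ 2 * d 3 ^ 2 ∧
      d 0 ^ 2 * d 3 ^ 2 = d 1 ^ 2 * d 2 ^ 2 := by
    rw [mul_pow, mul_pow, mul_pow] at he
    rcases sq_cases (hd4 0) with a | a <;> rcases sq_cases (hd4 1) with b | b <;>
      rcases sq_cases (hd4 2) with e | e <;> rcases sq_cases (hd4 3) with f | f <;>
      rw [a, b, e, f] at he ⊢ <;> simp at he ⊢ <;> simp [he]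
  have hk : ∀ s, d (π s) ^ 2 * d s ^ 2 = d (π 0) ^ 2 * d 0 ^ 2 := by
    obtain ⟨p, q, r⟩ := hpairs
    have p' := p.symm; have q' := q.symm; have r' := r.symm
    intro s
    rcases hπ with rfl | rfl | rfl | rfl <;> fin_cases s <;> simp [Equiv.swap_apply_def, hsq] <;>
      first
        | exact mul_comm _ _
        | exact p.trans (mul_comm _ _) | exact p'.trans (mul_comm _ _)
        | exact q.trans (mul_comm _ _) | exact q'.trans (mul_comm _ _)
        | exact r.trans (mul_comm _ _) | exact r'.trans (mul_comm _ _)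
        | exact (mul_comm _ _).trans (p.trans (mul_comm _ _)) | exact (mul_comm _ _).trans (p'.trans (mul_comm _ _))
        | exact (mul_comm _ _).trans (q.trans (mul_comm _ _)) | exact (mul_comm _ _).trans (q'.trans (mul_comm _ _))
        | exact (mul_comm _ _).trans (r.trans (mul_comm _ _)) | exact (mul_comm _ _).trans (r'.trans (mul_comm _ _))
  refine ⟨_, _, isFour_conj σ π hπ, fun i => ?_, ?_, ?_, hconj⟩
  · simp only [mul_pow, div_eq_mul_inv, inv_pow, hinv, hc (σ⁻¹ i), hc (σ⁻¹ 0), hk (σ⁻¹ i), hk (σ⁻¹ 0)]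
  · rw [mul_pow, div_pow, four_one hc hc4, hd4, hd4, one_mul, div_self']
  · have h1 : ∏ i, c (σ⁻¹ i) * (d (π (σ⁻¹ i)) / d (σ⁻¹ i)) = 1 := by
      rw [Equiv.prod_comp σ⁻¹ (fun i => c i * (d (π i) / d i)), Finset.prod_mul_distrib, Finset.prod_div_distrib,
        Equiv.prod_comp π d, div_self', mul_one, Fin.prod_univ_four, hcp]
    rwa [Fin.prod_univ_four] at h1

variable (h3 : (3 : F) = 0)
include h3

theorem had_det : (had : Matrix (Fin 4) (Fin 4) F).det = 1 := by
  simp [had, Matrix.det_succ_row_zero, Fin.sum_univ_succ, Fin.succAbove]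
  linear_combination (5 : F) * h3

/-- The Hadamard element. -/
noncomputable def h : GL (Fin 4) F :=
  Matrix.GeneralLinearGroup.mkOfDetNeZero had (by rw [had_det h3]; exact one_ne_zero)

theorem app_h (x : Fin 4 → F) : app (h h3) x = had *ᵥ x := Transvect.app_apply _ _

theorem gen_mem (a : Fin 3) :
    pg (tr a) * dg (fun _ => (1 : Fˣ)) ∈ R9 F ∧ pg 1 * dg (chr a : Fin 4 → Fˣ) ∈ R9 F := by
  refine ⟨⟨tr a, _, ?_, fun _ => rfl, one_pow _, by simp, rfl⟩, ⟨1, chr a, Or.inl rfl, ?_, ?_, ?_, rfl⟩⟩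
  · fin_cases a <;> simp [tr, IsFour]
  · intro i; fin_cases a <;> fin_cases i <;> simp [chr]
  · fin_cases a <;> simp [chr]
  · fin_cases a <;> simp [chr]

theorem had_chr (a : Fin 3) :
    h h3 * (pg 1 * dg (chr a)) = pg (tr a) * dg (fun _ => (1 : Fˣ)) * h h3 ∧
    h h3 * (pg (tr a) * dg (fun _ => (1 : Fˣ))) = pg 1 * dg (chr a) * h h3 := by
  constructor <;> refine gl_ext_ee fun s => ?_ <;>
    rw [map_mul app (h h3), map_mul app (_ * _) (h h3), LinearEquiv.mul_apply, LinearEquiv.mul_apply, app_pg_dg_ee,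
      map_smul, app_h, app_h] <;>
    funext k <;> simp only [Pi.smul_apply, Transvect.app_pg_dg] <;>
    fin_cases a <;> fin_cases s <;> fin_cases k <;>
    simp [had, chr, tr, ee, Equiv.swap_apply_def, Matrix.mulVec_single]

theorem h_conj_mem {x : GL (Fin 4) F} (hx : x ∈ R9 F) : h h3 * x * (h h3)⁻¹ ∈ R9 F := by
  classical
  obtain ⟨π, c, hπ, hc, hc4, hcp, rfl⟩ := hx
  have hsc : pg 1 * dg (fun _ : Fin 4 => c 0) ∈ R9 F :=
    ⟨1, fun _ => c 0, Or.inl rfl, fun _ => rfl, hc4, by rw [← hc4]; simp [pow_succ], rfl⟩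
  let ε : Fin 4 → Fˣ := fun i => c i / c 0
  have hε : ∀ i, ε i = 1 ∨ ε i = -1 := fun i => by
    have : ε i ^ 2 = 1 := by simp only [ε]; rw [div_pow, hc, div_self']
    rcases sq_eq_one_iff.mp (show ((ε i : F)) ^ 2 = 1 by simpa using congrArg Units.val this) with e | e
    · exact Or.inl (Units.ext e)
    · exact Or.inr (Units.ext (by simpa using e))
  have hεp : ε 1 * ε 2 * ε 3 = 1 := by
    simp only [ε, div_eq_mul_inv]
    calc c 1 * (c 0)⁻¹ * (c 2 * (c 0)⁻¹) * (c 3 * (c 0)⁻¹)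
        = (c 0 * c 1 * c 2 * c 3) * (c 0 ^ 4)⁻¹ := by
          refine Units.ext ?_; push_cast; field_simp
      _ = 1 := by rw [hcp, hc4, inv_one, mul_one]
  have hε0 : ε 0 = 1 := div_self' _
  have hdecomp : pg π * dg c = pg π * dg (fun _ => (1 : Fˣ)) * (pg 1 * dg ε) * (pg 1 * dg fun _ => c 0) := by
    rw [pg_dg_mul, pg_dg_mul]
    simp [ε]
  have hT : h h3 * (pg π * dg (fun _ => (1 : Fˣ))) * (h h3)⁻¹ ∈ R9 F := by
    rcases hπ with rfl | rfl | rfl | rfl
    · rw [pg_one_dg_one]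
      simp
    all_goals first
      | (rw [show Equiv.swap 0 1 * Equiv.swap 2 3 = tr 0 from rfl, (had_chr h3 0).2, mul_inv_cancel_right]
         exact (gen_mem h3 0).2)
      | (rw [show Equiv.swap 0 2 * Equiv.swap 1 3 = tr 1 from rfl, (had_chr h3 1).2, mul_inv_cancel_right]
         exact (gen_mem h3 1).2)
      | (rw [show Equiv.swap 0 3 * Equiv.swap 1 2 = tr 2 from rfl, (had_chr h3 2).2, mul_inv_cancel_right]
         exact (gen_mem h3 2).2)
  have hD : h h3 * (pg 1 * dg ε) * (h h3)⁻¹ ∈ R9 F := by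
    have key : ε = (fun _ => 1) ∨ ∃ a, ε = chr a := by
      rcases hε 1 with e1 | e1 <;> rcases hε 2 with e2 | e2 <;> rw [e1, e2] at hεp <;> simp at hεp
      · left; funext i; fin_cases i <;> simp [hε0, e1, e2, hεp]
      · right; refine ⟨1, ?_⟩; funext i; fin_cases i <;> simp [chr, hε0, e1, e2, neg_eq_iff_eq_neg.mp hεp]
      · right; refine ⟨0, ?_⟩; funext i; fin_cases i <;> simp [chr, hε0, e1, e2, neg_eq_iff_eq_neg.mp hεp]
      · right; refine ⟨2, ?_⟩; funext i; fin_cases i <;> simp [chr, hε0, e1, e2, hεp]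
    rcases key with e | ⟨a, e⟩ <;> rw [e]
    · rw [pg_one_dg_one]
      simp
    · rw [(had_chr h3 a).1, mul_inv_cancel_right]; exact (gen_mem h3 a).1
  have hS : h h3 * (pg 1 * dg fun _ => c 0) * (h h3)⁻¹ = pg 1 * dg fun _ => c 0 := by
    rw [mul_inv_eq_iff_eq_mul]
    refine gl_ext_ee fun s => ?_
    rw [map_mul app (h h3), map_mul app (_ * _) (h h3), LinearEquiv.mul_apply, LinearEquiv.mul_apply, app_pg_dg_ee,
      map_smul]
    funext k
    simp only [Pi.smul_apply, Transvect.app_pg_dg]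
    simp
  rw [hdecomp]
  have hsplit : ∀ a b e g : GL (Fin 4) F, g * (a * b * e) * g⁻¹ = (g * a * g⁻¹) * (g * b * g⁻¹) * (g * e * g⁻¹) :=
    fun a b e g => by group
  rw [hsplit, hS]
  exact mul_mem (mul_mem hT hD) hsc

omit h3
variable [Fintype F]

local notation "h₄" => Cfsg.hermForm 4 F 3
local notation "Γ₄" => Cfsg.GU 4 F 3 ⊓ Geo.specialLinear (Fin 4) F

/-- No maximal subgroup of SU_4(3) stabilises four orthogonal lines. -/
theorem su_four_three_lines (hF : Fintype.card F = 3 ^ 2) {H : Subgroup (GL (Fin 4) F)}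
    (hH : Geo.IsMaximalIn Γ₄ H) {D : Fin 4 → Submodule F (Fin 4 → F)}
    (hD : Geo.IsNondegenerateMDecomposition h₄ 1 D) (hle : H ≤ Geo.decompositionStabilizer D) : False := by
  classical
  have Hh := Unitary.hermForm_isHerm hF 4
  have h3 : (3 : F) = 0 := by
    have h := FiniteField.cast_card_eq_zero F
    rw [hF] at h
    exact eq_zero_of_pow_eq_zero (n := 2) (by exact_mod_cast h)
  choose d' hd' using fun i => finrank_eq_one_iff'.mp (hD.decomp.finrank_eq i)
  have hspan : ∀ i, ∀ x ∈ D i, ∃ c : F, x = c • (d' i : Fin 4 → F) := fun i x hx => by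
    obtain ⟨c, hc⟩ := (hd' i).2 ⟨x, hx⟩
    exact ⟨c, (congrArg Subtype.val hc).symm⟩
  have hne : ∀ i, h₄ (d' i : Fin 4 → F) (d' i : Fin 4 → F) ≠ 0 := fun i h0 => by
    obtain ⟨x, hx, hne⟩ := (hD.nondegenerate i (d' i) (d' i).2 (fun h => (hd' i).1 (Subtype.ext h))).1
    obtain ⟨c, rfl⟩ := hspan i x hx
    rw [Hh.smul_left, h0, mul_zero] at hne
    exact hne rfl
  choose t ht using fun i => Unitary.exists_norm_eq hF (c := (h₄ (d' i : Fin 4 → F) (d' i : Fin 4 → F))⁻¹)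
    (by rw [inv_pow, Hh.self_fixed])
  let d : Fin 4 → Fin 4 → F := fun i => t i • (d' i : Fin 4 → F)
  have hdD : ∀ i, d i ∈ D i := fun i => (D i).smul_mem _ (d' i).2
  have hunit : ∀ i, h₄ (d i) (d i) = 1 := fun i => by
    simp only [d]
    rw [Hh.smul_left, Hh.smul_right, ← mul_assoc, ← pow_succ', ht, inv_mul_cancel₀ (hne i)]
  have hdspan : ∀ i, ∀ x ∈ D i, ∃ c : F, x = c • d i := fun i x hx => by
    obtain ⟨c, hc⟩ := hspan i x hx
    have ht0 : t i ≠ 0 := fun h0 => inv_ne_zero (hne i) (by rw [← ht i, h0, zero_pow (by norm_num)])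
    exact ⟨c / t i, by simp only [d]; rw [smul_smul, div_mul_cancel₀ _ ht0, hc]⟩
  let B₀ : Matrix (Fin 4) (Fin 4) F := Matrix.of fun k i => d i k
  have hgram : B₀ᵀ * B₀.map (Unitary.conjHom hF) = 1 := by
    ext i j
    rw [show (B₀ᵀ * B₀.map (Unitary.conjHom hF)) i j = h₄ (d i) (d j) from rfl, Matrix.one_apply]
    rcases eq_or_ne i j with rfl | hij
    · rw [if_pos rfl, hunit]
    · rw [if_neg hij]; exact hD.orthogonal i j hij _ (hdD i) _ (hdD j)
  have hu : IsUnit B₀.det := by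
    have := congrArg Matrix.det hgram
    rw [Matrix.det_mul, Matrix.det_transpose, Matrix.det_one] at this
    exact IsUnit.of_mul_eq_one _ this
  let B : GL (Fin 4) F := ((Matrix.isUnit_iff_isUnit_det _).mpr hu).unit
  have hBU : B ∈ Cfsg.GU 4 F 3 := (Agent.FieldAut.mem_GU_iff_matrix hF B).mpr hgram
  have hcol : ∀ i, app B (ee i) = d i := fun i => by
    rw [Transvect.app_apply]
    show B₀ *ᵥ _ = _
    funext k
    simp [B₀, ee, Matrix.mulVec, dotProduct, Pi.single_apply]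
  -- the stabiliser is monomial
  have hmono : ∀ g ∈ Geo.decompositionStabilizer D, ∀ s, ∃ (r : Fin 4) (a : F), app (B⁻¹ * g * B) (ee s) = a • ee r := by
    intro g hg s
    obtain ⟨π, hπ⟩ := hg
    obtain ⟨a, ha⟩ := hdspan (π s) ((g : Matrix (Fin 4) (Fin 4) F) *ᵥ d s) (by
      rw [← hπ s]; exact ⟨d s, hdD s, rfl⟩)
    refine ⟨π s, a, ?_⟩
    rw [map_mul, map_mul, LinearEquiv.mul_apply, LinearEquiv.mul_apply, hcol, Transvect.app_apply g, ha, map_smul,
      ← hcol (π s), Transvect.app_inv_app]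
  set S := (R9 F).map (MulAut.conj B).toMonoidHom with hS
  have hnorm : ∀ g, (∀ x ∈ R9 F, g * x * g⁻¹ ∈ R9 F) → B * g * B⁻¹ ∈ Geo.subgroupNormalizer S := by
    intro g hg
    have hn : g ∈ Subgroup.normalizer (R9 F : Set (GL (Fin 4) F)) := by
      have : Finite (GL (Fin 4) F) := inferInstance
      exact Subgroup.mem_normalizer_iff.mpr fun x => ⟨hg x, fun hx => by
        obtain ⟨y, hy⟩ := Finite.surjective_of_injective (f := fun y : R9 F => (⟨g * y * g⁻¹, hg y y.2⟩ : R9 F))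
          (fun a b hab => Subtype.ext (by simpa using congrArg Subtype.val hab)) ⟨_, hx⟩
        have hy' : g * y * g⁻¹ = g * x * g⁻¹ := congrArg Subtype.val hy
        have hyx : (y : GL (Fin 4) F) = x := by simpa using hy'
        exact hyx ▸ y.2⟩
    exact Subgroup.le_normalizer_map _ (Subgroup.mem_map_of_mem _ hn)
  have hHS : H ≤ Geo.subgroupNormalizer S := by
    intro g hg
    have hgU : B⁻¹ * g * B ∈ Cfsg.GU 4 F 3 := mul_mem (mul_mem (inv_mem hBU) (hH.1.le hg).1) hBU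
    obtain ⟨σ, a, ha⟩ := Transvect.exists_of_isMono (g := B⁻¹ * g * B) fun s => by
      obtain ⟨r, a, hra⟩ := hmono g (hle hg) s
      refine ⟨r, fun k hk => ?_⟩
      rw [hra]; simp [ee, hk]
    have ha4 : ∀ i, a i ^ 4 = 1 := fun i => Units.ext (by
      have h1 := mem_GU_iff.mp hgU (ee i) (ee i)
      rw [← Transvect.app_apply, ha, app_pg_dg_ee, Hh.smul_left, Hh.smul_right, ← mul_assoc, ← pow_succ'] at h1
      have h2 : ∀ k : Fin 4, h₄ (ee k) (ee k) = 1 := fun k => by simp [Cfsg.hermForm, ee, Pi.single_apply]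
      rw [h2, h2, mul_one] at h1
      simpa using h1)
    have hdet : ((pg σ * dg a : GL (Fin 4) F) : Matrix (Fin 4) (Fin 4) F).det = 1 := by
      rw [← ha, Units.val_mul, Units.val_mul, Matrix.det_mul, Matrix.det_mul,
        Transvect.mem_sl_iff.mp (hH.1.le hg).2, mul_one, ← Matrix.det_mul, Units.inv_mul, Matrix.det_one]
    have := hnorm _ fun x hx => mono_normalizes ha4 hdet hx
    rw [← ha] at this
    simpa [mul_assoc] using this
  rcases hH.2 (Geo.subgroupNormalizer S ⊓ Γ₄) (le_inf hHS hH.1.le) inf_le_right with h1 | h1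
  · -- the Hadamard element
    have hhU : h h3 ∈ Cfsg.GU 4 F 3 := (Agent.FieldAut.mem_GU_iff_matrix hF _).mpr (by
      show (had : Matrix (Fin 4) (Fin 4) F)ᵀ * (had : Matrix (Fin 4) (Fin 4) F).map _ = 1
      ext i j
      fin_cases i <;> fin_cases j <;>
        simp [had, Matrix.mul_apply, Fin.sum_univ_four, Unitary.neg_pow_q hF] <;> linear_combination h3)
    have hhSL : B * h h3 * B⁻¹ ∈ Geo.specialLinear (Fin 4) F := by
      refine Transvect.mem_sl_iff.mpr ?_
      rw [Units.val_mul, Units.val_mul, Matrix.det_mul, Matrix.det_mul, mul_comm, ← mul_assoc, ← Matrix.det_mul,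
        Units.inv_mul, Matrix.det_one, one_mul]
      exact had_det h3
    have h2 : B * h h3 * B⁻¹ ∈ H := h1 ▸
      ⟨hnorm _ fun x hx => h_conj_mem h3 hx, (Cfsg.GU 4 F 3).mul_mem ((Cfsg.GU 4 F 3).mul_mem hBU hhU) ((Cfsg.GU 4 F 3).inv_mem hBU), hhSL⟩
    obtain ⟨r, a, hra⟩ := hmono _ (hle h2) 0
    rw [show B⁻¹ * (B * h h3 * B⁻¹) * B = h h3 by group, app_h] at hra
    obtain ⟨k, hk⟩ := Fintype.exists_ne_of_one_lt_card (show 1 < Fintype.card (Fin 4) by simp) r
    have := congrFun hra k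
    fin_cases k <;> simp [had, ee, Matrix.mulVec_single] at this hk <;> simp [hk] at this
  · -- a transvection does not normalise
    obtain ⟨a, ha0, ha⟩ := Unitary.exists_skew hF
    have ha2 : a * a = -1 := mul_left_cancel₀ ha0 (by linear_combination ha)
    set v : Fin 4 → F := ![1, 1, 1, 0] with hv
    have hv0 : h₄ v v = 0 := by
      show ∑ i, v i * v i ^ 3 = 0
      simp [hv, Fin.sum_univ_four]; linear_combination h3
    set T := utq hF v a with hT
    have hT' : T⁻¹ = utq hF v (-a) := inv_eq_of_mul_eq_one_right (gl_ext_ee fun s => by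
      rw [map_mul, LinearEquiv.mul_apply, Transvect.app_apply, Transvect.app_apply, hT, utq_mulVec hF hv0,
        utq_mulVec hF hv0, map_one, Hh.add_left, Hh.smul_left, hv0, mul_zero, add_zero]
      simp)
    have hmem : B * T * B⁻¹ ∈ Geo.subgroupNormalizer S := (h1 ▸ inf_le_left : Γ₄ ≤ _)
      ⟨(Cfsg.GU 4 F 3).mul_mem ((Cfsg.GU 4 F 3).mul_mem hBU (utq_mem hF hv0 ha).1) ((Cfsg.GU 4 F 3).inv_mem hBU), Transvect.mem_sl_iff.mpr (by
        rw [Units.val_mul, Units.val_mul, Matrix.det_mul, Matrix.det_mul, mul_comm, ← mul_assoc, ← Matrix.det_mul,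
          Units.inv_mul, Matrix.det_one, one_mul]
        exact Transvect.mem_sl_iff.mp (utq_mem hF hv0 ha).2)⟩
    have hD' := (gen_mem h3 1).2
    have hy := (Subgroup.mem_normalizer_iff.mp hmem _).mp (Subgroup.mem_map_of_mem _ hD')
    obtain ⟨y, ⟨π, c, -, -, -, -, hyc⟩, hy'⟩ := hy
    have hyeq : y = T * (pg 1 * dg (chr 1)) * T⁻¹ := by
      simp only [MulEquiv.coe_toMonoidHom, MulAut.conj_apply] at hy'
      calc y = B⁻¹ * (B * y * B⁻¹) * B := by group
        _ = _ := by rw [hy']; group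
    have he := congrArg (fun g : GL (Fin 4) F => app g (ee 0)) (hyc.symm.trans hyeq)
    beta_reduce at he
    rw [app_pg_dg_ee] at he
    simp only [map_mul, LinearEquiv.mul_apply] at he
    rw [Transvect.app_apply T⁻¹, hT', utq_mulVec hF hv0, Transvect.app_apply T, hT, utq_mulVec hF hv0] at he
    have hd : ∀ x : Fin 4 → F, app (pg 1 : GL (Fin 4) F) (app (dg (chr 1)) x) = ![x 0, x 1, -x 2, -x 3] := fun x => by
      funext i
      rw [← LinearEquiv.mul_apply, ← map_mul, show i = (1 : Equiv.Perm (Fin 4)) i from rfl, Transvect.app_pg_dg]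
      fin_cases i <;> simp [chr]
    rw [hd] at he
    have e1 := congrFun he 0
    have e2 := congrFun he 1
    simp [hv, ee, Cfsg.hermForm, Fin.sum_univ_four, Pi.single_apply] at e1 e2
    rcases eq_or_ne (π 0) 0 with hp | hp
    · rw [hp] at e2
      simp at e2
      exact one_ne_zero (α := F) (by linear_combination ha2 - e2)
    · simp [Ne.symm hp] at e1
      exact one_ne_zero (α := F) (by linear_combination e1 - ha2 + h3)

end Cfsg.Agent.Aschbacher.FourNine
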