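/-
Subfield groups of index two from coordinates: two tensor factors of SU_4, and totally singular pairs for q ≤ 3.
Main results: `subfield_of_gram`, `su_four_tensor`, `su_four_pair`.
-/
import Cfsg.Agent.Lib.Aschbacher.UnitaryDescent

set_option autoImplicit false

namespace Cfsg.Agent.Aschbacher

open Matrix
open Cfsg.Agent.PrimeDim

variable {F : Type*} [Field F] [Fintype F] {n q : ℕ}

/-- The semilinear involution of a matrix `R` in a basis `P`. -/
theorem subfield_of_gram (hF : Fintype.card F = q ^ 2) (P : GL (Fin n) F) (R : Matrix (Fin n) (Fin n) F)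
    {k l ε ζ : F} (hk0 : k ≠ 0) (hkσ : Unitary.conjHom hF k = k)
    (hk : R.map (Unitary.conjHom hF) * R = k • 1)
    (hl : (R.map (Unitary.conjHom hF))ᵀ *
      ((P : Matrix (Fin n) (Fin n) F)ᵀ * 1 * (P : Matrix (Fin n) (Fin n) F).map (Unitary.conjHom hF)) * R =
      l • ((P : Matrix (Fin n) (Fin n) F)ᵀ * 1 *
        (P : Matrix (Fin n) (Fin n) F).map (Unitary.conjHom hF)).map (Unitary.conjHom hF))
    (hlk : l = ε * k) (hε : ε * ε = 1) (hζ : Unitary.conjHom hF ζ = ε * ζ) :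
    ∃ (F₀ : Subfield F) (B : GL (Fin n) F), Fintype.card F = Nat.card F₀ ^ 2 ∧ F₀ ≠ ⊤ ∧
      Geo.IsFormRationalStructure (Cfsg.hermForm n F q) F₀ ζ B ∧
      ((∀ w : Fin n → F, w ⬝ᵥ (((P : Matrix (Fin n) (Fin n) F)ᵀ * 1 *
          (P : Matrix (Fin n) (Fin n) F).map (Unitary.conjHom hF)) * R) *ᵥ w = 0) →
        ∀ u : Fin n → F, (∀ i, u i ∈ F₀) → Cfsg.hermForm n F q ((B : Matrix (Fin n) (Fin n) F) *ᵥ u)
          ((B : Matrix (Fin n) (Fin n) F) *ᵥ u) = 0) ∧
      ∀ (g : GL (Fin n) F) (T : Matrix (Fin n) (Fin n) F) (c : F),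
        (g : Matrix (Fin n) (Fin n) F) * P = (P : Matrix (Fin n) (Fin n) F) * T →
        R * T = c • (T.map (Unitary.conjHom hF) * R) → g ∈ Geo.subfieldSubgroup F₀ B := by
  classical
  set σ := Unitary.conjHom hF with hσ
  have hσσ : ∀ c : F, σ (σ c) = c := fun c => by
    rw [hσ, conjHom_apply', conjHom_apply']; exact Unitary.pow_q_pow_q hF c
  set Pm := (P : Matrix (Fin n) (Fin n) F) with hPm
  set Pi' := ((P⁻¹ : GL (Fin n) F) : Matrix (Fin n) (Fin n) F) with hPi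
  set G := Pmᵀ * 1 * Pm.map σ with hG
  have hσv : ∀ v : Fin n → F, σ ∘ (σ ∘ v) = v := fun v => funext fun i => hσσ (v i)
  obtain ⟨s, hs⟩ := Unitary.exists_norm_eq hF (c := k⁻¹) (by rw [← conjHom_apply' hF, map_inv₀, ← hσ, hkσ])
  have hss : σ s * s = k⁻¹ := by rw [hσ, conjHom_apply', ← hs, pow_succ]
  have hs0 : s ≠ 0 := fun h => inv_ne_zero hk0 (by rw [← hss, h, mul_zero])
  let J : (Fin n → F) → (Fin n → F) := fun z => Pm *ᵥ (s • (σ ∘ (R *ᵥ (Pi' *ᵥ z))))
  have hcan : ∀ w, Pi' *ᵥ (Pm *ᵥ w) = w := fun w => by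
    rw [Matrix.mulVec_mulVec, hPi, hPm, Units.inv_mul, Matrix.one_mulVec]
  have hcan' : ∀ w, Pm *ᵥ (Pi' *ᵥ w) = w := fun w => by
    rw [Matrix.mulVec_mulVec, hPi, hPm, Units.mul_inv, Matrix.one_mulVec]
  have hJP : ∀ w, J (Pm *ᵥ w) = Pm *ᵥ (s • (R.map σ *ᵥ (σ ∘ w))) := fun w => by
    simp only [J]; rw [hcan, comp_mulVec]
  have hform0 : ∀ v w, Cfsg.hermForm n F q (Pm *ᵥ v) (Pm *ᵥ w) = Geo.formOfGram σ G v w := fun v w => by
    rw [hermForm_eq_gram hF, formOfGram_mulVec]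
  have hadd : ∀ x y, J (x + y) = J x + J y := fun x y => by
    simp only [J]
    rw [Matrix.mulVec_add, Matrix.mulVec_add, show σ ∘ (R *ᵥ (Pi' *ᵥ x) + R *ᵥ (Pi' *ᵥ y)) =
      σ ∘ (R *ᵥ (Pi' *ᵥ x)) + σ ∘ (R *ᵥ (Pi' *ᵥ y)) from funext fun i => map_add σ _ _, smul_add,
      Matrix.mulVec_add]
  have hsmul : ∀ (c : F) x, J (c • x) = σ c • J x := fun c x => by
    simp only [J]
    rw [Matrix.mulVec_smul Pi', Matrix.mulVec_smul R, show σ ∘ (c • R *ᵥ (Pi' *ᵥ x)) = σ c • σ ∘ (R *ᵥ (Pi' *ᵥ x))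
      from funext fun i => map_mul σ _ _, smul_comm s, Matrix.mulVec_smul]
  have hJJ : ∀ x, J (J x) = x := fun x => by
    rw [← hcan' x]
    set w := Pi' *ᵥ x
    rw [hJP, hcan, comp_mulVec σ R w, show σ ∘ (s • (R.map σ *ᵥ (σ ∘ w))) = σ s • (R *ᵥ w) by
      rw [← comp_mulVec]; funext i; simp [hσσ],
      Matrix.mulVec_smul (R.map σ), Matrix.mulVec_mulVec _ (R.map σ) R, hk, Matrix.smul_mulVec, Matrix.one_mulVec, smul_smul, smul_smul,
      show s * σ s * k = 1 by rw [mul_comm s, hss, inv_mul_cancel₀ hk0], one_smul]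
  have hform : ∀ x y, Cfsg.hermForm n F q (J x) (J y) = ε * σ (Cfsg.hermForm n F q x y) := fun x y => by
    rw [← hcan' x, ← hcan' y]
    set v := Pi' *ᵥ x
    set w := Pi' *ᵥ y
    rw [hJP, hJP, hform0, hform0, formOfGram_eq, formOfGram_eq,
      show σ ∘ (s • (R.map σ *ᵥ (σ ∘ w))) = σ s • (R *ᵥ w) by rw [← comp_mulVec]; funext i; simp [hσσ],
      Matrix.mulVec_smul, smul_dotProduct, dotProduct_smul, Matrix.mulVec_mulVec,
      ← Matrix.vecMul_transpose, ← Matrix.dotProduct_mulVec, Matrix.mulVec_mulVec, ← mul_assoc, hl,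
      Matrix.smul_mulVec, dotProduct_smul, RingHom.map_dotProduct, comp_mulVec σ G, hσv, smul_eq_mul, smul_eq_mul,
      smul_eq_mul, hlk]
    linear_combination (ε * ((σ ∘ v) ⬝ᵥ G.map σ *ᵥ w)) * (mul_inv_cancel₀ hk0) +
      (ε * k * ((σ ∘ v) ⬝ᵥ G.map σ *ᵥ w)) * hss
  obtain ⟨F₀, B, hc, hne, hrat, hfix, hmem⟩ := subfield_of_semilinear hF J hadd hsmul hJJ hε hζ hform
  refine ⟨F₀, B, hc, hne, hrat, fun halt u hu => ?_, fun g T c hgP hT => hmem g ?_⟩
  · have hz := hfix u hu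
    rw [← hcan' ((B : Matrix (Fin n) (Fin n) F) *ᵥ u)] at hz ⊢
    set w := Pi' *ᵥ ((B : Matrix (Fin n) (Fin n) F) *ᵥ u)
    rw [hJP] at hz
    have hw : s • (R.map σ *ᵥ (σ ∘ w)) = w := by
      have := congrArg (Pi' *ᵥ ·) hz
      simpa only [hcan] using this
    have hσw : σ ∘ w = σ s • (R *ᵥ w) := by
      conv_lhs => rw [← hw, ← comp_mulVec]
      funext i; simp [hσσ]
    rw [hform0, formOfGram_eq, hσw, Matrix.mulVec_smul, dotProduct_smul, Matrix.mulVec_mulVec, halt w, smul_zero]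
  · refine ⟨σ c, fun z => ?_⟩
    rw [← hcan' z]
    set w := Pi' *ᵥ z
    have e1 : ∀ u, (g : Matrix (Fin n) (Fin n) F) *ᵥ (Pm *ᵥ u) = Pm *ᵥ (T *ᵥ u) := fun u => by
      rw [Matrix.mulVec_mulVec, hgP, ← Matrix.mulVec_mulVec]
    rw [e1, hJP, hJP, e1, ← Matrix.mulVec_smul Pm (σ c)]
    congr 1
    rw [comp_mulVec σ T w, Matrix.mulVec_mulVec, ← Matrix.map_mul, hT, map_smul', Matrix.map_mul,
      show (T.map σ).map σ = T from Matrix.ext fun i j => hσσ (T i j), Matrix.smul_mulVec, smul_comm s,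
      ← Matrix.mulVec_mulVec, Matrix.mulVec_smul]

omit [Fintype F] in
/-- The key matrix of a hermitian 2 × 2 matrix. -/
theorem two_key (σ : F →+* F) {G : Matrix (Fin 2) (Fin 2) F} (h : (G.map σ)ᵀ = G) :
    σ G.det = G.det ∧
    (!![G 0 1, G 1 1; -G 0 0, -G 1 0] : Matrix (Fin 2) (Fin 2) F).map σ * !![G 0 1, G 1 1; -G 0 0, -G 1 0]
      = (-G.det) • 1 ∧
    ((!![G 0 1, G 1 1; -G 0 0, -G 1 0] : Matrix (Fin 2) (Fin 2) F).map σ)ᵀ * G *
      !![G 0 1, G 1 1; -G 0 0, -G 1 0] = G.det • G.map σ ∧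
    G * !![G 0 1, G 1 1; -G 0 0, -G 1 0] = G.det • !![0, 1; -1, 0] := by
  have e : ∀ i j, σ (G j i) = G i j := fun i j => congrFun (congrFun h i) j
  refine ⟨?_, ?_, ?_, ?_⟩
  · rw [Matrix.det_fin_two, map_sub, map_mul, map_mul, e 0 0, e 1 1, e 1 0, e 0 1]; ring
  all_goals
    ext i j
    fin_cases i <;> fin_cases j <;>
      simp [Matrix.mul_apply, Fin.sum_univ_two, Matrix.det_fin_two,
        e 0 0, e 1 1, e 1 0, e 0 1] <;> ring

omit [Fintype F] in
/-- A similitude of a hermitian 2 × 2 form commutes with the key matrix up to scalars. -/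
theorem two_comm (σ : F →+* F) {G A : Matrix (Fin 2) (Fin 2) F} (hG : IsUnit G.det) (hA : IsUnit A.det) {μ : F}
    (h : Aᵀ * G * A.map σ = μ • G) :
    μ • (!![G 0 1, G 1 1; -G 0 0, -G 1 0] * A) = A.det • (A.map σ * !![G 0 1, G 1 1; -G 0 0, -G 1 0]) := by
  set R : Matrix (Fin 2) (Fin 2) F := !![G 0 1, G 1 1; -G 0 0, -G 1 0] with hR
  have h1 : G * R = G.det • !![0, 1; -1, 0] := by
    ext i j
    fin_cases i <;> fin_cases j <;> simp [hR, Matrix.mul_apply, Fin.sum_univ_two, Matrix.det_fin_two] <;> ring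
  have h2 : Aᵀ * !![0, 1; -1, 0] * A = A.det • (!![0, 1; -1, 0] : Matrix (Fin 2) (Fin 2) F) := by
    ext i j
    fin_cases i <;> fin_cases j <;> simp [Matrix.mul_apply, Fin.sum_univ_two, Matrix.det_fin_two] <;> ring
  refine ((Matrix.isUnit_iff_isUnit_det _).mpr ?_).mul_left_cancel (a := Aᵀ * G) ?_
  · rw [Matrix.det_mul, Matrix.det_transpose]; exact hA.mul hG
  rw [Matrix.mul_smul, Matrix.mul_smul, ← mul_assoc (Aᵀ * G), ← mul_assoc (Aᵀ * G), h, mul_assoc Aᵀ G, h1,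
    Matrix.mul_smul, Matrix.smul_mul, h2, Matrix.smul_mul, h1]
  simp only [smul_smul]
  congr 1
  ring

local notation "G₄" => Cfsg.GU 4 F q
local notation "h₄" => Cfsg.hermForm 4 F q

set_option maxHeartbeats 1000000 in
/-- Two unitary factors of degree two: a subfield group of index two. -/
theorem su_four_tensor (hF : Fintype.card F = q ^ 2) {H S : Subgroup (GL (Fin 4) F)} (hHS : H ≤ S)
    (hHU : H ≤ G₄) (hT : FTensor (Unitary.conjHom hF) 1 S 2 2) :
    ∃ (F₀ : Subfield F) (B : GL (Fin 4) F), Fintype.card F = Nat.card F₀ ^ 2 ∧ F₀ ≠ ⊤ ∧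
      Geo.IsFormRationalStructure h₄ F₀ 1 B ∧ H ≤ Geo.subfieldSubgroup F₀ B ∧
      ((2 : F) = 0 → ∀ u : Fin 4 → F, (∀ i, u i ∈ F₀) →
        h₄ ((B : Matrix (Fin 4) (Fin 4) F) *ᵥ u) ((B : Matrix (Fin 4) (Fin 4) F) *ᵥ u) = 0) := by
  classical
  set σ := Unitary.conjHom hF with hσ
  let e : Fin 4 ≃ Fin 2 × Fin 2 := (finProdFinEquiv (m := 2) (n := 2)).symm
  obtain ⟨P, G1, G2, hle, heq, h1, h2⟩ := hT.2 e
  obtain ⟨μ, hμ, hμG⟩ := exists_hermitian_scale hF two_pos h1
  -- the second factor is hermitian for the reciprocal scale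
  set K1 := μ • G1 with hK1
  set K2 := μ⁻¹ • G2 with hK2
  have hu1 : IsUnit K1.det := by rw [hK1, Matrix.det_smul]; exact ((IsUnit.mk0 _ hμ).pow _).mul h1.det
  have hu2 : IsUnit K2.det := by
    rw [hK2, Matrix.det_smul]; exact ((IsUnit.mk0 _ (inv_ne_zero hμ)).pow _).mul h2.det
  have hgram : (P : Matrix (Fin 4) (Fin 4) F)ᵀ * 1 * (P : Matrix (Fin 4) (Fin 4) F).map σ = tens e K1 K2 := by
    rw [heq]; ext a b; simp only [tens_apply, hK1, hK2, Matrix.smul_apply, smul_eq_mul]; field_simp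
  have hK20 : K2 ≠ 0 := fun h0 => by rw [h0, Matrix.det_zero] at hu2; exact not_isUnit_zero hu2
  have hK10 : K1 ≠ 0 := fun h0 => by rw [h0, Matrix.det_zero] at hu1; exact not_isUnit_zero hu1
  have hsym : ((tens e K1 K2).map σ)ᵀ = tens e K1 K2 := by
    rw [← hgram]
    simp only [mul_one, Matrix.map_mul, Matrix.transpose_mul]
    rw [show ((P : Matrix (Fin 4) (Fin 4) F).map σ).map σ = P from Matrix.ext fun i j =>
      (by show σ (σ _) = _; rw [hσ, conjHom_apply', conjHom_apply']; exact Unitary.pow_q_pow_q hF _)]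
    rfl
  have hherm2 : (K2.map σ)ᵀ = K2 := by
    rw [tens_map, tens_transpose, hμG] at hsym
    obtain ⟨i, j, hij⟩ : ∃ i j, K1 i j ≠ 0 := by
      by_contra hc
      simp only [not_exists, not_not] at hc
      exact hK10 (Matrix.ext hc)
    ext a b
    have := congrFun (congrFun hsym (e.symm (i, a))) (e.symm (j, b))
    simp only [tens_apply, Equiv.apply_symm_apply] at this
    exact mul_left_cancel₀ hij this
  obtain ⟨d1, k1, l1, a1⟩ := two_key σ (G := K1) hμG
  obtain ⟨d2, k2, l2, a2⟩ := two_key σ (G := K2) hherm2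
  set R1 : Matrix (Fin 2) (Fin 2) F := !![K1 0 1, K1 1 1; -K1 0 0, -K1 1 0] with hR1
  set R2 : Matrix (Fin 2) (Fin 2) F := !![K2 0 1, K2 1 1; -K2 0 0, -K2 1 0] with hR2
  have hsm : ∀ (a b : F) (X Y : Matrix (Fin 2) (Fin 2) F), tens e (a • X) (b • Y) = (a * b) • tens e X Y :=
    fun a b X Y => by ext i j; simp [tens_apply]; ring
  obtain ⟨F₀, B, hc, hne, hrat, halt, hmem⟩ := subfield_of_gram hF P (tens e R1 R2)
    (k := K1.det * K2.det) (l := K1.det * K2.det) (ε := 1) (ζ := 1) (mul_ne_zero hu1.ne_zero hu2.ne_zero)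
    (by rw [map_mul, ← hσ, d1, d2])
    (by rw [← hσ, tens_map, tens_mul, k1, k2, hsm, tens_one, neg_mul_neg])
    (by rw [← hσ, hgram, tens_map, tens_map, tens_transpose, tens_mul, tens_mul, l1, l2, hsm])
    (one_mul _).symm (one_mul 1) (by rw [map_one, one_mul])
  refine ⟨F₀, B, hc, hne, hrat, fun g hg => ?_, fun h20 => halt fun w => ?_⟩
  · obtain ⟨A, A', hA⟩ := (mem_tensorProductSubgroup_iff e P g).mp (hle (hHS hg))
    set T := tens e (A : Matrix (Fin 2) (Fin 2) F) (A' : Matrix (Fin 2) (Fin 2) F) with hTdef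
    have hgP : (g : Matrix (Fin 4) (Fin 4) F) * P = (P : Matrix (Fin 4) (Fin 4) F) * T := by
      rw [hA, cj_apply, mul_assoc, mul_assoc, Units.inv_mul, mul_one]
    have hgG : Tᵀ * tens e K1 K2 * T.map σ = tens e K1 K2 := by
      have hg1 := gram_of_mem_GU hF (hHU hg)
      rw [← hσ, mul_one] at hg1
      rw [← hgram]
      calc Tᵀ * ((P : Matrix (Fin 4) (Fin 4) F)ᵀ * 1 * (P : Matrix (Fin 4) (Fin 4) F).map σ) * T.map σ
          = ((P : Matrix (Fin 4) (Fin 4) F) * T)ᵀ * ((P : Matrix (Fin 4) (Fin 4) F) * T).map σ := by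
            simp [Matrix.transpose_mul, Matrix.map_mul, mul_assoc]
        _ = _ := by
            rw [← hgP, Matrix.transpose_mul, Matrix.map_mul, mul_assoc, ← mul_assoc (g : Matrix (Fin 4) (Fin 4) F)ᵀ ((g : Matrix (Fin 4) (Fin 4) F).map σ), hg1,
              one_mul, mul_one]
    rw [hTdef, tens_map, tens_transpose, tens_mul, tens_mul] at hgG
    obtain ⟨c, hc0, hX, hY⟩ := tens_cancel e hgG
      (fun h0 => by
        have hd : IsUnit ((A : Matrix (Fin 2) (Fin 2) F)ᵀ * K1 * (A : Matrix (Fin 2) (Fin 2) F).map σ).det := by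
          rw [Matrix.det_mul, Matrix.det_mul, Matrix.det_transpose, ← RingHom.mapMatrix_apply, ← RingHom.map_det]
          exact ((A.isUnit.map Matrix.detMonoidHom).mul hu1).mul ((A.isUnit.map Matrix.detMonoidHom).map σ)
        rw [h0, Matrix.det_zero] at hd
        exact not_isUnit_zero hd)
      (fun h0 => by
        have hd : IsUnit ((A' : Matrix (Fin 2) (Fin 2) F)ᵀ * K2 * (A' : Matrix (Fin 2) (Fin 2) F).map σ).det := by
          rw [Matrix.det_mul, Matrix.det_mul, Matrix.det_transpose, ← RingHom.mapMatrix_apply, ← RingHom.map_det]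
          exact ((A'.isUnit.map Matrix.detMonoidHom).mul hu2).mul ((A'.isUnit.map Matrix.detMonoidHom).map σ)
        rw [h0, Matrix.det_zero] at hd
        exact not_isUnit_zero hd)
    have hX' : (A : Matrix (Fin 2) (Fin 2) F)ᵀ * K1 * (A : Matrix (Fin 2) (Fin 2) F).map σ = c⁻¹ • K1 :=
      calc (A : Matrix (Fin 2) (Fin 2) F)ᵀ * K1 * (A : Matrix (Fin 2) (Fin 2) F).map σ
          = c⁻¹ • (c • ((A : Matrix (Fin 2) (Fin 2) F)ᵀ * K1 * (A : Matrix (Fin 2) (Fin 2) F).map σ)) := by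
            rw [smul_smul, inv_mul_cancel₀ hc0, one_smul]
        _ = c⁻¹ • K1 := by rw [← hX]
    have e1 := two_comm σ hu1 (A.isUnit.map Matrix.detMonoidHom) hX'
    have e2 := two_comm σ hu2 (A'.isUnit.map Matrix.detMonoidHom) hY
    rw [← hR1] at e1; rw [← hR2] at e2
    refine hmem g T ((A : Matrix (Fin 2) (Fin 2) F).det * (A' : Matrix (Fin 2) (Fin 2) F).det) hgP ?_
    have h3 := congrArg₂ (fun X Y => tens e X Y) e1 e2
    simp only [hsm, inv_mul_cancel₀ hc0, one_smul] at h3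
    rw [hTdef, tens_map, tens_mul, tens_mul, ← hσ]
    exact h3
  · rw [← hσ, hgram, tens_mul, a1, a2, hsm, Matrix.smul_mulVec, dotProduct_smul]
    refine smul_eq_zero.mpr (Or.inr ?_)
    have hz : ∀ a b : Fin 2 × Fin 2, (tens e (!![0, 1; -1, 0] : Matrix (Fin 2) (Fin 2) F) !![0, 1; -1, 0])
        (e.symm a) (e.symm b) = (!![0, 1; -1, 0] : Matrix (Fin 2) (Fin 2) F) a.1 b.1 *
          (!![0, 1; -1, 0] : Matrix (Fin 2) (Fin 2) F) a.2 b.2 := fun a b => by
      rw [tens_apply, Equiv.apply_symm_apply, Equiv.apply_symm_apply]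
    simp only [dotProduct, Matrix.mulVec]
    rw [← e.symm.sum_comp]
    simp only [← e.symm.sum_comp (fun j => tens e _ _ _ j * w j), hz, Fintype.sum_prod_type, Fin.sum_univ_two]
    simp
    linear_combination (w (e.symm (0, 0)) * w (e.symm (1, 1)) - w (e.symm (0, 1)) * w (e.symm (1, 0))) * h20

local notation "M₄" => Matrix (Fin 4) (Fin 4) F
local notation "SW" => (!![0, 0, 1, 0; 0, 0, 0, 1; 1, 0, 0, 0; 0, 1, 0, 0] : M₄)
local notation "RP" => (!![0, 0, 0, 1; 0, 0, -1, 0; 0, 1, 0, 0; -1, 0, 0, 0] : M₄)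

/-- For q ≤ 3 the block diagonal isometries of determinant one commute with the key matrix up to scalars. -/
theorem pair_cond (hF : Fintype.card F = q ^ 2) (hq3 : q ≤ 3) {T : M₄}
    (hT : Tᵀ * SW * T.map (Unitary.conjHom hF) = SW) (hdet : T.det = 1)
    (hz : T 0 2 = 0 ∧ T 0 3 = 0 ∧ T 1 2 = 0 ∧ T 1 3 = 0 ∧ T 2 0 = 0 ∧ T 2 1 = 0 ∧ T 3 0 = 0 ∧ T 3 1 = 0) :
    ∃ c : F, RP * T = c • (T.map (Unitary.conjHom hF) * RP) := by
  have hσσ : ∀ c : F, Unitary.conjHom hF (Unitary.conjHom hF c) = c := fun c => by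
    rw [conjHom_apply', conjHom_apply']; exact Unitary.pow_q_pow_q hF c
  set σ := Unitary.conjHom hF with hσ
  obtain ⟨z02, z03, z12, z13, z20, z21, z30, z31⟩ := hz
  have hent : ∀ i j, ∑ k, ∑ l, T k i * SW k l * σ (T l j) = SW i j := fun i j => by
    have := congrFun (congrFun hT i) j
    rw [Matrix.mul_apply] at this
    simp only [Matrix.mul_apply, Matrix.transpose_apply, Matrix.map_apply, Finset.sum_mul] at this
    rw [Finset.sum_comm]; exact this
  have e00 := hent 0 2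
  have e01 := hent 0 3
  have e10 := hent 1 2
  have e11 := hent 1 3
  simp [Fin.sum_univ_four, z02, z03, z12, z13, z20, z21, z30, z31] at e00 e01 e10 e11
  have hd : (T 0 0 * T 1 1 - T 0 1 * T 1 0) * (T 2 2 * T 3 3 - T 2 3 * T 3 2) = 1 := by
    rw [← hdet, Matrix.det_succ_row_zero]
    simp [Fin.sum_univ_four, Matrix.det_fin_three, Fin.succAbove, z02, z03, z12, z13, z20, z21, z30, z31]
    ring
  set a := T 0 0 * T 1 1 - T 0 1 * T 1 0 with ha
  have hed : a * σ (T 2 2 * T 3 3 - T 2 3 * T 3 2) = 1 := by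
    rw [map_sub, map_mul, map_mul, ha]
    linear_combination (T 0 1 * σ (T 2 3) + T 1 1 * σ (T 3 3)) * e00 + e11 -
      (T 0 1 * σ (T 2 2) + T 1 1 * σ (T 3 2)) * e01
  have ha0 : a ≠ 0 := fun h => by rw [h, zero_mul] at hd; exact zero_ne_one hd
  have hfix : σ a = a := by
    have h1 : σ a * σ (T 2 2 * T 3 3 - T 2 3 * T 3 2) = 1 := by rw [← map_mul, hd, map_one]
    have h2 : σ (T 2 2 * T 3 3 - T 2 3 * T 3 2) ≠ 0 := fun h => by rw [h, mul_zero] at hed; exact zero_ne_one hed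
    exact mul_right_cancel₀ h2 (h1.trans hed.symm)
  have ha2 : a * a = 1 := by
    rw [hσ, conjHom_apply'] at hfix
    rcases (show q = 2 ∨ q = 3 by have := Unitary.two_le_q hF; omega) with rfl | rfl
    · have h1 : a = 1 := mul_left_cancel₀ ha0 (by linear_combination hfix)
      rw [h1, one_mul]
    · exact mul_left_cancel₀ ha0 (by linear_combination hfix)
  have hconj : ∀ x y : F, a * σ x = y → x = a * σ y := fun x y h => by
    have h' := congrArg σ h
    rw [map_mul, hfix, hσσ] at h'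
    linear_combination a * h' - x * ha2
  have f32 := hconj (T 3 2) (-T 0 1) (by rw [ha]; linear_combination T 0 0 * e10 - T 0 1 * e00)
  have f22 := hconj (T 2 2) (T 1 1) (by rw [ha]; linear_combination T 1 1 * e00 - T 1 0 * e10)
  have f33 := hconj (T 3 3) (T 0 0) (by rw [ha]; linear_combination T 0 0 * e11 - T 0 1 * e01)
  have f23 := hconj (T 2 3) (-T 1 0) (by rw [ha]; linear_combination T 1 1 * e01 - T 1 0 * e11)
  refine ⟨a, ?_⟩
  clear_value a
  ext i j
  fin_cases i <;> fin_cases j <;>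
    simp [Matrix.mul_apply, Fin.sum_univ_four, z02, z03, z12, z13, z20, z21, z30, z31, f32, f22, f33, f23, hfix,
      hσσ, ← mul_assoc, ha2]

/-- A pair of totally singular planes for q ≤ 3: a subfield group of index two. -/
theorem su_four_pair (hF : Fintype.card F = q ^ 2) (hq3 : q ≤ 3) {H : Subgroup (GL (Fin 4) F)}
    (hH : H ≤ G₄ ⊓ Geo.specialLinear (Fin 4) F) {D : Fin 2 → Submodule F (Fin 4 → F)}
    (hD : Geo.IsMDecomposition 2 D) (hts : ∀ i, Geo.IsTotallySingularFor h₄ (D i))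
    (hle : H ≤ Geo.decompositionStabilizer D) :
    ∃ (F₀ : Subfield F) (B : GL (Fin 4) F) (ζ : F), Fintype.card F = Nat.card F₀ ^ 2 ∧ F₀ ≠ ⊤ ∧ ζ ≠ 0 ∧
      ζ + ζ ^ q = 0 ∧ Geo.IsFormRationalStructure h₄ F₀ ζ B ∧
      (∀ u : Fin 4 → F, (∀ i, u i ∈ F₀) →
        h₄ ((B : M₄) *ᵥ u) ((B : M₄) *ᵥ u) = 0) ∧ H ≤ Geo.subfieldSubgroup F₀ B := by
  classical
  have HH := Unitary.hermForm_isHerm hF 4
  have hq0 : q ≠ 0 := by have := Unitary.two_le_q hF; omega
  set σ := Unitary.conjHom hF with hσ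
  -- a hyperbolic basis adapted to the two planes
  let b : Module.Basis (Fin 2) F (D 0) := Module.finBasisOfFinrankEq F _ (hD.finrank_eq 0)
  have htop : D 0 ⊔ D 1 = ⊤ := by
    rw [eq_top_iff, ← hD.iSup_eq_top]
    exact iSup_le fun i => by fin_cases i; exacts [le_sup_left, le_sup_right]
  let Φ : D 1 →ₗ[F] (Fin 2 → F) :=
    { toFun := fun y i => h₄ (y : Fin 4 → F) (b i : Fin 4 → F)
      map_add' := fun x y => funext fun i => HH.add_left _ _ _
      map_smul' := fun c x => funext fun i => HH.smul_left _ _ _ }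
  have hΦ : Function.Surjective Φ := by
    refine (LinearMap.injective_iff_surjective_of_finrank_eq_finrank (by simp [hD.finrank_eq 1])).mp ?_
    rw [← LinearMap.ker_eq_bot, Submodule.eq_bot_iff]
    intro y hy
    by_contra hy0
    obtain ⟨x, hx⟩ := ((hermForm_unitary hF).nondegenerate (y : Fin 4 → F)
      (fun h => hy0 (Subtype.ext h))).2
    refine hx ?_
    obtain ⟨u, hu, v, hv, rfl⟩ := Submodule.mem_sup.mp (htop ▸ Submodule.mem_top : x ∈ D 0 ⊔ D 1)
    have hu' : h₄ (y : Fin 4 → F) u = 0 := by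
      have hsum : u = ∑ i, b.repr ⟨u, hu⟩ i • (b i : Fin 4 → F) := by
        conv_lhs => rw [show u = ((⟨u, hu⟩ : D 0) : Fin 4 → F) from rfl, ← b.sum_repr ⟨u, hu⟩]
        simp only [Submodule.coe_sum, Submodule.coe_smul]
      rw [hsum, HH.sum_right hF]
      refine Finset.sum_eq_zero fun i _ => ?_
      rw [HH.smul_right, show h₄ (y : Fin 4 → F) (b i : Fin 4 → F) = 0 from congrFun (LinearMap.mem_ker.mp hy) i,
        mul_zero]
    rw [HH.add_right hF, hu', hts 1 _ y.2 _ hv, add_zero]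
  choose c hc using fun j : Fin 2 => hΦ (Pi.single j 1)
  have hcb : ∀ j i, h₄ (c j : Fin 4 → F) (b i : Fin 4 → F) = if i = j then 1 else 0 := fun j i => by
    rw [show h₄ (c j : Fin 4 → F) (b i : Fin 4 → F) = Φ (c j) i from rfl, hc, Pi.single_apply]
  have hbc : ∀ j i, h₄ (b i : Fin 4 → F) (c j : Fin 4 → F) = if i = j then 1 else 0 := fun j i => by
    rw [HH.conj_symm, hcb]; split_ifs <;> simp [Unitary.zero_pow_q hF]
  let v : Fin 4 → Fin 4 → F := ![(b 0).1, (b 1).1, (c 0).1, (c 1).1]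
  have hgram0 : (Matrix.of fun i k => v k i)ᵀ * (1 : M₄) * (Matrix.of fun i k => v k i).map σ = SW := by
    have h1 : ∀ i j, ((Matrix.of fun i k => v k i)ᵀ * (1 : M₄) * (Matrix.of fun i k => v k i).map σ) i j =
        h₄ (v i) (v j) := fun i j => by
      simp [Matrix.mul_apply, Cfsg.hermForm, hσ]
    ext i j
    rw [h1]
    fin_cases i <;> fin_cases j <;> simp [v, hts 0 _ (b _).2 _ (b _).2, hts 1 _ (c _).2 _ (c _).2, hcb, hbc]
  have hu : IsUnit (Matrix.of fun i k => v k i) := by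
    rw [Matrix.isUnit_iff_isUnit_det, isUnit_iff_ne_zero]
    intro h0
    have h1 := congrArg Matrix.det hgram0
    rw [Matrix.det_mul, Matrix.det_mul, Matrix.det_transpose, h0, zero_mul, zero_mul, Matrix.det_succ_row_zero] at h1
    simp [Fin.sum_univ_four, Matrix.det_fin_three, Fin.succAbove] at h1
  set P : GL (Fin 4) F := hu.unit with hP
  have hPv : (P : M₄) = Matrix.of fun i k => v k i := hu.unit_spec
  have hgram : (P : M₄)ᵀ * 1 * (P : M₄).map σ = SW := by rw [hPv]; exact hgram0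
  obtain ⟨ζ, hζ0, hζq⟩ := Unitary.exists_skew hF
  obtain ⟨F₀, B, hcard, hne, hrat, halt, hmem⟩ := subfield_of_gram hF P RP (k := -1) (l := 1) (ε := -1) (ζ := ζ)
    (neg_ne_zero.mpr one_ne_zero) (by rw [map_neg, map_one])
    (by ext i j; fin_cases i <;> fin_cases j <;> simp [Matrix.mul_apply, Fin.sum_univ_four, hq0, Unitary.neg_pow_q hF])
    (by rw [← hσ, hgram]; ext i j; fin_cases i <;> fin_cases j <;> simp [Matrix.mul_apply, Fin.sum_univ_four, hq0, hσ, Unitary.neg_pow_q hF])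
    (by ring) (by ring) (by rw [conjHom_apply', hζq, neg_one_mul])
  refine ⟨F₀, B, ζ, hcard, hne, hζ0, by rw [hζq, add_neg_cancel], hrat, halt fun w => ?_, fun g hg => ?_⟩
  · rw [← hσ, hgram]
    simp [Matrix.mulVec, dotProduct, Matrix.mul_apply, Fin.sum_univ_four]
    ring
  set T : M₄ := ((P⁻¹ : GL (Fin 4) F) : M₄) * (g : M₄) * (P : M₄) with hTdef
  have hgP : (g : M₄) * P = (P : M₄) * T := by
    rw [hTdef, ← mul_assoc, ← mul_assoc, Units.mul_inv, one_mul]
  have hdetT : T.det = 1 := by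
    rw [hTdef, Matrix.det_units_conj']
    have := congrArg Units.val (show Matrix.GeneralLinearGroup.det g = 1 from (hH hg).2)
    rwa [Matrix.GeneralLinearGroup.val_det_apply, Units.val_one] at this
  have hgg := gram_of_mem_GU hF (hH hg).1
  rw [← hσ, mul_one] at hgg
  have hTG : Tᵀ * SW * T.map σ = SW := by
    rw [← hgram]
    calc Tᵀ * ((P : M₄)ᵀ * 1 * (P : M₄).map σ) * T.map σ = ((P : M₄) * T)ᵀ * ((P : M₄) * T).map σ := by
          simp [Matrix.transpose_mul, Matrix.map_mul, mul_assoc]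
      _ = _ := by
          rw [← hgP, Matrix.transpose_mul, Matrix.map_mul, mul_assoc, ← mul_assoc (g : M₄)ᵀ ((g : M₄).map σ), hgg,
            one_mul, mul_one]
  have hcol : ∀ j, (g : M₄) *ᵥ v j = fun i => ((g : M₄) * P) i j := fun j => by
    funext i; simp [hPv, Matrix.mul_apply, Matrix.mulVec, dotProduct]
  have hTe : ∀ j k, (Tᵀ * SW) j k = h₄ ((g : M₄) *ᵥ v j) (v k) := fun j k => by
    rw [← hgram, ← mul_assoc, ← mul_assoc, ← Matrix.transpose_mul, ← hgP, mul_one, hcol]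
    simp [Matrix.mul_apply, Cfsg.hermForm, hPv, hσ, mul_comm]
  obtain ⟨π, hπ⟩ := hle hg
  have hv0 : ∀ i : Fin 2, v (Fin.castAdd 2 i) ∈ D 0 := fun i => by fin_cases i <;> exact Subtype.coe_prop _
  have hv1 : ∀ i : Fin 2, v (Fin.natAdd 2 i) ∈ D 1 := fun i => by fin_cases i <;> exact Subtype.coe_prop _
  have himg : ∀ i (x : Fin 4 → F), x ∈ D i → (g : M₄) *ᵥ x ∈ D (π i) := fun i x hx => by
    rw [← hπ i]; exact ⟨x, hx, rfl⟩
  have hz : ∀ (i : Fin 2) (x : Fin 4 → F), x ∈ D i → ∀ y ∈ D (π i), h₄ ((g : M₄) *ᵥ x) y = 0 :=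
    fun i x hx y hy => hts _ _ (himg i x hx) _ hy
  have hperm : π = 1 ∨ π = Equiv.swap 0 1 :=
    (by decide : ∀ p : Equiv.Perm (Fin 2), p = 1 ∨ p = Equiv.swap 0 1) π
  have hsw : ∀ T' : M₄, (T' * SW).map σ = T'.map σ * SW := fun T' => by
    rw [Matrix.map_mul]; congr 1
    ext i j; fin_cases i <;> fin_cases j <;> simp [hσ, hq0]
  rcases hperm with rfl | rfl
  · obtain ⟨k, hk⟩ := pair_cond hF hq3 hTG hdetT (by
      refine ⟨?_, ?_, ?_, ?_, ?_, ?_, ?_, ?_⟩
      · have := (hTe 2 2).trans (hz 1 _ (hv1 0) _ (hv1 0)); simpa [Matrix.mul_apply, Fin.sum_univ_four] using this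
      · have := (hTe 3 2).trans (hz 1 _ (hv1 1) _ (hv1 0)); simpa [Matrix.mul_apply, Fin.sum_univ_four] using this
      · have := (hTe 2 3).trans (hz 1 _ (hv1 0) _ (hv1 1)); simpa [Matrix.mul_apply, Fin.sum_univ_four] using this
      · have := (hTe 3 3).trans (hz 1 _ (hv1 1) _ (hv1 1)); simpa [Matrix.mul_apply, Fin.sum_univ_four] using this
      · have := (hTe 0 0).trans (hz 0 _ (hv0 0) _ (hv0 0)); simpa [Matrix.mul_apply, Fin.sum_univ_four] using this
      · have := (hTe 1 0).trans (hz 0 _ (hv0 1) _ (hv0 0)); simpa [Matrix.mul_apply, Fin.sum_univ_four] using this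
      · have := (hTe 0 1).trans (hz 0 _ (hv0 0) _ (hv0 1)); simpa [Matrix.mul_apply, Fin.sum_univ_four] using this
      · have := (hTe 1 1).trans (hz 0 _ (hv0 1) _ (hv0 1)); simpa [Matrix.mul_apply, Fin.sum_univ_four] using this)
    exact hmem g T k hgP hk
  · have hSS : SW * SW = 1 := by
      ext i j; fin_cases i <;> fin_cases j <;> simp [Matrix.mul_apply, Fin.sum_univ_four]
    have hSR : SW * RP = RP * SW := by
      ext i j; fin_cases i <;> fin_cases j <;> simp [Matrix.mul_apply, Fin.sum_univ_four]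
    have hSm : (SW).map σ = SW := by ext i j; fin_cases i <;> fin_cases j <;> simp [hσ, hq0]
    have hSt : (SW)ᵀ = SW := by ext i j; fin_cases i <;> fin_cases j <;> simp [hσ, hq0]
    obtain ⟨k, hk⟩ := pair_cond hF hq3 (T := T * SW) (by
        rw [hsw, Matrix.transpose_mul, hSt]
        calc SW * Tᵀ * SW * (T.map σ * SW) = SW * (Tᵀ * SW * T.map σ) * SW := by simp only [mul_assoc]
          _ = SW := by rw [hTG, hSS, one_mul])
      (by
        rw [Matrix.det_mul, hdetT, one_mul, Matrix.det_succ_row_zero]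
        simp [Fin.sum_univ_four, Matrix.det_fin_three, Fin.succAbove])
      (by
      refine ⟨?_, ?_, ?_, ?_, ?_, ?_, ?_, ?_⟩
      · have := (hTe 0 2).trans (hz 0 _ (hv0 0) _ (hv1 0)); simpa [Matrix.mul_apply, Fin.sum_univ_four] using this
      · have := (hTe 1 2).trans (hz 0 _ (hv0 1) _ (hv1 0)); simpa [Matrix.mul_apply, Fin.sum_univ_four] using this
      · have := (hTe 0 3).trans (hz 0 _ (hv0 0) _ (hv1 1)); simpa [Matrix.mul_apply, Fin.sum_univ_four] using this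
      · have := (hTe 1 3).trans (hz 0 _ (hv0 1) _ (hv1 1)); simpa [Matrix.mul_apply, Fin.sum_univ_four] using this
      · have := (hTe 2 0).trans (hz 1 _ (hv1 0) _ (hv0 0)); simpa [Matrix.mul_apply, Fin.sum_univ_four] using this
      · have := (hTe 3 0).trans (hz 1 _ (hv1 1) _ (hv0 0)); simpa [Matrix.mul_apply, Fin.sum_univ_four] using this
      · have := (hTe 2 1).trans (hz 1 _ (hv1 0) _ (hv0 1)); simpa [Matrix.mul_apply, Fin.sum_univ_four] using this
      · have := (hTe 3 1).trans (hz 1 _ (hv1 1) _ (hv0 1)); simpa [Matrix.mul_apply, Fin.sum_univ_four] using this)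
    refine hmem g T k hgP ?_
    calc RP * T = RP * (T * SW) * SW := by rw [mul_assoc, mul_assoc T, hSS, mul_one]
      _ = k • ((T * SW).map σ * RP) * SW := by rw [hk]
      _ = k • (T.map σ * RP) := by
        rw [hsw, Matrix.smul_mul, mul_assoc _ SW RP, hSR, ← mul_assoc, mul_assoc _ SW SW, hSS, mul_one]

end Cfsg.Agent.Aschbacher
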