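/-
Symplectic type in SU_4.
Main results: `not_su_four_le_normalizer`, `su_symp_four`.
-/
import Cfsg.Agent.Lib.Aschbacher.UnitarySymp

set_option autoImplicit false

namespace Cfsg.Agent.Aschbacher

open Matrix
open scoped commutatorElement
open Cfsg.Agent.PrimeDim

variable {F : Type*} [Field F] [Fintype F] {n q : ℕ}

local notation "hq" => Cfsg.hermForm n F q
local notation "Γ" => Cfsg.GU n F q ⊓ Geo.specialLinear (Fin n) F

/-- A subspace of dimension at least two contains an isotropic vector. -/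
theorem exists_isotropic_mem (hF : Fintype.card F = q ^ 2) (W : Submodule F (Fin n → F))
    (hW : 2 ≤ Module.finrank F W) : ∃ v ∈ W, v ≠ 0 ∧ hq v v = 0 := by
  have H := Unitary.hermForm_isHerm hF n
  by_contra hcon
  simp only [not_exists, not_and] at hcon
  obtain ⟨e₁, he₁, he₁0⟩ := W.exists_mem_ne_zero_of_ne_bot (fun h => by rw [h, finrank_bot] at hW; omega)
  let φ : W →ₗ[F] F := (Transvect.ufl (hermForm_unitary hF) e₁).domRestrict W
  obtain ⟨e₂, he₂, he₂0⟩ := (LinearMap.ker φ).exists_mem_ne_zero_of_ne_bot (fun h => by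
    have := LinearMap.finrank_le_finrank_of_injective (LinearMap.ker_eq_bot.mp h)
    rw [Module.finrank_self] at this; omega)
  have h21 : hq (e₂ : Fin n → F) e₁ = 0 := he₂
  have h12 : hq e₁ (e₂ : Fin n → F) = 0 := (H.eq_zero_symm hF).mp h21
  have h22 : hq (e₂ : Fin n → F) (e₂ : Fin n → F) ≠ 0 :=
    hcon _ e₂.2 fun h => he₂0 (Subtype.ext h)
  have h11 : hq e₁ e₁ ≠ 0 := hcon _ he₁ he₁0
  obtain ⟨x, hx⟩ := Unitary.exists_norm_eq hF (c := -hq (e₂ : Fin n → F) (e₂ : Fin n → F) / hq e₁ e₁) (by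
    rw [div_pow, Unitary.neg_pow_q hF, H.self_fixed, H.self_fixed])
  refine hcon (x • e₁ + e₂) (W.add_mem (W.smul_mem x he₁) e₂.2) (fun h0 => h22 ?_) ?_
  · have := congrArg (fun z => hq z (e₂ : Fin n → F)) h0
    simpa [H.add_left, H.smul_left, h12, H.zero_left] using this
  · simp only [H.add_left, H.add_right hF, H.smul_left, H.smul_right, h12, h21, mul_zero, add_zero, zero_add]
    rw [← mul_assoc, ← pow_succ', hx, div_mul_cancel₀ _ h11, neg_add_cancel]

local notation "h₄" => Cfsg.hermForm 4 F q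
local notation "Γ₄" => Cfsg.GU 4 F q ⊓ Geo.specialLinear (Fin 4) F
local notation "M₄" => Matrix (Fin 4) (Fin 4) F

/-- A trace-free involution (up to a scalar) of the four-space has two eigenplanes. -/
theorem eigenplane_two (h2 : (2 : F) ≠ 0) {X : M₄} {b : F} (hb : b ≠ 0) (hX : X * X = (b * b) • 1)
    (htr : X.trace = 0) :
    Module.finrank F (LinearMap.ker (Matrix.toLin' (X - b • 1))) = 2 := by
  set e : M₄ := (2 * b)⁻¹ • (X + b • 1) with he
  have hker : ∀ u : Fin 4 → F, Matrix.toLin' (X - b • 1) u = 0 ↔ X *ᵥ u = b • u := fun u => by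
    rw [Matrix.toLin'_apply, Matrix.sub_mulVec, Matrix.smul_mulVec, Matrix.one_mulVec, sub_eq_zero]
  have hproj : LinearMap.IsProj (LinearMap.ker (Matrix.toLin' (X - b • 1))) (Matrix.toLin' e) := by
    refine ⟨fun u => ?_, fun u hu => ?_⟩
    · rw [LinearMap.mem_ker, hker, Matrix.toLin'_apply, he, Matrix.smul_mulVec, Matrix.mulVec_smul,
        smul_comm b ((2 * b)⁻¹)]
      congr 1
      rw [Matrix.add_mulVec, Matrix.mulVec_add, Matrix.mulVec_mulVec, hX, Matrix.smul_mulVec, Matrix.smul_mulVec,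
        Matrix.one_mulVec, Matrix.mulVec_smul, smul_add, smul_smul, add_comm]
    · rw [LinearMap.mem_ker, hker] at hu
      rw [Matrix.toLin'_apply, he, Matrix.smul_mulVec, Matrix.add_mulVec, hu, Matrix.smul_mulVec, Matrix.one_mulVec,
        ← two_smul F, smul_smul, smul_smul, mul_assoc, inv_mul_cancel₀ (mul_ne_zero h2 hb), one_smul]
  have h1 := hproj.trace
  rw [Matrix.trace_toLin'_eq, he, Matrix.trace_smul, Matrix.trace_add, htr, Matrix.trace_smul, Matrix.trace_one,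
    zero_add, Fintype.card_fin, smul_eq_mul, smul_eq_mul] at h1
  have h3 : ((Module.finrank F (LinearMap.ker (Matrix.toLin' (X - b • 1)))) : F) = 2 := by
    rw [← h1]; push_cast; field_simp; norm_num
  have hle : Module.finrank F (LinearMap.ker (Matrix.toLin' (X - b • 1))) ≤ 4 :=
    (Submodule.finrank_le _).trans (by simp)
  generalize Module.finrank F (LinearMap.ker (Matrix.toLin' (X - b • 1))) = r at h3 hle
  interval_cases r <;> norm_num at h3 ⊢
  · exact h2 h3.symm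
  · exact one_ne_zero (show (1 : F) = 0 by linear_combination -h3)
  · exact one_ne_zero (show (1 : F) = 0 by linear_combination h3)
  · exact h2 (show (2 : F) = 0 by linear_combination h3)

/-- A group of exponent four with scalar commutators spanning all matrices is not normalised by SU_4. -/
theorem not_su_four_le_normalizer (hF : Fintype.card F = q ^ 2) (h2 : (2 : F) ≠ 0) (hi : IsSquare (-1 : F))
    {R : Subgroup (GL (Fin 4) F)} (hspan : Submodule.span F (Geo.matrixSet R) = ⊤)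
    (hcomm : ∀ x ∈ R, ∀ y ∈ R, ⁅x, y⁆ ∈ Geo.scalars (Fin 4) F) (h4 : ∀ x ∈ R, x ^ 4 = 1)
    (hsim : R ≤ Geo.similarityGroup h₄) : ¬ Γ₄ ≤ Geo.subgroupNormalizer R := by
  classical
  intro hle
  have H := Unitary.hermForm_isHerm hF 4
  obtain ⟨x, hx, hxs, b, hb, hX⟩ : ∃ x ∈ R, x ∉ Geo.scalars (Fin 4) F ∧ ∃ b : F, b ≠ 0 ∧
      (x : M₄) * (x : M₄) = (b * b) • 1 := by
    obtain ⟨x, hx, hxs⟩ : ∃ x ∈ R, x ∉ Geo.scalars (Fin 4) F := by
      by_contra hcon
      simp only [not_exists, not_and, not_not] at hcon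
      have hall : Submodule.span F (Geo.matrixSet R) ≤ Submodule.span F {(1 : M₄)} := by
        rw [Submodule.span_le]
        rintro _ ⟨x, hx, rfl⟩
        obtain ⟨c, hc⟩ := (Geo.mem_scalars_iff _).mp (hcon x hx)
        show (x : M₄) ∈ _
        rw [hc]
        exact Submodule.smul_mem _ _ (Submodule.mem_span_singleton_self _)
      rw [hspan] at hall
      obtain ⟨c, hc⟩ := Submodule.mem_span_singleton.mp (hall (Submodule.mem_top : (Matrix.single 0 1 1 : M₄) ∈ (⊤ : Submodule F M₄)))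
      have := congrFun (congrFun hc 0) 1
      simp at this
    have h44 := congrArg Units.val (h4 x hx)
    rw [Units.val_pow_eq_pow_val, Units.val_one,
      show (x : M₄) ^ 4 = (x : M₄) * (x : M₄) * ((x : M₄) * (x : M₄)) by noncomm_ring] at h44
    by_cases hxx : x * x ∈ Geo.scalars (Fin 4) F
    · obtain ⟨a, ha⟩ := (Geo.mem_scalars_iff _).mp hxx
      rw [Units.val_mul] at ha
      have ha2 : (a : F) * a = 1 := by
        refine smul_one_inj (ι := Fin 4) ?_
        rw [ha, Matrix.smul_mul, one_mul, smul_smul] at h44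
        rw [h44, one_smul]
      obtain ⟨b, hb⟩ : IsSquare (a : F) := by
        rcases mul_self_eq_one_iff.mp ha2 with h | h <;> rw [h]
        exacts [⟨1, (one_mul 1).symm⟩, hi]
      exact ⟨x, hx, hxs, b, fun h0 => a.ne_zero (by rw [hb, h0, zero_mul]), by rw [ha, hb]⟩
    · refine ⟨x * x, mul_mem hx hx, hxx, 1, one_ne_zero, ?_⟩
      rw [one_mul, one_smul, Units.val_mul]
      exact h44
  set X : M₄ := (x : M₄) with hXdef
  have htr : X.trace = 0 := trace_zero_of_comm hspan hcomm hx hxs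
  obtain ⟨ν, hν⟩ := hsim hx
  obtain ⟨d, hd0, hd⟩ := Unitary.exists_skew hF
  -- an isotropic vector orthogonal to its image is an eigenvector
  have key : ∀ v : Fin 4 → F, v ≠ 0 → h₄ v v = 0 → h₄ (X *ᵥ v) v = 0 → ∃ c : F, X *ᵥ v = c • v := by
    intro v hv0 hv hXv
    set T := utq hF v d with hT
    set φ : Fin 4 → F := d • fun i => v i ^ q with hφ
    have hdot : ∀ u, φ ⬝ᵥ u = d * h₄ u v := fun u => by
      simp [hφ, dotProduct, Cfsg.hermForm, Finset.mul_sum]; exact Finset.sum_congr rfl fun i _ => by ring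
    have hTm : (T : M₄) = 1 + Matrix.vecMulVec v φ := by
      refine Matrix.ext_iff_mulVec.mpr fun u => ?_
      rw [hT, utq_mulVec hF hv, Matrix.add_mulVec, Matrix.one_mulVec, Matrix.vecMulVec_mulVec, hdot, op_smul_eq_smul]
    have hTi : ((T⁻¹ : GL (Fin 4) F) : M₄) = 1 - Matrix.vecMulVec v φ := by
      refine Units.inv_eq_of_mul_eq_one_right ?_
      rw [hTm, add_mul, one_mul, mul_sub, mul_one, Matrix.vecMulVec_mul_vecMulVec, hdot, hv, mul_zero, zero_smul,
        Matrix.vecMulVec_zero, sub_zero, sub_add_cancel]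
    set Y := ((x⁻¹ : GL (Fin 4) F) : M₄) with hY
    have hXY : X * Y = 1 := by rw [hXdef, hY, Units.mul_inv]
    have hYX : Y * X = 1 := by rw [hXdef, hY, Units.inv_mul]
    have hφv : φ ⬝ᵥ v = 0 := by rw [hdot, hv, mul_zero]
    have hyR : T * x * T⁻¹ * x⁻¹ ∈ R :=
      mul_mem (((Subgroup.mem_normalizer_iff.mp (hle (utq_mem hF hv hd))) x).mp hx) (inv_mem hx)
    have hy : ((T * x * T⁻¹ * x⁻¹ : GL (Fin 4) F) : M₄) =
        1 + Matrix.vecMulVec v φ - Matrix.vecMulVec (X *ᵥ v) (φ ᵥ* Y) := by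
      rw [Units.val_mul, Units.val_mul, Units.val_mul, hTi, hTm, ← hXdef, ← hY, mul_assoc, mul_assoc,
        ← mul_assoc X (1 - Matrix.vecMulVec v φ) Y, mul_sub, mul_one, sub_mul, hXY,
        Matrix.mul_vecMulVec, Matrix.vecMulVec_mul, mul_sub, mul_one, add_mul, one_mul,
        Matrix.vecMulVec_mul_vecMulVec, hdot, hXv, mul_zero, zero_smul, Matrix.vecMulVec_zero, add_zero]
    have htr4 : ((T * x * T⁻¹ * x⁻¹ : GL (Fin 4) F) : M₄).trace = 4 := by
      rw [hy, Matrix.trace_sub, Matrix.trace_add, Matrix.trace_one, Fintype.card_fin, Matrix.trace_vecMulVec,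
        Matrix.trace_vecMulVec, dotProduct_comm v, hφv, dotProduct_comm (X *ᵥ v), ← Matrix.dotProduct_mulVec,
        Matrix.mulVec_mulVec, hYX, Matrix.one_mulVec, hφv]
      norm_num
    have h40 : (4 : F) ≠ 0 := by
      rw [show (4 : F) = 2 * 2 by norm_num]; exact mul_ne_zero h2 h2
    have hys : T * x * T⁻¹ * x⁻¹ ∈ Geo.scalars (Fin 4) F := by
      by_contra hns
      exact h40 (htr4.symm.trans (trace_zero_of_comm hspan hcomm hyR hns))
    obtain ⟨c, hc⟩ := (Geo.mem_scalars_iff _).mp hys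
    have hc1 : (c : F) = 1 := by
      rw [hc, Matrix.trace_smul, Matrix.trace_one, Fintype.card_fin, smul_eq_mul] at htr4
      exact (mul_eq_right₀ h40).mp (by exact_mod_cast htr4)
    have hTx : T * x = x * T := by
      have : T * x * T⁻¹ * x⁻¹ = 1 := Units.ext (by rw [hc, hc1, one_smul, Units.val_one])
      rwa [mul_inv_eq_one, mul_inv_eq_iff_eq_mul] at this
    obtain ⟨w, hw⟩ := ((hermForm_unitary hF).nondegenerate v hv0).1
    have h1 := congrArg (fun g : GL (Fin 4) F => (g : M₄) *ᵥ w) hTx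
    simp only [Units.val_mul, ← Matrix.mulVec_mulVec, ← hXdef, hT, utq_mulVec hF hv] at h1
    rw [Matrix.mulVec_add, Matrix.mulVec_smul, add_right_inj] at h1
    refine ⟨(d * h₄ w v)⁻¹ * (d * h₄ (X *ᵥ w) v), ?_⟩
    rw [← smul_smul, h1, smul_smul, inv_mul_cancel₀ (mul_ne_zero hd0 hw), one_smul]
  -- the eigenplanes
  have hX' : X * X = (-b * -b) • 1 := by rw [neg_mul_neg]; exact hX
  set Ep := LinearMap.ker (Matrix.toLin' (X - b • 1)) with hEp
  set Em := LinearMap.ker (Matrix.toLin' (X - (-b) • 1)) with hEm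
  have hp2 : Module.finrank F Ep = 2 := eigenplane_two h2 hb hX htr
  have hm2 : Module.finrank F Em = 2 := eigenplane_two h2 (neg_ne_zero.mpr hb) hX' htr
  have hmem : ∀ {a : F} {u : Fin 4 → F}, u ∈ LinearMap.ker (Matrix.toLin' (X - a • 1)) → X *ᵥ u = a • u :=
    fun {a u} hu => by
    rwa [LinearMap.mem_ker, Matrix.toLin'_apply, Matrix.sub_mulVec, Matrix.smul_mulVec, Matrix.one_mulVec,
      sub_eq_zero] at hu
  obtain ⟨u, hu, hu0, w, hw, hw0, h11, h22, h12⟩ :
      ∃ u ∈ Ep, u ≠ 0 ∧ ∃ w ∈ Em, w ≠ 0 ∧ h₄ u u = 0 ∧ h₄ w w = 0 ∧ h₄ u w = 0 := by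
    have hval : ∀ {a c : F} (u v : Fin 4 → F), X *ᵥ u = a • u → X *ᵥ v = c • v →
        (a * c ^ q - ν) * h₄ u v = 0 := fun {a c} u v h1 h2 => by
      have h3 := hν u v
      rw [← hXdef, h1, h2, H.smul_left, H.smul_right] at h3
      linear_combination h3
    by_cases hcase : (ν : F) = b * b ^ q
    · obtain ⟨u, hu, hu0, h11⟩ := exists_isotropic_mem hF Ep (by omega)
      obtain ⟨w, hw, hw0, h22⟩ := exists_isotropic_mem hF Em (by omega)
      refine ⟨u, hu, hu0, w, hw, hw0, h11, h22, ?_⟩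
      refine (mul_eq_zero.mp (hval u w (hmem hu) (hmem hw))).resolve_left ?_
      rw [Unitary.neg_pow_q hF, hcase]
      intro h
      have : (2 : F) * (b * b ^ q) = 0 := by linear_combination -h
      exact mul_ne_zero h2 (mul_ne_zero hb (pow_ne_zero _ hb)) this
    · have hts : ∀ {a : F}, a * a ^ q = b * b ^ q → ∀ v ∈ LinearMap.ker (Matrix.toLin' (X - a • 1)), h₄ v v = 0 :=
        fun {a} ha v hv => (mul_eq_zero.mp (hval v v (hmem hv) (hmem hv))).resolve_left
          (by rw [ha]; exact sub_ne_zero.mpr (Ne.symm hcase))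
      obtain ⟨u, hu, hu0⟩ := Ep.exists_mem_ne_zero_of_ne_bot (fun h => by rw [h, finrank_bot] at hp2; omega)
      let φ : Em →ₗ[F] F := (Transvect.ufl (hermForm_unitary hF) u).domRestrict Em
      obtain ⟨w, hw, hw0⟩ := (LinearMap.ker φ).exists_mem_ne_zero_of_ne_bot (fun h => by
        have := LinearMap.finrank_le_finrank_of_injective (LinearMap.ker_eq_bot.mp h)
        rw [Module.finrank_self] at this; omega)
      exact ⟨u, hu, hu0, w, w.2, fun h => hw0 (Subtype.ext h), hts rfl u hu,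
        hts (by rw [Unitary.neg_pow_q hF, neg_mul_neg]) _ w.2, (H.eq_zero_symm hF).mp hw⟩
  have h21 : h₄ w u = 0 := (H.eq_zero_symm hF).mp h12
  have hsum : u + w ≠ 0 := fun h0 => by
    have h1 := hmem hw
    rw [eq_neg_of_add_eq_zero_right h0, Matrix.mulVec_neg, hmem hu, smul_neg, neg_smul, neg_neg] at h1
    have h2' : ((2 : F) * b) • u = 0 := by linear_combination (norm := module) -(1 : F) • h1
    exact mul_ne_zero h2 hb ((smul_eq_zero.mp h2').resolve_right hu0)
  obtain ⟨c, hc⟩ := key (u + w) hsum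
    (by simp only [H.add_left, H.add_right hF, h11, h22, h12, h21, add_zero])
    (by simp only [Matrix.mulVec_add, hmem hu, hmem hw, H.add_left, H.add_right hF, H.smul_left, h11, h22, h12, h21,
      mul_zero, add_zero])
  have h1 : (b - c) • u = (c + b) • w := by
    rw [Matrix.mulVec_add, hmem hu, hmem hw] at hc
    linear_combination (norm := module) hc
  have h2' := congrArg (X *ᵥ ·) h1
  simp only [Matrix.mulVec_smul, hmem hu, hmem hw] at h2'
  have h3 : (2 * b * (b - c)) • u = 0 := by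
    linear_combination (norm := module) h2' + b • h1
  have h4' : (2 * b * (c + b)) • w = 0 := by
    linear_combination (norm := module) h2' - b • h1
  have e1 := sub_eq_zero.mp ((mul_eq_zero.mp ((smul_eq_zero.mp h3).resolve_right hu0)).resolve_left (mul_ne_zero h2 hb))
  have e2 := (mul_eq_zero.mp ((smul_eq_zero.mp h4').resolve_right hw0)).resolve_left (mul_ne_zero h2 hb)
  exact mul_ne_zero h2 hb (by linear_combination e1 + e2)

/-- A normal spanning subgroup with traces in a proper subfield: class 5, from degree four. -/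
theorem su_subfield_of_trace' (hF : Fintype.card F = q ^ 2) (h4 : 4 ≤ n) {H P : Subgroup (GL (Fin n) F)}
    (hH : Geo.IsMaximalIn Γ H) (hHP : NormBy H P) (hPU : P ≤ Cfsg.GU n F q)
    (hspan : Submodule.span F (Geo.matrixSet P) = ⊤) {E : Subfield F} (hE : E ≠ ⊤)
    (htr : ∀ x ∈ P, (x : Matrix (Fin n) (Fin n) F).trace ∈ E) :
    (∃ (F₀ : Subfield F) (r : ℕ) (P : GL (Fin n) F), r.Prime ∧ Odd r ∧ Fintype.card F = Nat.card F₀ ^ r ∧
      Geo.IsFormRationalStructure hq F₀ 1 P ∧ H = Geo.subfieldSubgroup F₀ P ⊓ Γ) ∨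
    (∃ (F₀ : Subfield F) (P : GL (Fin n) F) (ζ : F), Fintype.card F = Nat.card F₀ ^ 2 ∧ ζ ≠ 0 ∧
      ζ + ζ ^ q = 0 ∧ Geo.IsFormRationalStructure hq F₀ ζ P ∧
      (∀ u : Fin n → F, (∀ i, u i ∈ F₀) →
        hq ((P : Matrix (Fin n) (Fin n) F) *ᵥ u) ((P : Matrix (Fin n) (Fin n) F) *ᵥ u) = 0) ∧
      H = Geo.subfieldSubgroup F₀ P ⊓ Γ) ∨
    (Odd q ∧ ∃ (F₀ : Subfield F) (P : GL (Fin n) F), Fintype.card F = Nat.card F₀ ^ 2 ∧
      Geo.IsFormRationalStructure hq F₀ 1 P ∧ H = Geo.subfieldSubgroup F₀ P ⊓ Γ) := by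
  have : Nonempty (Fin n) := ⟨⟨0, by omega⟩⟩
  have key : ∀ M : Subgroup (GL (Fin n) F), H ≤ M → ¬ Γ ≤ M → H = M ⊓ Γ := by
    intro M h1 h2
    rcases hH.2 (M ⊓ Γ) (le_inf h1 hH.1.le) inf_le_right with h | h
    · exact h.symm
    · exact absurd (h ▸ inf_le_left) h2
  rcases su_subfield_outcome hF (by omega) hHP hPU hspan (absIrred_of_span hspan) hE
      (realisableOver_of_trace hspan (absIrred_of_span hspan).2 _ htr) with
    ⟨F₁, r, B, hr, hrodd, hc, hne, hform, hle⟩ | ⟨hqo, F₁, B, hc, hne, hform, hle⟩ |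
    ⟨F₁, B, ζ, hc, hne, hζ, hζq, hform, halt, hle⟩
  · exact Or.inl ⟨F₁, r, B, hr, hrodd, hc, hform, key _ hle (not_su_le_subfieldSubgroup' hF h4 hne B)⟩
  · exact Or.inr (Or.inr ⟨hqo, F₁, B, hc, hform, key _ hle (not_su_le_subfieldSubgroup' hF h4 hne B)⟩)
  · exact Or.inr (Or.inl ⟨F₁, B, ζ, hc, hζ, hζq, hform, halt,
      key _ hle (not_su_le_subfieldSubgroup' hF h4 hne B)⟩)

/-- Symplectic type in SU_4. -/
theorem su_symp_four (hF : Fintype.card F = q ^ 2) {H : Subgroup (GL (Fin 4) F)}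
    (hH : Geo.IsMaximalIn Γ₄ H) {r m z p f : ℕ} {R : Subgroup (GL (Fin 4) F)}
    (hR : SympData (H ⊔ Geo.scalars (Fin 4) F) r m z p f R) :
    ((∃ (F₀ : Subfield F) (r : ℕ) (P : GL (Fin 4) F), r.Prime ∧ Odd r ∧ Fintype.card F = Nat.card F₀ ^ r ∧
      Geo.IsFormRationalStructure h₄ F₀ 1 P ∧ H = Geo.subfieldSubgroup F₀ P ⊓ Γ₄) ∨
    (∃ (F₀ : Subfield F) (P : GL (Fin 4) F) (ζ : F), Fintype.card F = Nat.card F₀ ^ 2 ∧ ζ ≠ 0 ∧
      ζ + ζ ^ q = 0 ∧ Geo.IsFormRationalStructure h₄ F₀ ζ P ∧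
      (∀ u : Fin 4 → F, (∀ i, u i ∈ F₀) →
        h₄ ((P : M₄) *ᵥ u) ((P : M₄) *ᵥ u) = 0) ∧
      H = Geo.subfieldSubgroup F₀ P ⊓ Γ₄) ∨
    (Odd q ∧ ∃ (F₀ : Subfield F) (P : GL (Fin 4) F), Fintype.card F = Nat.card F₀ ^ 2 ∧
      Geo.IsFormRationalStructure h₄ F₀ 1 P ∧ H = Geo.subfieldSubgroup F₀ P ⊓ Γ₄)) ∨
    ∃ (p : ℕ) (R : Subgroup (GL (Fin 4) F)), p.Prime ∧ q = p ∧ p % 4 = 3 ∧
      Geo.IsSymplecticTypeGroup 2 R ∧ Geo.ActsAbsolutelyIrreducibly (Geo.matrixSet R) ∧
      R ≤ Geo.similarityGroup h₄ ∧ Nat.card R = 64 ∧ Nat.card (Subgroup.center R) = 4 ∧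
      H = Geo.subgroupNormalizer R ⊓ Γ₄ := by
  obtain ⟨hp, hpc, hf, hzf, hrp⟩ := hR.charP
  have hcard := hR.card_eq
  rw [Fintype.card_fin] at hcard
  have hr2 : r = 2 := by
    have hrl : r ∣ 2 ^ 2 := by
      rw [show (2 : ℕ) ^ 2 = 4 from rfl, hcard]; exact dvd_pow_self r (by have := hR.pos; omega)
    exact (Nat.prime_dvd_prime_iff_eq hR.prime Nat.prime_two).mp (hR.prime.dvd_of_dvd_pow hrl)
  obtain ⟨e, he1, hqe, hfe⟩ := q_of_card hF hp hf
  have hpo : p % 2 = 1 := hp.eq_two_or_odd.resolve_left fun h => hrp (hr2.trans h.symm)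
  have hqo : q % 2 = 1 := by simp [hqe, Nat.pow_mod, hpo]
  obtain ⟨P, hPU, hPn, hPs, hPt⟩ := symp_part hF (by omega) hH hR
  have : Fact p.Prime := ⟨hp⟩
  have : ExpChar F p := ExpChar.prime hp
  rcases (show q % 4 = 1 ∨ (q % 4 = 3 ∧ 2 ≤ e) ∨ (q % 4 = 3 ∧ e = 1) by omega) with hq1 | ⟨hq3, he⟩ | ⟨hq3, he⟩
  · refine Or.inl (su_subfield_of_trace' hF le_rfl hH hPn hPU hPs (E := Unitary.fixedField hF) ?_ fun x hx => ?_)
    · exact fun htop => Unitary.conjHom_ne_id hF (RingHom.ext fun x =>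
        (Unitary.mem_fixedField hF).mp (htop ▸ Subfield.mem_top x))
    rcases hPt x hx with h | ⟨a, h, ha1, ha4⟩
    · rw [h]; exact zero_mem _
    rw [h]
    refine mul_mem ((Unitary.mem_fixedField hF).mpr ?_) (natCast_mem _ _)
    have ha2 : a ^ 2 = 1 := by
      have h2 : a ^ Nat.gcd (q + 1) 4 = 1 := pow_gcd_eq_one.mpr ⟨ha1, ha4⟩
      have hg : Nat.gcd (q + 1) 4 = 2 := by
        obtain ⟨j, hj⟩ : ∃ j, q + 1 = 2 * (2 * j + 1) := ⟨q / 4, by omega⟩
        rw [hj, show 4 = 2 * 2 from rfl, Nat.gcd_mul_left]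
        have : Nat.gcd (2 * j + 1) 2 = 1 := by
          show Nat.Coprime (2 * j + 1) 2
          rw [Nat.coprime_two_right]; exact ⟨j, rfl⟩
        rw [this]
      rwa [hg] at h2
    obtain ⟨j, hj⟩ : ∃ j, q = 2 * j + 1 := ⟨q / 2, by omega⟩
    rw [hj, pow_succ, pow_mul, ha2, one_pow, one_mul]
  · refine Or.inl (su_subfield_of_trace' hF le_rfl hH hPn hPU hPs (E := fixedSubfield F p 2)
      (fixedSubfield_ne_top hp (by rw [← Nat.card_eq_fintype_card, hf, hfe]) two_pos (by omega)) fun x hx => ?_)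
    rcases hPt x hx with h | ⟨a, h, -, ha4⟩
    · rw [h]; exact zero_mem _
    rw [h]
    refine mul_mem (mem_fixedSubfield.mpr ?_) (natCast_mem _ _)
    obtain ⟨j, hj⟩ : ∃ j, p ^ 2 = 4 * j + 1 := by
      obtain ⟨i, rfl⟩ : ∃ i, p = 2 * i + 1 := ⟨p / 2, by omega⟩
      exact ⟨i * i + i, by ring⟩
    rw [hj, pow_succ, pow_mul, ha4, one_pow, one_mul]
  · right
    have hqp : q = p := by rw [hqe, he, pow_one]
    have hsq : IsSquare (-1 : F) := by
      rw [FiniteField.isSquare_neg_one_iff, ← Nat.card_eq_fintype_card, hf, hfe, pow_mul]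
      have : p ^ 2 % 4 = 1 := by rw [Nat.pow_mod]; rcases (show p % 4 = 1 ∨ p % 4 = 3 by omega) with h | h <;> rw [h]
      rw [Nat.pow_mod, this, one_pow]; decide
    have hz : z = 4 := by
      rcases hR.kind with ⟨ho, -⟩ | ⟨-, hz, -⟩ | ⟨-, -, hns⟩
      · rw [hr2] at ho; exact absurd ho (by decide)
      · exact hz
      · exact absurd hsq hns
    have hsim := similarity_of_sim hF hH hR.le
    have h20 : (2 : F) ≠ 0 := by
      intro h0
      have := (CharP.cast_eq_zero_iff F p 2).mp (by exact_mod_cast h0)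
      have := Nat.le_of_dvd two_pos this
      have := hp.two_le
      omega
    refine ⟨p, R, hp, hqp, hqp ▸ hq3, hr2 ▸ hR.sympType, absIrred_of_span hR.span, hsim, ?_,
      hR.card_center.trans hz, ?_⟩
    · rw [hR.card_group, hz, Fintype.card_fin]
    have hle : H ≤ Geo.subgroupNormalizer R :=
      (le_sup_left (a := H)).trans (le_subgroupNormalizer hR.norm)
    rcases hH.2 (Geo.subgroupNormalizer R ⊓ Γ₄) (le_inf hle hH.1.le) inf_le_right with h | h
    · exact h.symm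
    · refine absurd (h ▸ inf_le_left) (not_su_four_le_normalizer hF h20 hsq hR.span hR.comm ?_ hsim)
      intro x hx
      have h1 : (⟨x, hx⟩ : R) ^ 4 = 1 := by
        have hexp := hR.sympType.exponent_eq
        rw [hr2] at hexp
        have := Monoid.pow_exponent_eq_one (⟨x, hx⟩ : R)
        rwa [hexp] at this
      exact congrArg Subtype.val h1

end Cfsg.Agent.Aschbacher
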