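/-
GU_9(2): a stabiliser of a tensor decomposition 3 ⊗ 3 normalises an extraspecial group of order 3^5.
Main results: `exists_threeGroup`, `unitary_nine`.
-/
import Cfsg.Agent.Lib.Aschbacher.FormUnitary
import Cfsg.Agent.Lib.Unitary.Small32

set_option autoImplicit false

namespace Cfsg.Agent.Aschbacher

open Matrix
open Cfsg.Agent.PrimeDim
open Cfsg.Agent.Unitary (GF4)
open Cfsg.Agent.Unitary.PSU32 (hMat hElt rMat rElt mmul mmul_eq wpow)

section Table

theorem hMat_cube_one : ∀ x, mmul (hMat x) (mmul (hMat x) (hMat x)) = hMat (0, 0, 0) := by decide +kernel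

theorem hMat_center : ∀ x, (∀ y, mmul (hMat x) (hMat y) = mmul (hMat y) (hMat x)) → x.1 = 0 ∧ x.2.1 = x.2.2 := by
  decide +kernel

theorem hMat_moved : ∀ x, ¬ (x.1 = 0 ∧ x.2.1 = x.2.2) → ∃ g y,
    mmul (rMat g) (hMat x) = mmul (hMat y) (rMat g) ∧
      mmul (hMat x) (hMat y) ≠ mmul (hMat y) (hMat x) := by decide +kernel

/-- The coefficient of `hMat (s, c, e)` in the matrix unit at `(i, i + s)`. -/
def unitCoeff (i : Fin 3) (ce : Fin 3 × Fin 3) : GF4 :=
  wpow (-(![ce.1, ce.2, -ce.1 - ce.2] : Fin 3 → Fin 3) i)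

/-- Two-dimensional sum over the diagonal indices, for computation. -/
def sum9 (f : Fin 3 × Fin 3 → GF4) : GF4 :=
  f (0, 0) + f (0, 1) + f (0, 2) + f (1, 0) + f (1, 1) + f (1, 2) + f (2, 0) + f (2, 1) + f (2, 2)

theorem hMat_unit : ∀ i s a b, sum9 (fun ce => unitCoeff i ce * hMat (s, ce.1, ce.2) a b) =
    if a = i ∧ b = i + s then 1 else 0 := by decide +kernel

theorem mem_H_of_cube {g : Cfsg.SU 3 GF4 2} (h : g ^ 3 = 1) : g ∈ Unitary.PSU32.H := by
  have := Unitary.PSU32.H_normal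
  have hc := Subgroup.card_eq_card_quotient_mul_card_subgroup Unitary.PSU32.H
  rw [Unitary.PSU32.card_SU32, Unitary.PSU32.card_H] at hc
  rw [← QuotientGroup.eq_one_iff]
  have h3 : ((g : Cfsg.SU 3 GF4 2 ⧸ Unitary.PSU32.H)) ^ 3 = 1 := by rw [← QuotientGroup.mk_pow, h]; rfl
  have h8 : ((g : Cfsg.SU 3 GF4 2 ⧸ Unitary.PSU32.H)) ^ 8 = 1 := by
    rw [show 8 = Nat.card (Cfsg.SU 3 GF4 2 ⧸ Unitary.PSU32.H) by omega]
    exact pow_card_eq_one'
  have h9 : ((g : Cfsg.SU 3 GF4 2 ⧸ Unitary.PSU32.H)) ^ 9 = 1 := by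
    rw [show 9 = 3 * 3 from rfl, pow_mul, h3, one_pow]
  calc (g : Cfsg.SU 3 GF4 2 ⧸ Unitary.PSU32.H)
      = (g : Cfsg.SU 3 GF4 2 ⧸ Unitary.PSU32.H) ^ 9 := by rw [pow_succ, h8, one_mul]
    _ = 1 := h9

end Table

variable {F : Type*} [Field F] [Fintype F]

/-- The properties of the normal subgroup of order 27 of GU_3(2). -/
structure ThreeGroup (hF : Fintype.card F = 2 ^ 2) (R : Subgroup (GL (Fin 3) F)) : Prop where
  card : Nat.card R = 27
  gram : ∀ x ∈ R, (x : Matrix (Fin 3) (Fin 3) F)ᵀ * (x : Matrix (Fin 3) (Fin 3) F).map (Unitary.conjHom hF) = 1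
  cube : ∀ x ∈ R, x ^ 3 = 1
  span : Submodule.span F (Geo.matrixSet R) = ⊤
  norm : ∀ a : GL (Fin 3) F,
    (a : Matrix (Fin 3) (Fin 3) F)ᵀ * (a : Matrix (Fin 3) (Fin 3) F).map (Unitary.conjHom hF) = 1 →
      ∀ x ∈ R, a * x * a⁻¹ ∈ R
  center : ∀ x ∈ R, (∀ y ∈ R, x * y = y * x) → x ∈ Geo.scalars (Fin 3) F
  card_scalars : Nat.card (R ⊓ Geo.scalars (Fin 3) F : Subgroup (GL (Fin 3) F)) = 3
  moved : ∀ x ∈ R, x ∉ Geo.scalars (Fin 3) F → ∃ a : GL (Fin 3) F,
    (a : Matrix (Fin 3) (Fin 3) F)ᵀ * (a : Matrix (Fin 3) (Fin 3) F).map (Unitary.conjHom hF) = 1 ∧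
      x * (a * x * a⁻¹) ≠ (a * x * a⁻¹) * x

theorem exists_threeGroup (hF : Fintype.card F = 2 ^ 2) : ∃ R, ThreeGroup hF R := by
  classical
  set φ : GF4 ≃+* F := FiniteField.ringEquivOfCardEq (GF4.card.trans hF.symm) with hφ
  let ψ : Cfsg.SU 3 GF4 2 →* GL (Fin 3) F :=
    (Matrix.SpecialLinearGroup.toGL.comp (Cfsg.SU 3 F 2).subtype).comp (Unitary.suMapEquiv φ 3 2).toMonoidHom
  have hψv : ∀ g : Cfsg.SU 3 GF4 2, (ψ g : Matrix (Fin 3) (Fin 3) F) =
      ((g : Matrix.SpecialLinearGroup (Fin 3) GF4) : Matrix (Fin 3) (Fin 3) GF4).map φ := fun g => rfl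
  have hψi : Function.Injective ψ :=
    (Matrix.SpecialLinearGroup.toGL_injective.comp (Cfsg.SU 3 F 2).subtype_injective).comp
      (Unitary.suMapEquiv φ 3 2).injective
  have hrange : ∀ y : GL (Fin 3) F, (y : Matrix (Fin 3) (Fin 3) F).det = 1 →
      (y : Matrix (Fin 3) (Fin 3) F)ᵀ * (y : Matrix (Fin 3) (Fin 3) F).map (Unitary.conjHom hF) = 1 →
      ∃ g, ψ g = y := by
    intro y hd hy
    have hmem : (⟨(y : Matrix (Fin 3) (Fin 3) F), hd⟩ : Matrix.SpecialLinearGroup (Fin 3) F) ∈ Cfsg.SU 3 F 2 := by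
      refine (Unitary.mem_SU_iff (q := 2) _).mpr fun u v => ?_
      rw [hermForm_eq_gram hF, formOfGram_mulVec, mul_one]
      exact congrArg (fun M => Geo.formOfGram (Unitary.conjHom hF) M u v) hy
    refine ⟨(Unitary.suMapEquiv φ 3 2).symm ⟨_, hmem⟩, Units.ext ?_⟩
    show ((((Unitary.suMapEquiv φ 3 2) ((Unitary.suMapEquiv φ 3 2).symm ⟨_, hmem⟩) : Cfsg.SU 3 F 2) :
      Matrix.SpecialLinearGroup (Fin 3) F) : Matrix (Fin 3) (Fin 3) F) = _
    rw [MulEquiv.apply_symm_apply]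
  have hgramψ : ∀ g, (ψ g : Matrix (Fin 3) (Fin 3) F)ᵀ *
      (ψ g : Matrix (Fin 3) (Fin 3) F).map (Unitary.conjHom hF) = 1 := fun g => by
    have h1 : ψ g ∈ Cfsg.GU 3 F 2 := fun u v => (Unitary.suMapEquiv φ 3 2 g).2 u v
    simpa using gram_of_mem_GU hF h1
  have hdetψ : ∀ g, (ψ g : Matrix (Fin 3) (Fin 3) F).det = 1 := fun g =>
    ((Unitary.suMapEquiv φ 3 2 g : Cfsg.SU 3 F 2) : Matrix.SpecialLinearGroup (Fin 3) F).2
  have hcomm : ∀ x y, ψ (hElt x) * ψ (hElt y) = ψ (hElt y) * ψ (hElt x) →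
      mmul (hMat x) (hMat y) = mmul (hMat y) (hMat x) := by
    intro x y h
    rw [← map_mul, ← map_mul] at h
    rw [mmul_eq, mmul_eq]
    exact congrArg (fun a : Cfsg.SU 3 GF4 2 =>
      ((a : Matrix.SpecialLinearGroup (Fin 3) GF4) : Matrix (Fin 3) (Fin 3) GF4)) (hψi h)
  have hscalar : ∀ x : Fin 3 × Fin 3 × Fin 3, ψ (hElt x) ∈ Geo.scalars (Fin 3) F ↔ x.1 = 0 ∧ x.2.1 = x.2.2 := by
    intro x
    constructor
    · exact fun hx => hMat_center x fun y => hcomm x y (scalars_central hx _).symm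
    · obtain ⟨s, c, e⟩ := x
      rintro ⟨hs, hce⟩
      dsimp only at hs hce
      subst hs hce
      refine smul_one_mem_scalars (c := φ (wpow c)) ?_
      rw [hψv]
      show (hMat (0, c, c)).map φ = _
      rw [Unitary.PSU32.hMat_scalar]
      ext i j
      by_cases hij : i = j <;> simp [hij]
  refine ⟨Unitary.PSU32.H.map ψ, ?_, ?_, ?_, ?_, ?_, ?_, ?_, ?_⟩
  · rw [Subgroup.card_map_of_injective hψi, Unitary.PSU32.card_H]
  · rintro _ ⟨g, -, rfl⟩; exact hgramψ g
  · rintro _ ⟨g, ⟨x, rfl⟩, rfl⟩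
    rw [← map_pow, ← map_one ψ]
    congr 1
    refine Unitary.PSU32.su_ext ?_
    show _ = ((1 : Matrix.SpecialLinearGroup (Fin 3) GF4) : Matrix (Fin 3) (Fin 3) GF4)
    rw [pow_three]
    show hMat x * (hMat x * hMat x) = 1
    rw [← mmul_eq, ← mmul_eq, hMat_cube_one, Unitary.PSU32.hMat_one]
  · rw [eq_top_iff]
    intro M _
    rw [Matrix.matrix_eq_sum_single M]
    refine Submodule.sum_mem _ fun i _ => Submodule.sum_mem _ fun j _ => ?_
    have h1 : Matrix.single i j (M i j) = ∑ ce : Fin 3 × Fin 3,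
        (M i j * φ (unitCoeff i ce)) • (ψ (hElt (j - i, ce.1, ce.2)) : Matrix (Fin 3) (Fin 3) F) := by
      ext a b
      have h2 := congrArg φ (hMat_unit i (j - i) a b)
      rw [add_sub_cancel] at h2
      have h3 : sum9 (fun ce => unitCoeff i ce * hMat (j - i, ce.1, ce.2) a b) =
          ∑ ce : Fin 3 × Fin 3, unitCoeff i ce * hMat (j - i, ce.1, ce.2) a b := by
        simp [sum9, Fintype.sum_prod_type, Fin.sum_univ_three]
        abel
      rw [h3, map_sum] at h2
      simp only [map_mul] at h2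
      simp only [Matrix.sum_apply, Matrix.smul_apply, smul_eq_mul, hψv, Matrix.map_apply, mul_assoc]
      rw [← Finset.mul_sum]
      show _ = M i j * ∑ ce : Fin 3 × Fin 3, φ (unitCoeff i ce) * φ (hMat (j - i, ce.1, ce.2) a b)
      rw [h2]
      simp only [Matrix.single_apply, eq_comm (a := i), eq_comm (a := j)]
      split <;> simp
    rw [h1]
    exact Submodule.sum_mem _ fun ce _ => Submodule.smul_mem _ _
      (Submodule.subset_span (mem_matrixSet ⟨_, ⟨_, rfl⟩, rfl⟩))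
  · rintro a ha _ ⟨g, hg, rfl⟩
    obtain ⟨g', hg'⟩ := hrange (a * ψ g * a⁻¹) (by
      rw [Units.val_mul, Units.val_mul, Matrix.det_mul, Matrix.det_mul, mul_right_comm, ← Matrix.det_mul,
        Units.mul_inv, Matrix.det_one, one_mul, hdetψ]) (by
      have haU : a ∈ Cfsg.GU 3 F 2 := by
        rw [mem_GU_iff]
        intro u v
        rw [hermForm_eq_gram hF, formOfGram_mulVec, mul_one, ha]
      have hgU : ψ g ∈ Cfsg.GU 3 F 2 := fun u v => (Unitary.suMapEquiv φ 3 2 g).2 u v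
      simpa using gram_of_mem_GU hF (mul_mem (mul_mem haU hgU) (inv_mem haU)))
    refine ⟨g', mem_H_of_cube (hψi ?_), hg'⟩
    obtain ⟨x, rfl⟩ := hg
    rw [map_pow, hg', conj_pow, map_one, ← map_pow]
    have h3 : hElt x ^ 3 = 1 := Unitary.PSU32.su_ext (by
      rw [pow_three]
      show hMat x * (hMat x * hMat x) = 1
      rw [← mmul_eq, ← mmul_eq, hMat_cube_one, Unitary.PSU32.hMat_one])
    rw [h3, map_one, mul_one, mul_inv_cancel]
  · rintro _ ⟨g, ⟨x, rfl⟩, rfl⟩ h
    exact (hscalar x).mpr (hMat_center x fun y => hcomm x y (h _ ⟨_, ⟨y, rfl⟩, rfl⟩))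
  · let f : Fin 3 → (Unitary.PSU32.H.map ψ ⊓ Geo.scalars (Fin 3) F : Subgroup (GL (Fin 3) F)) := fun c =>
      ⟨ψ (hElt (0, c, c)), ⟨⟨_, ⟨_, rfl⟩, rfl⟩, (hscalar _).mpr ⟨rfl, rfl⟩⟩⟩
    refine (Nat.card_eq_of_bijective f ⟨fun a b h => ?_, ?_⟩).symm.trans (by simp)
    · have h1 := hψi (congrArg Subtype.val h)
      have h2 := Unitary.PSU32.hMat_injective _ _ (congrArg (fun a : Cfsg.SU 3 GF4 2 =>
        ((a : Matrix.SpecialLinearGroup (Fin 3) GF4) : Matrix (Fin 3) (Fin 3) GF4)) h1)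
      exact congrArg (fun t : Fin 3 × Fin 3 × Fin 3 => t.2.1) h2
    · rintro ⟨_, ⟨_, ⟨x, rfl⟩, rfl⟩, hx⟩
      obtain ⟨s, c, e⟩ := x
      obtain ⟨hs, hce⟩ := (hscalar _).mp hx
      dsimp only at hs hce
      subst hs hce
      exact ⟨c, rfl⟩
  · rintro _ ⟨g, ⟨x, rfl⟩, rfl⟩ hx
    obtain ⟨r, y, h1, h2⟩ := hMat_moved x (fun h => hx ((hscalar x).mpr h))
    have hconj : ψ (rElt r) * ψ (hElt x) * (ψ (rElt r))⁻¹ = ψ (hElt y) := by
      rw [← map_mul, ← map_inv, ← map_mul]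
      congr 1
      rw [mul_inv_eq_iff_eq_mul]
      refine Unitary.PSU32.su_ext ?_
      show rMat r * hMat x = hMat y * rMat r
      rw [← mmul_eq, ← mmul_eq, h1]
    refine ⟨ψ (rElt r), hgramψ _, ?_⟩
    rw [hconj]
    exact fun h => h2 (hcomm x y h)

/-- A tensor decomposition 3 ⊗ 3 over the field with four elements leads to class 6. -/
theorem unitary_nine {n : ℕ} (hF : Fintype.card F = 2 ^ 2) {H : Subgroup (GL (Fin n) F)}
    (hH : H ≤ Cfsg.GU n F 2) (e : Fin n ≃ Fin 3 × Fin 3) (P : GL (Fin n) F) {c : F}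
    (hgram : (P : Matrix (Fin n) (Fin n) F)ᵀ * (P : Matrix (Fin n) (Fin n) F).map (Unitary.conjHom hF) = c • 1)
    (hle : H ≤ Geo.tensorProductSubgroup 3 3 e P) :
    ∃ M, Geo.InUnitaryPartialClass n F 2 M ∧ H ≤ M := by
  classical
  have hn : n = 9 := by simpa using Fintype.card_congr e
  obtain ⟨R₃, h3⟩ := exists_threeGroup hF
  set σ := Unitary.conjHom hF with hσ
  rw [similitude_eq_one hF (by omega) hgram, one_smul] at hgram
  let Λ : Matrix (Fin 3) (Fin 3) F × Matrix (Fin 3) (Fin 3) F →* Matrix (Fin n) (Fin n) F :=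
    { toFun := fun p => cj P (tens e p.1 p.2)
      map_one' := by
        show cj P (tens e 1 1) = 1
        rw [tens_one, map_one]
      map_mul' := fun p q => by
        show cj P (tens e (p.1 * q.1) (p.2 * q.2)) = cj P (tens e p.1 p.2) * cj P (tens e q.1 q.2)
        rw [← map_mul, tens_mul] }
  let χ : GL (Fin 3) F × GL (Fin 3) F →* GL (Fin n) F :=
    (Units.map Λ).comp MulEquiv.prodUnits.symm.toMonoidHom
  have hχv : ∀ a b, (χ (a, b) : Matrix (Fin n) (Fin n) F) =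
      cj P (tens e (a : Matrix (Fin 3) (Fin 3) F) (b : Matrix (Fin 3) (Fin 3) F)) := fun a b => rfl
  set R := (R₃.prod R₃).map χ with hR
  have hmem : ∀ x, x ∈ R ↔ ∃ a ∈ R₃, ∃ b ∈ R₃, χ (a, b) = x := fun x =>
    ⟨fun ⟨⟨a, b⟩, ⟨ha, hb⟩, h⟩ => ⟨a, ha, b, hb, h⟩, fun ⟨a, ha, b, hb, h⟩ => ⟨(a, b), ⟨ha, hb⟩, h⟩⟩
  have hgχ : ∀ a b : GL (Fin 3) F, (a : Matrix (Fin 3) (Fin 3) F)ᵀ * (a : Matrix (Fin 3) (Fin 3) F).map σ = 1 →
      (b : Matrix (Fin 3) (Fin 3) F)ᵀ * (b : Matrix (Fin 3) (Fin 3) F).map σ = 1 →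
      (χ (a, b) : Matrix (Fin n) (Fin n) F)ᵀ * 1 * (χ (a, b) : Matrix (Fin n) (Fin n) F).map σ = 1 := by
    intro a b ha hb
    obtain ⟨p, hp⟩ : ∃ p : Matrix (Fin n) (Fin n) F, p = ((P⁻¹ : GL (Fin n) F) : Matrix (Fin n) (Fin n) F) :=
      ⟨_, rfl⟩
    have hPp : (P : Matrix (Fin n) (Fin n) F) * p = 1 := by rw [hp, Units.mul_inv]
    have hp' : pᵀ * p.map σ = 1 := by
      calc pᵀ * p.map σ = pᵀ * ((P : Matrix (Fin n) (Fin n) F)ᵀ * (P : Matrix (Fin n) (Fin n) F).map σ) *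
            p.map σ := by rw [hgram, mul_one]
        _ = ((P : Matrix (Fin n) (Fin n) F) * p)ᵀ * ((P : Matrix (Fin n) (Fin n) F) * p).map σ := by
            simp [Matrix.transpose_mul, Matrix.map_mul, mul_assoc]
        _ = 1 := by rw [hPp, Matrix.transpose_one, one_mul, Matrix.map_one _ (map_zero _) (map_one _)]
    rw [hχv, cj_apply, mul_one, ← hp]
    obtain ⟨X, hX⟩ : ∃ X : Matrix (Fin n) (Fin n) F,
        X = tens e (a : Matrix (Fin 3) (Fin 3) F) (b : Matrix (Fin 3) (Fin 3) F) := ⟨_, rfl⟩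
    have hXg : Xᵀ * X.map σ = 1 := by rw [hX, tens_transpose, tens_map, tens_mul, ha, hb, tens_one]
    rw [← hX]
    calc ((P : Matrix (Fin n) (Fin n) F) * X * p)ᵀ * ((P : Matrix (Fin n) (Fin n) F) * X * p).map σ
        = pᵀ * (Xᵀ * ((P : Matrix (Fin n) (Fin n) F)ᵀ * (P : Matrix (Fin n) (Fin n) F).map σ) * X.map σ) *
            p.map σ := by simp [Matrix.transpose_mul, Matrix.map_mul, mul_assoc]
      _ = 1 := by rw [hgram, mul_one, hXg, mul_one, hp']
  have hne : ∀ a : GL (Fin 3) F, (a : Matrix (Fin 3) (Fin 3) F) ≠ 0 := fun a h0 => by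
    have h1 := (Matrix.GeneralLinearGroup.det a).ne_zero
    rw [Matrix.GeneralLinearGroup.val_det_apply, h0, Matrix.det_zero] at h1
    exact h1 rfl
  have hχinj : ∀ a b a' b', χ (a, b) = χ (a', b') → ∃ l : F, l ≠ 0 ∧
      (a' : Matrix (Fin 3) (Fin 3) F) = l • (a : Matrix (Fin 3) (Fin 3) F) ∧
      (b : Matrix (Fin 3) (Fin 3) F) = l • (b' : Matrix (Fin 3) (Fin 3) F) := by
    intro a b a' b' h
    have h1 := congrArg (fun x : GL (Fin n) F => (x : Matrix (Fin n) (Fin n) F)) h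
    simp only [hχv] at h1
    have h2 := congrArg (cj P⁻¹) h1
    rw [cj_inv_cj, cj_inv_cj] at h2
    exact tens_cancel e h2 (hne a) (hne b)
  have hnormR : ∀ u v : GL (Fin 3) F,
      (u : Matrix (Fin 3) (Fin 3) F)ᵀ * (u : Matrix (Fin 3) (Fin 3) F).map σ = 1 →
      (v : Matrix (Fin 3) (Fin 3) F)ᵀ * (v : Matrix (Fin 3) (Fin 3) F).map σ = 1 →
      ∀ x ∈ R, χ (u, v) * x * (χ (u, v))⁻¹ ∈ R := by
    intro u v hu hv x hx
    obtain ⟨a, ha, b, hb, rfl⟩ := (hmem x).mp hx
    rw [← map_mul, ← map_inv, ← map_mul]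
    exact (hmem _).mpr ⟨_, h3.norm u hu a ha, _, h3.norm v hv b hb, rfl⟩
  -- centre
  set Z : Subgroup (GL (Fin 3) F) := R₃ ⊓ Geo.scalars (Fin 3) F with hZ
  have hscal : ∀ a b : GL (Fin 3) F, b ∈ Geo.scalars (Fin 3) F → χ (a, b) = χ (a * b, 1) := by
    intro a b hb
    obtain ⟨l, hl⟩ := (Geo.mem_scalars_iff b).mp hb
    refine Units.ext ?_
    rw [hχv, hχv, Units.val_mul, Units.val_one, hl]
    congr 1
    ext i j
    simp [tens_apply]
    ring
  have hcentre : ∀ x ∈ R, (∀ y ∈ R, x * y = y * x) → ∃ z ∈ Z, χ (z, 1) = x := by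
    intro x hx hc
    obtain ⟨a, ha, b, hb, rfl⟩ := (hmem x).mp hx
    have has : a ∈ Geo.scalars (Fin 3) F := h3.center a ha fun y hy => by
      have h1 := hc _ ((hmem _).mpr ⟨y, hy, 1, one_mem _, rfl⟩)
      rw [← map_mul, ← map_mul, Prod.mk_mul_mk, Prod.mk_mul_mk, mul_one, one_mul] at h1
      obtain ⟨l, -, h2, h4⟩ := hχinj _ _ _ _ h1
      have hl : l = 1 := smul_left_injective F (hne b) (h4.symm.trans (one_smul F _).symm)
      rw [hl, one_smul] at h2
      exact Units.ext h2.symm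
    have hbs : b ∈ Geo.scalars (Fin 3) F := h3.center b hb fun y hy => by
      have h1 := hc _ ((hmem _).mpr ⟨1, one_mem _, y, hy, rfl⟩)
      rw [← map_mul, ← map_mul, Prod.mk_mul_mk, Prod.mk_mul_mk, mul_one, one_mul] at h1
      obtain ⟨l, -, h2, h4⟩ := hχinj _ _ _ _ h1
      have hl : l = 1 := smul_left_injective F (hne a) (h2.symm.trans (one_smul F _).symm)
      rw [hl, one_smul] at h4
      exact Units.ext h4
    exact ⟨a * b, ⟨mul_mem ha hb, mul_mem has hbs⟩, (hscal a b hbs).symm⟩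
  have hZcentral : ∀ z ∈ Z, ∀ y ∈ R, χ (z, 1) * y = y * χ (z, 1) := by
    intro z hz y hy
    obtain ⟨a, -, b, -, rfl⟩ := (hmem y).mp hy
    rw [← map_mul, ← map_mul, Prod.mk_mul_mk, Prod.mk_mul_mk, one_mul, mul_one, scalars_central hz.2 a]
  have hcardC : Nat.card (Subgroup.center R) = 3 := by
    refine (Eq.symm ?_).trans h3.card_scalars
    refine (Nat.card_eq_of_bijective (fun z : Z => (⟨⟨χ ((z : GL (Fin 3) F), 1),
      (hmem _).mpr ⟨_, z.2.1, 1, one_mem _, rfl⟩⟩,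
      Subgroup.mem_center_iff.mpr fun y => Subtype.ext (hZcentral _ z.2 _ y.2).symm⟩ : Subgroup.center R))
      ⟨fun z z' h => ?_, fun y => ?_⟩)
    · obtain ⟨l, -, h2, h4⟩ := hχinj _ _ _ _ (congrArg (fun t : Subgroup.center R => ((t : R) : GL (Fin n) F)) h)
      have hl : l = 1 := smul_left_injective F (hne 1) (h4.symm.trans (one_smul F _).symm)
      rw [hl, one_smul] at h2
      exact Subtype.ext (Units.ext h2.symm)
    · obtain ⟨z, hz, hzy⟩ := hcentre _ (y : R).2 fun w hw =>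
        (congrArg Subtype.val (Subgroup.mem_center_iff.mp y.2 ⟨w, hw⟩)).symm
      exact ⟨⟨z, hz⟩, Subtype.ext (Subtype.ext hzy)⟩
  have hcardR : Nat.card R = 243 := by
    let f : R₃.prod R₃ →* GL (Fin n) F := χ.comp (R₃.prod R₃).subtype
    have hr : f.range = R := by rw [MonoidHom.range_comp, Subgroup.range_subtype]
    have hk : Nat.card f.ker = 3 := by
      refine (Eq.symm ?_).trans h3.card_scalars
      refine (Nat.card_eq_of_bijective (fun z : Z => (⟨⟨((z : GL (Fin 3) F), (z : GL (Fin 3) F)⁻¹),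
        ⟨z.2.1, R₃.inv_mem z.2.1⟩⟩, ?_⟩ : f.ker)) ⟨fun z z' h => ?_, fun y => ?_⟩)
      · show χ ((z : GL (Fin 3) F), (z : GL (Fin 3) F)⁻¹) = 1
        rw [hscal _ _ (inv_mem z.2.2), mul_inv_cancel, Prod.mk_one_one, map_one]
      · exact Subtype.ext (congrArg (fun t : f.ker => ((t : R₃.prod R₃) : GL (Fin 3) F × GL (Fin 3) F).1) h)
      · obtain ⟨⟨⟨a, b⟩, ha, hb⟩, hy⟩ := y
        have hy' : χ (a, b) = χ (1, 1) := by rw [Prod.mk_one_one, map_one]; exact hy
        obtain ⟨l, hl0, h2, h4⟩ := hχinj _ _ _ _ hy'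
        have hbs : b ∈ Geo.scalars (Fin 3) F := smul_one_mem_scalars h4
        have hab : a * b = 1 := Units.ext (by
          rw [Units.val_mul, h4, Units.val_one, Matrix.mul_smul, mul_one, ← h2]; rfl)
        have has : a ∈ Geo.scalars (Fin 3) F := by
          rw [eq_inv_of_mul_eq_one_left hab]; exact inv_mem hbs
        exact ⟨⟨a, ha, has⟩, Subtype.ext (Subtype.ext (Prod.ext rfl (inv_eq_of_mul_eq_one_right hab)))⟩
    have h1 := Subgroup.card_mul_index f.ker
    rw [Subgroup.index_ker, hr, hk] at h1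
    have h2 : Nat.card (R₃.prod R₃) = 729 := by
      rw [Nat.card_congr (Subgroup.prodEquiv R₃ R₃).toEquiv, Nat.card_prod, h3.card]
    omega
  have hcube : ∀ x : R, x ^ 3 = 1 := fun x => by
    obtain ⟨a, ha, b, hb, hab⟩ := (hmem _).mp x.2
    refine Subtype.ext ?_
    rw [Subgroup.coe_pow, ← hab, ← map_pow, Prod.pow_mk, h3.cube a ha, h3.cube b hb, Prod.mk_one_one, map_one]
    rfl
  have hfin : Finite R := Nat.finite_of_card_ne_zero (by rw [hcardR]; norm_num)
  have hnt : Nontrivial R := Finite.one_lt_card_iff_nontrivial.mp (by rw [hcardR]; norm_num)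
  have : Fact (Nat.Prime 3) := ⟨Nat.prime_three⟩
  have hsymp : Geo.IsSymplecticTypeGroup 3 R := by
    refine ⟨Nat.prime_three, fun x => ⟨1, by rw [pow_one]; exact hcube x⟩, fun A hA hAc => ?_, ?_⟩
    · have hAle : A ≤ Subgroup.center R := by
        intro x hxA
        obtain ⟨a, ha, b, hb, hab⟩ := (hmem _).mp x.2
        have key : ∀ u v : GL (Fin 3) F,
            (u : Matrix (Fin 3) (Fin 3) F)ᵀ * (u : Matrix (Fin 3) (Fin 3) F).map σ = 1 →
            (v : Matrix (Fin 3) (Fin 3) F)ᵀ * (v : Matrix (Fin 3) (Fin 3) F).map σ = 1 →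
            χ (a, b) * χ (u * a * u⁻¹, v * b * v⁻¹) = χ (u * a * u⁻¹, v * b * v⁻¹) * χ (a, b) := by
          intro u v hu hv
          have hi : ∀ y ∈ R, (χ (u, v))⁻¹ * y * χ (u, v) ∈ R := fun y hy => by
            have hinv : ∀ w : GL (Fin 3) F,
                (w : Matrix (Fin 3) (Fin 3) F)ᵀ * (w : Matrix (Fin 3) (Fin 3) F).map σ = 1 →
                ((w⁻¹ : GL (Fin 3) F) : Matrix (Fin 3) (Fin 3) F)ᵀ *
                  ((w⁻¹ : GL (Fin 3) F) : Matrix (Fin 3) (Fin 3) F).map σ = 1 := fun w hw => by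
              have hwU : w ∈ Cfsg.GU 3 F 2 := by
                rw [mem_GU_iff]
                intro p q
                rw [hermForm_eq_gram hF, formOfGram_mulVec, mul_one, ← hσ, hw]
              simpa using gram_of_mem_GU hF (inv_mem hwU)
            have := hnormR u⁻¹ v⁻¹ (hinv u hu) (hinv v hv) y hy
            rwa [← Prod.inv_mk, map_inv, inv_inv] at this
          let α : R ≃* R :=
            { toFun := fun y => ⟨χ (u, v) * y * (χ (u, v))⁻¹, hnormR u v hu hv y y.2⟩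
              invFun := fun y => ⟨(χ (u, v))⁻¹ * y * χ (u, v), hi y y.2⟩
              left_inv := fun y => Subtype.ext (by simp [mul_assoc])
              right_inv := fun y => Subtype.ext (by simp [mul_assoc])
              map_mul' := fun y z => Subtype.ext (by simp [mul_assoc]) }
          have hαx : α x ∈ A := by
            have h1 := hA.fixed α
            rw [SetLike.ext_iff] at h1
            exact (h1 x).mpr hxA
          have h1 := congrArg (fun t : A => ((t : R) : GL (Fin n) F))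
            (hAc.is_comm.comm ⟨x, hxA⟩ ⟨α x, hαx⟩)
          have h2 : χ (u * a * u⁻¹, v * b * v⁻¹) = χ (u, v) * χ (a, b) * (χ (u, v))⁻¹ := by
            rw [← map_mul, ← map_inv, ← map_mul]; rfl
          rw [h2, hab]
          exact h1
        have hone : ((1 : GL (Fin 3) F) : Matrix (Fin 3) (Fin 3) F)ᵀ *
            ((1 : GL (Fin 3) F) : Matrix (Fin 3) (Fin 3) F).map σ = 1 := by simp
        have has : a ∈ Geo.scalars (Fin 3) F := by
          by_contra hns
          obtain ⟨u, hu, hu'⟩ := h3.moved a ha hns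
          have h1 := key u 1 hu hone
          rw [inv_one, mul_one, one_mul, ← map_mul, ← map_mul, Prod.mk_mul_mk, Prod.mk_mul_mk] at h1
          obtain ⟨l, -, h2, h4⟩ := hχinj _ _ _ _ h1
          have hl : l = 1 := smul_left_injective F (hne (b * b)) (h4.symm.trans (one_smul F _).symm)
          rw [hl, one_smul] at h2
          exact hu' (Units.ext h2.symm)
        have hbs : b ∈ Geo.scalars (Fin 3) F := by
          by_contra hns
          obtain ⟨v, hv, hv'⟩ := h3.moved b hb hns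
          have h1 := key 1 v hone hv
          rw [inv_one, mul_one, one_mul, ← map_mul, ← map_mul, Prod.mk_mul_mk, Prod.mk_mul_mk] at h1
          obtain ⟨l, -, h2, h4⟩ := hχinj _ _ _ _ h1
          have hl : l = 1 := smul_left_injective F (hne (a * a)) (h2.symm.trans (one_smul F _).symm)
          rw [hl, one_smul] at h4
          exact hv' (Units.ext h4)
        rw [Subgroup.mem_center_iff]
        intro y
        refine Subtype.ext ?_
        show (y : GL (Fin n) F) * (x : GL (Fin n) F) = x * y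
        rw [← hab, hscal a b hbs, hZcentral _ ⟨mul_mem ha hb, mul_mem has hbs⟩ _ y.2]
      have := isCyclic_of_prime_card hcardC
      exact isCyclic_of_injective (Subgroup.inclusion hAle) (Subgroup.inclusion_injective hAle)
    · rw [show 3 * Nat.gcd 2 3 = 3 from rfl]
      exact (Monoid.exponent_eq_prime_iff Nat.prime_three).mpr fun x hx =>
        orderOf_eq_prime (hcube x) hx
  have hspanR : Submodule.span F (Geo.matrixSet R) = ⊤ := by
    set S := Submodule.span F (Geo.matrixSet R) with hS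
    have h1 : ∀ a ∈ R₃, ∀ Y, cj P (tens e (a : Matrix (Fin 3) (Fin 3) F) Y) ∈ S := by
      intro a ha Y
      have hY : Y ∈ Submodule.span F (Geo.matrixSet R₃) := by rw [h3.span]; trivial
      induction hY using Submodule.span_induction with
      | mem y hy =>
        obtain ⟨b, hb, rfl⟩ := hy
        exact Submodule.subset_span (mem_matrixSet ((hmem _).mpr ⟨a, ha, b, hb, rfl⟩))
      | zero =>
        rw [show tens e (a : Matrix (Fin 3) (Fin 3) F) 0 = 0 by ext i j; simp [tens_apply], map_zero]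
        exact zero_mem _
      | add y z _ _ hy hz =>
        rw [show tens e (a : Matrix (Fin 3) (Fin 3) F) (y + z) = tens e (a : Matrix (Fin 3) (Fin 3) F) y +
          tens e (a : Matrix (Fin 3) (Fin 3) F) z by ext i j; simp [tens_apply, mul_add], map_add]
        exact add_mem hy hz
      | smul l y _ hy =>
        rw [show tens e (a : Matrix (Fin 3) (Fin 3) F) (l • y) = l • tens e (a : Matrix (Fin 3) (Fin 3) F) y by
          ext i j; simp [tens_apply]; ring, map_smul]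
        exact S.smul_mem l hy
    have h2 : ∀ X Y, cj P (tens e X Y) ∈ S := by
      intro X Y
      have hX : X ∈ Submodule.span F (Geo.matrixSet R₃) := by rw [h3.span]; trivial
      induction hX using Submodule.span_induction with
      | mem y hy =>
        obtain ⟨a, ha, rfl⟩ := hy
        exact h1 a ha Y
      | zero =>
        rw [show tens e (0 : Matrix (Fin 3) (Fin 3) F) Y = 0 by ext i j; simp [tens_apply], map_zero]
        exact zero_mem _
      | add y z _ _ hy hz =>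
        rw [show tens e (y + z) Y = tens e y Y + tens e z Y by ext i j; simp [tens_apply, add_mul], map_add]
        exact add_mem hy hz
      | smul l y _ hy =>
        rw [tens_smul_left, map_smul]
        exact S.smul_mem l hy
    rw [eq_top_iff]
    intro M _
    rw [← cj_cj_inv P M, Matrix.matrix_eq_sum_single (cj P⁻¹ M)]
    simp only [map_sum]
    refine Submodule.sum_mem _ fun i _ => Submodule.sum_mem _ fun j _ => ?_
    have h4 : Matrix.single i j (cj P⁻¹ M i j) = tens e (Matrix.single (e i).1 (e j).1 (cj P⁻¹ M i j))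
        (Matrix.single (e i).2 (e j).2 1) := by
      ext a b
      simp only [tens_apply, Matrix.single_apply]
      by_cases hh : i = a ∧ j = b
      · obtain ⟨rfl, rfl⟩ := hh
        simp
      · rw [if_neg hh]
        split_ifs with hA hB
        · exact absurd ⟨e.injective (Prod.ext hA.1 hB.1), e.injective (Prod.ext hA.2 hB.2)⟩ hh
        all_goals simp
    rw [h4]
    exact h2 _ _
  obtain ⟨p, m, hp, hchar, hqp, -⟩ := Unitary.exists_prime_pow hF
  obtain rfl : p = 2 := (Nat.prime_dvd_prime_iff_eq hp Nat.prime_two).mp (by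
    rw [hqp]; exact dvd_pow_self p (fun h0 => by simp [h0] at hqp))
  refine ⟨Geo.subgroupNormalizer R ⊓ Cfsg.GU n F 2,
    Or.inr (Or.inr (Or.inr (Or.inr (Or.inr (Or.inr (Or.inr
      ⟨3, R, 2, 2, 2, hsymp, absIrred_of_span hspanR, ?_, by norm_num, ⟨Nat.prime_two, hchar, hF, ?_, ?_⟩,
        Or.inl ⟨by decide, hcardC, by norm_num, by rw [hcardR]; norm_num⟩, rfl⟩)))))),
    le_inf (le_subgroupNormalizer fun g hg x hx => ?_) hH⟩
  · rw [hermForm_eq_gram hF]
    refine mem_similarityGroup_of_gram fun g hg => ?_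
    obtain ⟨a, ha, b, hb, rfl⟩ := (hmem g).mp hg
    exact ⟨1, one_ne_zero, by rw [one_smul]; exact hgχ a b (h3.gram a ha) (h3.gram b hb)⟩
  · rw [hcardC]; norm_num
  · intro d hd0 hd2 hd
    interval_cases d
    rw [hcardC] at hd
    norm_num at hd
  -- `H` normalises `R`
  obtain ⟨a, b, hab⟩ := (mem_tensorProductSubgroup_iff e P g).mp (hle hg)
  have hgeq : g = χ (a, b) := Units.ext (hab.trans (hχv a b).symm)
  have hXg : tens e ((a : Matrix (Fin 3) (Fin 3) F)ᵀ * (a : Matrix (Fin 3) (Fin 3) F).map σ)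
      ((b : Matrix (Fin 3) (Fin 3) F)ᵀ * (b : Matrix (Fin 3) (Fin 3) F).map σ) = tens e 1 1 := by
    have h1 := gram_of_mem_GU hF (hH hg)
    rw [mul_one, hab, cj_apply] at h1
    obtain ⟨X, hX⟩ : ∃ X : Matrix (Fin n) (Fin n) F,
        X = tens e (a : Matrix (Fin 3) (Fin 3) F) (b : Matrix (Fin 3) (Fin 3) F) := ⟨_, rfl⟩
    obtain ⟨p, hp⟩ : ∃ p : Matrix (Fin n) (Fin n) F, p = ((P⁻¹ : GL (Fin n) F) : Matrix (Fin n) (Fin n) F) :=
      ⟨_, rfl⟩
    have hpP : p * (P : Matrix (Fin n) (Fin n) F) = 1 := by rw [hp, Units.inv_mul]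
    rw [← hX, ← hp, ← hσ] at h1
    have h2 : Xᵀ * X.map σ = 1 := by
      calc Xᵀ * X.map σ = Xᵀ * ((P : Matrix (Fin n) (Fin n) F)ᵀ * (P : Matrix (Fin n) (Fin n) F).map σ) *
            X.map σ := by rw [hgram, mul_one]
        _ = (P : Matrix (Fin n) (Fin n) F)ᵀ * (((P : Matrix (Fin n) (Fin n) F) * X * p)ᵀ *
              ((P : Matrix (Fin n) (Fin n) F) * X * p).map σ) * (P : Matrix (Fin n) (Fin n) F).map σ := by
            conv_lhs => rw [show X = X * (p * (P : Matrix (Fin n) (Fin n) F)) by rw [hpP, mul_one]]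
            simp [Matrix.transpose_mul, Matrix.map_mul, mul_assoc]
        _ = 1 := by rw [h1, mul_one, hgram]
    rw [hX, tens_transpose, tens_map, tens_mul] at h2
    rw [h2, tens_one]
  have hu : ∀ c : GL (Fin 3) F, (c : Matrix (Fin 3) (Fin 3) F)ᵀ * (c : Matrix (Fin 3) (Fin 3) F).map σ ≠ 0 := by
    intro c h0
    have h1 := congrArg Matrix.det h0
    rw [Matrix.det_mul, Matrix.det_transpose, Matrix.det_zero] at h1
    exact mul_ne_zero (Matrix.GeneralLinearGroup.det c).ne_zero (isUnit_det_map σ c).ne_zero h1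
  obtain ⟨l, hl, h1, h2⟩ := tens_cancel e hXg (hu a) (hu b)
  have hb1 := similitude_eq_one hF (by norm_num) h2
  have ha1 : (a : Matrix (Fin 3) (Fin 3) F)ᵀ * (a : Matrix (Fin 3) (Fin 3) F).map σ = 1 := by
    rw [h1, hb1, one_smul]
  rw [hgeq]
  exact hnormR a b ha1 (by rw [h2, hb1, one_smul]) x hx

end Cfsg.Agent.Aschbacher
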