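/-
The subgroup structure theorem for the unitary groups, every dimension.
Main results: `unitary_structure`.
-/
import Cfsg.Agent.Lib.Aschbacher.UnitaryNine
import Cfsg.Agent.Lib.Aschbacher.FormMaster

set_option autoImplicit false

namespace Cfsg.Agent.Aschbacher

open Matrix
open scoped commutatorElement
open Cfsg.Agent.PrimeDim

variable {F : Type*} [Field F] [Fintype F] {n q : ℕ}

/-- Two factors of the same dimension: class 7, class 6 for (q, d) = (2, 3), a subfield for d = 2. -/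
theorem unitary_tensor_eq (hF : Fintype.card F = q ^ 2) {H : Subgroup (GL (Fin n) F)} (hH : H ≤ Cfsg.GU n F q)
    {d : ℕ} (hd : 2 ≤ d)
    (h : FTensor (Unitary.conjHom hF) (1 : Matrix (Fin n) (Fin n) F) (H ⊔ Geo.scalars (Fin n) F) d d) :
    ∃ M, Geo.InUnitaryClass n F q M ∧ H ≤ M := by
  classical
  by_cases hd2 : d = 2
  · subst hd2
    obtain ⟨M, hM, hle⟩ := unitary_tensor_two hF hH h
    exact ⟨M, Or.inl hM, hle⟩
  set σ := Unitary.conjHom hF with hσ
  have hcard : d * d = n := by simpa using h.1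
  let e' : Fin n ≃ (Fin 2 → Fin d) := Fintype.equivOfCardEq (by simp [sq, hcard])
  let e : Fin n ≃ Fin d × Fin d := e'.trans (finTwoArrowEquiv (Fin d))
  obtain ⟨P, G1, G2, hle, hgram, h1, h2⟩ := h.2 e
  obtain ⟨μ, hμ, hμG⟩ := exists_hermitian_scale hF (by omega) h1
  obtain ⟨ν, hν, hνG⟩ := exists_hermitian_scale hF (by omega) h2
  have hu : ∀ {a : F} {M : Matrix (Fin d) (Fin d) F}, a ≠ 0 → IsUnit M.det → IsUnit (a • M).det :=
    fun ha hM => by rw [Matrix.det_smul]; exact ((IsUnit.mk0 _ ha).pow _).mul hM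
  obtain ⟨A, hA⟩ := exists_congr_one hF (hu hμ h1.det) hμG
  obtain ⟨B, hB⟩ := exists_congr_one hF (hu hν h2.det) hνG
  obtain ⟨T, hT, hTi⟩ := tens_unit_exists e A B
  have hgram' : ((P * T : GL (Fin n) F) : Matrix (Fin n) (Fin n) F)ᵀ * 1 *
      ((P * T : GL (Fin n) F) : Matrix (Fin n) (Fin n) F).map σ = (μ⁻¹ * ν⁻¹) • 1 := by
    calc ((P * T : GL (Fin n) F) : Matrix (Fin n) (Fin n) F)ᵀ * 1 *
          ((P * T : GL (Fin n) F) : Matrix (Fin n) (Fin n) F).map σ
        = (T : Matrix (Fin n) (Fin n) F)ᵀ * ((P : Matrix (Fin n) (Fin n) F)ᵀ * 1 *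
            (P : Matrix (Fin n) (Fin n) F).map σ) * (T : Matrix (Fin n) (Fin n) F).map σ := by
          simp [Matrix.transpose_mul, Matrix.map_mul, mul_assoc]
      _ = tens e ((A : Matrix (Fin d) (Fin d) F)ᵀ * G1 * (A : Matrix (Fin d) (Fin d) F).map σ)
            ((B : Matrix (Fin d) (Fin d) F)ᵀ * G2 * (B : Matrix (Fin d) (Fin d) F).map σ) := by
          rw [hgram, hT, tens_transpose, tens_map, tens_mul, tens_mul]
      _ = (μ⁻¹ * ν⁻¹) • 1 := by
          have e1 : (A : Matrix (Fin d) (Fin d) F)ᵀ * G1 * (A : Matrix (Fin d) (Fin d) F).map σ = μ⁻¹ • 1 := by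
            rw [← hA]; simp [smul_smul, hμ, hσ]
          have e2 : (B : Matrix (Fin d) (Fin d) F)ᵀ * G2 * (B : Matrix (Fin d) (Fin d) F).map σ = ν⁻¹ • 1 := by
            rw [← hB]; simp [smul_smul, hν, hσ]
          rw [e1, e2, ← tens_one e]
          ext a b
          simp [tens_apply]
          ring
  have hleT : H ≤ Geo.tensorProductSubgroup d d e (P * T) :=
    (le_sup_left.trans hle).trans (tensorProductSubgroup_mul_le e P T A B hT hTi)
  by_cases hex : q = 2 ∧ d = 3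
  · obtain ⟨rfl, rfl⟩ := hex
    rw [mul_one] at hgram'
    obtain ⟨M, hM, hle'⟩ := unitary_nine hF hH e (P * T) hgram' hleT
    exact ⟨M, Or.inl hM, hle'⟩
  have hone : IsUnit (1 : Matrix (Fin d) (Fin d) F).det := by simp
  have hsym : ((1 : Matrix (Fin d) (Fin d) F).map σ)ᵀ = 1 := by simp
  refine ⟨Geo.tensorWreathSubgroup d 2 e' (P * T) ⊓ Cfsg.GU n F q, Or.inr (Or.inr (Or.inr
    ⟨d, 2, e', P * T, Geo.formOfGram σ 1, by omega, le_rfl, hex, formOfGram_unitaryPow hF hone hsym, ?_, rfl⟩)),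
    le_inf (hleT.trans (tensor_le_wreath e' (P * T))) hH⟩
  refine tensorPowerFormStructure_of_gram σ (fun x => x ^ q) (fun x => (conj_apply hF x).symm)
    (hermForm_eq_gram hF) e' (P * T) (c := μ⁻¹ * ν⁻¹) (mul_ne_zero (inv_ne_zero hμ) (inv_ne_zero hν)) _ ?_
  rw [hgram', show (fun _ : Fin 2 => (1 : Matrix (Fin d) (Fin d) F)) = 1 from rfl, pureMat_one, map_one]

/-- Every subgroup of GU_n(q), n ≥ 3, is in a geometric class or residual. -/
theorem unitary_structure (hF : Fintype.card F = q ^ 2) (hn : 3 ≤ n) {H : Subgroup (GL (Fin n) F)}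
    (hH : H ≤ Cfsg.GU n F q) :
    (∃ M, Geo.InUnitaryClass n F q M ∧ H ≤ M) ∨ Geo.InUnitaryResidualClass H := by
  classical
  have : Nonempty (Fin n) := ⟨⟨0, by omega⟩⟩
  have : Finite (Matrix (Fin n) (Fin n) F) := inferInstanceAs (Finite (Fin n → Fin n → F))
  have : Finite (GL (Fin n) F) := Finite.of_injective Units.val Units.val_injective
  by_cases hirr : Geo.ActsIrreducibly (Geo.matrixSet H)
  swap
  · left
    rcases su_reducible hF (by omega) hH hirr with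
      ⟨W, hb, -, hts, hle⟩ | ⟨W, hb, -, hnd, hdim, hle⟩ | ⟨m, D, -, hD, hle⟩
    · exact ⟨_, Or.inl (Or.inl ⟨W, hb, hts, rfl⟩), le_inf hle hH⟩
    · exact ⟨_, Or.inl (Or.inr (Or.inl ⟨W, hb, hnd, hdim, rfl⟩)), le_inf hle hH⟩
    · exact ⟨_, Or.inl (Or.inr (Or.inr (Or.inl ⟨2, m, D, hD, rfl⟩))), le_inf hle hH⟩
  set G := H ⊔ Geo.scalars (Fin n) F with hGdef
  have hs : Geo.scalars (Fin n) F ≤ G := le_sup_right
  have hirrG : Geo.ActsIrreducibly (Geo.matrixSet G) := irred_sup_scalars hirr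
  have partial_le : (∃ M, Geo.InUnitaryPartialClass n F q M ∧ H ≤ M) →
      (∃ M, Geo.InUnitaryClass n F q M ∧ H ≤ M) := fun ⟨M, hM, h⟩ => ⟨M, Or.inl hM, h⟩
  rcases form_clifford (herm_one hF) (sim_sup_scalars hF hH) hs hirrG with h | h | ⟨d, t, hd, ht, h⟩ | hgood
  · exact Or.inl (partial_le (unitary_decomp hF hH h))
  · exact Or.inl (unitary_field hF hH h)
  · left
    rcases Nat.lt_trichotomy d t with hdt | rfl | hdt
    · exact unitary_tensor_lt hF hH hd hdt h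
    · exact unitary_tensor_eq hF hH hd h
    · exact unitary_tensor_lt hF hH ht hdt h.swap
  have hι : 3 ≤ Fintype.card (Fin n) := by simpa using hn
  obtain ⟨x₀, hx₀, hx₀s⟩ := not_all_scalar (by omega) hirrG
  have hex : ∃ k, ∃ N : Subgroup (GL (Fin n) F),
      (N ≤ G ∧ NormBy G N ∧ Geo.scalars (Fin n) F ≤ N ∧ ∃ x ∈ N, x ∉ Geo.scalars (Fin n) F) ∧ Nat.card N = k :=
    ⟨_, G, ⟨le_rfl, normBy_self G, hs, x₀, hx₀, hx₀s⟩, rfl⟩
  obtain ⟨N, ⟨hNle, hNn, hSN, hNs⟩, hNk⟩ := Nat.find_spec hex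
  have hmin : ∀ M ≤ N, NormBy G M → Geo.scalars (Fin n) F ≤ M → (∃ x ∈ M, x ∉ Geo.scalars (Fin n) F) → M = N :=
    fun M h1 h2 h3 h4 =>
      Subgroup.eq_of_le_of_card_ge h1 (hNk ▸ Nat.find_min' hex ⟨M, ⟨h1.trans hNle, h2, h3, h4⟩, rfl⟩)
  by_cases hc : ∀ x ∈ N, ∀ y ∈ N, ⁅x, y⁆ ∈ Geo.scalars (Fin n) F
  · obtain ⟨r, m, z, p, f, R, hD⟩ :=
      ClassTwo.sympData hι (⟨hgood, hNle, hNn, hSN, hNs, hmin, hc⟩ : ClassTwo G N)
    exact Or.inl (partial_le (unitary_sympType hF (by omega) hH hgood hD))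
  simp only [not_forall, exists_prop] at hc
  rcases perfect_outcome_data (by omega) hgood hNle hNn hSN hmin hc with ⟨d, k, hd, hk, htr, hT⟩ | ⟨P, hP⟩
  · exact Or.inl (unitary_tensorInduced hF (by omega) hH hd hk htr hT)
  · exact (unitary_core hF (by omega) hH (core_mono hP)).imp_left partial_le

end Cfsg.Agent.Aschbacher
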