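/-
The field normaliser of degree three in SU_6(2) lies in a subfield group of symplectic type.
Main results: `su_six_two_field`.
-/
import Cfsg.Agent.Lib.Aschbacher.UnitaryCases
import Cfsg.Agent.Lib.FieldAut.Unitary
import Cfsg.Agent.Lib.PrimeDim.SL3Four
import Cfsg.Agent.Lib.Unitary.SympInU

set_option autoImplicit false
set_option linter.unusedSectionVars false

namespace Cfsg.Agent.Aschbacher

open Matrix
open Cfsg.Agent.PrimeDim

variable {F : Type*} [Field F] [Fintype F]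

/-- An F-semilinear involution of a cubic extension of F₄ extending the conjugation is `x ↦ x ^ 8`. -/
theorem cubic_involution {L : Type*} [Field L] [Finite L] [Algebra F L] (hF : Fintype.card F = 4)
    (h3 : Module.finrank F L = 3) (ψ : L →+* L) (hψF : ∀ c : F, ψ (algebraMap F L c) = algebraMap F L (c ^ 2))
    (hψψ : ∀ x, ψ (ψ x) = x) : (∀ x : L, x ^ 64 = x) ∧ ∀ x, ψ x = x ^ 8 := by
  have : Fintype L := Fintype.ofFinite L
  have hL : Nat.card L = 64 := by
    rw [Module.natCard_eq_pow_finrank (K := F), h3, Nat.card_eq_fintype_card, hF]; norm_num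
  have h64 : ∀ x : L, x ^ 64 = x := fun x => by
    have := FiniteField.pow_card x
    rwa [← Nat.card_eq_fintype_card, hL] at this
  have h20 : (2 : L) = 0 := by
    have h : ((64 : ℕ) : L) = 0 := by
      rw [← hL, Nat.card_eq_fintype_card]; exact FiniteField.cast_card_eq_zero L
    push_cast at h
    have h' : (2 : L) ^ 6 = 0 := by linear_combination h
    exact eq_zero_of_pow_eq_zero h'
  have hc4 : ∀ c : F, (c ^ 2) ^ 2 = c := fun c => by
    have := FiniteField.pow_card c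
    rw [hF] at this
    rw [← pow_mul]; exact this
  let φ : L →ₐ[F] L :=
    { toFun := fun x => ψ x ^ 2
      map_one' := by simp
      map_mul' := fun x y => by rw [map_mul, mul_pow]
      map_zero' := by simp
      map_add' := fun x y => by
        rw [map_add]
        linear_combination (ψ x * ψ y) * h20
      commutes' := fun c => by rw [hψF, ← map_pow, hc4] }
  have hbij : Function.Bijective φ :=
    Finite.injective_iff_bijective.mp φ.toRingHom.injective
  obtain ⟨i, hi⟩ := (FiniteField.bijective_frobeniusAlgEquivOfAlgebraic_pow F L).2 (AlgEquiv.ofBijective φ hbij)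
  have hφ : ∀ x, ψ x ^ 2 = x ^ (4 ^ (i : ℕ)) := fun x => by
    have h1 := congrArg (fun e : L ≃ₐ[F] L => e x) hi
    simp only [AlgEquiv.coe_pow, FiniteField.coe_frobeniusAlgEquivOfAlgebraic_iterate, hF] at h1
    exact h1.symm
  have hψ : ∀ x, ψ x = x ^ (4 ^ (i : ℕ) * 32) := fun x => by
    rw [pow_mul, ← hφ, ← pow_mul, show 2 * 32 = 64 from rfl, h64]
  refine ⟨h64, fun x => ?_⟩
  obtain ⟨g, hg⟩ := IsCyclic.exists_ofOrder_eq_natCard (α := Lˣ)
  rw [Nat.card_units, hL] at hg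
  have hkey := congrArg (fun e : L => e) (hψψ (g : L))
  simp only [hψ, ← pow_mul] at hkey
  have hone : g ^ (4 ^ (i : ℕ) * 32 * (4 ^ (i : ℕ) * 32) - 1) = 1 := by
    have h1 : g ^ (4 ^ (i : ℕ) * 32 * (4 ^ (i : ℕ) * 32)) = g := Units.ext (by
      rw [Units.val_pow_eq_pow_val]; exact hkey)
    have hpos : 1 ≤ 4 ^ (i : ℕ) * 32 * (4 ^ (i : ℕ) * 32) := Nat.one_le_iff_ne_zero.mpr (by positivity)
    rw [← Nat.sub_add_cancel hpos, pow_succ] at h1
    exact mul_eq_right.mp h1
  have hdvd := orderOf_dvd_of_pow_eq_one hone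
  rw [hg] at hdvd
  have hi3 : (i : ℕ) < 3 := h3 ▸ i.2
  rcases (show (i : ℕ) = 0 ∨ (i : ℕ) = 1 ∨ (i : ℕ) = 2 by omega) with h | h | h <;> rw [h] at hdvd
  · norm_num at hdvd
  · norm_num at hdvd
  · rw [hψ, h, show 4 ^ 2 * 32 = 64 * 8 from rfl, pow_mul, h64]

local notation "hq" => Cfsg.hermForm 6 F 2
local notation "Γ" => Cfsg.GU 6 F 2 ⊓ Geo.specialLinear (Fin 6) F
local notation "Mat" => Matrix (Fin 6) (Fin 6) F

theorem two_eq_zero_four (hF : Fintype.card F = 2 ^ 2) : (2 : F) = 0 := by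
  have h := FiniteField.cast_card_eq_zero F
  rw [hF] at h
  push_cast at h
  have h' : (2 : F) ^ 2 = 0 := by linear_combination h
  exact eq_zero_of_pow_eq_zero h'

/-- A cubic field of adjoint-closed matrices has an orthogonal basis of two vectors with trace forms. -/
theorem cubic_basis (hF : Fintype.card F = 2 ^ 2) {L : Type*} [Field L] [Finite L] [Algebra F L]
    (h3 : Module.finrank F L = 3) (j : L →ₐ[F] Mat) (ψ : L →+* L)
    (hψ : ∀ k, j (ψ k) = adj (Unitary.conjHom hF) 1 (j k)) :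
    (∀ x : L, x ^ 64 = x) ∧ (∀ x, ψ x = x ^ 8) ∧
    ∃ b₁ b₂ : Fin 6 → F, (∀ z, ∃ k l : L, z = j k *ᵥ b₁ + j l *ᵥ b₂) ∧
      ∀ k l k' l' : L, hq (j k *ᵥ b₁ + j l *ᵥ b₂) (j k' *ᵥ b₁ + j l' *ᵥ b₂) =
        Algebra.trace F L (k * ψ k') + Algebra.trace F L (l * ψ l') := by
  classical
  set σ := Unitary.conjHom hF with hσ
  have hσ2 : ∀ c : F, σ c = c ^ 2 := fun c => conjHom_apply' hF c
  have Hh := Unitary.hermForm_isHerm hF 6
  have h20 := two_eq_zero_four hF
  have h4 : Fintype.card F = 4 := hF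
  have hjinj : Function.Injective j := RingHom.injective j.toRingHom
  have hψψ : ∀ k, ψ (ψ k) = k := fun k => hjinj (by rw [hψ, hψ, adj_adj (herm_one hF)])
  have hψF : ∀ c : F, ψ (algebraMap F L c) = algebraMap F L (c ^ 2) := fun c => hjinj (by
    rw [hψ, j.commutes, j.commutes, Algebra.algebraMap_eq_smul_one, Algebra.algebraMap_eq_smul_one, adj_smul,
      adj_one (herm_one hF), hσ2])
  obtain ⟨h64, hψ8⟩ := cubic_involution h4 h3 ψ hψF hψψ
  refine ⟨h64, hψ8, ?_⟩
  have h20L : (2 : L) = 0 := by rw [← map_ofNat (algebraMap F L) 2, h20, map_zero]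
  have htr8 : ∀ x : L, Algebra.trace F L (ψ x) = σ (Algebra.trace F L x) := fun x => by
    refine (algebraMap F L).injective ?_
    rw [hσ2, ← hψF, FiniteField.algebraMap_trace_eq_sum_pow, FiniteField.algebraMap_trace_eq_sum_pow, map_sum]
    simp only [map_pow]
  have hnd : ∀ c : L, (∀ k, Algebra.trace F L (c * k) = 0) → c = 0 := fun c hc =>
    (traceForm_nondegenerate F L).1 c fun k => hc k
  have hdual : ∀ l : L →ₗ[F] F, ∃ c : L, ∀ k, l k = Algebra.trace F L (c * k) := fun l => by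
    refine ⟨((Algebra.traceForm F L).toDual (traceForm_nondegenerate F L)).symm l, fun k => ?_⟩
    exact (LinearMap.BilinForm.apply_toDual_symm_apply (hB := traceForm_nondegenerate F L) l k).symm
  let pair : (Fin 6 → F) → (Fin 6 → F) → (L →ₗ[F] F) := fun u w =>
    { toFun := fun k => hq (j k *ᵥ u) w
      map_add' := fun a b => by rw [map_add, Matrix.add_mulVec, Hh.add_left]
      map_smul' := fun c a => by rw [map_smul, Matrix.smul_mulVec, Hh.smul_left]; rfl }
  have hpairv : ∀ u w k, pair u w k = hq (j k *ᵥ u) w := fun u w k => rfl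
  have hmove : ∀ (k : L) (u w : Fin 6 → F), hq (j k *ᵥ u) w = hq u (j (ψ k) *ᵥ w) := fun k u w => by
    rw [hψ, hermForm_eq_gram hF]
    exact form_adj (herm_one hF) _ u w
  have hact2 : ∀ (k l : L) (u w : Fin 6 → F), hq (j k *ᵥ u) (j l *ᵥ w) = pair u w (k * ψ l) := fun k l u w => by
    rw [hpairv, mul_comm k, map_mul, ← Matrix.mulVec_mulVec, hmove (ψ l), hψψ]
  have hone : ∀ w : Fin 6 → F, j 1 *ᵥ w = w := fun w => by rw [map_one, Matrix.one_mulVec]
  have hflip : ∀ u w k, pair u w k = σ (pair w u (ψ k)) := fun u w k => by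
    rw [hpairv, hpairv, hσ2, hmove (ψ k), hψψ, ← Hh.conj_symm]
  -- a vector with trace form
  have hnorm : ∀ u : Fin 6 → F, (∃ k, pair u u k ≠ 0) →
      ∃ a : L, ∀ k, pair (j a *ᵥ u) (j a *ᵥ u) k = Algebra.trace F L k := by
    intro u hu
    obtain ⟨c, hc⟩ := hdual (pair u u)
    have hc0 : c ≠ 0 := fun h => by
      obtain ⟨k, hk⟩ := hu
      rw [hc, h, zero_mul, map_zero] at hk
      exact hk rfl
    have hψc : ψ c = c := by
      refine sub_eq_zero.mp (hnd _ fun k => ?_)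
      have h1 := hflip u u k
      rw [hc, hc, ← htr8, map_mul ψ, hψψ] at h1
      rw [sub_mul, map_sub, sub_eq_zero]
      exact h1.symm
    obtain ⟨s, hs⟩ : ∃ s : L, s * s = c := by
      have hinj : Function.Injective fun s : L => s * s := fun s s' h => by
        have h2 : (s - s') * (s - s') = 0 := by
          have : s * s = s' * s' := h
          linear_combination this + (s' * s' - s * s') * h20L
        exact sub_eq_zero.mp (mul_self_eq_zero.mp h2)
      exact (Finite.injective_iff_surjective.mp hinj) c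
    have hψs : ψ s = s := by
      have h2 : (ψ s - s) * (ψ s - s) = 0 := by
        have : ψ s * ψ s = s * s := by rw [← map_mul, hs, hψc]
        linear_combination this + (s * s - ψ s * s) * h20L
      exact sub_eq_zero.mp (mul_self_eq_zero.mp h2)
    have hs0 : s ≠ 0 := fun h => hc0 (by rw [← hs, h, mul_zero])
    refine ⟨s⁻¹, fun k => ?_⟩
    rw [hpairv, Matrix.mulVec_mulVec, ← map_mul, hact2, hc, map_inv₀, hψs, ← hs]
    congr 1
    field_simp
  obtain ⟨a₁, hb₁⟩ := hnorm (Pi.single 0 1) ⟨1, by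
    rw [hpairv, hone]
    simp [Cfsg.hermForm, Pi.single_apply]⟩
  set b₁ := j a₁ *ᵥ (Pi.single 0 1 : Fin 6 → F) with hb₁d
  let A₁ : L →ₗ[F] (Fin 6 → F) := (LinearMap.flip (Matrix.mulVecBilin F F) b₁).comp j.toLinearMap
  have hA₁ : ∀ k, A₁ k = j k *ᵥ b₁ := fun k => rfl
  obtain ⟨w, hw⟩ : ∃ w, ∀ k, A₁ k ≠ w := by
    by_contra hcon
    simp only [not_exists, not_forall, not_not] at hcon
    have h2 := LinearMap.finrank_range_le A₁
    rw [LinearMap.range_eq_top.mpr hcon, finrank_top, Module.finrank_fintype_fun_eq_card, h3] at h2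
    simp at h2
  obtain ⟨c, hc⟩ := hdual (pair w b₁)
  set w' := w - j c *ᵥ b₁ with hw'
  have hw'0 : ∀ k, pair w' b₁ k = 0 := fun k => by
    rw [hpairv, hw', Matrix.mulVec_sub, Matrix.mulVec_mulVec, ← map_mul, Hh.sub_left, ← hpairv, ← hpairv, hc,
      hb₁, mul_comm, sub_self]
  have hw'ne : w' ≠ 0 := fun h => hw c (sub_eq_zero.mp h).symm
  let A₂ : (Fin 6 → F) → (L →ₗ[F] (Fin 6 → F)) := fun u =>
    (LinearMap.flip (Matrix.mulVecBilin F F) u).comp j.toLinearMap
  have hA₂ : ∀ u k, A₂ u k = j k *ᵥ u := fun u k => rfl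
  have hspan : ∀ u, u ≠ 0 → (∀ k, pair u b₁ k = 0) → ∀ z, ∃ k l : L, z = j k *ᵥ b₁ + j l *ᵥ u := by
    intro u hu hu0
    let Φ : (L × L) →ₗ[F] (Fin 6 → F) := A₁.coprod (A₂ u)
    have hinj : Function.Injective Φ := by
      rw [← LinearMap.ker_eq_bot, LinearMap.ker_eq_bot']
      rintro ⟨x, y⟩ hxy
      have hxy' : j x *ᵥ b₁ + j y *ᵥ u = 0 := hxy
      have hx : x = 0 := hnd x fun z => by
        have h1 : hq (j x *ᵥ b₁ + j y *ᵥ u) (j (ψ z) *ᵥ b₁) = 0 := by rw [hxy', Hh.zero_left]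
        rwa [Hh.add_left, hact2, hact2, hψψ, hb₁, hu0, add_zero] at h1
      subst hx
      rw [map_zero, Matrix.zero_mulVec, zero_add] at hxy'
      have hy : y = 0 := by
        by_contra hy
        refine hu ?_
        rw [← hone u, ← inv_mul_cancel₀ hy, map_mul, ← Matrix.mulVec_mulVec, hxy', Matrix.mulVec_zero]
      rw [hy]
      rfl
    have hsurj : Function.Surjective Φ := by
      refine (LinearMap.injective_iff_surjective_of_finrank_eq_finrank ?_).mp hinj
      rw [Module.finrank_prod, h3, Module.finrank_fintype_fun_eq_card, Fintype.card_fin]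
    intro z
    obtain ⟨⟨k, l⟩, h⟩ := hsurj z
    exact ⟨k, l, h.symm⟩
  obtain ⟨k, hk⟩ : ∃ k, pair w' w' k ≠ 0 := by
    by_contra hcon
    simp only [not_exists, not_not] at hcon
    obtain ⟨z, hz⟩ := ((hermForm_unitary hF).nondegenerate w' hw'ne).1
    obtain ⟨x, y, rfl⟩ := hspan w' hw'ne hw'0 z
    refine hz ?_
    rw [Hh.add_left, ← hpairv, ← hpairv, hcon, add_zero, hflip, hw'0, map_zero]
  obtain ⟨a, ha⟩ := hnorm w' ⟨k, hk⟩
  set b₂ := j a *ᵥ w' with hb₂d
  have h21 : ∀ k, pair b₂ b₁ k = 0 := fun k => by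
    rw [hpairv, hb₂d, Matrix.mulVec_mulVec, ← map_mul]
    exact hw'0 _
  have h12 : ∀ k, pair b₁ b₂ k = 0 := fun k => by rw [hflip, h21, map_zero]
  have hb₂0 : b₂ ≠ 0 := fun h => by
    obtain ⟨k, hk⟩ : ∃ k : L, Algebra.trace F L k ≠ 0 := by
      by_contra hcon
      simp only [not_exists, not_not] at hcon
      exact one_ne_zero (hnd 1 fun k => hcon _)
    refine hk ?_
    rw [← ha k, hpairv, h, Matrix.mulVec_zero, Hh.zero_left]
  refine ⟨b₁, b₂, hspan b₂ hb₂0 h21, fun k l k' l' => ?_⟩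
  rw [Hh.add_left, Hh.add_right hF, Hh.add_right hF, hact2, hact2, hact2, hact2, hb₁, ha, h21, h12, add_zero,
    zero_add]

set_option maxHeartbeats 1000000 in
/-- The semilinear involution commuting with the cubic field normaliser, as a subfield structure. -/
theorem cubic_rational (hF : Fintype.card F = 2 ^ 2) {L : Type*} [Field L] [Finite L] [Algebra F L]
    (h3 : Module.finrank F L = 3) (j : L →ₐ[F] Mat) (hadj : ∀ k, ∃ k', j k' = adj (Unitary.conjHom hF) 1 (j k))
    {H : Subgroup (GL (Fin 6) F)} (hHΓ : H ≤ Γ) (hnorm : ∀ g ∈ H, ∀ k, ∃ k', cj g (j k) = j k') :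
    ∃ (F₀ : Subfield F) (P : GL (Fin 6) F) (ζ : F), Fintype.card F = Nat.card F₀ ^ 2 ∧ F₀ ≠ ⊤ ∧ ζ ≠ 0 ∧
      ζ + ζ ^ 2 = 0 ∧ Geo.IsFormRationalStructure hq F₀ ζ P ∧
      (∀ u : Fin 6 → F, (∀ i, u i ∈ F₀) →
        hq ((P : Mat) *ᵥ u) ((P : Mat) *ᵥ u) = 0) ∧
      H ≤ Geo.subfieldSubgroup F₀ P := by
  classical
  set σ := Unitary.conjHom hF with hσ
  have hσ2 : ∀ c : F, σ c = c ^ 2 := fun c => conjHom_apply' hF c
  have hσσ : ∀ c : F, σ (σ c) = c := fun c => Unitary.pow_q_pow_q hF c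
  have Hh := Unitary.hermForm_isHerm hF 6
  have h20 := two_eq_zero_four hF
  have hjinj : Function.Injective j := RingHom.injective j.toRingHom
  choose ψ₀ hψ₀ using hadj
  let ψ : L →+* L :=
    { toFun := ψ₀
      map_one' := hjinj (by rw [hψ₀, map_one, adj_one (herm_one hF)])
      map_mul' := fun a b => hjinj (by
        rw [hψ₀, mul_comm a b, map_mul, adj_mul (herm_one hF), map_mul, hψ₀, hψ₀])
      map_zero' := hjinj (by rw [hψ₀, map_zero, adj_zero])
      map_add' := fun a b => hjinj (by rw [hψ₀, map_add, adj_add, map_add, hψ₀, hψ₀]) }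
  obtain ⟨h64, hψ8, b₁, b₂, hspan, hherm⟩ := cubic_basis hF h3 j ψ hψ₀
  have hψψ : ∀ k, ψ (ψ k) = k := fun k => by rw [hψ8, hψ8, ← pow_mul, show 8 * 8 = 64 from rfl, h64]
  have hψF : ∀ c : F, ψ (algebraMap F L c) = algebraMap F L (σ c) := fun c => hjinj (by
    show j (ψ₀ _) = _
    rw [hψ₀, j.commutes, j.commutes, Algebra.algebraMap_eq_smul_one, Algebra.algebraMap_eq_smul_one, adj_smul,
      adj_one (herm_one hF)])
  have htr8 : ∀ x : L, Algebra.trace F L (ψ x) = σ (Algebra.trace F L x) := fun x => by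
    refine (algebraMap F L).injective ?_
    rw [← hψF, FiniteField.algebraMap_trace_eq_sum_pow, FiniteField.algebraMap_trace_eq_sum_pow, map_sum]
    simp only [map_pow]
  have hnd : ∀ c : L, (∀ k, Algebra.trace F L (c * k) = 0) → c = 0 := fun c hc =>
    (traceForm_nondegenerate F L).1 c fun k => hc k
  -- coordinates
  have hzero : ∀ k l : L, j k *ᵥ b₁ + j l *ᵥ b₂ = 0 → k = 0 ∧ l = 0 := by
    intro k l h
    constructor
    · refine hnd k fun z => ?_
      have h1 := hherm k l (ψ z) 0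
      simpa [h, hψψ, Hh.zero_left] using h1.symm
    · refine hnd l fun z => ?_
      have h1 := hherm k l 0 (ψ z)
      simpa [h, hψψ, Hh.zero_left] using h1.symm
  have hinj : ∀ k l k' l' : L, j k *ᵥ b₁ + j l *ᵥ b₂ = j k' *ᵥ b₁ + j l' *ᵥ b₂ → k = k' ∧ l = l' := by
    intro k l k' l' h
    have := hzero (k - k') (l - l') (by
      rw [map_sub, map_sub, Matrix.sub_mulVec, Matrix.sub_mulVec]
      linear_combination (norm := module) h)
    exact ⟨sub_eq_zero.mp this.1, sub_eq_zero.mp this.2⟩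
  choose ck cl hco using hspan
  let J : (Fin 6 → F) → (Fin 6 → F) := fun z => j (ψ (cl z)) *ᵥ b₁ + j (ψ (ck z)) *ᵥ b₂
  have hJ : ∀ k l : L, J (j k *ᵥ b₁ + j l *ᵥ b₂) = j (ψ l) *ᵥ b₁ + j (ψ k) *ᵥ b₂ := fun k l => by
    obtain ⟨h1, h2⟩ := hinj _ _ _ _ (hco (j k *ᵥ b₁ + j l *ᵥ b₂))
    simp only [J, ← h1, ← h2]
  have hJadd : ∀ x y, J (x + y) = J x + J y := fun x y => by
    rw [hco x, hco y, show ∀ a b c d : L, j a *ᵥ b₁ + j b *ᵥ b₂ + (j c *ᵥ b₁ + j d *ᵥ b₂) =
      j (a + c) *ᵥ b₁ + j (b + d) *ᵥ b₂ from fun a b c d => by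
        rw [map_add, map_add, Matrix.add_mulVec, Matrix.add_mulVec]; abel, hJ, hJ, hJ, map_add, map_add, map_add,
      map_add, Matrix.add_mulVec, Matrix.add_mulVec]
    abel
  have hJsmul : ∀ (c : F) x, J (c • x) = σ c • J x := fun c x => by
    have hsm : ∀ (c : F) (a b : L), c • (j a *ᵥ b₁ + j b *ᵥ b₂) =
        j (algebraMap F L c * a) *ᵥ b₁ + j (algebraMap F L c * b) *ᵥ b₂ := fun c a b => by
      rw [← Algebra.smul_def, ← Algebra.smul_def, map_smul, map_smul, Matrix.smul_mulVec, Matrix.smul_mulVec,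
        smul_add]
    rw [hco x, hsm, hJ, hJ, map_mul ψ, map_mul ψ, hψF, ← hsm]
  have hJJ : ∀ x, J (J x) = x := fun x =>
    (congrArg (fun z => J (J z)) (hco x)).trans ((congrArg J (hJ _ _)).trans ((hJ _ _).trans
      (by rw [hψψ, hψψ]; exact (hco x).symm)))
  have hJform : ∀ x y, hq (J x) (J y) = σ (hq x y) := fun x y => by
    rw [hco x, hco y, hJ, hJ, hherm, hherm, map_add, ← htr8, ← htr8]
    simp only [map_mul ψ, hψψ]
    exact add_comm _ _
  have hJalt : ∀ x, J x = x → hq x x = 0 := fun x hx => by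
    rw [hco x, hJ] at hx
    obtain ⟨h1, h2⟩ := hinj _ _ _ _ hx
    rw [hco x, hherm, ← h2, hψψ, mul_comm (ψ (ck x)) (ck x), ← two_mul, h20, zero_mul]
  -- fixed vectors span
  have hfixspan : Submodule.span F {x | J x = x} = ⊤ := by
    obtain ⟨ω, hω⟩ : ∃ ω : F, σ ω ≠ ω := by
      by_contra hcon
      simp only [not_exists, not_not] at hcon
      exact Unitary.conjHom_ne_id hF (RingHom.ext hcon)
    rw [eq_top_iff]
    intro x _
    have e1 : J (x + J x) = x + J x := by rw [hJadd, hJJ, add_comm]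
    have e2 : J (ω • x + J (ω • x)) = ω • x + J (ω • x) := by rw [hJadd, hJJ, add_comm]
    have h1 : (σ ω - ω) • x = σ ω • (x + J x) - (ω • x + J (ω • x)) := by
      rw [hJsmul, smul_add, sub_smul]; abel
    have h2 : (σ ω - ω) • x ∈ Submodule.span F {x | J x = x} := by
      rw [h1]
      exact Submodule.sub_mem _ (Submodule.smul_mem _ _ (Submodule.subset_span e1)) (Submodule.subset_span e2)
    exact (Submodule.smul_mem_iff _ (sub_ne_zero.mpr hω)).mp h2
  obtain ⟨s, hs, hsspan, hsli⟩ := exists_linearIndependent F {x : Fin 6 → F | J x = x}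
  have : Fintype s := Fintype.ofFinite s
  let bs : Module.Basis s F (Fin 6 → F) := Module.Basis.mk hsli (by
    rw [Subtype.range_coe_subtype, Set.setOf_mem_eq, hsspan, hfixspan])
  let e : Fin 6 ≃ s := (Fintype.equivFinOfCardEq (by
    rw [← Module.finrank_eq_card_basis bs, Module.finrank_fintype_fun_eq_card, Fintype.card_fin])).symm
  let P₀ : Mat := Matrix.of fun i k => (e k : Fin 6 → F) i
  have hPu : IsUnit P₀ := by
    rw [← Matrix.linearIndependent_cols_iff_isUnit]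
    exact hsli.comp e e.injective
  set P : GL (Fin 6) F := hPu.unit with hP
  have hPv : (P : Mat) = P₀ := rfl
  have hJP : ∀ u : Fin 6 → F, J ((P : Mat) *ᵥ u) = (P : Mat) *ᵥ (σ ∘ u) := by
    intro u
    let Jh : (Fin 6 → F) →+ (Fin 6 → F) := AddMonoidHom.mk' J hJadd
    have hexp : ∀ u : Fin 6 → F, (P : Mat) *ᵥ u = ∑ k, u k • (e k : Fin 6 → F) := fun u => by
      funext i
      simp [hPv, P₀, Matrix.mulVec, dotProduct, Finset.sum_apply, mul_comm]
    rw [hexp, hexp, show J (∑ k, u k • (e k : Fin 6 → F)) = Jh (∑ k, u k • (e k : Fin 6 → F)) from rfl, map_sum]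
    refine Finset.sum_congr rfl fun k _ => ?_
    show J (u k • (e k : Fin 6 → F)) = _
    rw [hJsmul, show J (e k : Fin 6 → F) = e k from hs (e k).2]
    rfl
  have hPinj : ∀ u v : Fin 6 → F, (P : Mat) *ᵥ u = (P : Mat) *ᵥ v → u = v := fun u v h =>
    Matrix.mulVec_injective_iff_isUnit.mpr P.isUnit h
  let F₀ := Unitary.fixedField hF
  have hmem0 : ∀ x : F, x ∈ F₀ ↔ σ x = x := fun x => by rw [hσ2]; exact Unitary.mem_fixedField hF
  have hcard0 : Nat.card F₀ = 2 := by
    have := Unitary.card_fixed hF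
    exact (Nat.card_congr (Equiv.subtypeEquivRight fun x => Unitary.mem_fixedField hF)).trans this
  refine ⟨F₀, P, 1, by rw [hcard0, hF], fun h => Unitary.conjHom_ne_id hF (RingHom.ext fun x =>
    (hmem0 x).mp (h ▸ Subfield.mem_top x)), one_ne_zero, by linear_combination h20, ?_, ?_, ?_⟩
  · intro u v hu hv
    rw [one_mul, hmem0, ← hJform, hJP, hJP, show σ ∘ u = u from funext fun i => (hmem0 _).mp (hu i),
      show σ ∘ v = v from funext fun i => (hmem0 _).mp (hv i)]
  · intro u hu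
    exact hJalt _ (by rw [hJP, show σ ∘ u = u from funext fun i => (hmem0 _).mp (hu i)])
  -- elements of `H`
  intro g hg
  obtain ⟨hgU, hgdet⟩ := hHΓ hg
  choose π₀ hπ₀ using hnorm g hg
  let π : L →+* L :=
    { toFun := π₀
      map_one' := hjinj (by rw [← hπ₀, map_one, map_one])
      map_mul' := fun a b => hjinj (by rw [← hπ₀, map_mul, map_mul, map_mul, hπ₀, hπ₀])
      map_zero' := hjinj (by rw [← hπ₀, map_zero, map_zero])
      map_add' := fun a b => hjinj (by rw [← hπ₀, map_add, map_add, map_add, hπ₀, hπ₀]) }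
  have hπj : ∀ k v, (g : Mat) *ᵥ (j k *ᵥ v) = j (π k) *ᵥ ((g : Mat) *ᵥ v) := fun k v => by
    show _ = j (π₀ k) *ᵥ _
    rw [← hπ₀, cj_apply, Matrix.mulVec_mulVec, Matrix.mulVec_mulVec, mul_assoc, Units.inv_mul, mul_one]
  have hπF : ∀ c : F, π (algebraMap F L c) = algebraMap F L c := fun c => hjinj (by
    show j (π₀ _) = _
    rw [← hπ₀, j.commutes, Algebra.algebraMap_eq_smul_one, map_smul, map_one])
  have hπψ : ∀ k, π (ψ k) = ψ (π k) := fun k => by rw [hψ8, hψ8, map_pow]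
  have htrπ : ∀ x : L, Algebra.trace F L (π x) = Algebra.trace F L x := fun x => by
    refine (algebraMap F L).injective ?_
    rw [← hπF (Algebra.trace F L x), FiniteField.algebraMap_trace_eq_sum_pow,
      FiniteField.algebraMap_trace_eq_sum_pow, map_sum]
    simp only [map_pow]
  obtain ⟨α, γ, hg₁⟩ : ∃ α γ : L, (g : Mat) *ᵥ b₁ = j α *ᵥ b₁ + j γ *ᵥ b₂ := ⟨_, _, hco _⟩
  obtain ⟨β, δ, hg₂⟩ : ∃ β δ : L, (g : Mat) *ᵥ b₂ = j β *ᵥ b₁ + j δ *ᵥ b₂ := ⟨_, _, hco _⟩
  have hgz : ∀ k l : L, (g : Mat) *ᵥ (j k *ᵥ b₁ + j l *ᵥ b₂) =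
      j (π k * α + π l * β) *ᵥ b₁ + j (π k * γ + π l * δ) *ᵥ b₂ := fun k l => by
    rw [Matrix.mulVec_add, hπj, hπj, hg₁, hg₂, Matrix.mulVec_add, Matrix.mulVec_add, Matrix.mulVec_mulVec,
      Matrix.mulVec_mulVec, Matrix.mulVec_mulVec, Matrix.mulVec_mulVec, ← map_mul, ← map_mul, ← map_mul,
      ← map_mul, map_add, map_add, Matrix.add_mulVec, Matrix.add_mulVec]
    abel
  have hπsurj : Function.Surjective π := Finite.injective_iff_surjective.mp π.injective
  have hU := mem_GU_iff.mp hgU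
  have hgen : ∀ k l k' l' : L, Algebra.trace F L ((π k * α + π l * β) * ψ (π k' * α + π l' * β)) +
      Algebra.trace F L ((π k * γ + π l * δ) * ψ (π k' * γ + π l' * δ)) =
      Algebra.trace F L (k * ψ k') + Algebra.trace F L (l * ψ l') := fun k l k' l' => by
    rw [← hherm, ← hgz, ← hgz, hU, hherm]
  have e11 : α * ψ α + γ * ψ γ = 1 := sub_eq_zero.mp (hnd _ fun x => by
    obtain ⟨k, rfl⟩ := hπsurj x
    have h := hgen k 0 1 0
    simp only [map_zero π, map_one π, map_zero ψ, map_one ψ, zero_mul, add_zero, one_mul, mul_one, mul_zero,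
      map_zero (Algebra.trace F L)] at h
    rw [← htrπ k, ← map_add] at h
    rw [sub_mul, map_sub, sub_eq_zero, one_mul, ← h]
    congr 1; ring)
  have e22 : β * ψ β + δ * ψ δ = 1 := sub_eq_zero.mp (hnd _ fun x => by
    obtain ⟨l, rfl⟩ := hπsurj x
    have h := hgen 0 l 0 1
    simp only [map_zero π, map_one π, map_zero ψ, map_one ψ, zero_mul, zero_add, one_mul, mul_one, mul_zero,
      map_zero (Algebra.trace F L)] at h
    rw [← htrπ l, ← map_add] at h
    rw [sub_mul, map_sub, sub_eq_zero, one_mul, ← h]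
    congr 1; ring)
  have e21 : β * ψ α + δ * ψ γ = 0 := hnd _ fun x => by
    obtain ⟨l, rfl⟩ := hπsurj x
    have h := hgen 0 l 1 0
    simp only [map_zero π, map_one π, map_zero ψ, map_one ψ, zero_mul, zero_add, add_zero, one_mul, mul_one,
      mul_zero, map_zero (Algebra.trace F L)] at h
    rw [← map_add] at h
    rw [← h]
    congr 1; ring
  have h20L : (2 : L) = 0 := by rw [← map_ofNat (algebraMap F L) 2, h20, map_zero]
  have e12 : α * ψ β + γ * ψ δ = 0 := by
    have := congrArg ψ e21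
    simp only [map_add, map_mul, hψψ, map_zero] at this
    linear_combination this
  set D := α * δ + β * γ with hD
  have r1 : δ = D * ψ α := by
    rw [hD]
    linear_combination (-δ) * e11 - γ * e21 + (γ * δ * ψ γ + δ * 0) * h20L
  have r2 : γ = D * ψ β := by
    rw [hD]
    linear_combination (-γ) * e22 - δ * e12 + (γ * δ * ψ δ) * h20L
  have hDD : D * ψ D = 1 := by
    rw [hD, map_add, map_mul, map_mul]
    linear_combination (α * ψ α + γ * ψ γ) * e22 + e11 - (α * ψ β + γ * ψ δ) * e21 +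
      (β * γ * ψ α * ψ δ + δ * α * ψ β * ψ γ) * h20L
  have r1' : ψ δ = ψ D * α := by rw [r1, map_mul, hψψ]
  have r2' : ψ γ = ψ D * β := by rw [r2, map_mul, hψψ]
  have r3 : ψ α = ψ D * δ := by rw [r1]; linear_combination (-ψ α) * hDD
  have r4 : ψ β = ψ D * γ := by rw [r2]; linear_combination (-ψ β) * hDD
  -- `J g = ψ D · g J`
  have hJg : ∀ z, J ((g : Mat) *ᵥ z) = j (ψ D) *ᵥ ((g : Mat) *ᵥ J z) := by
    intro z
    rw [hco z, hgz, hJ, hJ, hgz, Matrix.mulVec_add, Matrix.mulVec_mulVec, Matrix.mulVec_mulVec, ← map_mul,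
      ← map_mul]
    congr 3 <;> simp only [map_add, map_mul, ← hπψ, r1', r2', r3, r4] <;> ring
  -- the block `diag(ψ D, 1)` makes `g` rational
  let Φ₀ : (L × L) →ₗ[F] (Fin 6 → F) :=
    { toFun := fun p => j p.1 *ᵥ b₁ + j p.2 *ᵥ b₂
      map_add' := fun p q => by
        simp only [Prod.fst_add, Prod.snd_add, map_add, Matrix.add_mulVec]; abel
      map_smul' := fun c p => by
        simp only [Prod.smul_fst, Prod.smul_snd, map_smul, Matrix.smul_mulVec, smul_add, RingHom.id_apply] }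
  let Φ : (L × L) ≃ₗ[F] (Fin 6 → F) := LinearEquiv.ofBijective Φ₀
    ⟨fun p q h => Prod.ext (hinj _ _ _ _ h).1 (hinj _ _ _ _ h).2, fun z => ⟨(ck z, cl z), (hco z).symm⟩⟩
  have hΦ : ∀ p : L × L, Φ p = j p.1 *ᵥ b₁ + j p.2 *ᵥ b₂ := fun p => rfl
  let tl : (Fin 6 → F) →ₗ[F] (Fin 6 → F) :=
    (Φ : (L × L) →ₗ[F] (Fin 6 → F)) ∘ₗ ((LinearMap.mulLeft F (ψ D)).prodMap LinearMap.id) ∘ₗ
      (Φ.symm : (Fin 6 → F) →ₗ[F] (L × L))
  set T := LinearMap.toMatrix' tl with hT
  have hTz : ∀ k l, T *ᵥ (j k *ᵥ b₁ + j l *ᵥ b₂) = j (ψ D * k) *ᵥ b₁ + j l *ᵥ b₂ := fun k l => by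
    rw [hT, LinearMap.toMatrix'_mulVec, ← hΦ (k, l)]
    simp only [tl, LinearMap.comp_apply, LinearEquiv.coe_coe, LinearEquiv.symm_apply_apply]
    rw [hΦ]
    simp
  have hTdet : T.det = Algebra.norm F (ψ D) := by
    rw [hT, LinearMap.det_toMatrix', show tl = (Φ : (L × L) →ₗ[F] (Fin 6 → F)) ∘ₗ
      ((LinearMap.mulLeft F (ψ D)).prodMap LinearMap.id) ∘ₗ (Φ.symm : (Fin 6 → F) →ₗ[F] (L × L)) from rfl,
      LinearMap.det_conj, LinearMap.det_prodMap, LinearMap.det_id, mul_one, Algebra.norm_apply]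
    rfl
  have hfix : ∀ z, J z = z → J ((T * (g : Mat)) *ᵥ z) = (T * (g : Mat)) *ᵥ z := by
    intro z hz
    have h1 := hJg z
    rw [hz, hco ((g : Mat) *ᵥ z), hJ, Matrix.mulVec_add, Matrix.mulVec_mulVec, Matrix.mulVec_mulVec,
      ← map_mul, ← map_mul] at h1
    obtain ⟨h2, h3'⟩ := hinj _ _ _ _ h1
    rw [← Matrix.mulVec_mulVec, hco ((g : Mat) *ᵥ z), hTz, hJ, map_mul, hψψ, h2, h3']
    congr 2
    rw [← mul_assoc, hDD, one_mul]
  have hFix : ∀ k : Fin 6, J ((P : Mat) *ᵥ Pi.single k 1) = (P : Mat) *ᵥ Pi.single k 1 := fun k => by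
    rw [hJP]; congr 1; funext i
    rw [Function.comp_apply, Pi.single_apply]
    split_ifs <;> simp
  have hdetT : T.det = 1 := by
    set Q := ((P⁻¹ : GL (Fin 6) F) : Mat) * (T * (g : Mat)) * (P : Mat) with hQ
    have hQfix : Q.map σ = Q := by
      refine Matrix.ext_of_mulVec_single fun k => hPinj _ _ ?_
      have e1 : (P : Mat) *ᵥ (Q *ᵥ Pi.single k 1) = (T * (g : Mat)) *ᵥ ((P : Mat) *ᵥ Pi.single k 1) := by
        rw [hQ, Matrix.mulVec_mulVec, Matrix.mulVec_mulVec, ← mul_assoc, ← mul_assoc, Units.mul_inv, one_mul]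
      have e2 : Q.map σ *ᵥ Pi.single k 1 = σ ∘ (Q *ᵥ Pi.single k 1) := by
        funext i; simp [Matrix.mulVec_single_one]
      rw [e2, ← hJP, e1, hfix _ (hFix k)]
    have h1 : σ Q.det = Q.det := by rw [RingHom.map_det, RingHom.mapMatrix_apply, hQfix]
    have hg1 : (g : Mat).det = 1 := by
      rw [← Matrix.GeneralLinearGroup.val_det_apply, MonoidHom.mem_ker.mp hgdet, Units.val_one]
    have h2 : Q.det = T.det := by
      rw [hQ, Matrix.det_mul, Matrix.det_mul, Matrix.det_mul, hg1, mul_one, mul_comm _ T.det, mul_assoc,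
        ← Matrix.det_mul, Units.inv_mul, Matrix.det_one, mul_one]
    rw [h2, hσ2, sq] at h1
    refine (mul_eq_left₀ ?_).mp h1
    rw [hTdet]
    exact Algebra.norm_ne_zero_iff.mpr fun h0 => by rw [h0, mul_zero] at hDD; exact zero_ne_one hDD
  -- so `ψ D` is a scalar
  obtain ⟨c, hc⟩ : ∃ c : F, algebraMap F L c = ψ D := by
    set x := ψ D with hx
    have h9 : x ^ 9 = 1 := by
      rw [pow_succ', ← hψ8, hx, hψψ, mul_comm]; exact hDD
    have h21 : x ^ 21 = 1 := by
      have h1 := FiniteField.algebraMap_norm_eq_pow_sum F L x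
      rw [h3, ← hTdet, hdetT, map_one, Nat.card_eq_fintype_card, hF] at h1
      simpa [Finset.sum_range_succ] using h1.symm
    have hx3 : x ^ 3 = 1 := by
      have : x ^ 21 = (x ^ 9) ^ 2 * x ^ 3 := by ring
      rw [h21, h9, one_pow, one_mul] at this
      exact this.symm
    obtain ⟨w, hw1, hw2⟩ : ∃ w : F, w ≠ 1 ∧ w ^ 2 + w + 1 = 0 := by
      obtain ⟨ω, hω⟩ : ∃ ω : F, σ ω ≠ ω := by
        by_contra hcon
        simp only [not_exists, not_not] at hcon
        exact Unitary.conjHom_ne_id hF (RingHom.ext hcon)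
      refine ⟨ω, fun h => hω (by rw [h, map_one]), ?_⟩
      have h4 : ω ^ 4 = ω := by
        have := FiniteField.pow_card ω
        rwa [hF] at this
      have hω0 : ω ≠ 0 := fun h => hω (by rw [h, map_zero])
      have hω1 : ω - 1 ≠ 0 := sub_ne_zero.mpr fun h => hω (by rw [h, map_one])
      refine mul_left_cancel₀ (mul_ne_zero hω0 hω1) ?_
      linear_combination h4
    have hw3 : (algebraMap F L w) ^ 2 + algebraMap F L w + 1 = 0 := by
      rw [← map_pow, ← map_add, ← map_one (algebraMap F L), ← map_add, hw2, map_zero]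
    set W := algebraMap F L w with hW
    have : (x - 1) * ((x - W) * (x - W ^ 2)) = 0 := by
      linear_combination hx3 + (-x ^ 2 + x * W + (1 - W)) * hw3
    rcases mul_eq_zero.mp this with h | h
    · exact ⟨1, by rw [map_one, sub_eq_zero.mp h]⟩
    rcases mul_eq_zero.mp h with h | h
    · exact ⟨w, (sub_eq_zero.mp h).symm⟩
    · exact ⟨w ^ 2, by rw [map_pow]; exact (sub_eq_zero.mp h).symm⟩
  have hc0 : c ≠ 0 := fun h => by
    rw [h, map_zero] at hc
    rw [← hc, mul_zero] at hDD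
    exact zero_ne_one hDD
  have hJgc : ∀ z, J ((g : Mat) *ᵥ z) = c • ((g : Mat) *ᵥ J z) := fun z => by
    rw [hJg, ← hc, j.commutes, Algebra.algebraMap_eq_smul_one, Matrix.smul_mulVec, Matrix.one_mulVec]
  have hc3 : c ^ 3 = 1 := by
    have h4 := FiniteField.pow_card c
    rw [hF] at h4
    exact mul_left_cancel₀ hc0 (by rw [← pow_succ', mul_one]; exact h4)
  refine Unitary.mem_subfieldSubgroup_of_map hc0 fun u => ?_
  set z := (c⁻¹) • ((g : Mat) *ᵥ ((P : Mat) *ᵥ fun i => (u i : F))) with hz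
  set v := ((P⁻¹ : GL (Fin 6) F) : Mat) *ᵥ z with hv
  have hzP : (P : Mat) *ᵥ v = z := by rw [hv, Matrix.mulVec_mulVec, Units.mul_inv, Matrix.one_mulVec]
  have hzfix : J z = z := by
    rw [hz, hJsmul, hJgc, hJP, show σ ∘ (fun i => (u i : F)) = fun i => (u i : F) from
      funext fun i => (hmem0 _).mp (u i).2, smul_smul, map_inv₀, hσ2]
    congr 1
    field_simp
  have hvfix : ∀ i, v i ∈ F₀ := fun i => (hmem0 _).mpr
    (congrFun (hPinj (σ ∘ v) v (by rw [← hJP, hzP, hzfix])) i)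
  refine ⟨fun i => ⟨v i, hvfix i⟩, ?_⟩
  show (g : Mat) *ᵥ ((P : Mat) *ᵥ fun i => (u i : F)) = c • ((P : Mat) *ᵥ v)
  rw [hzP, hz, smul_smul, mul_inv_cancel₀ hc0, one_smul]

/-- Over F₄ the normaliser in SU_6(2) of a cubic field lies in a symplectic-type subfield group. -/
theorem su_six_two_field (hF : Fintype.card F = 2 ^ 2) {H : Subgroup (GL (Fin 6) F)} (hHΓ : H ≤ Γ)
    {K : Subalgebra F Mat} (hK : Geo.IsFieldSubalgebra 3 K)
    (hadj : Geo.IsAdjointClosedFor hq K) (hle : H ≤ Geo.subalgebraNormalizer K) :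
    ∃ (F₀ : Subfield F) (P : GL (Fin 6) F) (ζ : F), Fintype.card F = Nat.card F₀ ^ 2 ∧ F₀ ≠ ⊤ ∧ ζ ≠ 0 ∧
      ζ + ζ ^ 2 = 0 ∧ Geo.IsFormRationalStructure hq F₀ ζ P ∧
      (∀ u : Fin 6 → F, (∀ i, u i ∈ F₀) →
        hq ((P : Mat) *ᵥ u) ((P : Mat) *ᵥ u) = 0) ∧
      H ≤ Geo.subfieldSubgroup F₀ P := by
  letI : Field K := IsField.toField
    { exists_pair_ne := exists_pair_ne K
      mul_comm := fun a b => Subtype.ext (hK.comm a a.2 b b.2)
      mul_inv_cancel := fun {a} ha => by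
        obtain ⟨y, hy, hay⟩ := hK.inv a a.2 (fun h => ha (Subtype.ext h))
        exact ⟨⟨y, hy⟩, Subtype.ext hay⟩ }
  have : Finite Mat := inferInstanceAs (Finite (Fin 6 → Fin 6 → F))
  have : Finite K := Subtype.finite
  refine cubic_rational hF hK.finrank_eq K.val (fun k => ?_) hHΓ
    (fun g hg k => ⟨⟨_, (hle hg k).mp k.2⟩, rfl⟩)
  obtain ⟨k', hk', hkk⟩ := hadj k k.2
  refine ⟨⟨k', hk'⟩, ?_⟩
  show k' = adj (Unitary.conjHom hF) 1 (k : Mat)
  refine Matrix.ext_of_mulVec_single fun i => sub_eq_zero.mp (by_contra fun hne => ?_)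
  have Hh := Unitary.hermForm_isHerm hF 6
  obtain ⟨x, hx⟩ := ((hermForm_unitary hF).nondegenerate _ hne).1
  refine hx ?_
  rw [sub_eq_add_neg, Hh.add_right hF, ← neg_one_smul F, Hh.smul_right, ← hkk, hermForm_eq_gram hF,
    ← form_adj (herm_one hF), neg_one_sq, one_mul]
  linear_combination (Geo.formOfGram (Unitary.conjHom hF) 1 ((k : Mat) *ᵥ x) (Pi.single i 1)) * two_eq_zero_four hF

end Cfsg.Agent.Aschbacher
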