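/-
Tensor squares in the unitary groups.
Main results: `not_su_le_wreath`, `su_square_of_tensor`, `su_square_of_data`.
-/
import Cfsg.Agent.Lib.Aschbacher.UnitaryCases
import Cfsg.Agent.Lib.Aschbacher.FormWreath
import Cfsg.Agent.Lib.CharApp.Burnside
import Cfsg.Agent.Lib.Unitary.Count
import Cfsg.Agent.Lib.FieldAut.Unitary

set_option autoImplicit false

namespace Cfsg.Agent.Aschbacher

open Matrix
open scoped Kronecker
open Cfsg.Agent.PrimeDim

variable {F : Type*} [Field F] [Fintype F] {n q : ℕ}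

local notation "hq" => Cfsg.hermForm n F q
local notation "Γ" => Cfsg.GU n F q ⊓ Geo.specialLinear (Fin n) F

/-- SU_n(q) preserves no tensor square with factors of dimension at least three. -/
theorem not_su_le_wreath (hF : Fintype.card F = q ^ 2) (h3 : 3 ≤ n) {d : ℕ} (hd : 3 ≤ d)
    (e : Fin n ≃ (Fin 2 → Fin d)) (P : GL (Fin n) F) : ¬ Γ ≤ Geo.tensorWreathSubgroup d 2 e P := by
  classical
  intro hle
  set e' := e.trans (finTwoArrowEquiv (Fin d)) with he'
  obtain ⟨v, hv, hv0⟩ := exists_isotropic_vec hF h3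
  obtain ⟨a, ha0, ha⟩ := Unitary.exists_skew hF
  obtain ⟨s, -, hswap, hcases⟩ := exists_swap e P
  set u := utq hF v a with hu
  rcases hcases u (hle (utq_mem hF hv0 ha)) with h | h
  · exact utq_not_mem_tensor hF (by omega) (by omega) e' P hv hv0 ha0 h
  obtain ⟨A, B, hAB⟩ := (mem_tensorProductSubgroup_iff e' P _).mp h
  let o : Fin d := ⟨0, by omega⟩
  let i : Fin d := ⟨1, by omega⟩
  have hio : i ≠ o := by simp [i, o]
  set X : Matrix (Fin d) (Fin d) F := single o o 1 with hX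
  set Y : Matrix (Fin d) (Fin d) F := cj A X with hY
  have hcju : cj u (cj P (tens e' X 1)) = cj P (tens e' 1 Y) := by
    have h1 : cj (s * u) (cj P (tens e' X (1 : Matrix (Fin d) (Fin d) F))) = cj P (tens e' Y 1) := by
      rw [cj_apply (s * u), hAB]
      have hinv : (((s * u)⁻¹ : GL (Fin n) F) : Matrix (Fin n) (Fin n) F)
          = cj P (tens e' ((A⁻¹ : GL (Fin d) F) : Matrix (Fin d) (Fin d) F) ((B⁻¹ : GL (Fin d) F) : Matrix (Fin d) (Fin d) F)) := by
        refine Units.inv_eq_of_mul_eq_one_right ?_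
        rw [hAB, ← map_mul, tens_mul, Units.mul_inv, Units.mul_inv, tens_one, map_one]
      rw [hinv, ← map_mul, ← map_mul, tens_mul, tens_mul, mul_one, Units.mul_inv, hY, cj_apply A]
    have h2 := congrArg (cj s⁻¹) h1
    rw [← cj_cj s u, cj_inv_cj] at h2
    rw [h2, ← hswap, cj_inv_cj]
  -- on the kernel of two functionals the two sides agree
  let φ := Transvect.ufl (hermForm_unitary hF (n := n)) v
  let T : Fin d → (Fin d → F) →ₗ[F] (Fin n → F) := fun j =>
    { toFun := fun y => (P : Matrix (Fin n) (Fin n) F) *ᵥ fun c => (Pi.single j 1 : Fin d → F) (e' c).1 * y (e' c).2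
      map_add' := fun y z => by rw [← Matrix.mulVec_add]; congr 1; ext c; simp [mul_add]
      map_smul' := fun r y => by rw [RingHom.id_apply, ← Matrix.mulVec_smul]; congr 1; ext c; simp; ring }
  set M := cj P (tens e' X (1 : Matrix (Fin d) (Fin d) F)) with hM
  let S : ((Fin d → F) × (Fin d → F)) →ₗ[F] (Fin n → F) :=
    (T o).comp (LinearMap.fst F _ _) + (T i).comp (LinearMap.snd F _ _)
  let Ψ : ((Fin d → F) × (Fin d → F)) →ₗ[F] (F × F) :=
    (φ.comp S).prod (φ.comp ((Matrix.toLin' M).comp S))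
  have hcjP : ∀ (Z W : Matrix (Fin d) (Fin d) F) (x y : Fin d → F),
      cj P (tens e' Z W) *ᵥ ((P : Matrix (Fin n) (Fin n) F) *ᵥ fun c => x (e' c).1 * y (e' c).2) =
      (P : Matrix (Fin n) (Fin n) F) *ᵥ fun c => (Z *ᵥ x) (e' c).1 * (W *ᵥ y) (e' c).2 := fun Z W x y => by
    rw [cj_apply, Matrix.mulVec_mulVec, mul_assoc, Units.inv_mul, mul_one, ← Matrix.mulVec_mulVec, pure_mulVec]
  have hXo : X *ᵥ (Pi.single o 1 : Fin d → F) = Pi.single o 1 := by
    ext c; simp [hX, Matrix.single, Pi.single_apply, eq_comm]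
  have hXi : X *ᵥ (Pi.single i 1 : Fin d → F) = 0 := by
    ext c; simp [hX, Matrix.single, Ne.symm hio]
  have hker : ∀ p ∈ LinearMap.ker Ψ, Y *ᵥ p.1 = p.1 ∧ Y *ᵥ p.2 = 0 := by
    intro p hp
    obtain ⟨hp1, hp2⟩ := Prod.ext_iff.mp (LinearMap.mem_ker.mp hp)
    have hfix : ∀ z, φ z = 0 → (u : Matrix (Fin n) (Fin n) F) *ᵥ z = z := fun z hz => by
      have hz' : hq z v = 0 := hz
      rw [hu, utq_mulVec hF hv0, hz', mul_zero, zero_smul, add_zero]
    have h1 : ((u⁻¹ : GL (Fin n) F) : Matrix (Fin n) (Fin n) F) *ᵥ S p = S p := by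
      conv_lhs => rw [← hfix _ hp1]
      rw [Matrix.mulVec_mulVec, Units.inv_mul, Matrix.one_mulVec]
    have h2 : cj P (tens e' 1 Y) *ᵥ S p = M *ᵥ S p := by
      rw [← hcju, cj_apply u, ← Matrix.mulVec_mulVec, h1, ← Matrix.mulVec_mulVec]
      exact hfix _ hp2
    simp only [S, T, LinearMap.add_apply, LinearMap.comp_apply, LinearMap.fst_apply, LinearMap.snd_apply,
      LinearMap.coe_mk, AddHom.coe_mk, hM, Matrix.mulVec_add, hcjP, Matrix.one_mulVec, hXo, hXi] at h2
    rw [← Matrix.mulVec_add, ← Matrix.mulVec_add] at h2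
    have h3 := Matrix.mulVec_injective_iff_isUnit.mpr P.isUnit h2
    refine ⟨funext fun k => ?_, funext fun k => ?_⟩
    · simpa [hio, Ne.symm hio] using congrFun h3 (e'.symm (o, k))
    · simpa [hio, Ne.symm hio] using congrFun h3 (e'.symm (i, k))
  let L : LinearMap.ker Ψ →ₗ[F] (Fin d → F) :=
    (LinearMap.fst F _ _ + LinearMap.snd F _ _).comp (LinearMap.ker Ψ).subtype
  have hinj : Function.Injective L := by
    rw [← LinearMap.ker_eq_bot, Submodule.eq_bot_iff]
    rintro ⟨⟨p1, p2⟩, hp⟩ h0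
    obtain ⟨h1, h2⟩ := hker _ hp
    have hsum : p1 + p2 = 0 := h0
    have h3 : p2 = -p1 := eq_neg_of_add_eq_zero_right hsum
    simp only at h1 h2
    rw [h3, Matrix.mulVec_neg, h1, neg_eq_zero] at h2
    subst h2
    rw [neg_zero] at h3
    subst h3
    rfl
  have h4 := LinearMap.finrank_le_finrank_of_injective hinj
  have h5 := LinearMap.finrank_range_add_finrank_ker Ψ
  have h6 := Submodule.finrank_le (LinearMap.range Ψ)
  simp at h4 h5 h6
  omega

/-- Over F₄ the swap of the factors is an element of SU_n(2) outside the tensor product group. -/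
theorem swap_not_mem (hF : Fintype.card F = 2 ^ 2) {d : ℕ} (hd : 2 ≤ d) (e : Fin n ≃ (Fin 2 → Fin d))
    (P : GL (Fin n) F) {c : F} (hP : (P : Matrix (Fin n) (Fin n) F)ᵀ * 1 *
      (P : Matrix (Fin n) (Fin n) F).map (Unitary.conjHom hF) = c • 1) :
    ¬ Geo.tensorWreathSubgroup d 2 e P ⊓ (Cfsg.GU n F 2 ⊓ Geo.specialLinear (Fin n) F) ≤
      Geo.tensorProductSubgroup d d (e.trans (finTwoArrowEquiv (Fin d))) P := by
  classical
  intro hle
  set σ := Unitary.conjHom hF with hσ
  set e' := e.trans (finTwoArrowEquiv (Fin d)) with he'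
  have h20 : (2 : F) = 0 := by
    have h := FiniteField.cast_card_eq_zero F
    rw [hF] at h
    push_cast at h
    have h' : (2 : F) ^ 2 = 0 := by linear_combination h
    exact eq_zero_of_pow_eq_zero h'
  let w : Equiv.Perm (Fin 2) := Equiv.swap 0 1
  have hww : ∀ x : Fin 2 → Fin d, (x ∘ w) ∘ w = x := fun x => funext fun i => by simp [w]
  let S₀ : Matrix (Fin 2 → Fin d) (Fin 2 → Fin d) F := fun x y => if y = x ∘ w then 1 else 0
  have hS : S₀ * S₀ = 1 := by
    ext x y
    rw [Matrix.mul_apply, Finset.sum_eq_single (x ∘ w)]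
    · simp only [S₀, if_true, one_mul, hww, Matrix.one_apply]
      exact if_congr ⟨fun h => h.symm, fun h => h.symm⟩ rfl rfl
    · intro z _ hz; simp [S₀, hz]
    · simp
  let s₀ : GL (Fin 2 → Fin d) F := ⟨S₀, S₀, hS, hS⟩
  let s₁ : GL (Fin n) F := Geo.glReindex e.symm s₀
  set M := (s₁ : Matrix (Fin n) (Fin n) F) with hM
  have hMab : ∀ a b, M a b = if e b = e a ∘ w then 1 else 0 := fun a b => by
    simp [M, s₁, s₀, S₀, Geo.glReindex]
    rfl
  have hMT : Mᵀ = M := by
    ext a b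
    rw [Matrix.transpose_apply, hMab, hMab]
    exact if_congr ⟨fun h => by rw [h, hww], fun h => by rw [h, hww]⟩ rfl rfl
  have hMσ : M.map σ = M := by
    ext a b
    rw [Matrix.map_apply, hMab]
    split_ifs <;> simp
  have hMM : M * M = 1 := by
    rw [hM, ← Units.val_mul, ← map_mul, show s₀ * s₀ = 1 from Units.ext hS, map_one, Units.val_one]
  have hsW : P * s₁ * P⁻¹ ∈ Geo.tensorWreathSubgroup d 2 e P :=
    ⟨s₁, ⟨s₀, Subgroup.subset_closure (Or.inr ⟨w, fun x y => rfl⟩), rfl⟩, rfl⟩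
  have hdet : M.det = 1 := by
    have h1 : (M.det - 1) ^ 2 = 0 := by
      have h2 : M.det * M.det = 1 := by rw [← Matrix.det_mul, hMM, Matrix.det_one]
      linear_combination h2 + (1 - M.det) * h20
    exact sub_eq_zero.mp (eq_zero_of_pow_eq_zero h1)
  have hU : P * s₁ * P⁻¹ ∈ Cfsg.GU n F 2 := by
    rw [Agent.FieldAut.mem_GU_iff_matrix hF, Units.val_mul, Units.val_mul, ← hM, Matrix.transpose_mul,
      Matrix.transpose_mul, Matrix.map_mul, Matrix.map_mul, ← hσ, hMσ, hMT]
    rw [mul_one] at hP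
    set Pi := ((P⁻¹ : GL (Fin n) F) : Matrix (Fin n) (Fin n) F) with hPi
    calc Piᵀ * (M * (P : Matrix (Fin n) (Fin n) F)ᵀ) * ((P : Matrix (Fin n) (Fin n) F).map σ * M * Pi.map σ)
        = Piᵀ * (M * ((P : Matrix (Fin n) (Fin n) F)ᵀ * (P : Matrix (Fin n) (Fin n) F).map σ) * M) * Pi.map σ := by
          simp only [mul_assoc]
      _ = c • (Piᵀ * Pi.map σ) := by
          rw [hP, Matrix.mul_smul, mul_one, Matrix.smul_mul, hMM, Matrix.mul_smul, mul_one, Matrix.smul_mul]
      _ = Piᵀ * ((P : Matrix (Fin n) (Fin n) F)ᵀ * (P : Matrix (Fin n) (Fin n) F).map σ) * Pi.map σ := by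
          rw [hP, Matrix.mul_smul, mul_one, Matrix.smul_mul]
      _ = 1 := by
          rw [← mul_assoc, ← Matrix.transpose_mul, hPi, Units.mul_inv, Matrix.transpose_one, one_mul,
            ← Matrix.map_mul, Units.mul_inv, Matrix.map_one _ (map_zero _) (map_one _)]
  have hmem := hle ⟨hsW, hU, show Matrix.GeneralLinearGroup.det (P * s₁ * P⁻¹) = 1 by
    rw [map_mul, map_mul, map_inv, mul_comm _ (Matrix.GeneralLinearGroup.det s₁), mul_inv_cancel_right]
    exact Units.ext (by rw [Matrix.GeneralLinearGroup.val_det_apply, ← hM, hdet, Units.val_one])⟩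
  obtain ⟨A, B, hAB⟩ := (mem_tensorProductSubgroup_iff e' P _).mp hmem
  have hT : M = tens e' (A : Matrix (Fin d) (Fin d) F) (B : Matrix (Fin d) (Fin d) F) := by
    have h := congrArg (cj P⁻¹) hAB
    rw [cj_inv_cj, Units.val_mul, Units.val_mul, ← hM, ← cj_apply, cj_inv_cj] at h
    exact h
  let o : Fin d := ⟨0, by omega⟩
  let i : Fin d := ⟨1, by omega⟩
  have hio : i ≠ o := by simp [i, o]
  -- entries at ((o,i),(i,o)), ((o,i),(o,i)), ((o,o),(o,o))
  have hv : ∀ a b k l : Fin d, M (e'.symm (a, b)) (e'.symm (k, l)) = if k = b ∧ l = a then 1 else 0 := by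
    intro a b k l
    rw [hMab]
    refine if_congr ?_ rfl rfl
    simp [e', w, funext_iff, Fin.forall_fin_two]
  have hentry : ∀ a b k l : Fin d,
      (A : Matrix (Fin d) (Fin d) F) a k * (B : Matrix (Fin d) (Fin d) F) b l = if k = b ∧ l = a then 1 else 0 := by
    intro a b k l
    rw [← hv, hT, tens_apply, Equiv.apply_symm_apply, Equiv.apply_symm_apply]
  have h1 := hentry o o o o
  have h2 := hentry i i i i
  have h3 := hentry o i o i
  simp [hio, Ne.symm hio] at h1 h2 h3
  rcases h3 with h3 | h3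
  · simp [h3] at h1
  · simp [h3] at h2

/-- All hermitian Gram matrices are congruent to the identity. -/
theorem exists_congr_smul_one (hF : Fintype.card F = q ^ 2) {k : ℕ} (hk : 0 < k) {G : Matrix (Fin k) (Fin k) F}
    (hG : Herm (Unitary.conjHom hF) G) :
    ∃ (μ : F) (Q : GL (Fin k) F), μ ≠ 0 ∧
      (Q : Matrix (Fin k) (Fin k) F)ᵀ * G * (Q : Matrix (Fin k) (Fin k) F).map (Unitary.conjHom hF) = μ • 1 := by
  classical
  obtain ⟨ν, hν, hνG⟩ := exists_hermitian_scale hF hk hG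
  set σ := Unitary.conjHom hF with hσ
  set f := Geo.formOfGram σ (ν • G) with hf
  have hdet : IsUnit (ν • G).det := by rw [Matrix.det_smul]; exact ((IsUnit.mk0 _ hν).pow _).mul hG.det
  have hherm : Unitary.IsHerm q f := by
    refine ⟨fun x y z => by simp [hf, formOfGram_eq, add_dotProduct],
      fun c x z => by simp [hf, formOfGram_eq, smul_dotProduct], fun v w => ?_⟩
    rw [← conjHom_apply' hF]
    simp only [hf, Geo.formOfGram, map_sum, map_mul]
    rw [Finset.sum_comm]
    refine Finset.sum_congr rfl fun a _ => Finset.sum_congr rfl fun b _ => ?_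
    have h3 := congrFun (congrFun hνG b) a
    simp only [Matrix.transpose_apply, Matrix.map_apply] at h3
    rw [← hσ, h3]
    simp only [hσ, conjHom_apply', Unitary.pow_q_pow_q hF]
    ring
  obtain ⟨b₀, hb₀⟩ := Unitary.exists_orthonormalBasis hF hherm (fun x hx => by
    by_contra hx0
    exact (formOfGram_nondegenerate σ hdet x hx0).2.elim fun y hy => hy (hx y))
  let b : Fin k → Fin k → F := fun i => b₀ (Fin.cast (by simp) i)
  have hb : Unitary.Orthonormal f b := hb₀.comp _ (Fin.cast_injective _)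
  let Q₀ : Matrix (Fin k) (Fin k) F := Matrix.of fun x i => b i x
  have hu : IsUnit Q₀ := by
    rw [← Matrix.linearIndependent_cols_iff_isUnit]
    exact hb.linearIndependent hherm
  refine ⟨ν⁻¹, hu.unit, inv_ne_zero hν, ?_⟩
  have h1 : Q₀ᵀ * (ν • G) * Q₀.map σ = 1 := by
    ext i j
    rw [← formOfGram_single σ (Q₀ᵀ * (ν • G) * Q₀.map σ) i j, ← formOfGram_mulVec]
    have hcol : ∀ l, Q₀ *ᵥ (Pi.single l 1 : Fin k → F) = b l := fun l => by
      rw [Matrix.mulVec_single_one]; rfl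
    rw [hcol, hcol, Matrix.one_apply, ← hf, hb.apply]
  rw [IsUnit.unit_spec]
  rw [Matrix.mul_smul, Matrix.smul_mul] at h1
  rw [← h1, smul_smul, inv_mul_cancel₀ hν, one_smul]


/-- GU_3(2) is soluble, so no perfect group preserves a hermitian form on F₄³. -/
theorem unitary_three_two_false (hF : Fintype.card F = 2 ^ 2) {J : Matrix (Fin 3) (Fin 3) F}
    (hJ : Herm (Unitary.conjHom hF) J) {D : Subgroup (GL (Fin 3) F)} (hD : Sim (Unitary.conjHom hF) J D)
    (hperf : ⁅D, D⁆ = D) (hne : ∃ x ∈ D, x ∉ Geo.scalars (Fin 3) F) : False := by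
  classical
  set σ := Unitary.conjHom hF with hσ
  obtain ⟨μ, Q, hμ, hQ⟩ := exists_congr_smul_one hF (by omega) hJ
  have hfix : ∀ c : F, c ≠ 0 → σ c = c → c = 1 := fun c hc h => by
    rw [hσ, conjHom_apply', sq] at h
    exact (mul_eq_left₀ hc).mp h
  have hmem : ∀ g ∈ D, Q⁻¹ * g * Q ∈ Cfsg.GU 3 F 2 := by
    intro g hg
    obtain ⟨c, hc, hgc⟩ := hD g hg
    set Qi := ((Q⁻¹ : GL (Fin 3) F) : Matrix (Fin 3) (Fin 3) F) with hQi
    set K := ((Q⁻¹ * g * Q : GL (Fin 3) F) : Matrix (Fin 3) (Fin 3) F) with hK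
    have hJ' : J = μ • (Qiᵀ * Qi.map σ) := by
      calc J = Qiᵀ * ((Q : Matrix (Fin 3) (Fin 3) F)ᵀ * J * (Q : Matrix (Fin 3) (Fin 3) F).map σ) * Qi.map σ := by
            rw [← mul_assoc, ← mul_assoc, ← Matrix.transpose_mul, hQi, Units.mul_inv, Matrix.transpose_one,
              one_mul, mul_assoc, ← Matrix.map_mul, Units.mul_inv, Matrix.map_one _ (map_zero _) (map_one _),
              mul_one]
        _ = _ := by rw [hQ, Matrix.mul_smul, mul_one, Matrix.smul_mul]
    have h1 : μ • (Kᵀ * K.map σ) = (c * μ) • 1 := by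
      calc μ • (Kᵀ * K.map σ) = (Q : Matrix (Fin 3) (Fin 3) F)ᵀ * ((g : Matrix (Fin 3) (Fin 3) F)ᵀ *
            (μ • (Qiᵀ * Qi.map σ)) * (g : Matrix (Fin 3) (Fin 3) F).map σ) * (Q : Matrix (Fin 3) (Fin 3) F).map σ := by
            simp only [hK, Units.val_mul, Matrix.transpose_mul, Matrix.map_mul, hQi, Matrix.mul_smul,
              Matrix.smul_mul, mul_assoc]
        _ = (Q : Matrix (Fin 3) (Fin 3) F)ᵀ * (c • J) * (Q : Matrix (Fin 3) (Fin 3) F).map σ := by rw [← hJ', hgc]
        _ = _ := by rw [Matrix.mul_smul, Matrix.smul_mul, hQ, smul_smul]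
    have h2 : Kᵀ * K.map σ = c • 1 := by
      have := congrArg (fun M => μ⁻¹ • M) h1
      simpa [smul_smul, hμ, mul_comm c] using this
    have hc1 : c = 1 := by
      refine hfix c hc (smul_one_inj (ι := Fin 3) ?_)
      have h3 := congrArg (fun M : Matrix (Fin 3) (Fin 3) F => (M.map σ)ᵀ) h2
      simp only [Matrix.map_mul, Matrix.transpose_mul, map_smul',
        Matrix.map_one _ (map_zero _) (map_one _), Matrix.transpose_smul, Matrix.transpose_one] at h3
      rw [(herm_one hF).map_map, Matrix.transpose_map, Matrix.transpose_transpose] at h3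
      exact h3.symm.trans h2
    rw [Agent.FieldAut.mem_GU_iff_matrix hF]
    rw [hc1, one_smul] at h2
    exact h2
  have hcard : Nat.card (Cfsg.GU 3 F 2) = 2 ^ 3 * 3 ^ 4 := by
    rw [Agent.Unitary.card_GU hF]
    simp [Finset.prod_range_succ, Nat.even_iff]
  have : Finite (GL (Fin 3) F) := Finite.of_injective Units.val Units.val_injective
  have hsol : Group.IsSolvable (Cfsg.GU 3 F 2) :=
    CharApp.isSolvable_of_card_eq_prime_pow_mul 2 3 Nat.prime_two Nat.prime_three _ _ rfl 3 4 hcard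
  let φ : D →* Cfsg.GU 3 F 2 :=
    { toFun := fun g => ⟨Q⁻¹ * g * Q, hmem g g.2⟩
      map_one' := Subtype.ext (by simp)
      map_mul' := fun a b => Subtype.ext (by simp [mul_assoc]) }
  have hφ : Function.Injective φ := fun a b h => by
    have := congrArg Subtype.val h
    simpa [φ] using this
  have : Group.IsSolvable D := Group.isSolvable_of_isSolvable_injective hφ
  have : Nontrivial D := by
    obtain ⟨x, hx, hxs⟩ := hne
    exact ⟨⟨⟨x, hx⟩, 1, fun h => hxs ((show x = 1 from congrArg Subtype.val h).symm ▸ one_mem _)⟩⟩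
  refine (Group.IsSolvable.commutator_lt_top_of_nontrivial D).ne ?_
  apply Subgroup.map_injective D.subtype_injective
  rw [_root_.commutator_def, Subgroup.map_commutator, ← MonoidHom.range_eq_map, D.range_subtype, hperf]


/-- A tensor decomposition into equal factors is a tensor square of the standard form. -/
theorem su_square_of_tensor (hF : Fintype.card F = q ^ 2) {d : ℕ} (hd : 3 ≤ d) (h3 : 3 ≤ n)
    {H : Subgroup (GL (Fin n) F)} (hH : Geo.IsMaximalIn Γ H)
    (hT : FTensor (Unitary.conjHom hF) 1 (H ⊔ Geo.scalars (Fin n) F) d d) (e : Fin n ≃ (Fin 2 → Fin d)) :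
    ∃ (P : GL (Fin n) F) (f₁ : (Fin d → F) → (Fin d → F) → F), Geo.IsUnitaryFormPow q f₁ ∧
      Geo.IsTensorPowerFormStructure (fun x : F => x ^ q) hq f₁ e P ∧
      H = Geo.tensorWreathSubgroup d 2 e P ⊓ Γ ∧ q ≠ 2 := by
  classical
  set σ := Unitary.conjHom hF with hσ
  set e' := e.trans (finTwoArrowEquiv (Fin d)) with he'
  obtain ⟨P, G1, G2, hle, heq, h1, h2⟩ := hT.2 e'
  obtain ⟨μ₁, Q₁, hμ₁, hQ₁⟩ := exists_congr_smul_one hF (by omega) h1
  obtain ⟨μ₂, Q₂, hμ₂, hQ₂⟩ := exists_congr_smul_one hF (by omega) h2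
  let Q : GL (Fin n) F := ⟨tens e' (Q₁ : Matrix (Fin d) (Fin d) F) (Q₂ : Matrix (Fin d) (Fin d) F),
    tens e' ((Q₁⁻¹ : GL (Fin d) F) : Matrix (Fin d) (Fin d) F) ((Q₂⁻¹ : GL (Fin d) F) : Matrix (Fin d) (Fin d) F),
    by rw [tens_mul, Units.mul_inv, Units.mul_inv, tens_one], by rw [tens_mul, Units.inv_mul, Units.inv_mul, tens_one]⟩
  have hgram : ((P * Q : GL (Fin n) F) : Matrix (Fin n) (Fin n) F)ᵀ * 1 *
      ((P * Q : GL (Fin n) F) : Matrix (Fin n) (Fin n) F).map σ =
      (μ₁ * μ₂) • Matrix.reindexAlgEquiv F F e.symm (pureMat fun _ : Fin 2 => (1 : Matrix (Fin d) (Fin d) F)) := by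
    rw [Units.val_mul, Matrix.transpose_mul, Matrix.map_mul]
    calc (Q : Matrix (Fin n) (Fin n) F)ᵀ * (P : Matrix (Fin n) (Fin n) F)ᵀ * 1 *
          ((P : Matrix (Fin n) (Fin n) F).map σ * (Q : Matrix (Fin n) (Fin n) F).map σ)
        = (Q : Matrix (Fin n) (Fin n) F)ᵀ * ((P : Matrix (Fin n) (Fin n) F)ᵀ * 1 *
          (P : Matrix (Fin n) (Fin n) F).map σ) * (Q : Matrix (Fin n) (Fin n) F).map σ := by simp [mul_assoc]
      _ = tens e' (μ₁ • 1) (μ₂ • 1) := by
        rw [heq]
        show (tens e' _ _)ᵀ * _ * (tens e' _ _).map σ = _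
        rw [tens_transpose, tens_map, tens_mul, tens_mul, hQ₁, hQ₂]
      _ = _ := by
        rw [show (pureMat fun _ : Fin 2 => (1 : Matrix (Fin d) (Fin d) F)) = 1 from pureMat_one, map_one,
          ← tens_one (F := F) e']
        ext x y
        simp [tens_apply]
        ring
  have hQT : H ≤ Geo.tensorProductSubgroup d d e' (P * Q) := by
    intro g hg
    obtain ⟨A, B, hAB⟩ := (mem_tensorProductSubgroup_iff e' P g).mp (hle (le_sup_left (a := H) hg))
    refine (mem_tensorProductSubgroup_iff _ _ _).mpr ⟨Q₁⁻¹ * A * Q₁, Q₂⁻¹ * B * Q₂, ?_⟩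
    rw [hAB, ← cj_cj, Units.val_mul, Units.val_mul, Units.val_mul, Units.val_mul, cj_apply Q]
    congr 1
    show _ = tens e' _ _ * _ * tens e' _ _
    rw [tens_mul, tens_mul]
    simp [mul_assoc]
  have hQle : H ≤ Geo.tensorWreathSubgroup d 2 e (P * Q) := hQT.trans (tensor_le_wreath e (P * Q))
  have heq : H = Geo.tensorWreathSubgroup d 2 e (P * Q) ⊓ Γ := by
    rcases hH.2 (Geo.tensorWreathSubgroup d 2 e (P * Q) ⊓ Γ) (le_inf hQle hH.1.le) inf_le_right with h | h
    · exact h.symm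
    · exact absurd (h ▸ inf_le_left) (not_su_le_wreath hF h3 hd e _)
  refine ⟨P * Q, Geo.formOfGram σ 1, ?_, tensorPowerFormStructure_of_gram σ _ (fun x => rfl)
    (hermForm_eq_gram hF) e _ (mul_ne_zero hμ₁ hμ₂) 1 hgram, heq, ?_⟩
  · rw [← hermForm_eq_gram hF]
    exact hermForm_unitaryPow hF
  · rintro rfl
    refine swap_not_mem hF (by omega) e (P * Q) (c := μ₁ * μ₂) ?_ (heq ▸ hQT)
    rw [hgram, show (pureMat fun _ : Fin 2 => (1 : Matrix (Fin d) (Fin d) F)) = 1 from pureMat_one, map_one]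

/-- Tensor-induced data give a tensor square of a unitary form. -/
theorem su_square_of_data (hF : Fintype.card F = q ^ 2) {d : ℕ} (hd : 3 ≤ d) (h3 : 3 ≤ n)
    {H : Subgroup (GL (Fin n) F)} (hH : Geo.IsMaximalIn Γ H)
    (hT : TIData (H ⊔ Geo.scalars (Fin n) F) d 2) (e : Fin n ≃ (Fin 2 → Fin d)) :
    ∃ (P : GL (Fin n) F) (f₁ : (Fin d → F) → (Fin d → F) → F), Geo.IsUnitaryFormPow q f₁ ∧
      Geo.IsTensorPowerFormStructure (fun x : F => x ^ q) hq f₁ e P ∧
      H = Geo.tensorWreathSubgroup d 2 e P ⊓ Γ ∧ (d = 3 → q ≠ 2) := by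
  classical
  have : Nonempty (Fin n) := ⟨⟨0, by omega⟩⟩
  set σ := Unitary.conjHom hF with hσ
  obtain ⟨-, hall⟩ := tensor_power_gram (herm_one hF) (sim_sup_scalars hF (hH.1.le.trans inf_le_left))
    two_pos (by omega) hT
  obtain ⟨P, J₁, c, m, D₁, hc, hJ, hle, hgram, hsym, hrel, hperf, hns, hsim, -⟩ := hall e
  have hm : m ≠ 0 := fun h0 => by
    rw [h0, zero_smul] at hsym
    have hz : J₁ = 0 := by
      ext i j
      have h5 := congrFun (congrFun hsym j) i
      simp only [Matrix.transpose_apply, Matrix.map_apply, Matrix.zero_apply] at h5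
      simpa using (map_eq_zero σ).mp h5
    have : Nonempty (Fin d) := ⟨⟨0, by omega⟩⟩
    rw [hz, Matrix.det_zero] at hJ
    exact not_isUnit_zero hJ
  have hJh : Herm σ J₁ := ⟨fun a => Unitary.pow_q_pow_q hF a, hJ, m, hm, hsym⟩
  obtain ⟨μ, hμ, hμJ⟩ := exists_hermitian_scale hF (by omega) hJh
  refine ⟨P, Geo.formOfGram σ (μ • J₁), ?_, ?_, ?_, ?_⟩
  · have hdet : IsUnit (μ • J₁).det := by rw [Matrix.det_smul]; exact ((IsUnit.mk0 _ hμ).pow _).mul hJ
    refine ⟨fun x y v => by simp [formOfGram_eq, add_dotProduct],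
      fun r x v => by simp [formOfGram_eq, smul_dotProduct], fun v w => ?_, formOfGram_nondegenerate _ hdet⟩
    rw [← conjHom_apply' hF]
    simp only [Geo.formOfGram, map_sum, map_mul]
    rw [Finset.sum_comm]
    refine Finset.sum_congr rfl fun a _ => Finset.sum_congr rfl fun b _ => ?_
    have h4 := congrFun (congrFun hμJ b) a
    simp only [Matrix.transpose_apply, Matrix.map_apply] at h4
    rw [← hσ, h4]
    simp only [hσ, conjHom_apply', Unitary.pow_q_pow_q hF]
    ring
  · refine tensorPowerFormStructure_of_gram σ _ (fun x => rfl) (hermForm_eq_gram hF) e P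
      (c := c * (μ * μ)⁻¹) (mul_ne_zero hc (inv_ne_zero (mul_ne_zero hμ hμ))) (μ • J₁) ?_
    rw [hgram]
    ext x y
    simp [pureMat_apply, Fin.prod_univ_two]
    field_simp
  · rcases hH.2 (Geo.tensorWreathSubgroup d 2 e P ⊓ Γ) (le_inf ((le_sup_left (a := H)).trans hle) hH.1.le)
      inf_le_right with h | h
    · exact h.symm
    · exact absurd (h ▸ inf_le_left) (not_su_le_wreath hF h3 hd e _)
  · rintro rfl rfl
    exact unitary_three_two_false hF hJh hsim hperf hns


/-- In odd dimension the hermitian form has no alternating rational structure. -/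
theorem no_alt_odd (hF : Fintype.card F = q ^ 2) (hodd : Odd n) {F₀ : Subfield F} {P : GL (Fin n) F}
    (halt : ∀ u : Fin n → F, (∀ i, u i ∈ F₀) →
      hq ((P : Matrix (Fin n) (Fin n) F) *ᵥ u) ((P : Matrix (Fin n) (Fin n) F) *ᵥ u) = 0) : False := by
  classical
  set σ := Unitary.conjHom hF with hσ
  set G : Matrix (Fin n) (Fin n) F := (P : Matrix (Fin n) (Fin n) F)ᵀ * 1 * (P : Matrix (Fin n) (Fin n) F).map σ
  have hB : ∀ u v, hq ((P : Matrix (Fin n) (Fin n) F) *ᵥ u) ((P : Matrix (Fin n) (Fin n) F) *ᵥ v)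
      = Geo.formOfGram σ G u v := fun u v => by rw [hermForm_eq_gram hF, formOfGram_mulVec]
  have hE : ∀ i k, (Pi.single i 1 : Fin n → F) k ∈ F₀ := fun i k => by
    rw [Pi.single_apply]; split_ifs <;> simp [one_mem, zero_mem]
  have hd : ∀ i, G i i = 0 := fun i => by
    rw [← formOfGram_single σ G i i, ← hB]
    exact halt _ (hE i)
  have hs : ∀ i j, G i j = -G j i := fun i j => by
    have h := halt (Pi.single i 1 + Pi.single j 1) fun k => add_mem (hE i k) (hE j k)
    rw [hB] at h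
    simp only [formOfGram_eq, add_dotProduct] at h
    have e : ∀ a b, (Pi.single a 1 : Fin n → F) ⬝ᵥ G *ᵥ (σ ∘ (Pi.single b 1 : Fin n → F)) = G a b := fun a b => by
      rw [← formOfGram_single σ G a b, formOfGram_eq]
    have hc : (σ ∘ (Pi.single i 1 + Pi.single j 1 : Fin n → F)) =
        σ ∘ (Pi.single i 1 : Fin n → F) + σ ∘ (Pi.single j 1 : Fin n → F) := by ext k; simp
    rw [hc, Matrix.mulVec_add, dotProduct_add, dotProduct_add, e, e, e, e, hd, hd] at h
    linear_combination h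
  have h0 := det_skew_eq_zero G hs hd (by simpa using hodd)
  simp [G, Matrix.det_mul, ← RingHom.mapMatrix_apply, ← RingHom.map_det] at h0
  exact (Matrix.GeneralLinearGroup.det P).ne_zero h0

end Cfsg.Agent.Aschbacher
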